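import Cfsg.Statements.S0147
import Cfsg.Agent.Lib.CharOps

set_option autoImplicit false
open Cfsg

namespace Cfsg.Agent.S0147

/-- Transitivity of induction: inducing from H to K and then from K to G is the same as inducing from H to G. -/
theorem result {G : Type*} [Group G] [Fintype G] (H K : Subgroup G) [Fintype K] (hHK : H ≤ K) (θ : H → ℂ) : Cfsg.indFun K (Cfsg.indFun (H.subgroupOf K) (fun x => θ ⟨(x : K), Subgroup.mem_subgroupOf.mp x.2⟩)) = Cfsg.indFun H θ := by
  classical
  open Cfsg.Agent.Lib.CharOps in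
  have key : ∀ y : G, extendByZero K (indFun (H.subgroupOf K) (fun x => θ ⟨(x : K), Subgroup.mem_subgroupOf.mp x.2⟩)) y =
      (Nat.card H : ℂ)⁻¹ * ∑ k : K, extendByZero H θ ((k : G)⁻¹ * y * k) := by
    intro y
    have hcard : Nat.card (H.subgroupOf K) = Nat.card H := by
      apply Nat.card_congr
      exact (Subgroup.subgroupOfEquivOfLe hHK).toEquiv
    by_cases hy : y ∈ K
    · rw [extendByZero_of_mem K _ hy, indFun_apply, hcard]
      congr 1
      refine Finset.sum_congr rfl fun k _ => ?_
      by_cases hm : (k : G)⁻¹ * y * k ∈ H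
      · have hm' : k⁻¹ * (⟨y, hy⟩ : K) * k ∈ H.subgroupOf K := Subgroup.mem_subgroupOf.mpr hm
        rw [extendByZero_of_mem _ _ hm', extendByZero_of_mem _ _ hm]
        rfl
      · have hm' : k⁻¹ * (⟨y, hy⟩ : K) * k ∉ H.subgroupOf K := fun h => hm (Subgroup.mem_subgroupOf.mp h)
        rw [extendByZero_of_not_mem _ _ hm', extendByZero_of_not_mem _ _ hm]
    · rw [extendByZero_of_not_mem K _ hy]
      have : ∀ k : K, extendByZero H θ ((k : G)⁻¹ * y * k) = 0 := by
        intro k
        apply extendByZero_of_not_mem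
        intro hm
        apply hy
        have h1 := hHK hm
        have h2 : y = k * ((k : G)⁻¹ * y * k) * (k : G)⁻¹ := by group
        rw [h2]
        exact K.mul_mem (K.mul_mem k.2 h1) (K.inv_mem k.2)
      simp [this]
  funext g
  rw [indFun_apply, indFun_apply]
  simp only [key]
  rw [← Finset.mul_sum, Finset.sum_comm]
  have h2 : ∀ k : K, ∑ x : G, Cfsg.extendByZero H θ ((k : G)⁻¹ * (x⁻¹ * g * x) * k) =
      ∑ x : G, Cfsg.extendByZero H θ (x⁻¹ * g * x) := by
    intro k
    refine Fintype.sum_equiv (Equiv.mulRight (k : G)) _ _ fun x => ?_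
    congr 1
    simp only [Equiv.coe_mulRight]
    group
  simp only [h2, Finset.sum_const, Finset.card_univ, ← Nat.card_eq_fintype_card, nsmul_eq_mul]
  have hK : (Nat.card K : ℂ) ≠ 0 := by exact_mod_cast Nat.card_pos.ne'
  field_simp

end Cfsg.Agent.S0147
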