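import Cfsg.Statements.S0176
import Cfsg.Agent.Lib.CharCliff
import Cfsg.Agent.S0147

set_option autoImplicit false
set_option linter.style.haveILetI false
set_option linter.unusedVariables false
open Cfsg

namespace Cfsg.Agent.S0176

/-- A finite nilpotent group is an M-group: each irreducible complex character is induced from a homomorphism of some subgroup into ℂˣ. -/
theorem result {G : Type*} [Group G] [Fintype G] [Group.IsNilpotent G] (χ : G → ℂ) (hχ : Cfsg.IsIrrCharacter G χ) : ∃ (H : Subgroup G) (lam : H →* ℂˣ), χ = Cfsg.indFun H (fun h => (lam h : ℂ)) := by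
  classical
  -- statement for all nilpotent groups
  have key : ∀ (n : ℕ) (G : Type _) [Group G] [Fintype G] [Group.IsNilpotent G], Nat.card G = n →
      ∀ χ : G → ℂ, Cfsg.IsIrrCharacter G χ →
        ∃ (H : Subgroup G) (lam : H →* ℂˣ), χ = Cfsg.indFun H (fun h => (lam h : ℂ)) := by
    intro n
    induction n using Nat.strong_induction_on with
    | _ n ih =>
      intro G _ _ _ hn χ hχ
      open Cfsg.Agent.Lib.CharOps Cfsg.Agent.Lib.CharAb Cfsg.Agent.Lib.CharBasic Cfsg.Agent.Lib.CharCliff Cfsg.Agent.Lib.CharDeg Cfsg.Agent.Lib.CharCore Cfsg.Agent.Lib.CharNormal Cfsg.Agent.Lib.CharGen Cfsg.Agent.Lib.CharIrr in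
      obtain ⟨m, ρ, hρ, rfl⟩ := hχ
      have hχ := isIrrCharacter_character ρ hρ
      have hχc := IsIrrCharacter.isCharacter' hχ
      have hV : Nontrivial (Fin m → ℂ) := Module.finrank_pos_iff.mp (finrank_pos_of_irreducible ρ hρ)
      -- elements acting by scalars
      let S : Subgroup G :=
        { carrier := {g | ∃ c : ℂ, ρ g = c • LinearMap.id}
          one_mem' := ⟨1, by simp; rfl⟩
          mul_mem' := by
            rintro a b ⟨c, hc⟩ ⟨d, hd⟩
            refine ⟨c * d, ?_⟩
            rw [map_mul, hc, hd]
            refine LinearMap.ext fun v => ?_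
            simp [smul_smul, mul_comm]
          inv_mem' := by
            rintro a ⟨c, hc⟩
            have hc0 : c ≠ 0 := by
              rintro rfl
              obtain ⟨v, hv⟩ := exists_ne (0 : Fin m → ℂ)
              have h1 : ρ a⁻¹ (ρ a v) = v := by
                rw [← Module.End.mul_apply, ← map_mul]
                simp
              rw [hc] at h1
              simp at h1
              exact hv h1.symm
            refine ⟨c⁻¹, LinearMap.ext fun v => ?_⟩
            have h1 : ρ a⁻¹ (ρ a v) = v := by
              rw [← Module.End.mul_apply, ← map_mul]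
              simp
            rw [hc] at h1
            simp only [LinearMap.smul_apply, LinearMap.id_apply, map_smul] at h1
            simp only [LinearMap.smul_apply, LinearMap.id_apply]
            rw [eq_inv_smul_iff₀ hc0]
            exact h1 }
      have hmemS : ∀ g, g ∈ S ↔ ∃ c : ℂ, ρ g = c • LinearMap.id := fun _ => Iff.rfl
      have hSnormal : S.Normal := by
        refine ⟨fun a ha g => ?_⟩
        obtain ⟨c, hc⟩ := ha
        refine ⟨c, LinearMap.ext fun v => ?_⟩
        rw [map_mul, map_mul, hc]
        have h1 : ρ g (ρ g⁻¹ v) = v := by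
          rw [← Module.End.mul_apply, ← map_mul]
          simp
        simp [h1]
      by_cases hStop : S = ⊤
      · -- one dimensional
        have hdim : Module.finrank ℂ (Fin m → ℂ) = 1 := by
          obtain ⟨v, hv⟩ := exists_ne (0 : Fin m → ℂ)
          let U : Subrepresentation ρ :=
            { toSubmodule := Submodule.span ℂ {v}
              apply_mem_toSubmodule := by
                intro g w hw
                have hg : g ∈ S := hStop ▸ Subgroup.mem_top g
                obtain ⟨c, hc⟩ := hg
                rw [hc]
                exact Submodule.smul_mem _ _ hw }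
          have hU : U = ⊤ := by
            refine (IsSimpleOrder.eq_bot_or_eq_top U).resolve_left ?_
            intro hb
            have h1 : v ∈ U.toSubmodule := Submodule.mem_span_singleton_self v
            rw [hb] at h1
            exact hv h1
          have h2 : Submodule.span ℂ {v} = ⊤ := congrArg Subrepresentation.toSubmodule hU
          rw [← finrank_top ℂ (Fin m → ℂ), ← h2]
          exact finrank_span_singleton hv
        have h11 : ρ.character 1 = 1 := by
          rw [Representation.char_one, hdim]
          simp
        refine ⟨⊤, (homOfDegreeOne hχc h11).comp (⊤ : Subgroup G).subtype, ?_⟩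
        funext g
        rw [indFun_top]
        · rfl
        · intro x y
          exact IsCharacter.isClassFunction' hχc x y
      -- an element central modulo S
      obtain ⟨c, hc⟩ := Group.IsNilpotent.nilpotent G
      have hex : ∃ k, ¬ Subgroup.upperCentralSeries G k ≤ S := by
        refine ⟨c, ?_⟩
        rw [hc]
        intro h
        exact hStop (top_le_iff.mp h)
      have hk0 := Nat.find_spec hex
      have hkmin := fun j => Nat.find_min (m := j) hex
      set k := Nat.find hex with hk
      obtain ⟨j, hj⟩ : ∃ j, k = j + 1 := by
        cases hh : k with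
        | zero =>
          exfalso
          apply hk0
          rw [hh]
          simp
        | succ j => exact ⟨j, rfl⟩
      have hjle : Subgroup.upperCentralSeries G j ≤ S := by
        by_contra hcon
        exact hkmin j (by omega) hcon
      obtain ⟨x, hxk, hxS⟩ := Set.not_subset.mp (by
        rw [hj] at hk0
        exact hk0)
      have hxcomm : ∀ y : G, x * y * x⁻¹ * y⁻¹ ∈ S := by
        intro y
        have := (Subgroup.mem_upperCentralSeries_succ_iff).mp hxk y
        exact hjle this
      -- the abelian-by-scalar normal subgroup
      haveI := hSnormal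
      let xb : G ⧸ S := (x : G ⧸ S)
      have hxbc : ∀ q : G ⧸ S, q * xb = xb * q := by
        intro q
        induction q using QuotientGroup.induction_on with
        | H y =>
          show ((y * x : G) : G ⧸ S) = ((x * y : G) : G ⧸ S)
          apply QuotientGroup.eq.mpr
          have h1 := hSnormal.conj_mem _ (hxcomm y) y⁻¹
          have h2 := hSnormal.conj_mem _ h1 x⁻¹
          have h3 : x⁻¹ * (y⁻¹ * (x * y * x⁻¹ * y⁻¹) * y⁻¹⁻¹) * x⁻¹⁻¹ = (y * x)⁻¹ * (x * y) := by group
          rw [h3] at h2
          exact h2
      let Zb : Subgroup (G ⧸ S) := Subgroup.zpowers xb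
      have hZbn : Zb.Normal := by
        refine ⟨fun a ha g => ?_⟩
        obtain ⟨t, rfl⟩ := Subgroup.mem_zpowers_iff.mp ha
        have hcm : Commute xb g := (hxbc g).symm
        have h1 : g * xb ^ t * g⁻¹ = xb ^ t := by
          rw [(hcm.zpow_left t).symm.eq]
          group
        rw [h1]
        exact Subgroup.mem_zpowers_iff.mpr ⟨t, rfl⟩
      let A : Subgroup G := Subgroup.comap (QuotientGroup.mk' S) Zb
      have hAn : A.Normal := hZbn.comap _
      letI : Fintype A := Fintype.ofFinite _
      have hxA : x ∈ A := by
        show (x : G ⧸ S) ∈ Zb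
        exact Subgroup.mem_zpowers _
      have hAform : ∀ a ∈ A, ∃ (t : ℤ) (c : ℂ), ρ a = c • ρ (x ^ t) := by
        intro a ha
        obtain ⟨t, ht⟩ := Subgroup.mem_zpowers_iff.mp ha
        have h1 : ((x ^ t : G) : G ⧸ S) = (a : G ⧸ S) := by
          rw [QuotientGroup.mk_zpow]
          exact ht
        have h2 := QuotientGroup.eq.mp h1
        obtain ⟨c, hc⟩ := h2
        refine ⟨t, c, ?_⟩
        have h3 : a = x ^ t * ((x ^ t)⁻¹ * a) := by group
        rw [h3, map_mul, hc]
        refine LinearMap.ext fun v => ?_
        simp
      have hcommA : ∀ a b : A, ρ ((a * b : A) : G) = ρ ((b * a : A) : G) := by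
        intro a b
        obtain ⟨t, c, hc⟩ := hAform a a.2
        obtain ⟨u, d, hd⟩ := hAform b b.2
        rw [Subgroup.coe_mul, Subgroup.coe_mul, map_mul, map_mul, hc, hd]
        have h1 : ρ (x ^ t) * ρ (x ^ u) = ρ (x ^ u) * ρ (x ^ t) := by
          rw [← map_mul, ← map_mul, ← zpow_add, ← zpow_add, add_comm]
        refine LinearMap.ext fun v => ?_
        have h2 := LinearMap.congr_fun h1 v
        simp only [Module.End.mul_apply] at h2
        simp only [Module.End.mul_apply, LinearMap.smul_apply, map_smul, smul_smul, h2, mul_comm]
      -- a linear constituent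
      let σ : Representation ℂ A (Fin m → ℂ) := ρ.comp A.subtype
      obtain ⟨U, hU0, hUirr⟩ := exists_irreducible_sub (Fin m → ℂ) σ hV
      obtain ⟨U', hcompl⟩ := exists_compl σ U
      let τ := U.toRepresentation
      haveI hτirr : τ.IsIrreducible := hUirr
      have hτsc : ∀ a : A, ∃ c : ℂ, τ a = c • LinearMap.id := by
        intro a
        apply Cfsg.Agent.Lib.CharClass.schur_scalar τ (τ a)
        intro b
        refine LinearMap.ext fun w => ?_
        apply Subtype.ext
        show ρ (a : G) (ρ (b : G) (w : Fin m → ℂ)) = ρ (b : G) (ρ (a : G) (w : Fin m → ℂ))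
        rw [← Module.End.mul_apply, ← Module.End.mul_apply, ← map_mul, ← map_mul]
        exact LinearMap.congr_fun (hcommA a b) _
      have hτdim := finrank_one_of_scalars τ hτirr hτsc
      let l : A → ℂ := τ.character
      have hl : Cfsg.IsIrrCharacter A l := isIrrCharacter_character τ hτirr
      have hlc := IsIrrCharacter.isCharacter' hl
      have hl1 : l 1 = 1 := by
        show τ.character 1 = 1
        rw [Representation.char_one, hτdim]
        simp
      have hsplit : (fun a : A => ρ.character a) = τ.character + U'.toRepresentation.character :=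
        funext (character_split σ U U' hcompl)
      have hin : Cfsg.classInner (fun a : A => ρ.character a) l ≠ 0 := by
        rw [hsplit, classInner_add_left]
        have h1 := classInner_irreducible τ τ hτirr hτirr
        rw [if_pos ⟨Representation.Equiv.refl _⟩] at h1
        show Cfsg.classInner τ.character τ.character + _ ≠ 0
        rw [h1, classInner_character U'.toRepresentation τ]
        intro h0
        have h2 : ((1 + Module.finrank ℂ (τ.IntertwiningMap U'.toRepresentation) : ℕ) : ℂ) = 0 := by
          push_cast
          exact h0
        have h3 : (1 + Module.finrank ℂ (τ.IntertwiningMap U'.toRepresentation) : ℕ) = 0 := by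
          exact_mod_cast h2
        omega
      obtain ⟨ψ, hψ, hχeq, e, he0, hval⟩ := clifford_corr A hχ hl hin
      have hTne : inertia A l ≠ ⊤ := by
        intro htop
        have hall : ∀ g : G, conjFun A l g = l := by
          intro g
          have hg : g ∈ inertia A l := by
            rw [htop]
            trivial
          exact hg
        have hcl := clifford A hAn hχ hl hin
        have hset : {ψ' : A → ℂ | ∃ g : G, ψ' = fun n : A => l ⟨g * n * g⁻¹, hAn.conj_mem n n.2 g⟩} = {l} := by
          ext ψ'
          simp only [Set.mem_ofPred_eq, Set.mem_singleton_iff]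
          constructor
          · rintro ⟨g, rfl⟩
            exact hall g
          · rintro rfl
            exact ⟨1, (hall 1).symm⟩
        rw [hset, finsum_mem_singleton] at hcl
        apply hxS
        set f := Cfsg.classInner (fun a : A => ρ.character a) l with hf
        have h1 := congrFun hcl ⟨x, hxA⟩
        have h2 := congrFun hcl 1
        simp only [Pi.smul_apply, smul_eq_mul, OneMemClass.coe_one, hl1, mul_one] at h1 h2
        apply (norm_character_eq_iff ρ x).mp
        rw [h1, norm_mul, norm_eq_one_of_degree_one hlc hl1, mul_one, ← h2, Representation.char_one]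
        simp
      have hlt : Nat.card (inertia A l) < n := by
        rw [← hn]
        apply lt_of_le_of_ne (Nat.card_le_card_of_injective _ (inertia A l).subtype_injective)
        intro heq
        exact hTne (Subgroup.eq_top_of_card_eq _ heq)
      letI : Fintype (inertia A l) := Fintype.ofFinite _
      obtain ⟨H', lam', hψeq⟩ := ih _ hlt (inertia A l) rfl ψ hψ
      obtain ⟨H₀, hH₀le, rfl⟩ : ∃ H₀ : Subgroup G, H₀ ≤ inertia A l ∧ H' = H₀.subgroupOf (inertia A l) :=
        ⟨H'.map (inertia A l).subtype, Subgroup.map_subtype_le _,
          (Subgroup.comap_map_eq_self_of_injective (inertia A l).subtype_injective H').symm⟩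
      let E₀ : H₀.subgroupOf (inertia A l) ≃* H₀ := Subgroup.subgroupOfEquivOfLe hH₀le
      let lam₀ : H₀ →* ℂˣ := lam'.comp E₀.symm.toMonoidHom
      refine ⟨H₀, lam₀, ?_⟩
      rw [hχeq, hψeq, ← Cfsg.Agent.S0147.result H₀ (inertia A l) hH₀le]
      congr 2
  exact key _ G rfl χ hχ

end Cfsg.Agent.S0176
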