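import Cfsg.Statements.S1498
import Cfsg.Agent.Lib.H2Basic
import Cfsg.Agent.Lib.WielandtCount
-- import your own Cfsg.Agent.* helpers here

set_option autoImplicit false
set_option linter.all false
open Cfsg

namespace Cfsg.Agent.S1498

/-- Under the Dade hypothesis for (A, L, H): for a ∈ A and x ∈ L, the subgroup attached to x * a * x⁻¹ is the conjugate of H a by x. -/
theorem result {G : Type*} [Group G] [Finite G] (A : Set G) (L : Subgroup G) (H : G → Subgroup G) (hD : Cfsg.DadeHypothesis A L H) (a : G) (ha : a ∈ A) (x : G) (hx : x ∈ L) : H (x * a * x⁻¹) = (H a).map (MulAut.conj x).toMonoidHom := by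
  classical
  have hax : x * a * x⁻¹ ∈ A := hD.conj_mem x hx a ha
  obtain ⟨b, hbdef⟩ : ∃ b, b = x * a * x⁻¹ := ⟨_, rfl⟩
  rw [← hbdef]
  have hbA : b ∈ A := hbdef ▸ hax
  -- centralizers are conjugate
  have hCb : Subgroup.centralizer ({b} : Set G) = (Subgroup.centralizer ({a} : Set G)).map (MulAut.conj x).toMonoidHom := by
    ext c
    rw [Cfsg.Agent.Lib.H2Basic.mem_map_conj_iff, Subgroup.mem_centralizer_singleton_iff, Subgroup.mem_centralizer_singleton_iff, hbdef]
    constructor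
    · intro h
      calc x⁻¹ * c * x * a = x⁻¹ * (c * (x * a * x⁻¹)) * x := by group
        _ = x⁻¹ * ((x * a * x⁻¹) * c) * x := by rw [h]
        _ = a * (x⁻¹ * c * x) := by group
    · intro h
      calc c * (x * a * x⁻¹) = x * ((x⁻¹ * c * x) * a) * x⁻¹ := by group
        _ = x * (a * (x⁻¹ * c * x)) * x⁻¹ := by rw [h]
        _ = x * a * x⁻¹ * c := by group
  have hLCb : L ⊓ Subgroup.centralizer ({b} : Set G) = (L ⊓ Subgroup.centralizer ({a} : Set G)).map (MulAut.conj x).toMonoidHom := by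
    ext c
    rw [Cfsg.Agent.Lib.H2Basic.mem_map_conj_iff, Subgroup.mem_inf, Subgroup.mem_inf, hCb, Cfsg.Agent.Lib.H2Basic.mem_map_conj_iff]
    constructor
    · rintro ⟨h1, h2⟩
      exact ⟨L.mul_mem (L.mul_mem (L.inv_mem hx) h1) hx, h2⟩
    · rintro ⟨h1, h2⟩
      refine ⟨?_, h2⟩
      have := L.mul_mem (L.mul_mem hx h1) (L.inv_mem hx)
      have h3 : x * (x⁻¹ * c * x) * x⁻¹ = c := by group
      rwa [h3] at this
  -- orders
  have hcardProd : ∀ e ∈ A, Nat.card (Subgroup.centralizer ({e} : Set G)) =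
      Nat.card (H e) * Nat.card (L ⊓ Subgroup.centralizer ({e} : Set G) : Subgroup G) := by
    intro e he
    have h1 := hD.sup_eq e he
    have h2 := hD.inf_eq_bot e he
    have hHN : (L ⊓ Subgroup.centralizer ({e} : Set G) : Subgroup G) ≤ Subgroup.normalizer (H e : Set G) := by
      intro c hc
      apply Cfsg.Agent.Lib.H2Basic.mem_normalizer_of_conj_le
      intro u hu
      exact hD.conj_mem_H e he c hc.2 u hu
    have h3 := Cfsg.Agent.Lib.WielandtCount.card_mul_set (L ⊓ Subgroup.centralizer ({e} : Set G) : Subgroup G) (H e)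
    rw [← Subgroup.coe_mul_of_left_le_normalizer_right _ _ hHN, sup_comm, h1, inf_comm, h2] at h3
    rw [Subgroup.card_bot, mul_one] at h3
    have h4 : Nat.card ((Subgroup.centralizer ({e} : Set G) : Subgroup G) : Set G) = Nat.card (Subgroup.centralizer ({e} : Set G)) := rfl
    rw [h4] at h3
    rw [h3, mul_comm]
  have hKle : (H a).map (MulAut.conj x).toMonoidHom ≤ H b := by
    rintro _ ⟨k, hk, rfl⟩
    have hkC : k ∈ Subgroup.centralizer ({a} : Set G) := hD.le_centralizer a ha hk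
    have hcC : x * k * x⁻¹ ∈ Subgroup.centralizer ({b} : Set G) := by
      rw [hCb]
      exact ⟨k, hkC, rfl⟩
    have h1 := hD.sup_eq b hbA
    have hHN : (L ⊓ Subgroup.centralizer ({b} : Set G) : Subgroup G) ≤ Subgroup.normalizer (H b : Set G) := by
      intro c hc
      apply Cfsg.Agent.Lib.H2Basic.mem_normalizer_of_conj_le
      intro u hu
      exact hD.conj_mem_H b hbA c hc.2 u hu
    rw [sup_comm] at h1
    have hcm : x * k * x⁻¹ ∈ (((L ⊓ Subgroup.centralizer ({b} : Set G) : Subgroup G) ⊔ H b : Subgroup G) : Set G) := by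
      rw [h1]; exact hcC
    rw [Subgroup.coe_mul_of_left_le_normalizer_right _ _ hHN] at hcm
    obtain ⟨v, hv, u, hu, hvu⟩ := Set.mem_mul.1 hcm
    have hvu' : v * u = x * k * x⁻¹ := hvu
    have hpow : ∀ m : ℕ, ∃ u₁ ∈ H b, (v * u) ^ m = v ^ m * u₁ := by
      intro m
      induction m with
      | zero => exact ⟨1, Subgroup.one_mem _, by simp⟩
      | succ m ih =>
        obtain ⟨u₁, hu₁, he⟩ := ih
        refine ⟨(v⁻¹ * u₁ * v⁻¹⁻¹) * u, Subgroup.mul_mem _ (hD.conj_mem_H b hbA v⁻¹ (Subgroup.inv_mem _ hv.2) u₁ hu₁) hu, ?_⟩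
        rw [pow_succ, he, pow_succ]
        group
    obtain ⟨u₁, hu₁, he⟩ := hpow (Nat.card (H a))
    have hk1 : k ^ Nat.card (H a) = 1 := orderOf_dvd_iff_pow_eq_one.1 (Subgroup.orderOf_dvd_natCard _ hk)
    have h3 : (v * u) ^ Nat.card (H a) = 1 := by
      rw [hvu', conj_pow, hk1]
      group
    rw [h3] at he
    have h4 : v ^ Nat.card (H a) = u₁⁻¹ := (eq_inv_of_mul_eq_one_left he.symm)
    have h5 : v ^ Nat.card (H a) ∈ H b ⊓ (L ⊓ Subgroup.centralizer ({b} : Set G)) := by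
      refine ⟨h4 ▸ Subgroup.inv_mem _ hu₁, Subgroup.pow_mem _ hv _⟩
    rw [hD.inf_eq_bot b hbA, Subgroup.mem_bot] at h5
    have h6 : v ^ Nat.card (L ⊓ Subgroup.centralizer ({b} : Set G) : Subgroup G) = 1 :=
      orderOf_dvd_iff_pow_eq_one.1 (Subgroup.orderOf_dvd_natCard _ hv)
    have h7 : orderOf v = 1 := Nat.Coprime.eq_one_of_dvd (hD.coprime a ha b hbA |>.coprime_dvd_left (orderOf_dvd_of_pow_eq_one h5)) (orderOf_dvd_of_pow_eq_one h6)
    have h8 : v = 1 := orderOf_eq_one_iff.1 h7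
    show x * k * x⁻¹ ∈ H b
    rw [← hvu', h8, one_mul]
    exact hu
  symm
  apply Subgroup.eq_of_le_of_card_ge hKle
  rw [Cfsg.Agent.Lib.H2Basic.card_map_conj]
  have h1 := hcardProd a ha
  have h2 := hcardProd b hbA
  have h3 : Nat.card (Subgroup.centralizer ({b} : Set G)) = Nat.card (Subgroup.centralizer ({a} : Set G)) := by
    rw [hCb, Cfsg.Agent.Lib.H2Basic.card_map_conj]
  have h4 : Nat.card (L ⊓ Subgroup.centralizer ({b} : Set G) : Subgroup G) = Nat.card (L ⊓ Subgroup.centralizer ({a} : Set G) : Subgroup G) := by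
    rw [hLCb, Cfsg.Agent.Lib.H2Basic.card_map_conj]
  rw [h3, h1, h4] at h2
  have hpos : 0 < Nat.card (L ⊓ Subgroup.centralizer ({a} : Set G) : Subgroup G) := Nat.card_pos
  exact (Nat.eq_of_mul_eq_mul_right hpos h2).ge

end Cfsg.Agent.S1498
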