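import Cfsg.Statements.S0950
import Cfsg.Agent.Lib.SylowIn
import Cfsg.Agent.Lib.H7Basic
import Cfsg.Agent.Lib.SylowCount
import Cfsg.Agent.Lib.H2Basic
import Cfsg.Agent.Lib.Focal
-- import your own Cfsg.Agent.* helpers here

set_option autoImplicit false
set_option linter.all false
open Cfsg

namespace Cfsg.Agent.S0950

open Subgroup QuaternionGroup

abbrev Q8 := QuaternionGroup 2

def cc : Fin 3 → Q8 := ![a 1, xa 0, xa 1]

def inY (j : Fin 3) (u : Q8) : Prop := u = 1 ∨ u = a 2 ∨ u = cc j ∨ u = (cc j)⁻¹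

instance inY_dec (j : Fin 3) (u : Q8) : Decidable (inY j u) := by unfold inY; infer_instance

theorem inY_mul : ∀ j u v, inY j u → inY j v → inY j (u * v) := by decide
theorem inY_inv : ∀ j u, inY j u → inY j u⁻¹ := by decide
theorem inY_one : ∀ j, inY j 1 := by decide
theorem inY_conj : ∀ j q u, inY j u → inY j (q * u * q⁻¹) := by decide
theorem inY_card : ∀ j, Fintype.card {u // inY j u} = 4 := by decide
theorem inY_cc : ∀ j j', inY j' (cc j) → j = j' := by decide
theorem inY_gen : ∀ u : Q8, u ≠ 1 → u ≠ a 2 → ∃ j, inY j u ∧ ∀ v, inY j v → (v = 1 ∨ v = u * u ∨ v = u ∨ v = u⁻¹) := by decide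
theorem q8_invol : ∀ u : Q8, u * u = 1 → u = 1 ∨ u = a 2 := by decide
theorem q8_ne : (a 2 : Q8) ≠ 1 := by decide
theorem q8_sq : (a 2 : Q8) * a 2 = 1 := by decide

def Y (j : Fin 3) : Subgroup Q8 where
  carrier := {u | inY j u}
  mul_mem' := fun {u v} hu hv => inY_mul j u v hu hv
  one_mem' := inY_one j
  inv_mem' := fun {u} hu => inY_inv j u hu

theorem mem_Y (j : Fin 3) (u : Q8) : u ∈ Y j ↔ inY j u := Iff.rfl

theorem card_Y (j : Fin 3) : Nat.card (Y j) = 4 := by
  have : Nat.card (Y j) = Fintype.card {u // inY j u} := by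
    rw [← Nat.card_eq_fintype_card]
    rfl
  rw [this, inY_card]

theorem Y_inj {j j' : Fin 3} (h : Y j = Y j') : j = j' := by
  have h1 : cc j ∈ Y j := Or.inr (Or.inr (Or.inl rfl))
  rw [h] at h1
  exact inY_cc j j' h1

theorem class_Q8 (A : Subgroup Q8) (hA : Nat.card A = 4) : ∃ j, A = Y j := by
  classical
  have hex : ∃ u ∈ A, u ≠ 1 ∧ u ≠ a 2 := by
    by_contra hcon
    push Not at hcon
    have h1 := Cfsg.Agent.Lib.H2Basic.card_subgroup_le_of_subset A ({1, a 2} : Finset Q8) (by
      intro g hg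
      by_cases h : g = 1
      · simp [h]
      · simp [hcon g hg h])
    have h2 : ({1, a 2} : Finset Q8).card ≤ 2 := Finset.card_le_two
    omega
  obtain ⟨u, hu, hu1, hu2⟩ := hex
  obtain ⟨j, hj, hall⟩ := inY_gen u hu1 hu2
  refine ⟨j, ?_⟩
  have hle : Y j ≤ A := by
    intro v hv
    rcases hall v hv with h | h | h | h
    · rw [h]; exact A.one_mem
    · rw [h]; exact A.mul_mem hu hu
    · rw [h]; exact hu
    · rw [h]; exact A.inv_mem hu
  exact (Subgroup.eq_of_le_of_card_ge hle (by rw [hA, card_Y])).symm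

theorem perm3 {H Y : Type*} [Group H] (act : H → Y → Y)
    (hone : ∀ y, act 1 y = y) (hmul : ∀ a b y, act (a * b) y = act a (act b y))
    (x₀ x₁ x₂ : Y) (h01 : x₀ ≠ x₁) (h02 : x₀ ≠ x₂) (h12 : x₁ ≠ x₂)
    (hcl : ∀ h y, (y = x₀ ∨ y = x₁ ∨ y = x₂) → (act h y = x₀ ∨ act h y = x₁ ∨ act h y = x₂))
    (hodd : ∀ h, ∃ r, Odd r ∧ ∀ y, (y = x₀ ∨ y = x₁ ∨ y = x₂) → act (h ^ r) y = y)
    (hno : ∀ h, act h x₀ ≠ x₁) :
    ∀ h y, (y = x₀ ∨ y = x₁ ∨ y = x₂) → act h y = y := by
  have hinj : ∀ h y y', act h y = act h y' → y = y' := by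
    intro h y y' e
    have := congrArg (act h⁻¹) e
    rwa [← hmul, ← hmul, inv_mul_cancel, hone, hone] at this
  -- fixing by the square and an odd power
  have hsq : ∀ h, (∀ y, (y = x₀ ∨ y = x₁ ∨ y = x₂) → act (h ^ 2) y = y) →
      ∀ y, (y = x₀ ∨ y = x₁ ∨ y = x₂) → act h y = y := by
    intro h h2 y hy
    obtain ⟨r, ⟨k, rfl⟩, hr⟩ := hodd h
    have hk : ∀ k : ℕ, ∀ y, (y = x₀ ∨ y = x₁ ∨ y = x₂) → act ((h ^ 2) ^ k) y = y := by
      intro k
      induction k with
      | zero => intro y _; simp [hone]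
      | succ k ih =>
        intro y hy
        rw [pow_succ, hmul, h2 y hy, ih y hy]
    have h3 := hr y hy
    have e : h ^ (2 * k + 1) = (h ^ 2) ^ k * h := by rw [pow_succ, pow_mul]
    rw [e, hmul, hk k _ (hcl h y hy)] at h3
    exact h3
  intro h
  have h0 := hcl h x₀ (Or.inl rfl)
  have h1 := hcl h x₁ (Or.inr (Or.inl rfl))
  have h2 := hcl h x₂ (Or.inr (Or.inr rfl))
  have e2 : ∀ y, act (h ^ 2) y = act h (act h y) := by
    intro y
    rw [pow_two, hmul]
  have hallfix : act h x₀ = x₀ ∧ act h x₁ = x₁ ∧ act h x₂ = x₂ := by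
    rcases h0 with h0 | h0 | h0
    · rcases h1 with h1 | h1 | h1
      · exact absurd (hinj h _ _ (h1.trans h0.symm)) h01.symm
      · rcases h2 with h2 | h2 | h2
        · exact absurd (hinj h _ _ (h2.trans h0.symm)) h02.symm
        · exact absurd (hinj h _ _ (h2.trans h1.symm)) h12.symm
        · exact ⟨h0, h1, h2⟩
      · rcases h2 with h2 | h2 | h2
        · exact absurd (hinj h _ _ (h2.trans h0.symm)) h02.symm
        · have := hsq h (by
            rintro y (rfl | rfl | rfl)
            · rw [e2, h0, h0]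
            · rw [e2, h1, h2]
            · rw [e2, h2, h1]) x₁ (Or.inr (Or.inl rfl))
          exact absurd (this.symm.trans h1) h12
        · exact absurd (hinj h _ _ (h2.trans h1.symm)) h12.symm
    · exact absurd h0 (hno h)
    · rcases h2 with h2 | h2 | h2
      · rcases h1 with h1 | h1 | h1
        · exact absurd (hinj h _ _ (h1.trans h2.symm)) h12
        · have := hsq h (by
            rintro y (rfl | rfl | rfl)
            · rw [e2, h0, h2]
            · rw [e2, h1, h1]
            · rw [e2, h2, h0]) x₀ (Or.inl rfl)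
          exact absurd (this.symm.trans h0) h02
        · exact absurd (hinj h _ _ (h1.trans h0.symm)) h01.symm
      · exact absurd (by rw [e2, h0, h2]) (hno (h ^ 2))
      · exact absurd (hinj h _ _ (h2.trans h0.symm)) h02.symm
  rintro y (rfl | rfl | rfl)
  · exact hallfix.1
  · exact hallfix.2.1
  · exact hallfix.2.2

def lab : Q8 → ZMod 2 × ZMod 2
  | a i => ((i.val : ZMod 2), 0)
  | xa i => ((i.val : ZMod 2), 1)

theorem lab_add : ∀ u v : Q8, lab (u * v) = lab u + lab v := by decide
theorem lab_one : lab (1 : Q8) = 0 := by decide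
theorem lab_ker : ∀ u : Q8, lab u = 0 → u = 1 ∨ u = a 2 := by decide
theorem lab_z : lab (a 2 : Q8) = 0 := by decide
theorem lab_surj : ∀ v, ∃ u : Q8, lab u = v := by decide
theorem lab_eq : ∀ j u v, inY j u → inY j v → u ≠ 1 → u ≠ a 2 → v ≠ 1 → v ≠ a 2 → lab u = lab v := by decide
theorem v4_sq : ∀ v : ZMod 2 × ZMod 2, v + v = 0 := by decide

/-- the labeling as a homomorphism -/
def labHom : Q8 →* Multiplicative (ZMod 2 × ZMod 2) where
  toFun u := Multiplicative.ofAdd (lab u)
  map_one' := by rw [lab_one]; rfl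
  map_mul' u v := by rw [lab_add]; rfl

theorem odd_pow_mem_sylow {G : Type*} [Group G] [Finite G] (P : Sylow 2 G) {x : G}
    (hx : x ∈ normalizer ((P : Subgroup G) : Set G)) :
    ∃ r, Odd r ∧ x ^ r ∈ (P : Subgroup G) := by
  obtain ⟨s, r, hr, hn⟩ := Nat.exists_eq_two_pow_mul_odd (orderOf_pos x).ne'
  refine ⟨r, hr, ?_⟩
  have hy : (x ^ r) ^ 2 ^ s = 1 := by rw [← pow_mul, mul_comm, ← hn, pow_orderOf_eq_one]
  have hA : IsPGroup 2 (zpowers (x ^ r)) := by
    intro z
    obtain ⟨k, hk⟩ := mem_zpowers_iff.1 z.2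
    refine ⟨s, Subtype.ext ?_⟩
    show (z : G) ^ 2 ^ s = 1
    rw [← hk, ← zpow_natCast, ← zpow_mul, mul_comm, zpow_mul, zpow_natCast, hy, one_zpow]
  have hle : zpowers (x ^ r) ≤ normalizer ((P : Subgroup G) : Set G) :=
    zpowers_le.2 (pow_mem hx r)
  have h := P.is_maximal' (hA.to_sup_of_normal_right' P.isPGroup' hle) le_sup_right
  rw [← h]
  exact mem_sup_left (mem_zpowers _)

theorem third : ∀ j₁ j₂ : Fin 3, j₁ ≠ j₂ → ∃ j₃, j₁ ≠ j₃ ∧ j₂ ≠ j₃ ∧ ∀ j, j = j₁ ∨ j = j₂ ∨ j = j₃ := by decide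


/-- Let S be a Sylow 2-subgroup of the finite group G that is isomorphic to the quaternion group of order 8, and suppose S has no normal complement in G. Then any two subgroups of order 4 of S are conjugate by an element of the normalizer of S. -/
theorem result {G : Type*} [Group G] [Finite G] (S : Sylow 2 G) (e : (S : Subgroup G) ≃* QuaternionGroup 2) (hnc : ∀ N : Subgroup G, N.Normal → ¬ Subgroup.IsComplement' N (S : Subgroup G)) (A B : Subgroup G) (hA : A ≤ S) (hB : B ≤ S) (hA4 : Nat.card A = 4) (hB4 : Nat.card B = 4) : ∃ n ∈ Subgroup.normalizer ((S : Subgroup G) : Set G), B = A.map (MulAut.conj n).toMonoidHom := by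
  classical
  let ι : Q8 →* G := (S : Subgroup G).subtype.comp e.symm.toMonoidHom
  have hιinj : Function.Injective ι := Subtype.val_injective.comp e.symm.injective
  have hιS : ∀ q, ι q ∈ (S : Subgroup G) := fun q => (e.symm q).2
  have hιsurj : ∀ x ∈ (S : Subgroup G), ∃ q, ι q = x := fun x hx => ⟨e ⟨x, hx⟩, by simp [ι]⟩
  let X : Fin 3 → Subgroup G := fun j => (Y j).map ι
  have hXcard : ∀ j, Nat.card (X j) = 4 := fun j => by
    show Nat.card ((Y j).map ι) = 4
    rw [Subgroup.card_map_of_injective hιinj, card_Y]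
  have hXle : ∀ j, X j ≤ (S : Subgroup G) := by
    rintro j _ ⟨u, _, rfl⟩
    exact hιS u
  have hclass : ∀ A : Subgroup G, A ≤ (S : Subgroup G) → Nat.card A = 4 → ∃ j, A = X j := by
    intro A hA hA4
    have hm : (A.comap ι).map ι = A := Subgroup.map_comap_eq_self (by
      intro x hx
      obtain ⟨q, hq⟩ := hιsurj x (hA hx)
      exact ⟨q, hq⟩)
    have hc : Nat.card (A.comap ι) = 4 := by
      have := Subgroup.card_map_of_injective (K := A.comap ι) hιinj
      rw [hm, hA4] at this
      exact this.symm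
    obtain ⟨j, hj⟩ := class_Q8 _ hc
    exact ⟨j, by rw [← hm, hj]⟩
  have hXinj : ∀ j j', X j = X j' → j = j' := fun j j' h =>
    Y_inj (Subgroup.map_injective hιinj h)
  have hStriv : ∀ s ∈ (S : Subgroup G), ∀ j, (X j).map (MulAut.conj s).toMonoidHom = X j := by
    intro s hs j
    obtain ⟨q, rfl⟩ := hιsurj s hs
    apply Subgroup.eq_of_le_of_card_ge
    · rintro _ ⟨_, ⟨u, hu, rfl⟩, rfl⟩
      show ι q * ι u * (ι q)⁻¹ ∈ X j
      rw [← map_inv, ← map_mul, ← map_mul]
      exact ⟨_, inY_conj j q u hu, rfl⟩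
    · rw [Cfsg.Agent.Lib.H2Basic.card_map_conj]
  have hNcl : ∀ n ∈ normalizer ((S : Subgroup G) : Set G), ∀ j, ∃ j', (X j).map (MulAut.conj n).toMonoidHom = X j' := by
    intro n hn j
    obtain ⟨j', hj'⟩ := hclass ((X j).map (MulAut.conj n).toMonoidHom) (by
      rintro _ ⟨x, hx, rfl⟩
      exact (mem_normalizer_iff.1 hn x).1 (hXle j hx)) (by
      rw [Cfsg.Agent.Lib.H2Basic.card_map_conj, hXcard])
    exact ⟨j', hj'⟩
  have hbound : ∀ T : Subgroup G, IsPGroup 2 T → Nat.card T ≤ Nat.card (S : Subgroup G) := by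
    intro T hT
    obtain ⟨Q, hQ⟩ := hT.exists_le_sylow
    calc Nat.card T ≤ Nat.card (Q : Subgroup G) := Subgroup.card_le_of_le hQ
      _ = Nat.card (S : Subgroup G) := by rw [Sylow.card_eq_multiplicity, Sylow.card_eq_multiplicity]
  -- the main argument
  suffices hsuff : ¬ ∀ n ∈ normalizer ((S : Subgroup G) : Set G), ∀ j, (X j).map (MulAut.conj n).toMonoidHom = X j by
    obtain ⟨j₁, hj₁⟩ := hclass A hA hA4
    obtain ⟨j₂, hj₂⟩ := hclass B hB hB4
    by_contra hnot
    apply hsuff
    have hnot' : ∀ n ∈ normalizer ((S : Subgroup G) : Set G), (X j₁).map (MulAut.conj n).toMonoidHom ≠ X j₂ := by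
      intro n hn h
      exact hnot ⟨n, hn, by rw [hj₁, hj₂, h]⟩
    have hne : j₁ ≠ j₂ := by
      rintro rfl
      apply hnot' 1 (Subgroup.one_mem _)
      ext x
      rw [Cfsg.Agent.Lib.H2Basic.mem_map_conj_iff]
      simp
    obtain ⟨j₃, h13, h23, hcov⟩ := third j₁ j₂ hne
    have hp := perm3 (H := normalizer ((S : Subgroup G) : Set G)) (Y := Subgroup G)
      (fun n A => A.map (MulAut.conj (n : G)).toMonoidHom)
      (by
        intro y
        ext x
        show x ∈ y.map (MulAut.conj ((1 : normalizer ((S : Subgroup G) : Set G)) : G)).toMonoidHom ↔ _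
        rw [Cfsg.Agent.Lib.H2Basic.mem_map_conj_iff]
        simp)
      (by
        intro a b y
        show y.map (MulAut.conj ((a * b : normalizer ((S : Subgroup G) : Set G)) : G)).toMonoidHom = _
        rw [Subgroup.coe_mul, ← Cfsg.Agent.Lib.H2Basic.map_conj_mul])
      (X j₁) (X j₂) (X j₃) (fun h => hne (hXinj _ _ h)) (fun h => h13 (hXinj _ _ h)) (fun h => h23 (hXinj _ _ h))
      (by
        rintro ⟨n, hn⟩ y hy
        have hyj : ∃ j, y = X j := by
          rcases hy with h | h | h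
          · exact ⟨_, h⟩
          · exact ⟨_, h⟩
          · exact ⟨_, h⟩
        obtain ⟨j, rfl⟩ := hyj
        obtain ⟨j', hj'⟩ := hNcl n hn j
        show (X j).map (MulAut.conj n).toMonoidHom = _ ∨ (X j).map (MulAut.conj n).toMonoidHom = _ ∨ (X j).map (MulAut.conj n).toMonoidHom = _
        rw [hj']
        rcases hcov j' with h | h | h
        · left; rw [h]
        · right; left; rw [h]
        · right; right; rw [h])
      (by
        rintro ⟨n, hn⟩
        obtain ⟨r, hr, hnr⟩ := odd_pow_mem_sylow S hn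
        refine ⟨r, hr, ?_⟩
        intro y hy
        have hyj : ∃ j, y = X j := by
          rcases hy with h | h | h
          · exact ⟨_, h⟩
          · exact ⟨_, h⟩
          · exact ⟨_, h⟩
        obtain ⟨j, rfl⟩ := hyj
        exact hStriv _ hnr j)
      (by
        rintro ⟨n, hn⟩
        exact hnot' n hn)
    intro n hn j
    refine hp ⟨n, hn⟩ (X j) ?_
    rcases hcov j with h | h | h
    · left; rw [h]
    · right; left; rw [h]
    · right; right; rw [h]
  intro hfix
  have hinv : ∀ (x y : Q8) (g : G), ι y = g * ι x * g⁻¹ → lab x = lab y := by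
    intro x y g h
    have hxx : x * x = 1 → y * y = 1 := by
      intro hxx
      apply hιinj
      rw [map_mul, map_one, h]
      have e1 : g * ι x * g⁻¹ * (g * ι x * g⁻¹) = g * ι (x * x) * g⁻¹ := by
        rw [map_mul]; group
      rw [e1, hxx, map_one]; group
    have hyy : y * y = 1 → x * x = 1 := by
      intro hyy
      apply hιinj
      have e1 : g * ι (x * x) * g⁻¹ = ι (y * y) := by
        rw [map_mul, map_mul, h]; group
      rw [hyy, map_one] at e1
      rw [map_one]
      have e2 : ι (x * x) = g⁻¹ * (g * ι (x * x) * g⁻¹) * g := by group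
      rw [e2, e1]; group
    by_cases hx : x = 1 ∨ x = a 2
    · have hx2 : x * x = 1 := by
        rcases hx with rfl | rfl
        · exact mul_one 1
        · exact q8_sq
      have hy := q8_invol y (hxx hx2)
      have hl : ∀ u : Q8, (u = 1 ∨ u = a 2) → lab u = 0 := by
        rintro u (rfl | rfl)
        · exact lab_one
        · exact lab_z
      rw [hl x hx, hl y hy]
    · push Not at hx
      obtain ⟨hx1, hx2⟩ := hx
      have hy1 : y ≠ 1 ∧ y ≠ a 2 := by
        by_contra hcon
        have hy' : y = 1 ∨ y = a 2 := by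
          by_contra h'
          push Not at h'
          exact hcon h'
        have hy2 : y * y = 1 := by
          rcases hy' with rfl | rfl
          · exact mul_one 1
          · exact q8_sq
        rcases q8_invol x (hyy hy2) with h' | h'
        · exact hx1 h'
        · exact hx2 h'
      obtain ⟨hy1, hy2⟩ := hy1
      obtain ⟨j, hjx, hallx⟩ := inY_gen x hx1 hx2
      obtain ⟨j', hjy, hally⟩ := inY_gen y hy1 hy2
      have hXg : (X j).map (MulAut.conj g).toMonoidHom = X j' := by
        apply Subgroup.eq_of_le_of_card_ge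
        · rintro _ ⟨_, ⟨v, hv, rfl⟩, rfl⟩
          show g * ι v * g⁻¹ ∈ X j'
          have hyX : ι y ∈ X j' := ⟨y, hjy, rfl⟩
          rcases hallx v hv with rfl | rfl | rfl | rfl
          · simp
          · have e1 : g * ι (x * x) * g⁻¹ = ι y * ι y := by
              rw [h, map_mul]; group
            rw [e1]
            exact Subgroup.mul_mem _ hyX hyX
          · rw [← h]
            exact hyX
          · have e1 : g * ι x⁻¹ * g⁻¹ = (ι y)⁻¹ := by
              rw [h, map_inv]; group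
            rw [e1]
            exact Subgroup.inv_mem _ hyX
        · rw [Cfsg.Agent.Lib.H2Basic.card_map_conj, hXcard, hXcard]
      have hSL : (S : Subgroup G) ≤ normalizer ((X j' : Subgroup G) : Set G) := fun s hs =>
        Cfsg.Agent.Lib.H2Basic.mem_normalizer_of_map_conj_eq (hStriv s hs j')
      have hS'L : (S : Subgroup G).map (MulAut.conj g).toMonoidHom ≤ normalizer ((X j' : Subgroup G) : Set G) := by
        rintro _ ⟨s, hs, rfl⟩
        apply Cfsg.Agent.Lib.H2Basic.mem_normalizer_of_map_conj_eq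
        rw [← hXg, Cfsg.Agent.Lib.H2Basic.map_conj_mul]
        have e1 : (MulAut.conj g).toMonoidHom s * g = g * s := by
          show (g * s * g⁻¹) * g = g * s
          group
        rw [e1, ← Cfsg.Agent.Lib.H2Basic.map_conj_mul, hStriv s hs j]
      have hS1 : Cfsg.Agent.Lib.SylowIn.IsSylowIn 2 (S : Subgroup G) (normalizer ((X j' : Subgroup G) : Set G)) :=
        Cfsg.Agent.Lib.SylowIn.isSylowIn_of_card hSL S.isPGroup' (fun T _ hT => hbound T hT)
      have hS2 : Cfsg.Agent.Lib.SylowIn.IsSylowIn 2 ((S : Subgroup G).map (MulAut.conj g).toMonoidHom) (normalizer ((X j' : Subgroup G) : Set G)) :=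
        Cfsg.Agent.Lib.SylowIn.isSylowIn_of_card hS'L (S.isPGroup'.map _) (fun T _ hT => by
          rw [Cfsg.Agent.Lib.H2Basic.card_map_conj]
          exact hbound T hT)
      obtain ⟨R₁, hR₁⟩ := hS1
      obtain ⟨R₂, hR₂⟩ := hS2
      obtain ⟨u, hu⟩ := MulAction.exists_smul_eq (normalizer ((X j' : Subgroup G) : Set G)) R₂ R₁
      have hn : (u : G) * g ∈ normalizer ((S : Subgroup G) : Set G) := by
        apply Cfsg.Agent.Lib.H2Basic.mem_normalizer_of_conj_le
        intro c hc
        have hcL : g * c * g⁻¹ ∈ (S : Subgroup G).map (MulAut.conj g).toMonoidHom :=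
          Cfsg.Agent.Lib.H2Basic.conj_mem_map_conj g hc
        have h1 : (⟨g * c * g⁻¹, hS'L hcL⟩ : normalizer ((X j' : Subgroup G) : Set G)) ∈ (R₂ : Subgroup (normalizer ((X j' : Subgroup G) : Set G))) := by
          rw [hR₂]
          exact hcL
        have h2 : u * (⟨g * c * g⁻¹, hS'L hcL⟩ : normalizer ((X j' : Subgroup G) : Set G)) * u⁻¹ ∈ (R₁ : Subgroup (normalizer ((X j' : Subgroup G) : Set G))) := by
          rw [← hu]
          refine (Cfsg.Agent.Lib.SylowCount.mem_smul_sylow u _ R₂).2 ?_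
          have e1 : u⁻¹ * (u * (⟨g * c * g⁻¹, hS'L hcL⟩ : normalizer ((X j' : Subgroup G) : Set G)) * u⁻¹) * u = ⟨g * c * g⁻¹, hS'L hcL⟩ := by group
          rw [e1]
          exact h1
        rw [hR₁] at h2
        have h3 : (u : G) * (g * c * g⁻¹) * (u : G)⁻¹ ∈ (S : Subgroup G) := h2
        have e2 : (u : G) * g * c * ((u : G) * g)⁻¹ = (u : G) * (g * c * g⁻¹) * (u : G)⁻¹ := by group
        rw [e2]
        exact h3
      have hf := hfix _ hn j
      rw [← Cfsg.Agent.Lib.H2Basic.map_conj_mul, hXg, Cfsg.Agent.Lib.H2Basic.map_conj_eq_of_mem_normalizer u.2] at hf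
      have hjj : j = j' := (hXinj _ _ hf).symm
      rw [← hjj] at hjy
      exact lab_eq j x y hjx hjy hx1 hx2 hy1 hy2
  -- the transfer
  let ϕ : (S : Subgroup G) →* Multiplicative (ZMod 2 × ZMod 2) := labHom.comp e.toMonoidHom
  have hϕinv : ∀ (a b : (S : Subgroup G)) (g : G), (b : G) = g * a * g⁻¹ → ϕ a = ϕ b := by
    intro a b g h
    have ea : (a : G) = ι (e a) := by simp [ι]
    have eb : (b : G) = ι (e b) := by simp [ι]
    exact congrArg Multiplicative.ofAdd (hinv (e a) (e b) g (by rw [← ea, ← eb]; exact h))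
  have hτ0 := fun x : (S : Subgroup G) => Cfsg.Agent.Lib.Focal.transfer_eq_pow_of_conj_invariant ϕ hϕinv x
  have hodd : Odd (S : Subgroup G).index := Nat.not_even_iff_odd.1 (fun h => S.not_dvd_index h.two_dvd)
  have hτ : ∀ x : (S : Subgroup G), ϕ.transfer (x : G) = ϕ x := by
    intro x
    rw [hτ0 x]
    obtain ⟨k, hk⟩ := hodd
    have hv2 : (ϕ x) ^ 2 = 1 := by
      rw [pow_two]
      exact congrArg Multiplicative.ofAdd (v4_sq _)
    rw [hk, pow_succ, pow_mul, hv2, one_pow, one_mul]
  set τ := ϕ.transfer with hτdef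
  have hτι : ∀ u, τ (ι u) = Multiplicative.ofAdd (lab u) := by
    intro u
    have := hτ (e.symm u)
    refine this.trans ?_
    show labHom (e (e.symm u)) = _
    rw [e.apply_symm_apply]
    rfl
  have hMn : τ.ker.Normal := MonoidHom.normal_ker _
  have hMidx : τ.ker.index = 4 := by
    rw [Subgroup.index_ker]
    have : τ.range = ⊤ := by
      rw [MonoidHom.range_eq_top]
      intro v
      obtain ⟨u, hu⟩ := lab_surj (Multiplicative.toAdd v)
      exact ⟨ι u, by rw [hτι, hu]; rfl⟩
    rw [this, Subgroup.card_top, Nat.card_eq_fintype_card]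
    rfl
  have hzS : ι (a 2) ∈ (S : Subgroup G) := hιS _
  have hzM : ι (a 2) ∈ τ.ker := by
    rw [MonoidHom.mem_ker, hτι, lab_z]
    rfl
  have hz1 : ι (a 2) ≠ 1 := by
    intro h
    apply q8_ne
    apply hιinj
    rw [h, map_one]
  have hSM : ∀ x, x ∈ (S : Subgroup G) ⊓ τ.ker → x = 1 ∨ x = ι (a 2) := by
    rintro x ⟨hxS, hxM⟩
    obtain ⟨q, rfl⟩ := hιsurj x hxS
    have hxM' : τ (ι q) = 1 := hxM
    rw [hτι] at hxM'
    rcases lab_ker q (Multiplicative.ofAdd.injective hxM') with rfl | rfl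
    · left; exact map_one _
    · right; rfl
  have hSMsyl : Cfsg.Agent.Lib.SylowIn.IsSylowIn 2 ((S : Subgroup G) ⊓ τ.ker) τ.ker := by
    have h1 : Cfsg.Agent.Lib.SylowIn.IsSylowIn 2 (S : Subgroup G) ⊤ :=
      Cfsg.Agent.Lib.SylowIn.isSylowIn_of_card le_top S.isPGroup' (fun T _ hT => hbound T hT)
    exact h1.inf_of_normal le_top le_top (fun x _ m hm => hMn.conj_mem m hm x)
  obtain ⟨R, hR⟩ := hSMsyl
  have hzR : (⟨ι (a 2), hzM⟩ : τ.ker) ∈ (R : Subgroup τ.ker) := by
    rw [hR]
    exact ⟨hzS, hzM⟩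
  have hRcases : ∀ x : τ.ker, x ∈ (R : Subgroup τ.ker) → x = 1 ∨ x = ⟨ι (a 2), hzM⟩ := by
    intro x hx
    rw [hR] at hx
    rcases hSM x.1 hx with h | h
    · left; exact Subtype.ext h
    · right; exact Subtype.ext h
  have hRcard : Nat.card (R : Subgroup τ.ker) = 2 := by
    have h0 : (R : Subgroup τ.ker) = zpowers (⟨ι (a 2), hzM⟩ : τ.ker) := by
      apply le_antisymm
      · intro x hx
        rcases hRcases x hx with rfl | rfl
        · exact Subgroup.one_mem _
        · exact mem_zpowers _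
      · exact zpowers_le.2 hzR
    rw [h0, Nat.card_zpowers]
    apply orderOf_eq_prime
    · apply Subtype.ext
      show ι (a 2) ^ 2 = 1
      rw [pow_two, ← map_mul, q8_sq, map_one]
    · intro h
      exact hz1 (congrArg Subtype.val h)
  have hP : normalizer ((R : Subgroup τ.ker) : Set τ.ker) ≤ centralizer ((R : Subgroup τ.ker) : Set τ.ker) := by
    intro x hx
    rw [mem_centralizer_iff]
    intro c hc
    rcases hRcases c hc with rfl | rfl
    · simp
    · have h1 := (mem_normalizer_iff.1 hx _).1 hc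
      rcases hRcases _ h1 with h2 | h2
      · exfalso
        apply hz1
        have h3 : (⟨ι (a 2), hzM⟩ : τ.ker) = x⁻¹ * (x * ⟨ι (a 2), hzM⟩ * x⁻¹) * x := by group
        rw [h2] at h3
        have h4 : (⟨ι (a 2), hzM⟩ : τ.ker) = 1 := by rw [h3]; group
        exact congrArg Subtype.val h4
      · exact (mul_inv_eq_iff_eq_mul.1 h2).symm
  -- the complement
  have hK := MonoidHom.ker_transferSylow_isComplement' R hP
  set K := (MonoidHom.transferSylow R hP).ker with hKdef
  have hcK : Nat.card K * 2 = Nat.card τ.ker := by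
    have h := hK.card_mul
    rw [hRcard] at h
    exact h
  have hcM : Nat.card τ.ker * 4 = Nat.card G := by
    rw [← hMidx]
    exact Subgroup.card_mul_index _
  have hcS : Nat.card (S : Subgroup G) = 8 := by
    rw [Nat.card_congr e.toEquiv, Nat.card_eq_fintype_card]
    rfl
  have hcG : Nat.card (S : Subgroup G) * (S : Subgroup G).index = Nat.card G := Subgroup.card_mul_index _
  have hcKodd : Odd (Nat.card K) := by
    rw [← Nat.not_even_iff_odd]
    intro hev
    obtain ⟨k, hk⟩ := hev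
    obtain ⟨i, hi⟩ := hodd
    rw [hcS, hi] at hcG
    rw [← hcM, ← hcK, hk] at hcG
    omega
  have hKidx : K.index = 2 := by
    have h := hK.symm.index_eq_card
    rw [hRcard] at h
    exact h
  have hKmem : ∀ w : τ.ker, Odd (orderOf w) → w ∈ K := by
    intro w hw
    have h2 : w ^ 2 ∈ K := Subgroup.sq_mem_of_index_two hKidx w
    exact Cfsg.Agent.Lib.H7Basic.mem_of_pow_mem_of_coprime K w 2 (Nat.coprime_two_right.2 hw) h2
  apply hnc (K.map τ.ker.subtype)
  · constructor
    rintro _ ⟨k, hk, rfl⟩ g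
    have hw : g * (k : G) * g⁻¹ ∈ τ.ker := hMn.conj_mem _ k.2 g
    have hwK : (⟨g * (k : G) * g⁻¹, hw⟩ : τ.ker) ∈ K := by
      apply hKmem
      have e1 : orderOf (⟨g * (k : G) * g⁻¹, hw⟩ : τ.ker) = orderOf (g * (k : G) * g⁻¹) := Subgroup.orderOf_mk _ _
      rw [e1, Cfsg.Agent.Lib.SylowCount.orderOf_eq_of_isConj (isConj_iff.2 ⟨g, rfl⟩).symm]
      have e2 : orderOf (k : G) = orderOf (⟨k, hk⟩ : K) := by
        rw [Subgroup.orderOf_mk, Subgroup.orderOf_coe]
      rw [e2]
      exact Odd.of_dvd_nat hcKodd (orderOf_dvd_natCard _)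
    exact ⟨_, hwK, rfl⟩
  · apply Subgroup.isComplement'_of_coprime
    · rw [Subgroup.card_map_of_injective τ.ker.subtype_injective, hcS, ← hcM, ← hcK]
      ring
    · rw [Subgroup.card_map_of_injective τ.ker.subtype_injective, hcS]
      have : (8 : ℕ) = 2 ^ 3 := rfl
      rw [this]
      exact Nat.Coprime.pow_right 3 (Nat.coprime_two_right.2 hcKodd)

end Cfsg.Agent.S0950
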