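import Cfsg.Statements.S0943
import Cfsg.Agent.Lib.Central
-- import your own Cfsg.Agent.* helpers here

set_option autoImplicit false
set_option linter.all false
open Cfsg

namespace Cfsg.Agent.S0943

/-- Let χ be an irreducible character of the finite group G and u, v ∈ G. If χ (x * y) = χ (u * v) whenever x is conjugate to u and y is conjugate to v, then χ u * χ v = χ 1 * χ (u * v). (Multiply the class sums of u and v and apply the central character of χ.) -/
theorem result {G : Type*} [Group G] [Finite G] (χ : Cfsg.IrrCharacter G) (u v : G) (hc : ∀ x y : G, IsConj u x → IsConj v y → (χ : G → ℂ) (x * y) = (χ : G → ℂ) (u * v)) : (χ : G → ℂ) u * (χ : G → ℂ) v = (χ : G → ℂ) 1 * (χ : G → ℂ) (u * v) := by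
  classical
  haveI := Fintype.ofFinite G
  obtain ⟨χ', n, ρ, hρ, hχ⟩ := χ
  subst hχ
  have h1 := Cfsg.Agent.Lib.Central.central_mul_central ρ hρ u v
  show ρ.character u * ρ.character v = ρ.character 1 * ρ.character (u * v)
  have h2 : ∀ x y : G, (if IsConj x u then (1 : ℂ) else 0) * (if IsConj y v then (1 : ℂ) else 0) * ρ.character (x * y)
      = (if IsConj x u then (1 : ℂ) else 0) * (if IsConj y v then (1 : ℂ) else 0) * ρ.character (u * v) := by
    intro x y
    split_ifs with hx hy
    · rw [show ρ.character (x * y) = ρ.character (u * v) from hc x y hx.symm hy.symm]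
    all_goals simp
  simp only [h2] at h1
  have h3 : ∑ x : G, ∑ y : G, (if IsConj x u then (1 : ℂ) else 0) * (if IsConj y v then (1 : ℂ) else 0) * ρ.character (u * v)
      = (∑ x : G, (if IsConj x u then (1 : ℂ) else 0)) * (∑ y : G, (if IsConj y v then (1 : ℂ) else 0)) * ρ.character (u * v) := by
    rw [Finset.sum_mul_sum, Finset.sum_mul]
    refine Finset.sum_congr rfl fun x _ => ?_
    rw [Finset.sum_mul]
  rw [h3] at h1
  have hcard : ∀ w : G, (∑ x : G, (if IsConj x w then (1 : ℂ) else 0)) = ((Subgroup.centralizer ({w} : Set G)).index : ℂ) := by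
    intro w
    rw [← Cfsg.Agent.Lib.CharIrr.card_class_eq_index, Nat.card_eq_fintype_card, Fintype.card_subtype]
    simp
  rw [hcard, hcard] at h1
  have hd : ρ.character 1 ≠ 0 := by
    rw [Cfsg.Agent.Lib.Central.character_one]
    exact_mod_cast (Cfsg.Agent.Lib.CharBasic.finrank_pos_of_irreducible ρ hρ).ne'
  have hiu : ((Subgroup.centralizer ({u} : Set G)).index : ℂ) ≠ 0 := by
    exact_mod_cast Subgroup.index_ne_zero_of_finite
  have hiv : ((Subgroup.centralizer ({v} : Set G)).index : ℂ) ≠ 0 := by
    exact_mod_cast Subgroup.index_ne_zero_of_finite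
  unfold Cfsg.centralChar at h1
  field_simp at h1
  linear_combination h1

end Cfsg.Agent.S0943
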