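import Cfsg.Statements.S0944
import Cfsg.Agent.Lib.CharBase0
-- import your own Cfsg.Agent.* helpers here

set_option autoImplicit false
set_option linter.all false
open Cfsg

namespace Cfsg.Agent.S0944

/-- Let χ be an irreducible character of the finite group G and u an involution. Then χ u is a rational integer n with n ≡ χ 1 (mod 2). -/
theorem result {G : Type*} [Group G] [Finite G] (χ : Cfsg.IrrCharacter G) (u : G) (hu : orderOf u = 2) : ∃ n : ℤ, (χ : G → ℂ) u = (n : ℂ) ∧ (2 : ℤ) ∣ (Cfsg.charDegree (χ : G → ℂ) : ℤ) - n := by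
  classical
  obtain ⟨χ', k, ρ, hρ, hχ⟩ := χ
  subst hχ
  obtain ⟨m, b, μ, h1, h2⟩ := Cfsg.Agent.Lib.CharBase0.exists_eigenbasis_rep ρ u
  rw [hu] at h2
  have hval : ∀ i, μ i = 1 ∨ μ i = -1 := fun i => by
    have := h2 i
    have h3 : (μ i - 1) * (μ i + 1) = 0 := by ring_nf; rw [this]; ring
    rcases mul_eq_zero.1 h3 with h4 | h4
    · left; linear_combination h4
    · right; linear_combination h4
  have hfr : Module.finrank ℂ (Fin k → ℂ) = m := Cfsg.Agent.Lib.CharBase0.finrank_eq_of_basis b
  have hdeg : Cfsg.charDegree ρ.character = m := by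
    unfold Cfsg.charDegree
    have h3 : ρ.character 1 = (m : ℂ) := by
      rw [← hfr]
      simp [Representation.character]
    rw [h3]
    simp
  refine ⟨∑ i, (if μ i = 1 then (1 : ℤ) else -1), ?_, ?_⟩
  · show ρ.character u = _
    rw [Cfsg.Agent.Lib.CharBase0.character_eq_sum ρ u b μ h1]
    push_cast
    refine Finset.sum_congr rfl fun i _ => ?_
    rcases hval i with h | h
    · rw [h]; simp
    · have h5 : (-1 : ℂ) ≠ 1 := by norm_num
      rw [h]; simp [h5]
  · show (2 : ℤ) ∣ (Cfsg.charDegree ρ.character : ℤ) - _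
    rw [hdeg]
    have : (m : ℤ) = ∑ i : Fin m, (1 : ℤ) := by simp
    rw [this, ← Finset.sum_sub_distrib]
    apply Finset.dvd_sum
    intro i _
    split_ifs <;> norm_num

end Cfsg.Agent.S0944
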