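import Cfsg.Statements.S5088
import Cfsg.Agent.Lib.FusionNormal

set_option autoImplicit false
open Cfsg

namespace Cfsg.Agent.S5088


/-- In a saturated fusion system over a finite p-group, a subgroup Q is normal in the system if and only if there is a chain of subgroups 1 = Q₀ ≤ Q₁ ≤ ⋯ ≤ Qₙ = Q such that each Qᵢ with i ≥ 1 is strongly closed in the system and [Q, Qᵢ] ≤ Qᵢ₋₁. -/
theorem result {Ω : Type*} [Group Ω] {S : Subgroup Ω} [Finite S] (p : ℕ) [Fact p.Prime] (hS : IsPGroup p S) (F : Cfsg.FusionSystem S) (hF : F.IsSaturated p) (Q : Subgroup Ω) : F.IsNormal Q ↔ ∃ (n : ℕ) (Qs : Fin (n + 1) → Subgroup Ω), Qs 0 = ⊥ ∧ Qs (Fin.last n) = Q ∧ Monotone Qs ∧ ∀ i : Fin n, F.StronglyClosed (Qs i.succ) ∧ ⁅Q, Qs i.succ⁆ ≤ Qs (Fin.castSucc i) := by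
  open Cfsg.Agent.Lib.FusionNormal in
  constructor
  · intro h
    obtain ⟨n, Qs, h0, hl, hm, hn, hc⟩ := IsNormal.exists_chain hS h
    refine ⟨n, Qs, h0, hl, hm, fun i => ⟨IsNormal.stronglyClosed (hn _), ?_⟩⟩
    rw [Subgroup.commutator_comm]
    exact hc i
  · rintro ⟨n, Qs, h0, hl, hm, hi⟩
    have hQ : F.StronglyClosed Q := by
      rcases n.eq_zero_or_pos with rfl | hn
      · have e : Qs (Fin.last 0) = Qs 0 := rfl
        rw [← hl, e, h0]
        exact stronglyClosed_bot F
      · have := (hi ⟨n - 1, by omega⟩).1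
        have e : (⟨n - 1, by omega⟩ : Fin n).succ = Fin.last n := by
          apply Fin.ext
          simp
          omega
        rw [e, hl] at this
        exact this
    refine isNormal_of_stronglyClosed_of_le hS hF hQ fun P hc hr => ?_
    refine le_of_central_chain hS hc hr hQ n Qs h0 hl hm (fun i => ?_) (fun i => ?_)
    · rw [Subgroup.commutator_comm]
      exact (hi i).2
    · rcases Fin.eq_zero_or_eq_succ i.castSucc with h | ⟨j, hj⟩
      · rw [h, h0]
        exact weaklyClosed_bot F
      · have hlt : (j : ℕ) < n := by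
          have : ((i.castSucc : Fin (n + 1)) : ℕ) = (j : ℕ) + 1 := by
            rw [hj]
            simp
          have h2 : (i : ℕ) < n := i.2
          simp at this
          omega
        rw [hj]
        exact StronglyClosed.weaklyClosed (hi j).1

end Cfsg.Agent.S5088
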