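import Cfsg.Statements.S0095
import Cfsg.Agent.Lib.PNilpB

open scoped commutatorElement

set_option autoImplicit false
open Cfsg

namespace Cfsg.Agent.S0095


/-- Pass to a centralizer: the index is `p`. -/
theorem step {P : Type*} [Group P] [Finite P] (p : ℕ) [Fact p.Prime]
    (hZ : Nat.card (Subgroup.center P) = p)
    (hcomm : ∀ a b : P, a * b * a⁻¹ * b⁻¹ ∈ Subgroup.center P) (T : Subgroup P) (w t : P) (ht : t ∈ T)
    (htw : t * w ≠ w * t) :
    Nat.card T = p * Nat.card (T ⊓ Subgroup.centralizer {w} : Subgroup P) := by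
  classical
  have hp : p.Prime := Fact.out
  -- the hom `g ↦ [g, w]`
  let f : T →* Subgroup.center P :=
    MonoidHom.mk' (fun g => ⟨(g : P) * w * (g : P)⁻¹ * w⁻¹, hcomm _ _⟩) (by
      intro a b
      apply Subtype.ext
      show ((a * b : T) : P) * w * ((a * b : T) : P)⁻¹ * w⁻¹ =
        ((a : P) * w * (a : P)⁻¹ * w⁻¹) * ((b : P) * w * (b : P)⁻¹ * w⁻¹)
      have hc := Subgroup.mem_center_iff.mp (hcomm (b : P) w) (a : P)
      simp only [Subgroup.coe_mul]
      calc (a : P) * b * w * ((a : P) * b)⁻¹ * w⁻¹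
          = (a : P) * ((b : P) * w * (b : P)⁻¹ * w⁻¹) * w * (a : P)⁻¹ * w⁻¹ := by group
        _ = ((b : P) * w * (b : P)⁻¹ * w⁻¹) * (a : P) * w * (a : P)⁻¹ * w⁻¹ := by rw [hc]
        _ = _ := by
          have hc2 := Subgroup.mem_center_iff.mp (hcomm (b : P) w) ((a : P) * w * (a : P)⁻¹ * w⁻¹)
          calc ((b : P) * w * (b : P)⁻¹ * w⁻¹) * (a : P) * w * (a : P)⁻¹ * w⁻¹
              = ((b : P) * w * (b : P)⁻¹ * w⁻¹) * ((a : P) * w * (a : P)⁻¹ * w⁻¹) := by group
            _ = _ := hc2.symm)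
  have hfa : ∀ g : T, ((f g : Subgroup.center P) : P) = (g : P) * w * (g : P)⁻¹ * w⁻¹ := fun _ => rfl
  have hne : f ⟨t, ht⟩ ≠ 1 := by
    intro h
    have h1 : t * w * t⁻¹ * w⁻¹ = 1 := congrArg Subtype.val h
    apply htw
    have h2 : t * w = (t * w * t⁻¹ * w⁻¹) * (w * t) := by group
    rw [h2, h1, one_mul]
  have hrange : f.range = ⊤ := by
    have h1 : Nat.card f.range ∣ p := by
      rw [← hZ]; exact Subgroup.card_subgroup_dvd_card _
    rcases (Nat.dvd_prime hp).mp h1 with h2 | h2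
    · exfalso
      have h3 : f.range = ⊥ := Subgroup.card_eq_one.mp h2
      have h4 : f ⟨t, ht⟩ ∈ f.range := ⟨_, rfl⟩
      rw [h3, Subgroup.mem_bot] at h4
      exact hne h4
    · apply Subgroup.eq_top_of_card_eq
      rw [h2, hZ]
  have h1 := f.ker.card_mul_index
  rw [Subgroup.index_ker, hrange, Subgroup.card_top, hZ] at h1
  have h2 : Nat.card f.ker = Nat.card (T ⊓ Subgroup.centralizer {w} : Subgroup P) := by
    have e : f.ker.map T.subtype = T ⊓ Subgroup.centralizer {w} := by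
      ext x
      constructor
      · rintro ⟨g, hg, rfl⟩
        refine ⟨g.2, Subgroup.mem_centralizer_singleton_iff.mpr ?_⟩
        have h3 : (g : P) * w * (g : P)⁻¹ * w⁻¹ = 1 := congrArg Subtype.val (MonoidHom.mem_ker.mp hg)
        have h4 : (g : P) * w = (g : P) * w * (g : P)⁻¹ * w⁻¹ * (w * g) := by group
        rw [h3, one_mul] at h4
        exact h4
      · rintro ⟨hxT, hxc⟩
        refine ⟨⟨x, hxT⟩, ?_, rfl⟩
        rw [SetLike.mem_coe, MonoidHom.mem_ker]
        apply Subtype.ext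
        show x * w * x⁻¹ * w⁻¹ = 1
        have : x * w = w * x := Subgroup.mem_centralizer_singleton_iff.mp hxc
        rw [this]; group
    rw [← e, Subgroup.card_map_of_injective T.subtype_injective]
  rw [← h2, ← h1, mul_comm]

theorem aux {P : Type*} [Group P] [Finite P] (p : ℕ) [Fact p.Prime]
    (hZ : Nat.card (Subgroup.center P) = p)
    (hcomm : ∀ a b : P, a * b * a⁻¹ * b⁻¹ ∈ Subgroup.center P) :
    ∀ (k : ℕ) (Q : Subgroup P), Nat.card Q = k → Subgroup.center P ≤ Q →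
      (∀ u ∈ Q, (∀ v ∈ Q, v * u = u * v) → u ∈ Subgroup.center P) →
      ∃ n : ℕ, Nat.card Q = p ^ (2 * n + 1) := by
  classical
  have hp : p.Prime := Fact.out
  intro k
  induction k using Nat.strong_induction_on with
  | _ k ih =>
  intro Q hk hZQ hQ
  by_cases hQZ : Q ≤ Subgroup.center P
  · refine ⟨0, ?_⟩
    rw [le_antisymm hQZ hZQ, hZ]; simp
  obtain ⟨x, hxQ, hxZ⟩ := SetLike.not_le_iff_exists.mp hQZ
  have hy : ∃ y ∈ Q, y * x ≠ x * y := by
    by_contra hall
    push Not at hall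
    exact hxZ (hQ x hxQ hall)
  obtain ⟨y, hyQ, hyx⟩ := hy
  let Q₁ : Subgroup P := Q ⊓ Subgroup.centralizer {x}
  let R : Subgroup P := Q₁ ⊓ Subgroup.centralizer {y}
  have hc1 := step p hZ hcomm Q x y hyQ hyx
  have hxQ₁ : x ∈ Q₁ := ⟨hxQ, Subgroup.mem_centralizer_singleton_iff.mpr rfl⟩
  have hc2 := step p hZ hcomm Q₁ y x hxQ₁ (fun h => hyx h.symm)
  have hcard : Nat.card Q = p * (p * Nat.card R) := by rw [hc1, hc2]
  have hRpos : 0 < Nat.card R := Nat.card_pos
  have hlt : Nat.card R < k := by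
    rw [← hk, hcard]
    have : 2 ≤ p := hp.two_le
    nlinarith
  have hZc : ∀ z ∈ Subgroup.center P, ∀ w : P, z ∈ Subgroup.centralizer {w} := fun z hz w =>
    Subgroup.mem_centralizer_singleton_iff.mpr (Subgroup.mem_center_iff.mp hz w).symm
  have hZR : Subgroup.center P ≤ R := fun z hz => ⟨⟨hZQ hz, hZc z hz x⟩, hZc z hz y⟩
  -- elements of the center generated by a nonzero commutator
  have hgen : ∀ (c d : P), c ∈ Subgroup.center P → c ≠ 1 → d ∈ Subgroup.center P → ∃ i : ℕ, d = c ^ i := by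
    intro c d hc hc1 hd
    have hz : Subgroup.zpowers (⟨c, hc⟩ : Subgroup.center P) = ⊤ :=
      zpowers_eq_top_of_prime_card hZ (fun h => hc1 (congrArg Subtype.val h))
    have hmem : (⟨d, hd⟩ : Subgroup.center P) ∈ Subgroup.zpowers (⟨c, hc⟩ : Subgroup.center P) := by
      rw [hz]; trivial
    obtain ⟨i, hi⟩ := (mem_powers_iff_mem_zpowers).mpr hmem
    refine ⟨i, ?_⟩
    have := congrArg Subtype.val hi
    simpa using this.symm
  have hpowcomm : ∀ (a b : P) (i : ℕ), a ^ i * b * (a ^ i)⁻¹ * b⁻¹ = (a * b * a⁻¹ * b⁻¹) ^ i := by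
    intro a b i
    set c := a * b * a⁻¹ * b⁻¹ with hc
    have h1 : a * b = c * b * a := by rw [hc]; group
    have h2 := Cfsg.Agent.Lib.PNilpB.zpow_class2 h1 ((Subgroup.mem_center_iff.mp (hcomm a b) a).symm) i
    rw [h2]; group
  have hR : ∀ u ∈ R, (∀ v ∈ R, v * u = u * v) → u ∈ Subgroup.center P := by
    intro u hu hcu
    apply hQ u hu.1.1
    intro v hvQ
    have hux : x * u = u * x := (Subgroup.mem_centralizer_singleton_iff.mp hu.1.2).symm
    have huy : y * u = u * y := (Subgroup.mem_centralizer_singleton_iff.mp hu.2).symm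
    -- adjust `v` by a power of `y`
    have hcyx : y * x * y⁻¹ * x⁻¹ ≠ 1 := by
      intro h
      apply hyx
      have h2 : y * x = (y * x * y⁻¹ * x⁻¹) * (x * y) := by group
      rw [h2, h, one_mul]
    obtain ⟨i, hi⟩ := hgen _ _ (hcomm y x) hcyx (hcomm v x)
    rw [← hpowcomm] at hi
    let v₁ := (y ^ i)⁻¹ * v
    have hv₁Q : v₁ ∈ Q := Q.mul_mem (Q.inv_mem (Q.pow_mem hyQ i)) hvQ
    have hv₁x : x * v₁ = v₁ * x := by
      have h3 : v * x * v⁻¹ = y ^ i * x * (y ^ i)⁻¹ := by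
        have := congrArg (fun t => t * x) hi
        simpa using this
      have h4 : x * ((y ^ i)⁻¹ * v) * x⁻¹ * ((y ^ i)⁻¹ * v)⁻¹ = 1 ∨ True := Or.inr trivial
      show x * ((y ^ i)⁻¹ * v) = ((y ^ i)⁻¹ * v) * x
      calc x * ((y ^ i)⁻¹ * v) = (y ^ i)⁻¹ * (y ^ i * x * (y ^ i)⁻¹) * v := by group
        _ = (y ^ i)⁻¹ * (v * x * v⁻¹) * v := by rw [h3]
        _ = ((y ^ i)⁻¹ * v) * x := by group
    have hcxy : x * y * x⁻¹ * y⁻¹ ≠ 1 := by
      intro h
      apply hyx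
      have h2 : x * y = (x * y * x⁻¹ * y⁻¹) * (y * x) := by group
      rw [h2, h, one_mul]
    obtain ⟨j, hj⟩ := hgen _ _ (hcomm x y) hcxy (hcomm v₁ y)
    rw [← hpowcomm] at hj
    let r := (x ^ j)⁻¹ * v₁
    have hry : y * r = r * y := by
      have h3 : v₁ * y * v₁⁻¹ = x ^ j * y * (x ^ j)⁻¹ := by
        have := congrArg (fun t => t * y) hj
        simpa using this
      show y * ((x ^ j)⁻¹ * v₁) = ((x ^ j)⁻¹ * v₁) * y
      calc y * ((x ^ j)⁻¹ * v₁) = (x ^ j)⁻¹ * (x ^ j * y * (x ^ j)⁻¹) * v₁ := by group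
        _ = (x ^ j)⁻¹ * (v₁ * y * v₁⁻¹) * v₁ := by rw [h3]
        _ = ((x ^ j)⁻¹ * v₁) * y := by group
    have hrx : x * r = r * x := by
      have hxj : Commute x ((x ^ j)⁻¹) := ((Commute.refl x).pow_right j).inv_right
      show x * ((x ^ j)⁻¹ * v₁) = ((x ^ j)⁻¹ * v₁) * x
      calc x * ((x ^ j)⁻¹ * v₁) = (x * (x ^ j)⁻¹) * v₁ := by group
        _ = ((x ^ j)⁻¹ * x) * v₁ := by rw [hxj.eq]
        _ = (x ^ j)⁻¹ * (x * v₁) := by group
        _ = (x ^ j)⁻¹ * (v₁ * x) := by rw [hv₁x]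
        _ = _ := by group
    have hrQ : r ∈ Q := Q.mul_mem (Q.inv_mem (Q.pow_mem hxQ j)) hv₁Q
    have hrR : r ∈ R := ⟨⟨hrQ, Subgroup.mem_centralizer_singleton_iff.mpr hrx.symm⟩,
      Subgroup.mem_centralizer_singleton_iff.mpr hry.symm⟩
    have hru := hcu r hrR
    have hv : v = y ^ i * (x ^ j * r) := by
      show v = y ^ i * (x ^ j * ((x ^ j)⁻¹ * ((y ^ i)⁻¹ * v)))
      group
    rw [hv]
    have hc1 : Commute (y ^ i) u := Commute.pow_left huy i
    have hc2 : Commute (x ^ j) u := Commute.pow_left hux j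
    have hc3 : Commute r u := hru
    exact (hc1.mul_left (hc2.mul_left hc3)).eq
  obtain ⟨n, hn⟩ := ih _ hlt R rfl hZR hR
  refine ⟨n + 1, ?_⟩
  rw [hcard, hn]
  ring


/-- The order of an extraspecial p-group is an odd power p^(2n+1) of p with n ≥ 1. -/
theorem result {P : Type*} [Group P] [Finite P] {p : ℕ} [Fact p.Prime] (h : Cfsg.IsExtraspecial p P) : ∃ n : ℕ, 1 ≤ n ∧ Nat.card P = p ^ (2 * n + 1) := by
  classical
  obtain ⟨⟨hP, hF, hC⟩, hZ⟩ := h
  have hp : p.Prime := Fact.out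
  have hcomm : ∀ a b : P, a * b * a⁻¹ * b⁻¹ ∈ Subgroup.center P := fun a b => by
    rw [← hC]
    have : ⁅a, b⁆ ∈ commutator P := Subgroup.commutator_mem_commutator (Subgroup.mem_top a) (Subgroup.mem_top b)
    rwa [commutatorElement_def] at this
  have hnotab : Subgroup.center P ≠ ⊤ := by
    intro htop
    have h1 : commutator P = ⊥ := by
      rw [commutator_def, Subgroup.commutator_eq_bot_iff_le_centralizer]
      intro x _
      refine Subgroup.mem_centralizer_iff.mpr (fun y _ => ?_)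
      have : x ∈ Subgroup.center P := by rw [htop]; trivial
      exact (Subgroup.mem_center_iff.mp this y)
    rw [hC] at h1
    rw [h1, Subgroup.card_bot] at hZ
    exact hp.one_lt.ne hZ
  obtain ⟨n, hn⟩ := aux p hZ hcomm _ ⊤ rfl le_top (fun u _ hu => Subgroup.mem_center_iff.mpr (fun v => hu v (Subgroup.mem_top v)))
  rw [Subgroup.card_top] at hn
  have hn0 : n ≠ 0 := by
    rintro rfl
    apply hnotab
    apply Subgroup.eq_top_of_card_eq
    rw [hZ, hn]; simp
  exact ⟨n, Nat.pos_of_ne_zero hn0, hn⟩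

end Cfsg.Agent.S0095
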