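import Cfsg.Statements.S0065
import Cfsg.Agent.Lib.Wielandt

open scoped commutatorElement

set_option autoImplicit false
open Cfsg

namespace Cfsg.Agent.S0065

/-- A nontrivial normal subgroup of a nilpotent group intersects the centre nontrivially. -/
theorem result {G : Type*} [Group G] [Finite G] [Group.IsNilpotent G]
    (N : Subgroup G) [N.Normal] (hN : N ≠ ⊥) : N ⊓ Subgroup.center G ≠ ⊥ := by
  classical
  -- iterated commutators
  have hseq : ∃ X : Subgroup G, X.Normal ∧ X ≤ N ∧ X ≠ ⊥ ∧ X ≤ Subgroup.center G := by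
    obtain ⟨n, hn⟩ := (Subgroup.nilpotent_iff_lowerCentralSeries (G := G)).mp inferInstance
    -- `W i` is the `i`-th iterated commutator of `N` with `G`
    let W : ℕ → Subgroup G := fun i => Nat.rec N (fun _ X => ⁅X, (⊤ : Subgroup G)⁆) i
    have hWs : ∀ i, W (i + 1) = ⁅W i, ⊤⁆ := fun i => rfl
    have hWn : ∀ i, (W i).Normal := by
      intro i
      induction i with
      | zero => exact ‹N.Normal›
      | succ i ih =>
        rw [hWs]
        exact @Subgroup.commutator_normal G _ (W i) ⊤ ih inferInstance
    have hWle : ∀ i, W i ≤ N := by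
      intro i
      induction i with
      | zero => exact le_rfl
      | succ i ih =>
        rw [hWs]
        refine le_trans ?_ ih
        exact @Subgroup.commutator_le_left G _ (W i) ⊤ (hWn i)
    have hWl : ∀ i, W i ≤ Subgroup.lowerCentralSeries (⊤ : Subgroup G) i := by
      intro i
      induction i with
      | zero => exact le_top
      | succ i ih =>
        rw [hWs, Subgroup.lowerCentralSeries_succ]
        exact Subgroup.commutator_mono ih le_rfl
    have hWn0 : W n = ⊥ := le_bot_iff.mp (hn ▸ hWl n)
    obtain ⟨j, hj', hi⟩ : ∃ j, W j ≠ ⊥ ∧ W (j + 1) = ⊥ := by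
      by_contra hcon
      push_neg at hcon
      have hall : ∀ i, W i ≠ ⊥ := by
        intro i
        induction i with
        | zero => exact hN
        | succ i ih => exact hcon i ih
      exact hall n hWn0
    refine ⟨W j, hWn j, hWle j, hj', ?_⟩
    intro x hx
    rw [Subgroup.mem_center_iff]
    intro g
    have h1 : ⁅x, g⁆ ∈ ⁅W j, (⊤ : Subgroup G)⁆ := Subgroup.commutator_mem_commutator hx (Subgroup.mem_top g)
    rw [← hWs, hi, Subgroup.mem_bot] at h1
    exact (commutatorElement_eq_one_iff_mul_comm.mp h1).symm
  obtain ⟨X, -, hXN, hXne, hXc⟩ := hseq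
  intro h
  apply hXne
  rw [eq_bot_iff, ← h]
  exact le_inf hXN hXc

end Cfsg.Agent.S0065
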