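import Cfsg.Statements.S0015
import Cfsg.Agent.S0065
import Cfsg.Agent.Lib.FitSolv

set_option autoImplicit false
open Cfsg

namespace Cfsg.Agent.S0015

/-- In a finite nilpotent group, an abelian normal subgroup that is maximal among abelian normal subgroups equals its own centralizer. -/
theorem result {G : Type*} [Group G] [Finite G] [Group.IsNilpotent G]
    (N : Subgroup G) [N.Normal] [IsMulCommutative N]
    (hmax : ∀ M : Subgroup G, M.Normal → IsMulCommutative M → N ≤ M → M = N) :
    Subgroup.centralizer (N : Set G) = N := by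
  classical
  have hcomm : ∀ a ∈ N, ∀ b ∈ N, a * b = b * a := fun a ha b hb => by
    have := (inferInstance : IsMulCommutative N).is_comm.comm ⟨a, ha⟩ ⟨b, hb⟩
    exact congrArg Subtype.val this
  have hNC : N ≤ Subgroup.centralizer (N : Set G) := fun a ha =>
    Subgroup.mem_centralizer_iff.mpr (fun b hb => hcomm b hb a ha)
  refine le_antisymm ?_ hNC
  by_contra hC
  obtain ⟨x₀, hx₀, hx₀N⟩ := SetLike.not_le_iff_exists.mp hC
  let C : Subgroup G := Subgroup.centralizer (N : Set G)
  let π := QuotientGroup.mk' N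
  haveI hCn : C.Normal := Cfsg.Agent.Lib.FitSolv.normal_centralizer_of_normal N
  have hπs : Function.Surjective π := QuotientGroup.mk'_surjective _
  haveI hCb : (C.map π).Normal := Subgroup.Normal.map hCn π hπs
  haveI : Group.IsNilpotent (G ⧸ N) := nilpotent_of_surjective π hπs
  have hne : C.map π ≠ ⊥ := by
    intro h
    apply hx₀N
    have : π x₀ ∈ C.map π := ⟨x₀, hx₀, rfl⟩
    rw [h, Subgroup.mem_bot] at this
    exact (QuotientGroup.eq_one_iff _).mp this
  have h1 := Cfsg.Agent.S0065.result (C.map π) hne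
  obtain h | ⟨z, hz, hz1⟩ := Subgroup.bot_or_exists_ne_one ((C.map π) ⊓ Subgroup.center (G ⧸ N))
  · exact h1 h
  obtain ⟨⟨x, hx, rfl⟩, hzc⟩ := hz
  let M : Subgroup G := (Subgroup.zpowers (π x)).comap π
  have hzn : (Subgroup.zpowers (π x)).Normal := by
    refine ⟨fun y hy g => ?_⟩
    have hyc : y ∈ Subgroup.center (G ⧸ N) := (Subgroup.zpowers_le.mpr hzc) hy
    have : g * y * g⁻¹ = y := by
      rw [(Subgroup.mem_center_iff.mp hyc g)]; group
    rw [this]; exact hy
  have hMn : M.Normal := Subgroup.Normal.comap hzn π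
  have hdec : ∀ a ∈ M, ∃ k : ℤ, ∃ n ∈ N, a = x ^ k * n := by
    intro a ha
    obtain ⟨k, hk⟩ := Subgroup.mem_zpowers_iff.mp (show π a ∈ Subgroup.zpowers (π x) from ha)
    refine ⟨k, (x ^ k)⁻¹ * a, ?_, by group⟩
    apply (QuotientGroup.eq_one_iff _).mp
    show π ((x ^ k)⁻¹ * a) = 1
    rw [map_mul, map_inv, map_zpow, hk]; group
  have hxN : ∀ n ∈ N, Commute x n := fun n hn =>
    (Subgroup.mem_centralizer_iff.mp hx n hn).symm
  have hcM : ∀ a ∈ M, ∀ b ∈ M, a * b = b * a := by
    intro a ha b hb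
    obtain ⟨i, n, hn, rfl⟩ := hdec a ha
    obtain ⟨j, m, hm, rfl⟩ := hdec b hb
    have h1 : Commute (x ^ i) (x ^ j) := (Commute.refl x).zpow_zpow i j
    have h2 : Commute (x ^ i) m := (hxN m hm).zpow_left i
    have h3 : Commute n (x ^ j) := ((hxN n hn).zpow_left j).symm
    have h4 : Commute n m := hcomm n hn m hm
    exact ((h1.mul_right h2).mul_left (h3.mul_right h4))
  have hMc : IsMulCommutative M := ⟨⟨fun a b => Subtype.ext (hcM a a.2 b b.2)⟩⟩
  have hNM : N ≤ M := by
    intro n hn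
    show π n ∈ Subgroup.zpowers (π x)
    have : π n = 1 := (QuotientGroup.eq_one_iff _).mpr hn
    rw [this]; exact Subgroup.one_mem _
  have hM := hmax M hMn hMc hNM
  have hxM : x ∈ M := Subgroup.mem_zpowers (π x)
  rw [hM] at hxM
  exact hz1 ((QuotientGroup.eq_one_iff _).mpr hxM)

end Cfsg.Agent.S0015
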