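import Cfsg.Statements.S0016
import Cfsg.Agent.S0015
import Cfsg.Agent.Lib.CoprimeGen4
import Cfsg.Agent.Lib.PNilpB
import Cfsg.Agent.Lib.Quaternion

set_option autoImplicit false
open Cfsg

namespace Cfsg.Agent.S0016


theorem conj_pow_iter {G : Type*} [Group G] (x a : G) (k : ℕ) (h : x * a * x⁻¹ = a ^ k) (n : ℕ) :
    x ^ n * a * (x ^ n)⁻¹ = a ^ (k ^ n) := by
  induction n with
  | zero => simp
  | succ n ih =>
    calc x ^ (n + 1) * a * (x ^ (n + 1))⁻¹ = x * (x ^ n * a * (x ^ n)⁻¹) * x⁻¹ := by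
          rw [pow_succ']; group
      _ = x * a ^ (k ^ n) * x⁻¹ := by rw [ih]
      _ = (x * a * x⁻¹) ^ (k ^ n) := by rw [conj_pow]
      _ = (a ^ k) ^ (k ^ n) := by rw [h]
      _ = a ^ (k ^ (n + 1)) := by rw [← pow_mul, pow_succ']

theorem arith2 (m : ℕ) (hm : 1 ≤ m) (k j : ℕ) (hk : k ^ 2 ≡ 1 [MOD 2 ^ m]) (hj : j * k ≡ j [MOD 2 ^ m])
    (hk1 : ¬ k ≡ 1 [MOD 2 ^ m]) (hk2 : ¬ (2 ^ m ∣ k + 1)) : ∃ i : ℕ, 2 ^ m ∣ j + i * (k + 1) := by
  obtain ⟨m', rfl⟩ : ∃ m', m = m' + 1 := ⟨m - 1, by omega⟩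
  have hM : 2 ^ (m' + 1) = 2 * 2 ^ m' := by rw [pow_succ]; ring
  have hodd : k % 2 = 1 := by
    have h1 : k ^ 2 ≡ 1 [MOD 2] := hk.of_dvd (by rw [hM]; exact dvd_mul_right _ _)
    have h2 : k ^ 2 % 2 = 1 := h1
    rcases Nat.even_or_odd k with he | ho
    · exfalso
      have : Even (k ^ 2) := Nat.even_pow.mpr ⟨he, by norm_num⟩
      rw [Nat.even_iff] at this
      omega
    · exact Nat.odd_iff.mp ho
  obtain ⟨l, rfl⟩ : ∃ l, k = 2 * l + 1 := ⟨k / 2, by omega⟩
  have hd1 : 2 ^ (m' + 1) ∣ j * (2 * l) := by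
    have h1 := (Nat.modEq_iff_dvd' (by nlinarith : j ≤ j * (2 * l + 1))).mp hj.symm
    have h2 : j * (2 * l + 1) - j = j * (2 * l) := by
      rw [mul_add, mul_one, Nat.add_sub_cancel]
    rwa [h2] at h1
  have hd2 : 2 ^ (m' + 1) ∣ (2 * l) * (2 * l + 2) := by
    have h1 := (Nat.modEq_iff_dvd' (Nat.one_le_pow _ _ (by omega))).mp hk.symm
    have h2 : (2 * l + 1) ^ 2 - 1 = (2 * l) * (2 * l + 2) := by
      have : (2 * l + 1) ^ 2 = (2 * l) * (2 * l + 2) + 1 := by ring
      rw [this, Nat.add_sub_cancel]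
    rwa [h2] at h1
  have hnd : ¬ 2 ^ (m' + 1) ∣ 2 * l := by
    intro h
    apply hk1
    have := (Nat.modEq_iff_dvd' (by omega : 1 ≤ 2 * l + 1)).mpr (by simpa using h)
    exact this.symm
  rcases Nat.even_or_odd l with hl | hl
  · -- `k + 1 = 2 u` with `u` odd
    obtain ⟨s, hs⟩ := hl
    have hu : 2 * l + 1 + 1 = 2 * (2 * s + 1) := by omega
    have hjeven : 2 ∣ j := by
      by_contra hj2
      have hc : Nat.Coprime (2 ^ (m' + 1)) j := Nat.Coprime.pow_left _ ((Nat.Prime.coprime_iff_not_dvd Nat.prime_two).mpr hj2)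
      exact hnd (hc.dvd_of_dvd_mul_left hd1)
    obtain ⟨j', rfl⟩ := hjeven
    set M := 2 ^ (m' + 1) with hMdef
    have hM1 : 1 < M := by rw [hMdef]; exact Nat.one_lt_two_pow (by omega)
    have hc : Nat.Coprime (2 * s + 1) M := by
      rw [hMdef]
      apply Nat.Coprime.pow_right
      exact (Nat.coprime_comm.mp ((Nat.Prime.coprime_iff_not_dvd Nat.prime_two).mpr (by omega)))
    obtain ⟨t, -, ht⟩ := Nat.exists_mul_mod_eq_one_of_coprime hc hM1
    obtain ⟨N, hN⟩ : ∃ N, M = N + 1 := ⟨M - 1, by omega⟩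
    refine ⟨t * (N * j'), ?_⟩
    have h1 : (2 * s + 1) * t = M * ((2 * s + 1) * t / M) + 1 := by
      have := Nat.div_add_mod ((2 * s + 1) * t) M
      rw [ht] at this
      exact this.symm
    set Q := (2 * s + 1) * t / M
    rw [hu]
    have h2 : 2 * j' + t * (N * j') * (2 * (2 * s + 1)) = 2 * (j' + ((2 * s + 1) * t) * (N * j')) := by ring
    rw [h2, h1]
    have h3 : j' + (M * Q + 1) * (N * j') = M * (Q * (N * j') + j') := by
      rw [hN]; ring
    rw [h3]
    exact ⟨2 * (Q * (N * j') + j'), by ring⟩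
  · -- `k - 1 = 2 l` with `l` odd
    have hcl : Nat.Coprime (2 ^ m') l := Nat.Coprime.pow_left _ ((Nat.Prime.coprime_iff_not_dvd Nat.prime_two).mpr (by
      obtain ⟨s, hs⟩ := hl
      omega))
    have hj' : 2 ^ m' ∣ j := by
      have h1 : 2 ^ m' ∣ j * l := by
        rw [hM] at hd1
        have h2 : j * (2 * l) = 2 * (j * l) := by ring
        rw [h2] at hd1
        exact Nat.dvd_of_mul_dvd_mul_left (by norm_num) hd1
      exact hcl.dvd_of_dvd_mul_right h1
    have hk' : 2 ^ m' ∣ 2 * l + 2 := by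
      have h1 : 2 ^ m' ∣ l * (2 * l + 2) := by
        rw [hM] at hd2
        have h2 : 2 * l * (2 * l + 2) = 2 * (l * (2 * l + 2)) := by ring
        rw [h2] at hd2
        exact Nat.dvd_of_mul_dvd_mul_left (by norm_num) hd2
      exact hcl.dvd_of_dvd_mul_left h1
    obtain ⟨j', rfl⟩ := hj'
    obtain ⟨w, hw⟩ := hk'
    have hwodd : w % 2 = 1 := by
      by_contra h
      apply hk2
      obtain ⟨w', rfl⟩ : ∃ w', w = 2 * w' := ⟨w / 2, by omega⟩
      refine ⟨w', ?_⟩
      rw [show 2 * l + 1 + 1 = 2 * l + 2 by ring, hw, hM]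
      ring
    obtain ⟨w', rfl⟩ : ∃ w', w = 2 * w' + 1 := ⟨w / 2, by omega⟩
    refine ⟨j', ?_⟩
    rw [show 2 * l + 1 + 1 = 2 * l + 2 by ring, hw, hM]
    exact ⟨j' * (w' + 1), by ring⟩

theorem two_key {G : Type*} [Group G] [Finite G] (hG : IsPGroup 2 G) (a x : G) (ha1 : a ≠ 1)
    (hnorm : x * a * x⁻¹ ∈ Subgroup.zpowers a) (hxA : x ∉ Subgroup.zpowers a)
    (hxp : x ^ 2 ∈ Subgroup.zpowers a) (hCA : ∀ y : G, y * a = a * y → y ∈ Subgroup.zpowers a)
    (hinv : ∀ y : G, y * y = 1 → y ≠ 1 → y ∈ Subgroup.zpowers a) : x * a * x⁻¹ = a⁻¹ := by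
  classical
  obtain ⟨m, hm⟩ := IsPGroup.iff_orderOf.mp hG a
  have hm0 : 1 ≤ m := by
    rcases Nat.eq_zero_or_pos m with h | h
    · subst h
      rw [pow_zero] at hm
      exact absurd (orderOf_eq_one_iff.mp hm) ha1
    · exact h
  obtain ⟨k, hk⟩ := (mem_powers_iff_mem_zpowers).mpr hnorm
  obtain ⟨j, hj⟩ := (mem_powers_iff_mem_zpowers).mpr hxp
  have hk' : x * a * x⁻¹ = a ^ k := hk.symm
  have hj' : x ^ 2 = a ^ j := hj.symm
  have hk2 : k ^ 2 ≡ 1 [MOD 2 ^ m] := by
    have h1 := conj_pow_iter x a k hk' 2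
    rw [hj'] at h1
    have h2 : a ^ j * a * (a ^ j)⁻¹ = a := by
      rw [(Commute.pow_left (Commute.refl a) j).eq]; group
    rw [h2] at h1
    have h3 : a ^ (k ^ 2) = a ^ 1 := by rw [← h1, pow_one]
    rw [pow_eq_pow_iff_modEq, hm] at h3
    exact h3
  have hjk : j * k ≡ j [MOD 2 ^ m] := by
    have h1 : x * a ^ j * x⁻¹ = a ^ (k * j) := by
      rw [← conj_pow, hk', pow_mul]
    have h2 : x * x ^ 2 * x⁻¹ = x ^ 2 := by
      rw [(Commute.pow_right (Commute.refl x) 2).eq]; group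
    rw [hj'] at h2
    rw [h2] at h1
    have h3 : a ^ (j * k) = a ^ j := by rw [mul_comm, ← h1]
    rw [pow_eq_pow_iff_modEq, hm] at h3
    exact h3
  have hk1 : ¬ k ≡ 1 [MOD 2 ^ m] := by
    intro h
    rw [← hm, ← pow_eq_pow_iff_modEq, pow_one] at h
    apply hxA
    apply hCA
    rw [h] at hk'
    calc x * a = (x * a * x⁻¹) * x := by group
      _ = a * x := by rw [hk']
  by_cases hd : 2 ^ m ∣ k + 1
  · rw [hk']
    apply eq_inv_of_mul_eq_one_left
    rw [← pow_succ]
    rw [← hm] at hd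
    exact orderOf_dvd_iff_pow_eq_one.mp hd
  · exfalso
    obtain ⟨i, hi⟩ := arith2 m hm0 k j hk2 hjk hk1 hd
    rw [← hm] at hi
    have hi' := orderOf_dvd_iff_pow_eq_one.mp hi
    let y := x * a ^ i
    have hyy : y * y = 1 := by
      have e1 : x * a ^ i * x⁻¹ = a ^ (k * i) := by
        rw [← conj_pow, hk', pow_mul]
      calc y * y = (x * a ^ i * x⁻¹) * (x * x) * a ^ i := by
            show (x * a ^ i) * (x * a ^ i) = _
            group
        _ = a ^ (k * i) * a ^ j * a ^ i := by rw [e1, ← pow_two, hj']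
        _ = a ^ (j + i * (k + 1)) := by
            rw [← pow_add, ← pow_add]
            congr 1
            ring
        _ = 1 := hi'
    have hmem : x = y * (a ^ i)⁻¹ := by
      show x = (x * a ^ i) * (a ^ i)⁻¹
      group
    by_cases hy1 : y = 1
    · apply hxA
      rw [hmem, hy1, one_mul]
      exact Subgroup.inv_mem _ (Subgroup.npow_mem_zpowers a i)
    · apply hxA
      rw [hmem]
      exact Subgroup.mul_mem _ (hinv y hyy hy1) (Subgroup.inv_mem _ (Subgroup.npow_mem_zpowers a i))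

theorem two_case {G : Type*} [Group G] [Finite G] (hG : IsPGroup 2 G) (a x : G) (ha1 : a ≠ 1)
    (hnorm : ∀ g : G, g * a * g⁻¹ ∈ Subgroup.zpowers a) (hxA : x ∉ Subgroup.zpowers a)
    (hxp : x ^ 2 ∈ Subgroup.zpowers a) (hCA : ∀ y : G, y * a = a * y → y ∈ Subgroup.zpowers a)
    (hinv : ∀ y : G, y * y = 1 → y ≠ 1 → y ∈ Subgroup.zpowers a)
    (huy : ∀ y z : G, y ≠ 1 → y ^ 2 = 1 → z ≠ 1 → z ^ 2 = 1 → y ∈ Subgroup.zpowers z) :
    ∃ n : ℕ, Nonempty (G ≃* QuaternionGroup (2 ^ n)) := by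
  classical
  have hxinv := two_key hG a x ha1 (hnorm x) hxA hxp hCA hinv
  obtain ⟨m, hm⟩ := IsPGroup.iff_orderOf.mp hG a
  let A := Subgroup.zpowers a
  haveI hAn : A.Normal := by
    refine ⟨fun b hb g => ?_⟩
    obtain ⟨i, rfl⟩ := Subgroup.mem_zpowers_iff.mp hb
    rw [← conj_zpow]
    exact Subgroup.zpow_mem _ (hnorm g) i
  -- `m ≥ 2`
  have hinvA : ∀ t : G, t ∉ A → t ^ 2 ∈ A → ∀ b ∈ A, t * b * t⁻¹ = b⁻¹ := by
    intro t ht ht2 b hb
    have h1 := two_key hG a t ha1 (hnorm t) ht ht2 hCA hinv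
    obtain ⟨i, rfl⟩ := Subgroup.mem_zpowers_iff.mp hb
    rw [← conj_zpow, h1, inv_zpow]
  have hm2 : 2 ≤ m := by
    by_contra h
    have hm1 : orderOf a ∣ 2 := by
      rw [hm]
      have := pow_dvd_pow 2 (show m ≤ 1 by omega)
      simpa using this
    have h2 : a⁻¹ = a := by
      have : a * a = 1 := by
        rw [← pow_two]
        exact orderOf_dvd_iff_pow_eq_one.mp hm1
      exact inv_eq_of_mul_eq_one_left this
    apply hxA
    apply hCA
    rw [h2] at hxinv
    calc x * a = (x * a * x⁻¹) * x := by group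
      _ = a * x := by rw [hxinv]
  obtain ⟨m', rfl⟩ : ∃ m', m = m' + 2 := ⟨m - 2, by omega⟩
  let c := a ^ 2 ^ m'
  have hc4 : c ^ 4 = 1 := by
    show (a ^ 2 ^ m') ^ 4 = 1
    rw [← pow_mul, show 2 ^ m' * 4 = 2 ^ (m' + 2) by rw [pow_add]; norm_num, ← hm, pow_orderOf_eq_one]
  have hc2 : c ^ 2 ≠ 1 := by
    show (a ^ 2 ^ m') ^ 2 ≠ 1
    rw [← pow_mul]
    refine pow_ne_one_of_lt_orderOf (by positivity) ?_
    rw [hm]
    have : 0 < 2 ^ m' := by positivity
    calc 2 ^ m' * 2 < 2 ^ m' * 4 := by omega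
      _ = 2 ^ (m' + 2) := by rw [pow_add]; norm_num
  have hc1 : c ≠ 1 := by
    intro h
    apply hc2
    rw [h, one_pow]
  -- the centralizer of `c` is `A`
  have hcA : c ∈ A := Subgroup.npow_mem_zpowers a _
  have hT : ∀ t : G, t * c = c * t → t ∈ A := by
    intro t ht
    by_contra htA
    -- find an element `t'` of `⟨t⟩A` outside `A` with square in `A`
    let T : Subgroup G := Subgroup.centralizer {c}
    have htT : t ∈ T := Subgroup.mem_centralizer_singleton_iff.mpr ht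
    have hAT : A ≤ T := by
      intro b hb
      obtain ⟨i, rfl⟩ := Subgroup.mem_zpowers_iff.mp hb
      refine Subgroup.mem_centralizer_singleton_iff.mpr ?_
      have : Commute (a ^ i) c := Commute.zpow_left (Commute.pow_right (Commute.refl a) _) i
      exact this.eq
    haveI : (A.subgroupOf T).Normal := inferInstance
    have hne : Nontrivial (T ⧸ A.subgroupOf T) := by
      apply QuotientGroup.nontrivial_iff.mpr
      intro h0
      have : (⟨t, htT⟩ : T) ∈ A.subgroupOf T := by rw [h0]; trivial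
      exact htA (Subgroup.mem_subgroupOf.mp this)
    have hQp : IsPGroup 2 (T ⧸ A.subgroupOf T) := (IsPGroup.to_subgroup hG T).to_quotient _
    obtain ⟨e, he⟩ := IsPGroup.iff_card.mp hQp
    have hpd : 2 ∣ Nat.card (T ⧸ A.subgroupOf T) := by
      have h1 : Nat.card (T ⧸ A.subgroupOf T) ≠ 1 := (Finite.one_lt_card).ne'
      have he0 : e ≠ 0 := by
        rintro rfl
        rw [pow_zero] at he
        exact h1 he
      rw [he]
      exact dvd_pow_self 2 he0
    haveI : Fact (Nat.Prime 2) := ⟨Nat.prime_two⟩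
    obtain ⟨q, hq⟩ := exists_prime_orderOf_dvd_card' 2 hpd
    obtain ⟨t', rfl⟩ := QuotientGroup.mk_surjective q
    have ht'A : (t' : G) ∉ A := by
      intro h
      have : ((t' : T) : T ⧸ A.subgroupOf T) = 1 :=
        (QuotientGroup.eq_one_iff _).mpr (Subgroup.mem_subgroupOf.mpr h)
      rw [this, orderOf_one] at hq
      omega
    have ht'2 : (t' : G) ^ 2 ∈ A := by
      have h1 : ((t' : T) : T ⧸ A.subgroupOf T) ^ 2 = 1 := by rw [← hq]; exact pow_orderOf_eq_one _
      have h2 : ((t' ^ 2 : T) : T ⧸ A.subgroupOf T) = 1 := by rw [QuotientGroup.mk_pow]; exact h1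
      have h3 := Subgroup.mem_subgroupOf.mp ((QuotientGroup.eq_one_iff _).mp h2)
      simpa using h3
    have h4 := hinvA _ ht'A ht'2 c hcA
    have h5 : (t' : G) * c = c * t' := Subgroup.mem_centralizer_singleton_iff.mp t'.2
    have h6 : c = c⁻¹ := by
      calc c = ((t' : G) * c) * (t' : G)⁻¹ := by rw [h5]; group
        _ = c⁻¹ := h4
    apply hc2
    rw [pow_two]
    calc c * c = c⁻¹ * c := by rw [← h6]
      _ = 1 := by group
  -- index two
  haveI hAcyc : IsCyclic A := by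
    exact ⟨⟨⟨a, Subgroup.mem_zpowers a⟩, fun b => by
      obtain ⟨i, hi⟩ := Subgroup.mem_zpowers_iff.mp b.2
      exact Subgroup.mem_zpowers_iff.mpr ⟨i, Subtype.ext (by simpa using hi)⟩⟩⟩
  have hunique : ∀ t : G, t ∉ A → x⁻¹ * t ∈ A := by
    intro t ht
    -- `t c t⁻¹ ∈ {c, c⁻¹}`
    let c' := t * c * t⁻¹
    have hc'A : c' ∈ A := hAn.conj_mem c hcA t
    have hc'4 : c' ^ 4 = 1 := by
      show (t * c * t⁻¹) ^ 4 = 1
      rw [conj_pow, hc4]; group
    have hc'2 : c' ^ 2 ≠ 1 := by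
      show (t * c * t⁻¹) ^ 2 ≠ 1
      rw [conj_pow]
      intro h
      apply hc2
      have h1 : c ^ 2 = t⁻¹ * (t * c ^ 2 * t⁻¹) * t := by group
      rw [h1, h]; group
    -- write `c'` in terms of `c`
    obtain ⟨i, hi⟩ := (mem_powers_iff_mem_zpowers).mpr hc'A
    have hi' : a ^ i = c' := hi
    have hd : 2 ^ m' ∣ i := by
      have h1 : a ^ (i * 4) = 1 := by rw [pow_mul, hi', hc'4]
      have h2 := orderOf_dvd_of_pow_eq_one h1
      rw [hm, pow_add] at h2
      have h3 : 2 ^ m' * 4 ∣ i * 4 := by simpa using h2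
      exact Nat.dvd_of_mul_dvd_mul_right (by norm_num) h3
    obtain ⟨i', rfl⟩ := hd
    have hci : c' = c ^ i' := by rw [← hi', pow_mul]
    have hmod : c ^ i' = c ^ (i' % 4) := by
      conv_lhs => rw [← Nat.div_add_mod i' 4, pow_add, pow_mul, hc4, one_pow, one_mul]
    have hlt : i' % 4 < 4 := Nat.mod_lt _ (by norm_num)
    rw [hmod] at hci
    set r := i' % 4 with hr
    have hcases : r = 0 ∨ r = 1 ∨ r = 2 ∨ r = 3 := by omega
    rcases hcases with h0 | h0 | h0 | h0
    · exfalso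
      rw [h0, pow_zero] at hci
      apply hc'2
      rw [hci, one_pow]
    · exfalso
      rw [h0, pow_one] at hci
      apply ht
      apply hT
      have : t * c * t⁻¹ = c := hci
      calc t * c = (t * c * t⁻¹) * t := by group
        _ = c * t := by rw [this]
    · exfalso
      rw [h0] at hci
      apply hc'2
      rw [hci, ← pow_mul]
      exact hc4
    · rw [h0] at hci
      have hc3 : c ^ 3 = c⁻¹ := by
        apply eq_inv_of_mul_eq_one_left
        rw [← pow_succ]; exact hc4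
      rw [hc3] at hci
      have hxc : x * c * x⁻¹ = c⁻¹ := hinvA x hxA hxp c hcA
      apply hT
      have h1 : t * c * t⁻¹ = c⁻¹ := hci
      have h2 : x⁻¹ * c⁻¹ * x = c := by
        rw [← hxc]; group
      calc (x⁻¹ * t) * c = x⁻¹ * (t * c * t⁻¹) * t := by group
        _ = x⁻¹ * c⁻¹ * t := by rw [h1]
        _ = (x⁻¹ * c⁻¹ * x) * (x⁻¹ * t) := by group
        _ = c * (x⁻¹ * t) := by rw [h2]
  have hidx : A.index = 2 := by
    rw [Subgroup.index_eq_two_iff]
    refine ⟨x⁻¹, fun b => ?_⟩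
    by_cases hb : b ∈ A
    · right
      refine ⟨hb, fun h => hxA ?_⟩
      have := A.mul_mem (A.inv_mem hb) h
      have h2 : b⁻¹ * (b * x⁻¹) = x⁻¹ := by group
      rw [h2] at this
      simpa using A.inv_mem this
    · left
      refine ⟨?_, hb⟩
      have h1 := hunique b hb
      have h2 := hAn.conj_mem _ h1 x
      have h3 : x * (x⁻¹ * b) * x⁻¹ = b * x⁻¹ := by group
      rwa [h3] at h2
  have hcardA : Nat.card A = 2 ^ (m' + 2) := by
    show Nat.card (Subgroup.zpowers a) = _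
    rw [Nat.card_zpowers, hm]
  have hcard : Nat.card G = 4 * 2 ^ (m' + 1) := by
    rw [← A.card_mul_index, hidx, hcardA, pow_succ, pow_succ]
    ring
  have ha2 : orderOf a = 2 * 2 ^ (m' + 1) := by
    rw [hm, pow_succ 2 (m' + 1)]
    ring
  -- the square of `x`
  let w := x * x
  have hwA : w ∈ A := by
    show x * x ∈ A
    rw [← pow_two]; exact hxp
  have hw2 : w * w = 1 := by
    have h1 : x * w * x⁻¹ = w⁻¹ := hinvA x hxA hxp w hwA
    have h2 : x * w * x⁻¹ = w := by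
      show x * (x * x) * x⁻¹ = x * x
      group
    rw [h2] at h1
    calc w * w = w⁻¹ * w := by rw [← h1]
      _ = 1 := by group
  have hw1 : w ≠ 1 := by
    intro h
    exact hxA (hinv x h (fun hx => hxA (by rw [hx]; exact Subgroup.one_mem _)))
  let z := a ^ 2 ^ (m' + 1)
  have hz2 : z ^ 2 = 1 := by
    show (a ^ 2 ^ (m' + 1)) ^ 2 = 1
    rw [← pow_mul, ← pow_succ, ← hm, pow_orderOf_eq_one]
  have hz1 : z ≠ 1 := by
    refine pow_ne_one_of_lt_orderOf (by positivity) ?_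
    rw [hm]
    exact Nat.pow_lt_pow_succ (by norm_num)
  have hwz := huy w z hw1 (by rw [pow_two]; exact hw2) hz1 hz2
  obtain ⟨n, hn⟩ := (mem_powers_iff_mem_zpowers).mpr hwz
  have hn' : z ^ n = w := hn
  have hwz' : w = z := by
    have hmod : z ^ n = z ^ (n % 2) := by
      conv_lhs => rw [← Nat.div_add_mod n 2, pow_add, pow_mul, hz2, one_pow, one_mul]
    rw [hmod] at hn'
    have hlt : n % 2 < 2 := Nat.mod_lt _ (by norm_num)
    have hcases : n % 2 = 0 ∨ n % 2 = 1 := by omega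
    rcases hcases with h0 | h0
    · exfalso
      rw [h0, pow_zero] at hn'
      exact hw1 hn'.symm
    · rw [h0, pow_one] at hn'
      exact hn'.symm
  exact ⟨m' + 1, Cfsg.Agent.Lib.Quaternion.nonempty_mulEquiv_quaternion (2 ^ (m' + 1)) a x ha2 hwz' hxinv hxA hcard⟩

theorem odd_case {G : Type*} [Group G] [Finite G] {p : ℕ} [Fact p.Prime] (hp2 : p ≠ 2)
    (hG : IsPGroup p G) (a x : G) (ha1 : a ≠ 1) (hnorm : x * a * x⁻¹ ∈ Subgroup.zpowers a)
    (hxA : x ∉ Subgroup.zpowers a) (hxp : x ^ p ∈ Subgroup.zpowers a)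
    (hCA : ∀ y : G, y * a = a * y → y ∈ Subgroup.zpowers a)
    (huy : ∀ y z : G, y ≠ 1 → y ^ p = 1 → z ≠ 1 → z ^ p = 1 → y ∈ Subgroup.zpowers z) : False := by
  classical
  have hp : p.Prime := Fact.out
  obtain ⟨m, hm⟩ := IsPGroup.iff_orderOf.mp hG a
  have hm0 : m ≠ 0 := by
    rintro rfl
    rw [pow_zero] at hm
    exact ha1 (orderOf_eq_one_iff.mp hm)
  obtain ⟨k, hk⟩ := (mem_powers_iff_mem_zpowers).mpr hnorm
  obtain ⟨j, hj⟩ := (mem_powers_iff_mem_zpowers).mpr hxp
  have hk' : x * a * x⁻¹ = a ^ k := hk.symm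
  have hj' : x ^ p = a ^ j := hj.symm
  have hkp : k ^ p ≡ 1 [MOD p ^ m] := by
    have h1 := conj_pow_iter x a k hk' p
    rw [hj'] at h1
    have h2 : a ^ j * a * (a ^ j)⁻¹ = a := by
      rw [(Commute.pow_left (Commute.refl a) j).eq]; group
    rw [h2] at h1
    have h3 : a ^ (k ^ p) = a ^ 1 := by rw [← h1, pow_one]
    rw [pow_eq_pow_iff_modEq, hm] at h3
    exact h3
  have hjk : j * k ≡ j [MOD p ^ m] := by
    have h1 : x * a ^ j * x⁻¹ = a ^ (k * j) := by
      rw [← conj_pow, hk', pow_mul]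
    have h2 : x * x ^ p * x⁻¹ = x ^ p := by
      rw [(Commute.pow_right (Commute.refl x) p).eq]; group
    rw [hj'] at h2
    rw [h2] at h1
    have h3 : a ^ (j * k) = a ^ j := by rw [mul_comm, ← h1]
    rw [pow_eq_pow_iff_modEq, hm] at h3
    exact h3
  have hk1 : ¬ k ≡ 1 [MOD p ^ m] := by
    intro h
    rw [← hm, ← pow_eq_pow_iff_modEq, pow_one] at h
    apply hxA
    apply hCA
    rw [h] at hk'
    calc x * a = (x * a * x⁻¹) * x := by group
      _ = a * x := by rw [hk']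
  have hkmod : k ≡ 1 [MOD p] := by
    have h1 : k ^ p ≡ 1 [MOD p] := hkp.of_dvd (dvd_pow_self p hm0)
    have h2 : k ^ p ≡ k [MOD p] := by
      have : ((k ^ p : ℕ) : ZMod p) = k := by
        push_cast
        exact ZMod.pow_card _
      exact (ZMod.natCast_eq_natCast_iff _ _ _).mp this
    exact h2.symm.trans h1
  have hk0 : k ≠ 0 := by
    rintro rfl
    rw [pow_zero] at hk'
    apply ha1
    have : a = x⁻¹ * (x * a * x⁻¹) * x := by group
    rw [this, hk']; group
  have hk2 : 1 < k := by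
    have hne1 : k ≠ 1 := by
      rintro rfl
      exact hk1 rfl
    omega
  have hodd : Odd p := hp.odd_of_ne_two hp2
  have hpk : p ∣ k - 1 := (Nat.modEq_iff_dvd' (by omega)).mp hkmod.symm
  have hnpk : ¬ p ∣ k := by
    intro h
    have := (Nat.dvd_sub h hpk)
    have e : k - (k - 1) = 1 := by omega
    rw [e] at this
    exact hp.one_lt.ne' (Nat.dvd_one.mp this)
  have hlte := padicValNat.pow_sub_pow hodd hk2 (by simpa using hpk) hnpk (n := p) hp.ne_zero
  rw [one_pow, padicValNat_self] at hlte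
  have hd : p ^ m ∣ k ^ p - 1 := (Nat.modEq_iff_dvd' (Nat.one_le_pow _ _ (by omega))).mp hkp.symm
  have hne0 : k ^ p - 1 ≠ 0 := by
    have : 1 < k ^ p := Nat.one_lt_pow hp.ne_zero hk2
    omega
  have h3 : m ≤ padicValNat p (k ^ p - 1) := (padicValNat_dvd_iff_le hne0).mp hd
  have hdk : p ^ (m - 1) ∣ k - 1 := (padicValNat_dvd_iff_le (by omega)).mpr (by omega)
  obtain ⟨t, ht⟩ := hdk
  have hmm : p ^ m = p ^ (m - 1) * p := by
    rw [← pow_succ]; congr 1; omega
  have htp : ¬ p ∣ t := by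
    rintro ⟨t', rfl⟩
    apply hk1
    apply Nat.ModEq.symm
    apply (Nat.modEq_iff_dvd' (by omega)).mpr
    rw [ht, hmm]
    exact ⟨t', by ring⟩
  have hjd : p ∣ j := by
    have h4 : p ^ m ∣ j * k - j := (Nat.modEq_iff_dvd' (Nat.le_mul_of_pos_right j (by omega))).mp hjk.symm
    have h5 : j * k - j = j * (k - 1) := by
      rw [Nat.mul_sub, mul_one]
    rw [h5, ht, hmm] at h4
    have h6 : j * (p ^ (m - 1) * t) = p ^ (m - 1) * (j * t) := by ring
    rw [h6] at h4
    have h7 : p ∣ j * t := Nat.dvd_of_mul_dvd_mul_left (pow_pos hp.pos _) h4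
    exact (hp.dvd_mul.mp h7).resolve_right htp
  obtain ⟨j', rfl⟩ := hjd
  let u := a ^ p ^ (m - 1)
  have hup : u ^ p = 1 := by
    show (a ^ p ^ (m - 1)) ^ p = 1
    rw [← pow_mul, ← hmm, ← hm, pow_orderOf_eq_one]
  have hu1 : u ≠ 1 := by
    refine pow_ne_one_of_lt_orderOf (pow_ne_zero _ hp.ne_zero) ?_
    rw [hm, hmm]
    have : 0 < p ^ (m - 1) := pow_pos hp.pos _
    nlinarith [hp.one_lt]
  have hxu : x * u * x⁻¹ = u := by
    have e1 : x * u * x⁻¹ = u ^ k := by
      show x * a ^ p ^ (m - 1) * x⁻¹ = (a ^ p ^ (m - 1)) ^ k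
      rw [← conj_pow, hk', ← pow_mul, ← pow_mul, mul_comm]
    rw [e1]
    obtain ⟨s, hs⟩ := hpk
    have hk3 : k = p * s + 1 := by omega
    rw [hk3, pow_succ, pow_mul, hup, one_pow, one_mul]
  have hxuc : Commute x u := by
    show x * u = u * x
    calc x * u = (x * u * x⁻¹) * x := by group
      _ = u * x := by rw [hxu]
  obtain ⟨i, hi⟩ := (mem_powers_iff_mem_zpowers).mpr (Subgroup.inv_mem _ (Subgroup.npow_mem_zpowers a j'))
  have hi' : a ^ i = (a ^ j')⁻¹ := hi
  let b := a ^ i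
  have hbp : b ^ p = (x ^ p)⁻¹ := by
    show (a ^ i) ^ p = _
    rw [hi', hj', inv_pow, ← pow_mul, mul_comm]
  let c := b * x * b⁻¹ * x⁻¹
  have hbconj : x * b * x⁻¹ = a ^ (k * i) := by
    show x * a ^ i * x⁻¹ = _
    rw [← conj_pow, hk', pow_mul]
  have hcdef : c = (u ^ (i * t))⁻¹ := by
    have e1 : k * i = i + p ^ (m - 1) * (i * t) := by
      have : k = 1 + p ^ (m - 1) * t := by omega
      rw [this]; ring
    have e2 : a ^ (k * i) = b * u ^ (i * t) := by
      show a ^ (k * i) = a ^ i * (a ^ p ^ (m - 1)) ^ (i * t)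
      rw [e1, pow_add, pow_mul a]
    have e3 : c = b * (x * b * x⁻¹)⁻¹ := by
      show b * x * b⁻¹ * x⁻¹ = _
      group
    rw [e3, hbconj, e2, mul_inv_rev]
    have hub : Commute b (u ^ (i * t)) := by
      show Commute (a ^ i) ((a ^ p ^ (m - 1)) ^ (i * t))
      exact (((Commute.refl a).pow_pow _ _).pow_right _)
    have := (hub.inv_right).eq
    rw [← mul_assoc, this, mul_assoc, mul_inv_cancel, mul_one]
  have hcx : Commute c x := by
    rw [hcdef]
    exact ((hxuc.pow_right _).inv_right).symm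
  have hcb : Commute c b := by
    rw [hcdef]
    have : Commute u b := by
      show Commute (a ^ p ^ (m - 1)) (a ^ i)
      exact ((Commute.refl a).pow_pow _ _)
    exact (this.pow_left _).inv_left
  have hcp : c ^ p = 1 := by
    rw [hcdef, inv_pow, ← pow_mul, mul_comm, pow_mul, hup, one_pow, inv_one]
  have hbx : b * x = c * x * b := by
    show b * x = (b * x * b⁻¹ * x⁻¹) * x * b
    group
  have h4 := Cfsg.Agent.Lib.PNilpB.pow_mul_class2 hbx hcx hcb p
  have hodd2 : p % 2 = 1 := Nat.odd_iff.mp hodd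
  obtain ⟨r, hr⟩ : ∃ r, p = 2 * r + 1 := ⟨p / 2, by omega⟩
  have hch : p.choose 2 = p * r := by
    rw [Nat.choose_two_right, hr]
    have : (2 * r + 1) * (2 * r + 1 - 1) = 2 * ((2 * r + 1) * r) := by
      simp only [Nat.add_sub_cancel]
      ring
    rw [this, Nat.mul_div_cancel_left _ (by norm_num)]
  rw [hch, pow_mul, hcp, one_pow, mul_one, hbp, mul_inv_cancel] at h4
  have hbA : b ∈ Subgroup.zpowers a := Subgroup.npow_mem_zpowers a i
  by_cases hy1 : x * b = 1
  · apply hxA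
    have : x = b⁻¹ := eq_inv_of_mul_eq_one_left hy1
    rw [this]
    exact Subgroup.inv_mem _ hbA
  · have h5 := huy _ u hy1 h4 hu1 hup
    have h6 : x * b ∈ Subgroup.zpowers a :=
      (Subgroup.zpowers_le.mpr (Subgroup.npow_mem_zpowers a _)) h5
    apply hxA
    have : x = (x * b) * b⁻¹ := by group
    rw [this]
    exact Subgroup.mul_mem _ h6 (Subgroup.inv_mem _ hbA)


/-- A finite p-group in which only one subgroup has order p is either cyclic or (with p = 2) isomorphic to a generalized quaternion group. -/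
theorem result {G : Type*} [Group G] [Finite G] (p : ℕ) [Fact p.Prime]
    (hG : IsPGroup p G) (huniq : ∀ H K : Subgroup G, Nat.card H = p → Nat.card K = p → H = K) :
    IsCyclic G ∨ (p = 2 ∧ ∃ n : ℕ, Nonempty (G ≃* QuaternionGroup (2 ^ n))) := by
  classical
  have hp : p.Prime := Fact.out
  haveI hnil : Group.IsNilpotent G := hG.isNilpotent
  have huy : ∀ y z : G, y ≠ 1 → y ^ p = 1 → z ≠ 1 → z ^ p = 1 → y ∈ Subgroup.zpowers z := by
    intro y z hy1 hy hz1 hz
    have h1 : Nat.card (Subgroup.zpowers y) = p := by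
      rw [Nat.card_zpowers]; exact orderOf_eq_prime hy hy1
    have h2 : Nat.card (Subgroup.zpowers z) = p := by
      rw [Nat.card_zpowers]; exact orderOf_eq_prime hz hz1
    rw [← huniq _ _ h1 h2]
    exact Subgroup.mem_zpowers y
  let F : Set (Subgroup G) := {N | N.Normal ∧ IsMulCommutative N}
  have hbot : (⊥ : Subgroup G) ∈ F := ⟨inferInstance, ⟨⟨fun a b => by
    apply Subtype.ext
    have ha := Subgroup.mem_bot.mp a.2
    have hb := Subgroup.mem_bot.mp b.2
    show (a : G) * b = b * a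
    rw [ha, hb]⟩⟩⟩
  obtain ⟨A, -, hA⟩ := (Set.toFinite F).exists_le_maximal hbot
  haveI hAn : A.Normal := hA.prop.1
  haveI hAc : IsMulCommutative A := hA.prop.2
  have hCA : Subgroup.centralizer (A : Set G) = A := Cfsg.Agent.S0015.result A (fun M hM hMc hle =>
    le_antisymm (hA.2 ⟨hM, hMc⟩ hle) hle)
  have hcA : ∀ u ∈ A, ∀ v ∈ A, u * v = v * u := fun u hu v hv =>
    congrArg Subtype.val (hAc.is_comm.comm ⟨u, hu⟩ ⟨v, hv⟩)
  have hAcyc : IsCyclic A := by
    by_contra hnc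
    obtain ⟨s, x, y, hs, hx, hy, hy1, hxY⟩ := Cfsg.Agent.Lib.CoprimeGen4.exists_rank_two
      (fun a b => hAc.is_comm.comm a b) hnc
    have hyG1 : (y : G) ≠ 1 := fun h => hy1 (Subtype.ext h)
    have hyG : (y : G) ^ s = 1 := congrArg Subtype.val hy
    have hxG : (x : G) ^ s = 1 := congrArg Subtype.val hx
    have hsp : s = p := by
      haveI : Fact s.Prime := ⟨hs⟩
      have h1 : orderOf (y : G) = s := orderOf_eq_prime hyG hyG1
      obtain ⟨e, he⟩ := IsPGroup.iff_orderOf.mp hG (y : G)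
      rw [h1] at he
      exact (Nat.prime_dvd_prime_iff_eq hs hp).mp (hs.dvd_of_dvd_pow (dvd_of_eq he))
    subst hsp
    by_cases hx1 : x = 1
    · apply hxY
      rw [hx1]; exact Subgroup.one_mem _
    have hxG1 : (x : G) ≠ 1 := fun h => hx1 (Subtype.ext h)
    have h2 := huy _ _ hxG1 hxG hyG1 hyG
    obtain ⟨i, hi⟩ := Subgroup.mem_zpowers_iff.mp h2
    apply hxY
    exact Subgroup.mem_zpowers_iff.mpr ⟨i, Subtype.ext (by simpa using hi)⟩
  obtain ⟨a₀, ha₀⟩ := IsCyclic.exists_generator (α := A)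
  let a : G := a₀
  have hAz : A = Subgroup.zpowers a := by
    apply le_antisymm
    · intro b hb
      obtain ⟨i, hi⟩ := Subgroup.mem_zpowers_iff.mp (ha₀ ⟨b, hb⟩)
      exact Subgroup.mem_zpowers_iff.mpr ⟨i, by
        have := congrArg Subtype.val hi
        simpa using this⟩
    · exact Subgroup.zpowers_le.mpr a₀.2
  by_cases htop : A = ⊤
  · left
    refine ⟨⟨a, fun g => ?_⟩⟩
    show g ∈ Subgroup.zpowers a
    rw [← hAz, htop]
    trivial
  have ha1 : a ≠ 1 := by
    intro h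
    have hb : A = ⊥ := by rw [hAz, h, Subgroup.zpowers_one_eq_bot]
    apply htop
    rw [← hCA, hb]
    simp
  have hNT : Nontrivial (G ⧸ A) := QuotientGroup.nontrivial_iff.mpr htop
  have hQp : IsPGroup p (G ⧸ A) := hG.to_quotient A
  obtain ⟨e, he⟩ := IsPGroup.iff_card.mp hQp
  have hpd : p ∣ Nat.card (G ⧸ A) := by
    have h1 : Nat.card (G ⧸ A) ≠ 1 := (Finite.one_lt_card).ne'
    have he0 : e ≠ 0 := by
      rintro rfl
      rw [pow_zero] at he
      exact h1 he
    rw [he]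
    exact dvd_pow_self p he0
  obtain ⟨q, hq⟩ := exists_prime_orderOf_dvd_card' p hpd
  obtain ⟨x, rfl⟩ := QuotientGroup.mk_surjective q
  have hxA : x ∉ A := by
    intro h
    have : ((x : G) : G ⧸ A) = 1 := (QuotientGroup.eq_one_iff _).mpr h
    rw [this, orderOf_one] at hq
    exact hp.one_lt.ne hq
  have hxp : x ^ p ∈ A := by
    have h1 : ((x : G) : G ⧸ A) ^ p = 1 := by rw [← hq]; exact pow_orderOf_eq_one _
    have h2 : ((x ^ p : G) : G ⧸ A) = 1 := by rw [QuotientGroup.mk_pow]; exact h1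
    exact (QuotientGroup.eq_one_iff _).mp h2
  have hCa : ∀ y : G, y * a = a * y → y ∈ A := by
    intro y hy
    rw [← hCA]
    refine Subgroup.mem_centralizer_iff.mpr (fun b hb => ?_)
    rw [hAz] at hb
    obtain ⟨i, rfl⟩ := Subgroup.mem_zpowers_iff.mp hb
    exact ((Commute.zpow_right (show Commute y a from hy) i).symm).eq
  have hnorm : ∀ g : G, g * a * g⁻¹ ∈ Subgroup.zpowers a := by
    intro g
    rw [← hAz]
    exact hAn.conj_mem a a₀.2 g
  have hCa' : ∀ y : G, y * a = a * y → y ∈ Subgroup.zpowers a := fun y hy => hAz ▸ hCa y hy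
  rw [hAz] at hxA hxp
  by_cases hp2 : p = 2
  · subst hp2
    right
    refine ⟨rfl, ?_⟩
    have hinv : ∀ y : G, y * y = 1 → y ≠ 1 → y ∈ Subgroup.zpowers a := by
      -- an element of order two in `A`
      obtain ⟨e', he'⟩ := IsPGroup.iff_orderOf.mp hG a
      have he'0 : e' ≠ 0 := by
        rintro rfl
        rw [pow_zero] at he'
        exact ha1 (orderOf_eq_one_iff.mp he')
      obtain ⟨e'', rfl⟩ : ∃ e'', e' = e'' + 1 := ⟨e' - 1, by omega⟩
      let z := a ^ 2 ^ e''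
      have hz : z ^ 2 = 1 := by
        show (a ^ 2 ^ e'') ^ 2 = 1
        rw [← pow_mul, ← pow_succ, ← he', pow_orderOf_eq_one]
      have hz1 : z ≠ 1 := pow_ne_one_of_lt_orderOf (by positivity) (by
        rw [he']
        exact Nat.pow_lt_pow_succ (by norm_num))
      intro y hy hy1
      have h1 := huy y z hy1 (by rw [pow_two]; exact hy) hz1 hz
      exact (Subgroup.zpowers_le.mpr (Subgroup.npow_mem_zpowers a _)) h1
    exact two_case hG a x ha1 hnorm hxA hxp hCa' hinv huy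
  · exfalso
    exact odd_case hp2 hG a x ha1 (hnorm x) hxA hxp hCa' huy

end Cfsg.Agent.S0016
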