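import Cfsg.Statements.S0127
import Cfsg.Agent.S0016
import Cfsg.Agent.Lib.PNilpB
import Cfsg.Agent.Lib.H7PGroup
import Cfsg.Agent.Lib.SchurZ
open scoped commutatorElement

set_option autoImplicit false
open Cfsg

namespace Cfsg.Agent.S0127


theorem top_of_index_prime {R : Type*} [Group R] [Finite R] {p : ℕ} (hp : p.Prime) (C D : Subgroup R)
    (hCi : C.index = p) (hCD : C ≤ D) (h : ¬ D ≤ C) : D = ⊤ := by
  have h1 := Subgroup.relIndex_mul_index hCD
  rw [hCi] at h1
  have h2 : D.index ∣ p := Dvd.intro_left _ h1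
  rcases (Nat.dvd_prime hp).mp h2 with h3 | h3
  · exact Subgroup.index_eq_one.mp h3
  · exfalso
    rw [h3] at h1
    have h4 : C.relIndex D = 1 := Nat.eq_of_mul_eq_mul_right hp.pos (by rw [h1, one_mul])
    exact h (Subgroup.relIndex_eq_one.mp h4)


/-- For odd p, in a non-cyclic p-group with a cyclic subgroup of index p, the elements of order dividing p generate an elementary abelian subgroup of order p^2. -/
theorem result {R : Type*} [Group R] [Finite R] {p : ℕ} [Fact p.Prime] (hp : p ≠ 2) (hR : IsPGroup p R) (hnc : ¬ IsCyclic R) (C : Subgroup R) (hC : IsCyclic C) (hCi : C.index = p) : Cfsg.IsElementaryAbelian p (Subgroup.closure {x : R | x ^ p = 1}) ∧ Nat.card (Subgroup.closure {x : R | x ^ p = 1}) = p ^ 2 := by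
  classical
  have hpp : p.Prime := Fact.out
  obtain ⟨n, hn⟩ := IsPGroup.iff_card.mp hR
  have hn0 : n ≠ 0 := by
    rintro rfl
    rw [pow_zero] at hn
    have h1 : C.index ∣ Nat.card R := Subgroup.index_dvd_card C
    rw [hn, hCi] at h1
    exact hpp.one_lt.ne' (Nat.dvd_one.mp h1)
  have hmf : (Nat.card R).minFac = p := by rw [hn]; exact hpp.pow_minFac hn0
  haveI hCn : C.Normal := Subgroup.normal_of_index_eq_minFac_card (by rw [hCi, hmf])
  obtain ⟨a₀, ha₀⟩ := IsCyclic.exists_generator (α := C)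
  let a : R := a₀
  have hCa : C = Subgroup.zpowers a := by
    apply le_antisymm
    · intro c hc
      obtain ⟨k, hk⟩ := ha₀ ⟨c, hc⟩
      exact ⟨k, by simpa using congrArg Subtype.val hk⟩
    · exact Subgroup.zpowers_le.mpr a₀.2
  have hCne : C ≠ ⊤ := by
    intro e
    rw [e, Subgroup.index_top] at hCi
    exact hpp.ne_one hCi.symm
  obtain ⟨x, hxC⟩ : ∃ x, x ∉ C := by
    by_contra h
    push_neg at h
    exact hCne (Subgroup.eq_top_iff' _ |>.mpr h)
  have ha1 : a ≠ 1 := by
    intro e
    apply hnc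
    have h1 : C = ⊥ := by
      rw [hCa, e, Subgroup.zpowers_one_eq_bot]
    rw [h1, Subgroup.index_bot] at hCi
    exact isCyclic_of_prime_card hCi
  obtain ⟨m, hm⟩ := IsPGroup.iff_orderOf.mp hR a
  have hm0 : m ≠ 0 := by
    rintro rfl
    rw [pow_zero] at hm
    exact ha1 (orderOf_eq_one_iff.mp hm)
  have hgen : Subgroup.closure {a, x} = ⊤ := by
    refine top_of_index_prime hpp C _ hCi ?_ ?_
    · rw [hCa]
      exact Subgroup.zpowers_le.mpr (Subgroup.subset_closure (by simp))
    · intro h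
      exact hxC (h (Subgroup.subset_closure (by simp)))
  have hnorm : x * a * x⁻¹ ∈ Subgroup.zpowers a := by
    rw [← hCa]
    exact hCn.conj_mem a a₀.2 x
  have hxp : x ^ p ∈ Subgroup.zpowers a := by
    rw [← hCa]
    have := Subgroup.pow_index_mem C x
    rwa [hCi] at this
  obtain ⟨k, hk⟩ := (mem_powers_iff_mem_zpowers).mpr hnorm
  obtain ⟨j, hj⟩ := (mem_powers_iff_mem_zpowers).mpr hxp
  have hk' : x * a * x⁻¹ = a ^ k := hk.symm
  have hj' : x ^ p = a ^ j := hj.symm
  have hkp : k ^ p ≡ 1 [MOD p ^ m] := by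
    have h1 := Cfsg.Agent.S0016.conj_pow_iter x a k hk' p
    rw [hj'] at h1
    have h2 : a ^ j * a * (a ^ j)⁻¹ = a := by
      rw [(Commute.pow_left (Commute.refl a) j).eq]; group
    rw [h2] at h1
    have h3 : a ^ (k ^ p) = a ^ 1 := by rw [← h1, pow_one]
    rw [pow_eq_pow_iff_modEq, hm] at h3
    exact h3
  have hkmod : k ≡ 1 [MOD p] := by
    have h1 : k ^ p ≡ 1 [MOD p] := hkp.of_dvd (dvd_pow_self p hm0)
    have h2 : k ^ p ≡ k [MOD p] := by
      have : ((k ^ p : ℕ) : ZMod p) = k := by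
        push_cast
        exact ZMod.pow_card _
      exact (ZMod.natCast_eq_natCast_iff _ _ _).mp this
    exact h2.symm.trans h1
  have hk0 : k ≠ 0 := by
    rintro rfl
    rw [pow_zero] at hk'
    apply ha1
    have : a = x⁻¹ * (x * a * x⁻¹) * x := by group
    rw [this, hk']; group
  have hodd : Odd p := hpp.odd_of_ne_two hp
  have hdk : p ^ (m - 1) ∣ k - 1 := by
    by_cases hk1 : k = 1
    · subst hk1
      exact dvd_zero _
    have hk2 : 1 < k := by omega
    have hpk : p ∣ k - 1 := (Nat.modEq_iff_dvd' (by omega)).mp hkmod.symm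
    have hnpk : ¬ p ∣ k := by
      intro h
      have := (Nat.dvd_sub h hpk)
      have e : k - (k - 1) = 1 := by omega
      rw [e] at this
      exact hpp.one_lt.ne' (Nat.dvd_one.mp this)
    have hlte := padicValNat.pow_sub_pow hodd hk2 (by simpa using hpk) hnpk (n := p) hpp.ne_zero
    rw [one_pow, padicValNat_self] at hlte
    have hd : p ^ m ∣ k ^ p - 1 := (Nat.modEq_iff_dvd' (Nat.one_le_pow _ _ (by omega))).mp hkp.symm
    have hne0 : k ^ p - 1 ≠ 0 := by
      have : 1 < k ^ p := Nat.one_lt_pow hpp.ne_zero hk2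
      omega
    have h3 : m ≤ padicValNat p (k ^ p - 1) := (padicValNat_dvd_iff_le hne0).mp hd
    exact (padicValNat_dvd_iff_le (by omega)).mpr (by omega)
  obtain ⟨t, ht⟩ := hdk
  have hmm : p ^ m = p ^ (m - 1) * p := by
    rw [← pow_succ]; congr 1; omega
  let u := a ^ p ^ (m - 1)
  have hup : u ^ p = 1 := by
    show (a ^ p ^ (m - 1)) ^ p = 1
    rw [← pow_mul, ← hmm, ← hm, pow_orderOf_eq_one]
  have hu1 : u ≠ 1 := by
    refine pow_ne_one_of_lt_orderOf (pow_ne_zero _ hpp.ne_zero) ?_
    rw [hm, hmm]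
    have : 0 < p ^ (m - 1) := pow_pos hpp.pos _
    nlinarith [hpp.one_lt]
  have huo : orderOf u = p := orderOf_eq_prime hup hu1
  have hxu : x * u * x⁻¹ = u := by
    have e1 : x * u * x⁻¹ = u ^ k := by
      show x * a ^ p ^ (m - 1) * x⁻¹ = (a ^ p ^ (m - 1)) ^ k
      rw [← conj_pow, hk', ← pow_mul, ← pow_mul, mul_comm]
    rw [e1]
    obtain ⟨s, hs⟩ := (Nat.modEq_iff_dvd' (by omega)).mp hkmod.symm
    have hk3 : k = p * s + 1 := by omega
    rw [hk3, pow_succ, pow_mul, hup, one_pow, one_mul]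
  have hucen : ∀ g : R, g * u = u * g := by
    have h1 : Subgroup.closure {a, x} ≤ Subgroup.centralizer {u} := by
      rw [Subgroup.closure_le]
      rintro g (rfl | rfl)
      · rw [SetLike.mem_coe, Subgroup.mem_centralizer_singleton_iff]
        exact ((Commute.refl a).pow_right _).eq
      · rw [SetLike.mem_coe, Subgroup.mem_centralizer_singleton_iff]
        calc g * u = (g * u * g⁻¹) * g := by group
          _ = u * g := by rw [hxu]
    intro g
    have := h1 (hgen ▸ Subgroup.mem_top g)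
    exact Subgroup.mem_centralizer_singleton_iff.mp this
  let L : Subgroup R := Subgroup.zpowers u
  haveI hLn : L.Normal := by
    refine ⟨fun n hn g => ?_⟩
    obtain ⟨i, rfl⟩ := hn
    have h1 : Commute g (u ^ i) := (show Commute g u from hucen g).zpow_right i
    have h2 : g * u ^ i * g⁻¹ = u ^ i := by rw [h1.eq]; group
    show g * _ * g⁻¹ ∈ L
    simp only [h2]
    exact Subgroup.zpow_mem_zpowers u i
  have hLcen : ∀ c ∈ L, ∀ g : R, g * c = c * g := by
    rintro c ⟨i, rfl⟩ g
    exact ((show Commute g u from hucen g).zpow_right i).eq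
  have hxa : ⁅x, a⁆ ∈ L := by
    rw [commutatorElement_def, hk']
    have hk3 : k = p ^ (m - 1) * t + 1 := by omega
    have : a ^ k * a⁻¹ = u ^ t := by
      show a ^ k * a⁻¹ = (a ^ p ^ (m - 1)) ^ t
      rw [hk3, pow_succ, mul_assoc, mul_inv_cancel, mul_one, pow_mul]
    rw [this]
    exact Subgroup.npow_mem_zpowers u t
  have hcommL : commutator R ≤ L := by
    refine Cfsg.Agent.Lib.H7PGroup.commutator_le_of_closure {a, x} hgen L ?_
    rintro g (rfl | rfl) h (rfl | rfl)
    · rw [commutatorElement_self]; exact L.one_mem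
    · rw [← commutatorElement_inv]; exact L.inv_mem hxa
    · exact hxa
    · rw [commutatorElement_self]; exact L.one_mem
  have hcL : ∀ b c : R, ⁅b, c⁆ ∈ L := fun b c =>
    hcommL (Subgroup.commutator_mem_commutator (Subgroup.mem_top b) (Subgroup.mem_top c))
  have hLp : ∀ c ∈ L, c ^ p = 1 := by
    rintro c ⟨i, rfl⟩
    show (u ^ i) ^ p = 1
    rw [← zpow_natCast, ← zpow_mul, mul_comm, zpow_mul, zpow_natCast, hup, one_zpow]
  have hodd2 : p % 2 = 1 := Nat.odd_iff.mp hodd
  obtain ⟨r, hr⟩ : ∃ r, p = 2 * r + 1 := ⟨p / 2, by omega⟩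
  have hch : p.choose 2 = p * r := by
    rw [Nat.choose_two_right, hr]
    have : (2 * r + 1) * (2 * r + 1 - 1) = 2 * ((2 * r + 1) * r) := by
      simp only [Nat.add_sub_cancel]
      ring
    rw [this, Nat.mul_div_cancel_left _ (by norm_num)]
  have hpow : ∀ b c : R, (b * c) ^ p = b ^ p * c ^ p := by
    intro b c
    have hc := hcL c b
    have h4 := Cfsg.Agent.Lib.PNilpB.pow_mul_class2 (x := b) (z := c) (c := ⁅c, b⁆)
      (by rw [commutatorElement_def]; group) (show _ = _ from (hLcen _ hc b).symm)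
      (show _ = _ from (hLcen _ hc c).symm) p
    rw [hch, pow_mul, hLp _ hc, one_pow, mul_one] at h4
    exact h4
  let π : R →* R := MonoidHom.mk' (fun g => g ^ p) hpow
  have hπ : ∀ g, π g = g ^ p := fun _ => rfl
  have hpj : p ∣ j := by
    by_contra hnd
    apply hnc
    have hcop : (orderOf a).Coprime j := by
      rw [hm]
      exact Nat.Coprime.pow_left _ ((Nat.Prime.coprime_iff_not_dvd hpp).mpr hnd)
    obtain ⟨i, hi⟩ := exists_pow_eq_self_of_coprime (x := a) (n := j) hcop.symm
    have hax : a ∈ Subgroup.zpowers x := by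
      rw [← hi, ← hj']
      exact Subgroup.pow_mem _ (Subgroup.npow_mem_zpowers x p) i
    have hxx : Subgroup.zpowers x = ⊤ := by
      rw [eq_top_iff, ← hgen, Subgroup.closure_le]
      rintro g (rfl | rfl)
      · exact hax
      · exact Subgroup.mem_zpowers _
    exact isCyclic_iff_exists_zpowers_eq_top.mpr ⟨x, hxx⟩
  obtain ⟨j', rfl⟩ := hpj
  let y := x * (a ^ j')⁻¹
  have hyp : y ^ p = 1 := by
    show (x * (a ^ j')⁻¹) ^ p = 1
    rw [hpow, hj', inv_pow, ← pow_mul, mul_comm j' p, mul_inv_cancel]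
  have hyC : y ∉ C := by
    intro h
    apply hxC
    have e : x = y * a ^ j' := by
      show x = x * (a ^ j')⁻¹ * a ^ j'
      group
    rw [e]
    refine C.mul_mem h (C.pow_mem a₀.2 _)
  have hy1 : y ≠ 1 := by
    intro e
    apply hyC
    rw [e]
    exact C.one_mem
  have hyo : orderOf y = p := orderOf_eq_prime hyp hy1
  have hΩ : Subgroup.closure {x : R | x ^ p = 1} = π.ker := by
    have : {x : R | x ^ p = 1} = (π.ker : Set R) := by
      ext g
      rw [SetLike.mem_coe, MonoidHom.mem_ker, hπ]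
      rfl
    rw [this, Subgroup.closure_eq]
  let E : Subgroup R := Subgroup.closure {u, y}
  have hEsup : E = Subgroup.zpowers u ⊔ Subgroup.zpowers y := by
    show Subgroup.closure {u, y} = _
    rw [Subgroup.zpowers_eq_closure, Subgroup.zpowers_eq_closure, ← Subgroup.closure_union]
    rfl
  have hkerE : π.ker = E := by
    apply le_antisymm
    · intro g hg
      have hg' : g ^ p = 1 := (MonoidHom.mem_ker).mp hg
      have htop : C ⊔ Subgroup.zpowers y = ⊤ :=
        top_of_index_prime hpp C _ hCi le_sup_left (fun h =>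
          hyC (h ((le_sup_right : Subgroup.zpowers y ≤ C ⊔ Subgroup.zpowers y) (Subgroup.mem_zpowers y))))
      have hgm : g ∈ ((C ⊔ Subgroup.zpowers y : Subgroup R) : Set R) := by
        rw [htop]; trivial
      rw [Subgroup.normal_mul, Set.mem_mul] at hgm
      obtain ⟨c, hc, e, he, rfl⟩ := hgm
      have hep : e ^ p = 1 := by
        obtain ⟨i, rfl⟩ := he
        show (y ^ i) ^ p = 1
        rw [← zpow_natCast, ← zpow_mul, mul_comm, zpow_mul, zpow_natCast, hyp, one_zpow]
      rw [hpow, hep, mul_one] at hg'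
      have hcA : c ∈ Subgroup.zpowers a := by rw [← hCa]; exact hc
      obtain ⟨l, rfl⟩ := (mem_powers_iff_mem_zpowers).mpr hcA
      have hdvd : p ^ m ∣ l * p := by
        rw [← hm]
        apply orderOf_dvd_of_pow_eq_one
        show a ^ (l * p) = 1
        rw [pow_mul]
        exact hg'
      rw [hmm] at hdvd
      have hdl : p ^ (m - 1) ∣ l := Nat.dvd_of_mul_dvd_mul_right hpp.pos hdvd
      obtain ⟨s, rfl⟩ := hdl
      rw [hEsup]
      refine Subgroup.mul_mem _ ((le_sup_left : Subgroup.zpowers u ≤ _) ?_)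
        ((le_sup_right : Subgroup.zpowers y ≤ _) he)
      show a ^ (p ^ (m - 1) * s) ∈ Subgroup.zpowers u
      rw [pow_mul]
      exact Subgroup.npow_mem_zpowers u s
    · refine (Subgroup.closure_le _).mpr ?_
      rintro g (rfl | rfl)
      · exact (MonoidHom.mem_ker).mpr hup
      · exact (MonoidHom.mem_ker).mpr hyp
  have hdisj : Subgroup.zpowers u ⊓ Subgroup.zpowers y = ⊥ := by
    have h1 : Nat.card (Subgroup.zpowers u ⊓ Subgroup.zpowers y : Subgroup R) ∣ p := by
      have := Subgroup.card_dvd_of_le (inf_le_right : Subgroup.zpowers u ⊓ Subgroup.zpowers y ≤ Subgroup.zpowers y)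
      rwa [Nat.card_zpowers, hyo] at this
    rcases (Nat.dvd_prime hpp).mp h1 with h2 | h2
    · exact (Subgroup.eq_bot_iff_card _).mpr h2
    · exfalso
      have h3 : Subgroup.zpowers u ⊓ Subgroup.zpowers y = Subgroup.zpowers y := by
        apply Subgroup.eq_of_le_of_card_ge inf_le_right
        rw [Nat.card_zpowers, hyo, h2]
      have h4 : y ∈ Subgroup.zpowers u := by
        have : y ∈ Subgroup.zpowers u ⊓ Subgroup.zpowers y := by
          rw [h3]; exact Subgroup.mem_zpowers y
        exact this.1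
      apply hyC
      rw [hCa]
      refine (Subgroup.zpowers_le.mpr ?_) h4
      exact Subgroup.npow_mem_zpowers a _
  have hEc : Nat.card E = p ^ 2 := by
    rw [hEsup, Cfsg.Agent.Lib.SchurZ.card_sup_of_disjoint _ _ hdisj, Nat.card_zpowers, Nat.card_zpowers,
      huo, hyo, sq]
  have hEm : IsMulCommutative E := Subgroup.isMulCommutative_closure (by
    rintro g (rfl | rfl) h (rfl | rfl)
    · rfl
    · exact (hucen _).symm
    · exact hucen _
    · rfl)
  rw [hΩ, hkerE]
  refine ⟨⟨hEm, ?_⟩, hEc⟩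
  intro g hg
  rw [← hkerE] at hg
  exact (MonoidHom.mem_ker).mp hg

end Cfsg.Agent.S0127
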