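import Mathlib
import Cfsg.Statements.S3918
import Cfsg.Agent.Lib.H6OddNormal
-- import your own Cfsg.Agent.* helpers here

set_option autoImplicit false
open Cfsg

namespace Cfsg.Agent.S3918

open Cfsg.Agent.Lib.H6OddNormal Cfsg.Agent.Lib.NormalE in
/-- A self-centralizing normal elementary abelian subgroup of order `p²` has index at most `p`. -/
theorem card_le_cube {G : Type*} [Group G] [Finite G] {p : ℕ} [Fact p.Prime] (hG : IsPGroup p G)
    (U : Subgroup G) (hUn : U.Normal) (hUc : ∀ a ∈ U, ∀ b ∈ U, a * b = b * a) (hUcard : Nat.card U = p ^ 2)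
    (hself : ∀ x : G, (∀ a ∈ U, x * a = a * x) → x ∈ U) : Nat.card G ≤ p ^ 3 := by
  classical
  have hpp : p.Prime := Fact.out
  haveI := hUn
  have hU0 : U ≠ ⊥ := by
    intro h
    rw [h, Subgroup.card_bot] at hUcard
    have := pow_pos hpp.pos 2
    have h2 : 1 < p ^ 2 := Nat.one_lt_pow (by norm_num) hpp.one_lt
    omega
  obtain ⟨z, hzU, hzo, hzc⟩ := exists_order_p_central hG U hU0
  -- an element of `U` outside `⟨z⟩`
  have hlt : Nat.card (Subgroup.zpowers z) < Nat.card U := by
    rw [Nat.card_zpowers, hzo, hUcard]
    nlinarith [hpp.one_lt, hpp.pos]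
  have hex : ∃ m ∈ U, m ∉ Subgroup.zpowers z := by
    by_contra hno
    push_neg at hno
    have h1 : U ≤ Subgroup.zpowers z := hno
    have := Subgroup.card_le_of_le h1
    omega
  obtain ⟨m, hmU, hmz⟩ := hex
  -- the centralizer of `m`
  let C : Subgroup G := Subgroup.centralizer ({m} : Set G)
  have hCmem : ∀ x, x ∈ C ↔ x * m = m * x := by
    intro x
    constructor
    · intro hx
      exact (Subgroup.mem_centralizer_iff.mp hx m rfl).symm
    · intro hx
      refine Subgroup.mem_centralizer_iff.mpr ?_
      rintro y rfl
      exact hx.symm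
  have hCU : C ≤ U := by
    intro x hx
    apply hself
    intro a ha
    -- the elements of `U` commuting with `x`
    let T : Subgroup G := U ⊓ Subgroup.centralizer ({x} : Set G)
    have hTmem : ∀ y, y ∈ T ↔ y ∈ U ∧ x * y = y * x := by
      intro y
      constructor
      · intro hy
        exact ⟨hy.1, Subgroup.mem_centralizer_iff.mp hy.2 x rfl⟩
      · intro hy
        refine ⟨hy.1, Subgroup.mem_centralizer_iff.mpr ?_⟩
        rintro w rfl
        exact hy.2
    have hmT : m ∈ T := (hTmem m).mpr ⟨hmU, (hCmem x).mp hx⟩
    have hzT : z ∈ T := (hTmem z).mpr ⟨hzU, (Subgroup.mem_center_iff.mp hzc x)⟩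
    have hTU : T = U := by
      by_contra hne
      have hTlt : T < U := lt_of_le_of_ne inf_le_left hne
      have h1 : Nat.card T < Nat.card U := card_lt_of_lt' hTlt
      have h2 : Nat.card (Subgroup.zpowers z) ∣ Nat.card T := by
        apply Subgroup.card_dvd_of_le
        rw [Subgroup.zpowers_le]
        exact hzT
      rw [Nat.card_zpowers, hzo] at h2
      obtain ⟨k, hk⟩ := IsPGroup.iff_card.mp (hG.to_subgroup T)
      rw [hk, hUcard] at h1
      have hk2 : k < 2 := (Nat.pow_lt_pow_iff_right hpp.one_lt).mp h1
      have hTz : T ≤ Subgroup.zpowers z ∨ True := Or.inr trivial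
      have hT1 : Nat.card T = p := by
        rw [hk] at h2 ⊢
        interval_cases k
        · simp at h2
          exact absurd h2 hpp.ne_one
        · simp
      have h3 : Subgroup.zpowers z = T := by
        apply Subgroup.eq_of_le_of_card_ge
        · rw [Subgroup.zpowers_le]; exact hzT
        · rw [hT1, Nat.card_zpowers, hzo]
      apply hmz
      rw [h3]
      exact hmT
    rw [← hTU] at ha
    exact ((hTmem a).mp ha).2
  have hUC : U ≤ C := by
    intro a ha
    exact (hCmem a).mpr (hUc a ha m hmU)
  have hCeq : C = U := le_antisymm hCU hUC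
  -- the orbit of `m`
  have hidx : C.index ≤ p := by
    -- the conjugates of `m` lie in `U` outside `⟨z⟩`
    let f : G ⧸ C → U := fun q => q.liftOn' (fun g => (⟨g * m * g⁻¹, hUn.conj_mem m hmU g⟩ : U)) (by
      intro a b hab
      have hab' : a⁻¹ * b ∈ C := by
        simpa [QuotientGroup.leftRel_apply] using hab
      have h1 := (hCmem _).mp hab'
      apply Subtype.ext
      change a * m * a⁻¹ = b * m * b⁻¹
      have h2 : b = a * (a⁻¹ * b) := by group
      rw [h2]
      calc a * m * a⁻¹ = a * ((a⁻¹ * b) * m * (a⁻¹ * b)⁻¹) * a⁻¹ := by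
            rw [h1]; group
        _ = _ := by group)
    have hfinj : Function.Injective f := by
      intro q1 q2
      induction q1 using QuotientGroup.induction_on
      induction q2 using QuotientGroup.induction_on
      rename_i a b
      intro h
      have h1 : a * m * a⁻¹ = b * m * b⁻¹ := congrArg Subtype.val h
      apply QuotientGroup.eq.mpr
      apply (hCmem _).mpr
      calc a⁻¹ * b * m = a⁻¹ * (b * m * b⁻¹) * b := by group
        _ = a⁻¹ * (a * m * a⁻¹) * b := by rw [h1]
        _ = m * (a⁻¹ * b) := by group
    -- the image avoids `⟨z⟩`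
    have hf : ∀ q, ((f q : U) : G) ∉ Subgroup.zpowers z := by
      intro q
      induction q using QuotientGroup.induction_on
      rename_i g
      intro h
      change g * m * g⁻¹ ∈ Subgroup.zpowers z at h
      apply hmz
      obtain ⟨i, hi⟩ := Subgroup.mem_zpowers_iff.mp h
      have hc : g⁻¹ * z ^ i * g = z ^ i := by
        have hzg : Commute z g := (Subgroup.mem_center_iff.mp hzc g).symm
        rw [mul_assoc, (hzg.zpow_left i).eq]
        group
      have : m = g⁻¹ * (g * m * g⁻¹) * g := by group
      rw [this, ← hi, hc]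
      exact ⟨i, rfl⟩
    have hcount : Nat.card (G ⧸ C) + p ≤ p ^ 2 := by
      -- counting in `U`
      let X : Set U := {u | (u : G) ∈ Subgroup.zpowers z}
      have hXc : Nat.card X = p := by
        have e : X ≃ Subgroup.zpowers z := {
          toFun := fun u => ⟨u.1.1, u.2⟩
          invFun := fun v => ⟨⟨v.1, (Subgroup.zpowers_le.mpr hzU) v.2⟩, v.2⟩
          left_inv := fun u => rfl
          right_inv := fun v => rfl }
        rw [Nat.card_congr e, Nat.card_zpowers, hzo]
      have hinj : Function.Injective (fun s : (G ⧸ C) ⊕ X => match s with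
          | Sum.inl q => f q
          | Sum.inr u => u.1) := by
        rintro (q1 | u1) (q2 | u2) h
        · exact congrArg Sum.inl (hfinj h)
        · exact absurd (by rw [show ((f q1 : U) : G) = (u2.1 : G) from congrArg Subtype.val h]; exact u2.2) (hf q1)
        · exact absurd (by rw [← show ((u1.1 : U) : G) = (f q2 : G) from congrArg Subtype.val h]; exact u1.2) (hf q2)
        · exact congrArg Sum.inr (Subtype.ext h)
      have h1 := Nat.card_le_card_of_injective _ hinj
      rw [Nat.card_sum, hXc, hUcard] at h1
      exact h1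
    -- the index is a power of `p`
    have hd : C.index ∣ Nat.card G := C.index_dvd_card
    obtain ⟨n, hn⟩ := IsPGroup.iff_card.mp hG
    rw [hn] at hd
    obtain ⟨k, _, hk⟩ := (Nat.dvd_prime_pow hpp).mp hd
    rw [← Subgroup.index_eq_card, hk] at hcount
    have hk2 : k < 2 := by
      apply (Nat.pow_lt_pow_iff_right hpp.one_lt).mp
      have := hpp.pos
      omega
    rw [hk]
    calc p ^ k ≤ p ^ 1 := Nat.pow_le_pow_right hpp.pos (by omega)
      _ = p := pow_one p
  have h1 := C.card_mul_index
  rw [hCeq, hUcard] at h1
  rw [hCeq] at hidx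
  rw [← h1, pow_succ]
  exact Nat.mul_le_mul_left _ hidx


/-- Say that a group has self-centralizing non-cyclic subgroups when every non-cyclic subgroup H satisfies C_G(H) ≤ H. For an odd prime p, a finite non-abelian p-group has self-centralizing non-cyclic subgroups if and only if it has order p³. -/
theorem result {G : Type*} [Group G] [Finite G] {p : ℕ} [Fact p.Prime] (hp : p ≠ 2) (hG : IsPGroup p G) (hna : ¬ IsMulCommutative G) :
    (∀ H : Subgroup G, ¬ IsCyclic ↥H → Subgroup.centralizer (H : Set G) ≤ H) ↔ Nat.card G = p ^ 3 := by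
  classical
  have hpp : p.Prime := Fact.out
  obtain ⟨n, hn⟩ := IsPGroup.iff_card.mp hG
  have hng : 3 ≤ n := by
    by_contra hlt
    apply hna
    have hn2 : n ≤ 2 := by omega
    interval_cases n
    · haveI : Subsingleton G := (Nat.card_eq_one_iff_unique.mp (by simpa using hn)).1
      exact ⟨⟨fun a b => Subsingleton.elim _ _⟩⟩
    · haveI : IsCyclic G := isCyclic_of_prime_card (by simpa using hn)
      letI := IsCyclic.commGroup (α := G)
      exact ⟨⟨fun a b => mul_comm a b⟩⟩
    · letI := IsPGroup.commGroupOfCardEqPrimeSq hn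
      exact ⟨⟨fun a b => mul_comm a b⟩⟩
  constructor
  · intro h
    have hnc : ¬ IsCyclic G := by
      intro hc
      letI := IsCyclic.commGroup (α := G)
      exact hna ⟨⟨fun a b => mul_comm a b⟩⟩
    obtain ⟨U, hUn, hUc, hUe, hUcard⟩ := Cfsg.Agent.Lib.H6OddNormal.exists_normal_elem_odd hp hG hnc
    have hUnc : ¬ IsCyclic U := by
      intro hcyc
      have h1 : orderOf (IsCyclic.exists_generator (α := U)).choose = p ^ 2 := by
        rw [← hUcard]
        exact orderOf_eq_card_of_forall_mem_zpowers (IsCyclic.exists_generator (α := U)).choose_spec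
      set g := (IsCyclic.exists_generator (α := U)).choose
      have h2 : g ^ p = 1 := by
        apply Subtype.ext
        simpa using hUe g.1 g.2
      have h3 := orderOf_dvd_of_pow_eq_one h2
      rw [h1] at h3
      have h4 := Nat.le_of_dvd hpp.pos h3
      nlinarith [hpp.one_lt]
    have hself := h U hUnc
    have hle := card_le_cube hG U hUn hUc hUcard (by
      intro x hx
      apply hself
      refine Subgroup.mem_centralizer_iff.mpr ?_
      intro a ha
      exact (hx a ha).symm)
    rw [hn] at hle ⊢
    have : n ≤ 3 := (Nat.pow_le_pow_iff_right hpp.one_lt).mp hle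
    have : n = 3 := by omega
    rw [this]
  · intro hcard H hH x hx
    by_contra hxH
    have hn3 : n = 3 := by
      rw [hn] at hcard
      exact Nat.pow_right_injective hpp.two_le hcard
    obtain ⟨k, hk⟩ := IsPGroup.iff_card.mp (hG.to_subgroup H)
    have hdvd : Nat.card H ∣ Nat.card G := Subgroup.card_subgroup_dvd_card H
    rw [hk, hcard] at hdvd
    have hk3 : k ≤ 3 := (Nat.pow_dvd_pow_iff_le_right hpp.one_lt).mp hdvd
    have hk1 : 2 ≤ k := by
      by_contra hlt
      apply hH
      have : k = 0 ∨ k = 1 := by omega
      rcases this with rfl | rfl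
      · haveI : Subsingleton H := (Nat.card_eq_one_iff_unique.mp (by simpa using hk)).1
        exact isCyclic_of_subsingleton
      · exact isCyclic_of_prime_card (by simpa using hk)
    have hk_ne : k ≠ 3 := by
      rintro rfl
      apply hxH
      have : H = ⊤ := Subgroup.eq_top_of_card_eq _ (by rw [hk, hcard])
      rw [this]
      trivial
    have hk2 : k = 2 := by omega
    subst hk2
    letI hHc := IsPGroup.commGroupOfCardEqPrimeSq hk
    have hHcomm : ∀ a ∈ H, ∀ b ∈ H, a * b = b * a := by
      intro a ha b hb
      have := mul_comm (⟨a, ha⟩ : H) ⟨b, hb⟩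
      exact congrArg Subtype.val this
    have hxc : ∀ a ∈ H, x * a = a * x := by
      intro a ha
      exact (Subgroup.mem_centralizer_iff.mp hx a ha).symm
    have hcentral : H ≤ Subgroup.center G := by
      intro y hy
      let N : Subgroup G := Subgroup.centralizer ({y} : Set G)
      have hNmem : ∀ w, w ∈ N ↔ w * y = y * w := by
        intro w
        constructor
        · intro hw
          exact (Subgroup.mem_centralizer_iff.mp hw y rfl).symm
        · intro hw
          refine Subgroup.mem_centralizer_iff.mpr ?_
          rintro v rfl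
          exact hw.symm
      have hHN : H ≤ N := fun a ha => (hNmem a).mpr (hHcomm a ha y hy)
      have hxN : x ∈ N := (hNmem x).mpr (hxc y hy)
      have hHlt : H < N := lt_of_le_of_ne hHN (fun h => hxH (h ▸ hxN))
      have h1 : Nat.card H < Nat.card N := Cfsg.Agent.Lib.NormalE.card_lt_of_lt' hHlt
      obtain ⟨j, hj⟩ := IsPGroup.iff_card.mp (hG.to_subgroup N)
      have hNd : Nat.card N ∣ Nat.card G := Subgroup.card_subgroup_dvd_card N
      rw [hj, hcard] at hNd
      have hj3 : j ≤ 3 := (Nat.pow_dvd_pow_iff_le_right hpp.one_lt).mp hNd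
      rw [hk, hj] at h1
      have hj2 : 2 < j := (Nat.pow_lt_pow_iff_right hpp.one_lt).mp h1
      have hj' : j = 3 := by omega
      subst hj'
      have hNt : N = ⊤ := Subgroup.eq_top_of_card_eq _ (by rw [hj, hcard])
      refine Subgroup.mem_center_iff.mpr ?_
      intro g
      have : g ∈ N := by rw [hNt]; trivial
      exact ((hNmem g).mp this)
    apply hna
    have hcyc : IsCyclic (G ⧸ Subgroup.center G) := by
      have h1 : Nat.card (Subgroup.center G) * Nat.card (G ⧸ Subgroup.center G) = Nat.card G := by
        rw [← Subgroup.index_eq_card]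
        exact Subgroup.card_mul_index _
      have h2 : Nat.card H ∣ Nat.card (Subgroup.center G) := Subgroup.card_dvd_of_le hcentral
      obtain ⟨c, hc⟩ := h2
      rw [hc, hk, hcard, mul_assoc] at h1
      have h3 : p ^ 3 = p ^ 2 * p := by ring
      rw [h3] at h1
      have h4 := Nat.eq_of_mul_eq_mul_left (pow_pos hpp.pos 2) h1
      have h5 : Nat.card (G ⧸ Subgroup.center G) ∣ p := ⟨c, by rw [← h4]; ring⟩
      rcases (Nat.dvd_prime hpp).mp h5 with h6 | h6
      · haveI : Subsingleton (G ⧸ Subgroup.center G) := (Nat.card_eq_one_iff_unique.mp h6).1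
        exact isCyclic_of_subsingleton
      · exact isCyclic_of_prime_card h6
    exact ⟨⟨fun a b => commutative_of_cyclic_center_quotient (QuotientGroup.mk' (Subgroup.center G)) (by simp) a b⟩⟩

end Cfsg.Agent.S3918
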