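import Cfsg.Statements.S0071
import Cfsg.Agent.Lib.PNilpB
import Cfsg.Agent.Lib.PResidual
import Cfsg.Agent.Lib.Commutators
import Cfsg.Agent.Lib.H5Basic

set_option autoImplicit false
open Cfsg

namespace Cfsg.Agent.S0071

/-- The Frobenius normal p-complement Theorem states that a Sylow p-subgroup has a normal complement exactly when, for each of its subgroups Q, every element of the normalizer of Q of order prime to p centralizes Q. -/
theorem result {G : Type*} [Group G] [Finite G] {p : ℕ} [Fact p.Prime] (P : Sylow p G) : (∃ N : Subgroup G, N.Normal ∧ N.IsComplement' (P : Subgroup G)) ↔ ∀ Q : Subgroup G, Q ≤ (P : Subgroup G) → ∀ g ∈ Subgroup.normalizer (Q : Set G), Nat.Coprime (orderOf g) p → g ∈ Subgroup.centralizer (Q : Set G) := by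
  classical
  have hp : p.Prime := Fact.out
  constructor
  · rintro ⟨N, hNn, hc⟩ Q hQP g hg hgc
    haveI := hNn
    have hsup : N ⊔ (P : Subgroup G) = ⊤ := hc.sup_eq_top
    have hd : N ⊓ (P : Subgroup G) = ⊥ := hc.disjoint.eq_bot
    have hq : IsPGroup p (G ⧸ N) :=
      Cfsg.Agent.Lib.PResidual.isPGroup_quotient_of_sup_eq_top P.isPGroup' hsup
    have hgN : g ∈ N := Cfsg.Agent.Lib.PResidual.mem_of_coprime_of_isPGroup_quotient hq hgc
    refine Subgroup.mem_centralizer_iff.mpr (fun q hq' => ?_)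
    have h1 : g * q * g⁻¹ * q⁻¹ ∈ Q := Q.mul_mem
      (Cfsg.Agent.Lib.Commutators.conj_mem_of_mem_normalizer hg hq') (Q.inv_mem hq')
    have h2 : g * q * g⁻¹ * q⁻¹ ∈ N := by
      have e : g * q * g⁻¹ * q⁻¹ = g * (q * g⁻¹ * q⁻¹) := by group
      rw [e]
      exact N.mul_mem hgN (hNn.conj_mem _ (N.inv_mem hgN) q)
    have h3 : g * q * g⁻¹ * q⁻¹ ∈ N ⊓ (P : Subgroup G) := ⟨h2, hQP h1⟩
    rw [hd, Subgroup.mem_bot] at h3
    have h4 : g * q * g⁻¹ = q := mul_inv_eq_one.mp h3
    calc q * g = (g * q * g⁻¹) * g := by rw [h4]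
      _ = g * q := by group
  · intro h
    have hF : ∀ Q : Subgroup G, IsPGroup p Q → ∀ y ∈ Subgroup.normalizer (Q : Set G), (orderOf y).Coprime p →
        y ∈ Subgroup.centralizer (Q : Set G) := by
      intro Q hQ y hy hyc
      obtain ⟨x, hx⟩ := Cfsg.Agent.Lib.SylowIn.exists_conj_le_sylow P hQ
      let Q' := Q.map (MulAut.conj x).toMonoidHom
      have hy' : x * y * x⁻¹ ∈ Subgroup.normalizer (Q' : Set G) := by
        apply Cfsg.Agent.Lib.H5Basic.mem_normalizer_of_map_conj_le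
        rintro _ ⟨_, ⟨q, hq, rfl⟩, rfl⟩
        refine ⟨y * q * y⁻¹, Cfsg.Agent.Lib.Commutators.conj_mem_of_mem_normalizer hy hq, ?_⟩
        show x * (y * q * y⁻¹) * x⁻¹ = (x * y * x⁻¹) * (x * q * x⁻¹) * (x * y * x⁻¹)⁻¹
        group
      have hyc' : Nat.Coprime (orderOf (x * y * x⁻¹)) p := by
        have e : x * y * x⁻¹ = (MulAut.conj x) y := rfl
        rw [e, MulEquiv.orderOf_eq]
        exact hyc
      have h1 := h Q' hx _ hy' hyc'
      refine Subgroup.mem_centralizer_iff.mpr (fun q hq => ?_)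
      have h2 := Subgroup.mem_centralizer_iff.mp h1 (x * q * x⁻¹) ⟨q, hq, rfl⟩
      have h3 : x * (q * y) * x⁻¹ = x * (y * q) * x⁻¹ := by
        calc x * (q * y) * x⁻¹ = (x * q * x⁻¹) * (x * y * x⁻¹) := by group
          _ = (x * y * x⁻¹) * (x * q * x⁻¹) := h2
          _ = x * (y * q) * x⁻¹ := by group
      have h4 := mul_right_cancel h3
      exact mul_left_cancel h4
    obtain ⟨P', N, hN, hc⟩ := Cfsg.Agent.Lib.PNilpB.frob2 hF
    refine ⟨N, hN, ?_⟩
    have hcP : Nat.card (P : Subgroup G) = Nat.card (P' : Subgroup G) := by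
      rw [Sylow.card_eq_multiplicity, Sylow.card_eq_multiplicity]
    have h1 : Nat.card N * Nat.card (P : Subgroup G) = Nat.card G := by
      rw [hcP]; exact hc.card_mul_card
    have h2 : (Nat.card N).Coprime (Nat.card (P : Subgroup G)) := by
      rw [← hc.index_eq_card]
      obtain ⟨k, hk⟩ := IsPGroup.iff_card.mp P.isPGroup'
      rw [hk]
      have h3 : ¬ p ∣ (P' : Subgroup G).index := P'.not_dvd_index
      exact (((Nat.Prime.coprime_iff_not_dvd hp).mpr h3).pow_left k).symm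
    exact Subgroup.isComplement'_of_coprime h1 h2

end Cfsg.Agent.S0071
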