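import Cfsg.Statements.S0039
import Cfsg.Agent.Lib.CharFrob

open scoped Pointwise

set_option autoImplicit false
open Cfsg

namespace Cfsg.Agent.S0039

/-- In a finite group that is a semidirect product of a normal subgroup K by a nontrivial subgroup H, H is a Frobenius complement exactly when each nonidentity element of H acts without nonidentity fixed points on K by conjugation. -/
theorem result {G : Type*} [Group G] [Finite G] (K H : Subgroup G) [K.Normal]
    (hc : Subgroup.IsComplement' K H) (hK : K ≠ ⊥) (hH : H ≠ ⊥) :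
    Cfsg.IsFrobeniusComplement H ↔ ∀ h ∈ H, h ≠ 1 → K ⊓ Subgroup.centralizer {h} = ⊥ := by
  classical
  have hd : K ⊓ H = ⊥ := hc.disjoint.eq_bot
  have hsup : K ⊔ H = ⊤ := hc.sup_eq_top
  have hKn : K.Normal := inferInstance
  constructor
  · rintro ⟨-, -, hTI⟩ h hh hh1
    rw [eq_bot_iff]
    rintro k ⟨hk, hkc⟩
    by_contra hk1
    have hkH : k ∉ H := by
      intro hkH
      have : k ∈ K ⊓ H := ⟨hk, hkH⟩
      rw [hd] at this
      exact hk1 this
    have hcomm : k * h * k⁻¹ = h := by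
      have : k * h = h * k := Subgroup.mem_centralizer_singleton_iff.mp hkc
      rw [this]; group
    have h1 : h ∈ H ⊓ MulAut.conj k • H := by
      refine ⟨hh, ?_⟩
      exact ⟨h, hh, hcomm⟩
    rw [hTI k hkH, Subgroup.mem_bot] at h1
    exact hh1 h1
  · intro hfpf
    refine ⟨hH, ?_, ?_⟩
    · intro htop
      rw [htop, inf_top_eq] at hd
      exact hK hd
    · intro g hg
      rw [eq_bot_iff]
      rintro x ⟨hx, h, hh, hhx⟩
      have hhx' : g * h * g⁻¹ = x := hhx
      by_contra hx1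
      have hx1' : x ≠ 1 := hx1
      obtain ⟨k, hk, h₁, hh₁, rfl⟩ := Cfsg.Agent.Lib.CharFrob.exists_factor (K := K) (H := H) hsup g
      let h₂ := h₁ * h * h₁⁻¹
      have hh₂ : h₂ ∈ H := H.mul_mem (H.mul_mem hh₁ hh) (H.inv_mem hh₁)
      have hx2 : x = k * h₂ * k⁻¹ := by
        rw [← hhx']
        show _ = k * (h₁ * h * h₁⁻¹) * k⁻¹
        group
      have hK1 : x * h₂⁻¹ ∈ K := by
        have e : x * h₂⁻¹ = k * (h₂ * k⁻¹ * h₂⁻¹) := by rw [hx2]; group
        rw [e]
        exact K.mul_mem hk (hKn.conj_mem _ (K.inv_mem hk) h₂)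
      have hH1 : x * h₂⁻¹ ∈ H := H.mul_mem hx (H.inv_mem hh₂)
      have h3 : x * h₂⁻¹ ∈ K ⊓ H := ⟨hK1, hH1⟩
      rw [hd, Subgroup.mem_bot] at h3
      have hxh : x = h₂ := mul_inv_eq_one.mp h3
      have hh₂1 : h₂ ≠ 1 := hxh ▸ hx1'
      have hkc : k ∈ K ⊓ Subgroup.centralizer {h₂} := by
        refine ⟨hk, Subgroup.mem_centralizer_singleton_iff.mpr ?_⟩
        rw [hxh] at hx2
        calc k * h₂ = (k * h₂ * k⁻¹) * k := by group
          _ = h₂ * k := by rw [← hx2]
      rw [hfpf h₂ hh₂ hh₂1, Subgroup.mem_bot] at hkc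
      apply hg
      rw [hkc, one_mul]
      exact hh₁

end Cfsg.Agent.S0039
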