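import Cfsg.Statements.S0040
import Cfsg.Agent.Lib.FrobC
import Cfsg.Agent.Lib.StrongEmb2
import Cfsg.Agent.S0016

set_option autoImplicit false
open Cfsg

namespace Cfsg.Agent.S0040


/-- Two commuting elements of order `p` in `H` generating a noncyclic group contradict fixed point
freeness. -/
theorem no_rank_two {G : Type*} [Group G] [Finite G] (K H : Subgroup G) [hKn : K.Normal]
    (hK : K ≠ ⊥) (hfpf : ∀ h ∈ H, h ≠ 1 → K ⊓ Subgroup.centralizer {h} = ⊥)
    (p : ℕ) [Fact p.Prime] (c u : G) (hcH : c ∈ H) (huH : u ∈ H) (hcu : c * u = u * c)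
    (hc : c ^ p = 1) (hc1 : c ≠ 1) (hu : u ^ p = 1) (huc : u ∉ Subgroup.zpowers c) : False := by
  classical
  have hHK : H ≤ Subgroup.normalizer (K : Set G) :=
    le_top.trans (Subgroup.normalizer_eq_top_iff.mpr hKn).ge
  have hcop := Cfsg.Agent.Lib.FrobC.coprime_of_fpf H K hHK hfpf
  let B : Subgroup G := Subgroup.closure {c, u}
  have hBH : B ≤ H := (Subgroup.closure_le _).mpr (by
    rintro x (rfl | rfl)
    · exact hcH
    · exact huH)
  haveI hBc : IsMulCommutative B := Subgroup.isMulCommutative_closure (by
    rintro x (rfl | rfl) y (rfl | rfl)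
    · rfl
    · exact hcu
    · exact hcu.symm
    · rfl)
  have hcB : c ∈ B := Subgroup.subset_closure (by simp)
  have huB : u ∈ B := Subgroup.subset_closure (by simp)
  have hnc : ¬ IsCyclic B := by
    intro hcy
    have h := Cfsg.Agent.Lib.StrongEmb.mem_zpowers_of_cyclic (p := p) (C := B) (x := ⟨c, hcB⟩) (y := ⟨u, huB⟩)
      (Subtype.ext (by simpa using hc)) (fun e => hc1 (congrArg Subtype.val e))
      (Subtype.ext (by simpa using hu))
    obtain ⟨k, hk⟩ := h
    apply huc
    refine ⟨k, ?_⟩
    have := congrArg Subtype.val hk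
    simpa using this
  have hcop' : (Nat.card B).Coprime (Nat.card K) :=
    Nat.Coprime.coprime_dvd_left (Subgroup.card_dvd_of_le hBH) hcop
  have hgen := Cfsg.Agent.Lib.CoprimeGen4.gen_eq B K hnc (hBH.trans hHK) hcop'
  apply hK
  rw [← hgen, Cfsg.Agent.Lib.CoprimeGen4.gen, eq_bot_iff]
  refine iSup₂_le ?_
  rintro a ⟨haB, ha1⟩
  rw [hfpf a (hBH haB) ha1]


/-- Sylow subgroups of Frobenius complements: if H complements a nontrivial normal subgroup K and every nonidentity element of H has trivial centraliser in K, then each Sylow subgroup of H is cyclic or isomorphic to a generalized quaternion group. -/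
theorem result {G : Type*} [Group G] [Finite G] (K H : Subgroup G) [K.Normal]
    (hc : Subgroup.IsComplement' K H) (hK : K ≠ ⊥) (hfpf : ∀ h ∈ H, h ≠ 1 → K ⊓ Subgroup.centralizer {h} = ⊥)
    (p : ℕ) [Fact p.Prime] (P : Sylow p H) :
    IsCyclic P ∨ ∃ n : ℕ, Nonempty (P ≃* QuaternionGroup (2 ^ n)) := by
  classical
  have hp : p.Prime := Fact.out
  have hpH : IsPGroup p P := P.isPGroup'
  let f : P →* G := H.subtype.comp (P : Subgroup H).subtype
  have hf : Function.Injective f := H.subtype_injective.comp (P : Subgroup H).subtype_injective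
  have hfH : ∀ x : P, f x ∈ H := fun x => (x : H).2
  have huniq : ∀ H1 K1 : Subgroup P, Nat.card H1 = p → Nat.card K1 = p → H1 = K1 := by
    intro H1 K1 hH1 hK1
    by_contra hne
    haveI hnt : Nontrivial P := by
      have h1 : 1 < Nat.card P := by
        have := Subgroup.card_le_card_group H1
        have := hp.one_lt
        omega
      exact Finite.one_lt_card_iff_nontrivial.mp h1
    haveI hzc : Nontrivial (Subgroup.center P) := hpH.center_nontrivial
    obtain ⟨n, hn⟩ := IsPGroup.iff_card.mp (hpH.to_subgroup (Subgroup.center P))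
    have hdz : p ∣ Nat.card (Subgroup.center P) := by
      rcases n with _ | n
      · rw [pow_zero] at hn
        have := Finite.one_lt_card_iff_nontrivial.mpr hzc
        omega
      · rw [hn, pow_succ]; exact Dvd.intro_left _ rfl
    obtain ⟨z, hz⟩ := exists_prime_orderOf_dvd_card' p hdz
    let c : P := z
    have hcz : c ∈ Subgroup.center P := z.2
    have hco : orderOf c = p := (Subgroup.orderOf_coe z).trans hz
    have hcp : c ^ p = 1 := by
      have := pow_orderOf_eq_one c
      rwa [hco] at this
    have hc1 : c ≠ 1 := by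
      intro e
      rw [e, orderOf_one] at hco
      exact hp.ne_one hco.symm
    have hgen : ∀ X : Subgroup P, Nat.card X = p → ∃ u ∈ X, u ≠ 1 ∧ u ^ p = 1 ∧ X = Subgroup.zpowers u := by
      intro X hX
      obtain ⟨g, hg⟩ := isCyclic_iff_exists_zpowers_eq_top.mp (isCyclic_of_prime_card (p := p) hX)
      have hXe : X = Subgroup.zpowers (g : P) := by
        have := congrArg (Subgroup.map X.subtype) hg
        rw [MonoidHom.map_zpowers, ← MonoidHom.range_eq_map, Subgroup.range_subtype] at this
        exact this.symm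
      have hgo : orderOf (g : P) = p := by
        rw [← Nat.card_zpowers, ← hXe, hX]
      refine ⟨g, g.2, ?_, ?_, hXe⟩
      · intro e
        rw [e, orderOf_one] at hgo
        exact hp.ne_one hgo.symm
      · have := pow_orderOf_eq_one (g : P)
        rwa [hgo] at this
    have hnotin : ∀ X : Subgroup P, Nat.card X = p → X ≠ Subgroup.zpowers c → False := by
      intro X hX hXc
      obtain ⟨u, huX, hu1, hup, hXe⟩ := hgen X hX
      have huc : u ∉ Subgroup.zpowers c := by
        intro h
        apply hXc
        apply Subgroup.eq_of_le_of_card_ge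
        · rw [hXe]; exact Subgroup.zpowers_le.mpr h
        · rw [Nat.card_zpowers, hco, hX]
      have hcu : c * u = u * c := (Subgroup.mem_center_iff.mp hcz u).symm
      refine no_rank_two K H hK hfpf p (f c) (f u) (hfH c) (hfH u) ?_ ?_ ?_ ?_ ?_
      · rw [← map_mul, ← map_mul, hcu]
      · rw [← map_pow, hcp, map_one]
      · exact fun e => hc1 (hf (by rw [e, map_one]))
      · rw [← map_pow, hup, map_one]
      · rintro ⟨k, hk⟩
        apply huc
        refine ⟨k, hf ?_⟩
        simpa using hk
    by_cases h1 : H1 = Subgroup.zpowers c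
    · by_cases h2 : K1 = Subgroup.zpowers c
      · exact hne (h1.trans h2.symm)
      · exact hnotin K1 hK1 h2
    · exact hnotin H1 hH1 h1
  rcases Cfsg.Agent.S0016.result p hpH huniq with h | ⟨-, n, hn⟩
  · exact Or.inl h
  · exact Or.inr ⟨n, hn⟩

end Cfsg.Agent.S0040
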