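import Cfsg.Statements.S0042
import Mathlib
import Cfsg.Agent.S0035
import Cfsg.Agent.S0039
import Cfsg.Agent.Lib.ThompsonFpf

set_option autoImplicit false
set_option linter.style.haveILetI false
set_option linter.unusedVariables false
open scoped ComplexConjugate
open Cfsg

namespace Cfsg.Agent.S0042

/-- In a finite Frobenius group, the Frobenius kernel is (the carrier of) a normal subgroup which is nilpotent. -/
theorem result {G : Type*} [Group G] [Finite G] (H : Subgroup G) (hH : Cfsg.IsFrobeniusComplement H) :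
    ∃ N : Subgroup G, (N : Set G) = Cfsg.frobeniusKernel H ∧ N.Normal ∧ Group.IsNilpotent N := by
  classical
  obtain ⟨N, hNs, hNn, hc⟩ := Cfsg.Agent.S0035.result H hH
  refine ⟨N, hNs, hNn, ?_⟩
  -- an element of prime order in `H`
  have hne : H ≠ ⊥ := hH.1
  haveI : Nontrivial H := (Subgroup.nontrivial_iff_ne_bot H).2 hne
  obtain ⟨p, hp, ⟨h0, hh0⟩⟩ : ∃ p : ℕ, p.Prime ∧ ∃ h : H, orderOf h = p := by
    obtain ⟨p, hp, hdvd⟩ := Nat.exists_prime_and_dvd (Finite.one_lt_card (α := H)).ne'
    haveI : Fact p.Prime := ⟨hp⟩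
    obtain ⟨x, hx⟩ := exists_prime_orderOf_dvd_card' p hdvd
    exact ⟨p, hp, x, hx⟩
  have hN : N ≠ ⊥ := by
    rintro rfl
    apply hH.2.1
    have := hc.sup_eq_top
    rwa [bot_sup_eq] at this
  have hfpf := (Cfsg.Agent.S0039.result N H hc hN hne).1 hH
  let h : G := h0
  have hhH : h ∈ H := h0.2
  have hh1 : h ≠ 1 := by
    intro e
    have : h0 = 1 := Subtype.ext e
    rw [this, orderOf_one] at hh0
    exact hp.one_lt.ne hh0
  have hpow : h ^ p = 1 := by
    have : h0 ^ p = 1 := by
      rw [← hh0]
      exact pow_orderOf_eq_one h0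
    exact congrArg Subtype.val this
  let φ : N →* N := (MulAut.conjNormal h).toMonoidHom
  have hφ : ∀ x : N, ((φ x : N) : G) = h * x * h⁻¹ := fun x => MulAut.conjNormal_apply h x
  have hfix : MonoidHom.FixedPointFree φ := by
    intro x hx
    have h1 : (x : G) ∈ N ⊓ Subgroup.centralizer {h} := by
      refine ⟨x.2, Subgroup.mem_centralizer_iff.2 ?_⟩
      intro y hy
      rw [Set.mem_singleton_iff] at hy
      subst hy
      have h2 := congrArg Subtype.val hx
      rw [hφ] at h2
      exact (mul_inv_eq_iff_eq_mul.1 h2)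
    rw [hfpf h hhH hh1, Subgroup.mem_bot] at h1
    exact Subtype.ext h1
  have hit : ∀ x, φ^[p] x = x := by
    intro x
    have key : ∀ k : ℕ, ∀ x : N, ((φ^[k] x : N) : G) = h ^ k * x * (h ^ k)⁻¹ := by
      intro k
      induction k with
      | zero =>
        intro x
        simp
      | succ k ih =>
        intro x
        rw [Function.iterate_succ_apply', hφ, ih, pow_succ']
        group
    apply Subtype.ext
    rw [key, hpow]
    simp
  exact Cfsg.Agent.Lib.ThompsonFpf.thompson_aux hp _ N φ rfl hfix hit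

end Cfsg.Agent.S0042
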