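import Cfsg.Statements.S0111
import Mathlib
import Cfsg.Agent.Lib.SylowCount

set_option autoImplicit false
set_option linter.style.haveILetI false
set_option linter.unusedVariables false
open Cfsg

namespace Cfsg.Agent.S0111

/-- The Thompson transfer lemma states that an involution of a Sylow 2-subgroup P lying outside a subgroup Q of index 2 in P either lies outside some normal subgroup of index 2 in G or is conjugate to an element of Q. -/
theorem result {G : Type*} [Group G] [Finite G] (P : Sylow 2 G) (Q : Subgroup G) (hQP : Q ≤ (P : Subgroup G)) (hQi : Q.relIndex (P : Subgroup G) = 2) (u : G) (hu : orderOf u = 2) (huP : u ∈ (P : Subgroup G)) (huQ : u ∉ Q) : (∃ M : Subgroup G, M.Normal ∧ M.index = 2 ∧ u ∉ M) ∨ ∃ g : G, g * u * g⁻¹ ∈ Q := by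
  classical
  by_cases hfix : ∃ g : G, g * u * g⁻¹ ∈ Q
  · exact Or.inr hfix
  left
  push Not at hfix
  cases nonempty_fintype G
  let Ω := G ⧸ Q
  letI : Fintype Ω := Fintype.ofFinite _
  have huu : u ^ 2 = 1 := by rw [← hu, pow_orderOf_eq_one]
  have hfb : Nat.card (MulAction.fixedBy Ω u) = 0 := by
    haveI : IsEmpty (MulAction.fixedBy Ω u) := by
      constructor
      rintro ⟨q, hq⟩
      obtain ⟨g, rfl⟩ := QuotientGroup.mk_surjective q
      have h1 : u • (g : Ω) = g := hq
      have h2 : ((u * g : G) : Ω) = g := h1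
      rw [QuotientGroup.eq] at h2
      apply hfix g⁻¹
      have h3 : (u * g)⁻¹ * g = g⁻¹ * u⁻¹ * g := by group
      rw [h3] at h2
      have h4 := Q.inv_mem h2
      have h5 : (g⁻¹ * u⁻¹ * g)⁻¹ = g⁻¹ * u * g⁻¹⁻¹ := by group
      rwa [h5] at h4
    exact Nat.card_of_isEmpty
  obtain ⟨-, hs⟩ := Cfsg.Agent.Lib.SylowCount.sign_toPerm_of_sq_one (Ω := Ω) u huu
  have hcard : Nat.card Ω = 2 * (P : Subgroup G).index := by
    have h1 : Q.relIndex P * (P : Subgroup G).index = Q.index := Subgroup.relIndex_mul_index hQP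
    rw [hQi] at h1
    rw [h1]
    rfl
  rw [hfb, hcard, Nat.sub_zero, Nat.mul_div_cancel_left _ (by norm_num : 0 < 2)] at hs
  have hodd : Odd (P : Subgroup G).index := by
    rw [← Nat.not_even_iff_odd, even_iff_two_dvd]
    exact Sylow.not_dvd_index P
  rw [hodd.neg_one_pow] at hs
  let s : G →* ℤˣ := Equiv.Perm.sign.comp (MulAction.toPermHom G Ω)
  have hsu : s u = -1 := hs
  refine ⟨s.ker, MonoidHom.normal_ker s, ?_, ?_⟩
  · rw [Subgroup.index_ker]
    have htop : s.range = ⊤ := by
      rw [MonoidHom.range_eq_top]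
      intro x
      rcases Int.units_eq_one_or x with rfl | rfl
      · exact ⟨1, map_one s⟩
      · exact ⟨u, hsu⟩
    rw [htop, Subgroup.card_top, Nat.card_eq_fintype_card, Fintype.card_units_int]
  · intro h
    rw [MonoidHom.mem_ker, hsu] at h
    exact absurd h (by decide)

end Cfsg.Agent.S0111
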