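import Mathlib
import Cfsg.Agent.Lib.SylowCount
import Cfsg.Agent.Lib.H5Basic
import Cfsg.Statements.S0214
-- import your own Cfsg.Agent.* helpers here

set_option autoImplicit false
open Cfsg

namespace Cfsg.Agent.S0214

/-- Let H be a proper subgroup of the finite group G and P a nontrivial Sylow 2-subgroup of H. Then H is strongly embedded in G if and only if N_G(X) ≤ H for every nontrivial subgroup X of P. -/
theorem result {G : Type*} [Group G] [Finite G] (H : Subgroup G) (hH : H ≠ ⊤) (P : Sylow 2 ↥H) (hP : (P : Subgroup ↥H) ≠ ⊥) : Cfsg.IsStronglyEmbedded H ↔ (∀ X : Subgroup ↥H, X ≤ (P : Subgroup ↥H) → X ≠ ⊥ → Subgroup.normalizer ((X.map H.subtype : Subgroup G) : Set G) ≤ H) := by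
  classical
  haveI : Fact (Nat.Prime 2) := ⟨Nat.prime_two⟩
  have heven2 : ∀ Y : Subgroup G, IsPGroup 2 Y → Y ≠ ⊥ → 2 ∣ Nat.card Y := by
    intro Y hY hne
    obtain ⟨k, hk⟩ := IsPGroup.iff_card.1 hY
    rw [hk]
    rcases k with _ | k
    · exfalso
      rw [pow_zero] at hk
      exact hne (Subgroup.eq_bot_of_card_eq _ hk)
    · exact dvd_pow_self 2 (by omega)
  constructor
  · rintro ⟨-, -, hSE⟩ X hXP hXne g hg
    by_contra hgH
    have h1 := hSE g hgH
    set X' : Subgroup G := X.map H.subtype with hX'
    have hX'p : IsPGroup 2 X' := (P.2.to_le hXP).map _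
    have hX'ne : X' ≠ ⊥ := by
      intro h
      apply hXne
      exact (Subgroup.map_eq_bot_iff_of_injective X H.subtype_injective).1 h
    have hX'H : X' ≤ H := by
      rintro _ ⟨x, -, rfl⟩
      exact x.2
    have hle : X' ≤ H ⊓ H.map (MulAut.conj g).toMonoidHom := by
      intro x hx
      refine ⟨hX'H hx, g⁻¹ * x * g, ?_, ?_⟩
      · apply hX'H
        have h2 := (Subgroup.mem_normalizer_iff.1 (inv_mem hg) x).1 hx
        rwa [inv_inv] at h2
      · simp only [MulEquiv.coe_toMonoidHom, MulAut.conj_apply]
        group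
    have h3 := (heven2 X' hX'p hX'ne).trans (Subgroup.card_dvd_of_le hle)
    exact (Nat.not_even_iff_odd.2 h1) (even_iff_two_dvd.2 h3)
  · intro hN
    -- extension to all `2`-subgroups of `H`
    have hstar : ∀ Y : Subgroup G, IsPGroup 2 Y → Y ≠ ⊥ → Y ≤ H →
        Subgroup.normalizer ((Y : Subgroup G) : Set G) ≤ H := by
      intro Y hY hYne hYH n hn
      let Y' : Subgroup H := Y.subgroupOf H
      have hY'p : IsPGroup 2 Y' := hY.of_equiv (Subgroup.subgroupOfEquivOfLe hYH).symm
      obtain ⟨Q, hQ⟩ := hY'p.exists_le_sylow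
      obtain ⟨h, rfl⟩ := MulAction.exists_smul_eq H P Q
      let X : Subgroup H := Y'.map (MulAut.conj h⁻¹).toMonoidHom
      have hXP : X ≤ (P : Subgroup H) := by
        rintro _ ⟨x, hx, rfl⟩
        have h1 := (Cfsg.Agent.Lib.SylowCount.mem_smul_sylow h x P).1 (hQ hx)
        simpa using h1
      have hXne : X ≠ ⊥ := by
        intro h0
        have h1 : Y' = ⊥ := (Subgroup.map_eq_bot_iff_of_injective Y' (MulAut.conj h⁻¹).injective).1 h0
        apply hYne
        rw [eq_bot_iff]
        intro y hy
        have h2 : (⟨y, hYH hy⟩ : H) ∈ Y' := hy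
        rw [h1, Subgroup.mem_bot] at h2
        have h3 : y = 1 := congrArg Subtype.val h2
        rw [h3]
        exact one_mem _
      have hmemX : ∀ z : G, z ∈ (X.map H.subtype : Subgroup G) ↔ h.1 * z * h.1⁻¹ ∈ Y := by
        intro z
        constructor
        · rintro ⟨_, ⟨x, hx, rfl⟩, rfl⟩
          have h1 : x.1 ∈ Y := hx
          have e : h.1 * (H.subtype ((MulAut.conj h⁻¹).toMonoidHom x)) * h.1⁻¹ = x.1 := by
            simp only [MulEquiv.coe_toMonoidHom, MulAut.conj_apply, Subgroup.subtype_apply]
            simp only [Subgroup.coe_mul, Subgroup.coe_inv, inv_inv]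
            group
          rw [e]
          exact h1
        · intro hz
          have h1 : h.1 * z * h.1⁻¹ ∈ H := hYH hz
          have hzH : z ∈ H := by
            have e : z = h.1⁻¹ * (h.1 * z * h.1⁻¹) * h.1 := by group
            rw [e]
            exact mul_mem (mul_mem (inv_mem h.2) h1) h.2
          refine ⟨⟨z, hzH⟩, ⟨⟨h.1 * z * h.1⁻¹, h1⟩, hz, ?_⟩, rfl⟩
          apply Subtype.ext
          simp only [MulEquiv.coe_toMonoidHom, MulAut.conj_apply, Subgroup.coe_mul,
            Subgroup.coe_inv, inv_inv]
          group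
      have hnorm : h.1⁻¹ * n * h.1 ∈ Subgroup.normalizer ((X.map H.subtype : Subgroup G) : Set G) := by
        rw [Subgroup.mem_normalizer_iff]
        intro z
        rw [hmemX, hmemX]
        have e : h.1 * (h.1⁻¹ * n * h.1 * z * (h.1⁻¹ * n * h.1)⁻¹) * h.1⁻¹ =
            n * (h.1 * z * h.1⁻¹) * n⁻¹ := by group
        rw [e]
        exact Subgroup.mem_normalizer_iff.1 hn _
      have h4 := hN X hXP hXne hnorm
      have e : n = h.1 * (h.1⁻¹ * n * h.1) * h.1⁻¹ := by group
      rw [e]
      exact mul_mem (mul_mem h.2 h4) (inv_mem h.2)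
    refine ⟨hH, ?_, ?_⟩
    · have h1 : 2 ∣ Nat.card (P : Subgroup H) := by
        obtain ⟨k, hk⟩ := IsPGroup.iff_card.1 P.2
        rw [hk]
        rcases k with _ | k
        · exfalso
          rw [pow_zero] at hk
          exact hP (Subgroup.eq_bot_of_card_eq _ hk)
        · exact dvd_pow_self 2 (by omega)
      exact even_iff_two_dvd.2 (h1.trans (Subgroup.card_subgroup_dvd_card _))
    · intro g hg
      by_contra hodd
      rw [Nat.not_odd_iff_even] at hodd
      obtain ⟨⟨s, hs⟩, hso⟩ := exists_prime_orderOf_dvd_card' 2 hodd.two_dvd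
      rw [Subgroup.orderOf_mk] at hso
      obtain ⟨hsH, t, htH, hte⟩ := hs
      simp only [MulEquiv.coe_toMonoidHom, MulAut.conj_apply] at hte
      let F : Set (Subgroup G) := {Q | IsPGroup 2 Q ∧ Q ≠ ⊥ ∧ Q ≤ H ∧ ∀ x ∈ Q, g⁻¹ * x * g ∈ H}
      have hFne : F.Nonempty := by
        refine ⟨Subgroup.zpowers s, ?_, ?_, ?_, ?_⟩
        · apply IsPGroup.of_card (n := 1)
          rw [Nat.card_zpowers, hso, pow_one]
        · rw [Ne, Subgroup.zpowers_eq_bot]
          rintro rfl
          rw [orderOf_one] at hso
          omega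
        · rw [Subgroup.zpowers_le]
          exact hsH
        · rintro _ ⟨k, rfl⟩
          simp only
          have e : g⁻¹ * s ^ k * g = t ^ k := by
            rw [← hte]
            have := conj_zpow (a := g⁻¹) (b := g * t * g⁻¹) (i := k)
            have e1 : g⁻¹ * (g * t * g⁻¹) * g⁻¹⁻¹ = t := by group
            rw [e1, inv_inv] at this
            exact this.symm
          rw [e]
          exact zpow_mem htH k
      obtain ⟨Q, hQmax⟩ := (Set.toFinite F).exists_maximal hFne
      obtain ⟨hQp, hQne, hQH, hQg⟩ := hQmax.prop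
      let Q' : Subgroup H := Q.subgroupOf H
      have hQ'p : IsPGroup 2 Q' := hQp.of_equiv (Subgroup.subgroupOfEquivOfLe hQH).symm
      obtain ⟨T, hT⟩ := hQ'p.exists_le_sylow
      set T' : Subgroup G := (T : Subgroup H).map H.subtype with hT'
      have hT'p : IsPGroup 2 T' := T.2.map _
      have hT'H : T' ≤ H := by
        rintro _ ⟨x, -, rfl⟩
        exact x.2
      have hQT : Q ≤ T' := by
        intro x hx
        exact ⟨⟨x, hQH hx⟩, hT hx, rfl⟩
      let Y : Subgroup G := Q.map (MulAut.conj g⁻¹).toMonoidHom
      have hYp : IsPGroup 2 Y := hQp.map _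
      have hYne : Y ≠ ⊥ := by
        intro h0
        exact hQne ((Subgroup.map_eq_bot_iff_of_injective Q (MulAut.conj g⁻¹).injective).1 h0)
      have hYH : Y ≤ H := by
        rintro _ ⟨x, hx, rfl⟩
        simpa using hQg x hx
      have hmemY : ∀ z : G, z ∈ Y ↔ g * z * g⁻¹ ∈ Q := by
        intro z
        constructor
        · rintro ⟨x, hx, rfl⟩
          simp only [MulEquiv.coe_toMonoidHom, MulAut.conj_apply, inv_inv]
          have e : g * (g⁻¹ * x * g) * g⁻¹ = x := by group
          rwa [e]
        · intro hz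
          refine ⟨g * z * g⁻¹, hz, ?_⟩
          simp only [MulEquiv.coe_toMonoidHom, MulAut.conj_apply, inv_inv]
          group
      have hcase : Q = T' := by
        by_contra hne
        obtain ⟨x, hxT, hxQ, hxn⟩ :=
          Cfsg.Agent.Lib.H5Basic.exists_mem_normalizer_of_lt hT'p hQT hne
        have hxp : IsPGroup 2 (Subgroup.zpowers x) := by
          obtain ⟨k, hk⟩ := (IsPGroup.iff_orderOf.1 hT'p) ⟨x, hxT⟩
          rw [Subgroup.orderOf_mk] at hk
          apply IsPGroup.of_card (n := k)
          rw [Nat.card_zpowers, hk]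
        have hzn : Subgroup.zpowers x ≤ Subgroup.normalizer ((Q : Subgroup G) : Set G) := by
          rw [Subgroup.zpowers_le]
          exact hxn
        have hRp := IsPGroup.to_sup_of_normal_left' hQp hxp hzn
        have hRn : Q ⊔ Subgroup.zpowers x ≤ Subgroup.normalizer ((Q : Subgroup G) : Set G) :=
          sup_le Subgroup.le_normalizer hzn
        have hRH : Q ⊔ Subgroup.zpowers x ≤ H := by
          refine sup_le hQH ?_
          rw [Subgroup.zpowers_le]
          exact hT'H hxT
        have hRF : Q ⊔ Subgroup.zpowers x ∈ F := by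
          refine ⟨hRp, ?_, hRH, ?_⟩
          · intro h0
            exact hQne (le_bot_iff.1 (h0 ▸ le_sup_left))
          · intro y hy
            apply hstar Y hYp hYne hYH
            rw [Subgroup.mem_normalizer_iff]
            intro z
            rw [hmemY, hmemY]
            have e : g * (g⁻¹ * y * g * z * (g⁻¹ * y * g)⁻¹) * g⁻¹ = y * (g * z * g⁻¹) * y⁻¹ := by
              group
            rw [e]
            exact Subgroup.mem_normalizer_iff.1 (hRn hy) _
        have hle := hQmax.2 hRF le_sup_left
        exact hxQ (hle ((le_sup_right : Subgroup.zpowers x ≤ _) (Subgroup.mem_zpowers x)))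
      -- `Q` is a Sylow subgroup of `H`, so is its conjugate `Y`
      let Y' : Subgroup H := Y.subgroupOf H
      have hY'p : IsPGroup 2 Y' := hYp.of_equiv (Subgroup.subgroupOfEquivOfLe hYH).symm
      obtain ⟨U, hU⟩ := hY'p.exists_le_sylow
      have hcardY' : Nat.card Y' = Nat.card Q := by
        rw [Nat.card_congr (Subgroup.subgroupOfEquivOfLe hYH).toEquiv]
        exact Subgroup.card_map_of_injective (MulAut.conj g⁻¹).injective
      have hcardT : Nat.card (T : Subgroup H) = Nat.card Q := by
        rw [hcase, hT']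
        exact (Subgroup.card_map_of_injective H.subtype_injective).symm
      have hUT : Nat.card (U : Subgroup H) = Nat.card (T : Subgroup H) :=
        Cfsg.Agent.Lib.SylowCount.card_sylow_eq U T
      have hY'U : Y' = (U : Subgroup H) := by
        apply Subgroup.eq_of_le_of_card_ge hU
        rw [hcardY', hUT, hcardT]
      obtain ⟨k, hk⟩ := MulAction.exists_smul_eq H T U
      have hnormQ : g * k.1 ∈ Subgroup.normalizer ((Q : Subgroup G) : Set G) := by
        have hle : Q.map (MulAut.conj (g * k.1)).toMonoidHom ≤ Q := by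
          rintro _ ⟨x, hx, rfl⟩
          simp only [MulEquiv.coe_toMonoidHom, MulAut.conj_apply]
          have hx1 : x ∈ T' := hQT hx
          obtain ⟨x', hx', rfl⟩ := hx1
          have h1 : k * x' * k⁻¹ ∈ (U : Subgroup H) := by
            rw [← hk]
            refine (Cfsg.Agent.Lib.SylowCount.mem_smul_sylow k _ T).2 ?_
            have e : k⁻¹ * (k * x' * k⁻¹) * k = x' := by group
            rw [e]
            exact hx'
          rw [← hY'U] at h1
          have h2 : ((k * x' * k⁻¹ : H) : G) ∈ Y := h1
          have h3 := (hmemY _).1 h2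
          have e : g * k.1 * (H.subtype x') * (g * k.1)⁻¹ = g * ((k * x' * k⁻¹ : H) : G) * g⁻¹ := by
            simp only [Subgroup.coe_mul, Subgroup.coe_inv, Subgroup.subtype_apply]
            group
          rw [e]
          exact h3
        have heq : Q.map (MulAut.conj (g * k.1)).toMonoidHom = Q := by
          apply Subgroup.eq_of_le_of_card_ge hle
          rw [Subgroup.card_map_of_injective (MulAut.conj (g * k.1)).injective]
        rw [Subgroup.mem_normalizer_iff]
        intro z
        constructor
        · intro hz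
          apply hle
          exact ⟨z, hz, rfl⟩
        · intro hz
          rw [← heq] at hz
          obtain ⟨w, hw, e⟩ := hz
          simp only [MulEquiv.coe_toMonoidHom, MulAut.conj_apply] at e
          have : w = z := mul_left_cancel (mul_right_cancel e)
          rwa [← this]
      have h5 := hstar Q hQp hQne hQH hnormQ
      apply hg
      have e : g = (g * k.1) * k.1⁻¹ := by group
      rw [e]
      exact mul_mem h5 (inv_mem k.2)

end Cfsg.Agent.S0214
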