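import Mathlib
import Cfsg.Agent.Lib.InvPair
import Cfsg.Statements.S0223
-- import your own Cfsg.Agent.* helpers here

set_option autoImplicit false
open Cfsg

namespace Cfsg.Agent.S0223

/-- Let H be a proper subgroup of even order of the finite group G. Then H is strongly embedded if and only if (i) C_G(t) ≤ H for every involution t of H and (ii) H controls fusion of its involutions: involutions of H conjugate in G are conjugate in H. -/
theorem result {G : Type*} [Group G] [Finite G] (H : Subgroup G) (hH : H ≠ ⊤) (heven : Even (Nat.card H)) : Cfsg.IsStronglyEmbedded H ↔ ((∀ t ∈ H, orderOf t = 2 → Subgroup.centralizer ({t} : Set G) ≤ H) ∧ (∀ t ∈ H, ∀ s ∈ H, orderOf t = 2 → orderOf s = 2 → IsConj t s → ∃ h ∈ H, h * t * h⁻¹ = s)) := by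
  classical
  have hord : ∀ t : G, orderOf t = 2 → ∀ K : Subgroup G, t ∈ K → Even (Nat.card K) := by
    intro t ht K htK
    have := orderOf_dvd_natCard (⟨t, htK⟩ : K)
    rw [Subgroup.orderOf_mk, ht] at this
    exact even_iff_two_dvd.2 this
  have hconj_mem : ∀ (g u : G), u ∈ H → g * u * g⁻¹ ∈ H.map (MulAut.conj g).toMonoidHom := by
    intro g u hu
    exact ⟨u, hu, by simp⟩
  constructor
  · rintro ⟨-, -, hSE⟩
    refine ⟨?_, ?_⟩
    · intro t htH ht g hg
      by_contra hgH
      have h1 := hSE g hgH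
      have h2 : t ∈ H ⊓ H.map (MulAut.conj g).toMonoidHom := by
        refine ⟨htH, ?_⟩
        have h3 := hconj_mem g t htH
        rwa [(mul_inv_eq_iff_eq_mul.2 (Subgroup.mem_centralizer_singleton_iff.1 hg))] at h3
      exact (Nat.not_even_iff_odd.2 h1) (hord t ht _ h2)
    · intro t htH s hsH ht hs hc
      obtain ⟨g, hg⟩ := isConj_iff.1 hc
      refine ⟨g, ?_, hg⟩
      by_contra hgH
      have h1 := hSE g hgH
      have h2 : s ∈ H ⊓ H.map (MulAut.conj g).toMonoidHom := by
        refine ⟨hsH, ?_⟩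
        rw [← hg]
        exact hconj_mem g t htH
      exact (Nat.not_even_iff_odd.2 h1) (hord s hs _ h2)
  · rintro ⟨h1, h2⟩
    refine ⟨hH, heven, ?_⟩
    intro g hg
    by_contra hodd
    rw [Nat.not_odd_iff_even] at hodd
    haveI : Fact (Nat.Prime 2) := ⟨Nat.prime_two⟩
    obtain ⟨⟨s, hs⟩, hso⟩ := exists_prime_orderOf_dvd_card' 2 hodd.two_dvd
    rw [Subgroup.orderOf_mk] at hso
    obtain ⟨hsH, t, htH, hte⟩ := hs
    simp only [MulEquiv.coe_toMonoidHom, MulAut.conj_apply] at hte
    have hto : orderOf t = 2 := by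
      rw [← hso, ← hte, Cfsg.Agent.Lib.InvPair.orderOf_conj_eq]
    obtain ⟨h, hh, e⟩ := h2 t htH s hsH hto hso (isConj_iff.2 ⟨g, hte⟩)
    apply hg
    have h3 : h⁻¹ * g ∈ Subgroup.centralizer ({t} : Set G) := by
      rw [Subgroup.mem_centralizer_singleton_iff]
      have : (h⁻¹ * g) * t * (h⁻¹ * g)⁻¹ = t := by
        calc (h⁻¹ * g) * t * (h⁻¹ * g)⁻¹ = h⁻¹ * (g * t * g⁻¹) * h := by group
          _ = t := by rw [hte, ← e]; group
      exact mul_inv_eq_iff_eq_mul.1 this
    have h4 := h1 t htH hto h3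
    have : g = h * (h⁻¹ * g) := by group
    rw [this]
    exact mul_mem hh h4

end Cfsg.Agent.S0223
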