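import Mathlib
import Cfsg.Statements.S0224
-- import your own Cfsg.Agent.* helpers here

set_option autoImplicit false
open Cfsg

namespace Cfsg.Agent.S0224

/-- Let H be a proper subgroup of even order of the finite group G. Then H is strongly embedded if and only if each involution of H fixes exactly one point (namely the coset H) in the action of G on the cosets of H. -/
theorem result {G : Type*} [Group G] [Finite G] (H : Subgroup G) (hH : H ≠ ⊤) (heven : Even (Nat.card H)) : Cfsg.IsStronglyEmbedded H ↔ ∀ t ∈ H, orderOf t = 2 → Nat.card {c : G ⧸ H // t • c = c} = 1 := by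
  classical
  have hord : ∀ t : G, orderOf t = 2 → ∀ K : Subgroup G, t ∈ K → Even (Nat.card K) := by
    intro t ht K htK
    have := orderOf_dvd_natCard (⟨t, htK⟩ : K)
    rw [Subgroup.orderOf_mk, ht] at this
    exact even_iff_two_dvd.2 this
  have hfix : ∀ (t g : G), t • ((g : G) : G ⧸ H) = (g : G ⧸ H) ↔ g⁻¹ * t * g ∈ H := by
    intro t g
    rw [MulAction.Quotient.smul_coe, QuotientGroup.eq]
    simp only [smul_eq_mul]
    rw [← inv_mem_iff (x := (t * g)⁻¹ * g)]
    simp [mul_assoc]
  have hself : ∀ t ∈ H, t • ((1 : G) : G ⧸ H) = ((1 : G) : G ⧸ H) := by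
    intro t ht
    rw [hfix]
    simpa using ht
  constructor
  · rintro ⟨-, -, hSE⟩ t ht hto
    rw [Nat.card_eq_one_iff_unique]
    refine ⟨⟨?_⟩, ⟨⟨((1 : G) : G ⧸ H), hself t ht⟩⟩⟩
    have key : ∀ c : {c : G ⧸ H // t • c = c}, c.1 = ((1 : G) : G ⧸ H) := by
      rintro ⟨c, hc⟩
      obtain ⟨g, rfl⟩ := QuotientGroup.mk_surjective c
      have h1 : g⁻¹ * t * g ∈ H := (hfix t g).1 hc
      simp only
      apply QuotientGroup.eq.2
      by_contra hg
      have hgH : g ∉ H := by
        intro h
        apply hg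
        simpa using inv_mem h
      have h2 := hSE g hgH
      have h3 : t ∈ H ⊓ H.map (MulAut.conj g).toMonoidHom := by
        refine ⟨ht, g⁻¹ * t * g, h1, ?_⟩
        simp only [MulEquiv.coe_toMonoidHom, MulAut.conj_apply]
        group
      exact (Nat.not_even_iff_odd.2 h2) (hord t hto _ h3)
    intro a b
    exact Subtype.ext ((key a).trans (key b).symm)
  · intro hall
    refine ⟨hH, heven, ?_⟩
    intro g hg
    by_contra hodd
    rw [Nat.not_odd_iff_even] at hodd
    haveI : Fact (Nat.Prime 2) := ⟨Nat.prime_two⟩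
    obtain ⟨⟨s, hs⟩, hso⟩ := exists_prime_orderOf_dvd_card' 2 hodd.two_dvd
    rw [Subgroup.orderOf_mk] at hso
    obtain ⟨hsH, t, htH, hte⟩ := hs
    simp only [MulEquiv.coe_toMonoidHom, MulAut.conj_apply] at hte
    have h1 := hall s hsH hso
    rw [Nat.card_eq_one_iff_unique] at h1
    obtain ⟨hsub, -⟩ := h1
    have h2 : s • ((g : G) : G ⧸ H) = (g : G ⧸ H) := by
      rw [hfix, ← hte]
      have : g⁻¹ * (g * t * g⁻¹) * g = t := by group
      rw [this]
      exact htH
    have h3 := hsub.elim ⟨_, h2⟩ ⟨_, hself s hsH⟩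
    have h4 : ((g : G) : G ⧸ H) = ((1 : G) : G ⧸ H) := congrArg Subtype.val h3
    have h5 := QuotientGroup.eq.1 h4
    apply hg
    simpa using inv_mem h5

end Cfsg.Agent.S0224
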