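import Cfsg.Statements.S0647

set_option autoImplicit false
open Cfsg

namespace Cfsg.Agent.S0647

/-- For a nonempty family of maximal abelian subgroups of a finite group, the intersection of the family is the centre of the subgroup it generates, which is also the full centralizer of that subgroup. -/
theorem result {S : Type*} [Group S] [Finite S] (𝒜 : Set (Subgroup S)) (hne : 𝒜.Nonempty) (hab : ∀ A ∈ 𝒜, IsMulCommutative A) (hmax : ∀ A ∈ 𝒜, ∀ B : Subgroup S, IsMulCommutative B → A ≤ B → B = A) : sInf 𝒜 = sSup 𝒜 ⊓ Subgroup.centralizer ((sSup 𝒜 : Subgroup S) : Set S) ∧ sInf 𝒜 = Subgroup.centralizer ((sSup 𝒜 : Subgroup S) : Set S) := by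
  have hcomm : ∀ A ∈ 𝒜, ∀ x ∈ A, ∀ y ∈ A, x * y = y * x := fun A hA x hx y hy =>
    congrArg Subtype.val ((hab A hA).1.1 ⟨x, hx⟩ ⟨y, hy⟩)
  have h1 : sInf 𝒜 ≤ Subgroup.centralizer ((sSup 𝒜 : Subgroup S) : Set S) := by
    intro x hx
    rw [Subgroup.mem_sInf] at hx
    rw [Subgroup.mem_centralizer_iff]
    have : sSup 𝒜 ≤ Subgroup.centralizer ({x} : Set S) := by
      refine sSup_le fun A hA y hy => ?_
      rw [Subgroup.mem_centralizer_singleton_iff]
      exact hcomm A hA y hy x (hx A hA)
    intro y hy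
    have := this hy
    rw [Subgroup.mem_centralizer_singleton_iff] at this
    exact this
  have h2 : Subgroup.centralizer ((sSup 𝒜 : Subgroup S) : Set S) ≤ sInf 𝒜 := by
    intro x hx
    rw [Subgroup.mem_sInf]
    intro A hA
    rw [Subgroup.mem_centralizer_iff] at hx
    have hxA : ∀ a ∈ A, a * x = x * a := fun a ha => hx a (le_sSup hA ha)
    have hc : ∀ u ∈ A ⊔ Subgroup.zpowers x, ∀ v ∈ A ⊔ Subgroup.zpowers x, u * v = v * u := by
      have h3 : ∀ y ∈ A, A ⊔ Subgroup.zpowers x ≤ Subgroup.centralizer ({y} : Set S) := by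
        intro y hy
        refine sup_le (fun z hz => ?_) (fun z hz => ?_)
        · rw [Subgroup.mem_centralizer_singleton_iff]
          exact hcomm A hA z hz y hy
        · obtain ⟨n, rfl⟩ := hz
          rw [Subgroup.mem_centralizer_singleton_iff]
          exact (Commute.zpow_left (hxA y hy).symm n)
      have h4 : ∀ y ∈ Subgroup.zpowers x, A ⊔ Subgroup.zpowers x ≤ Subgroup.centralizer ({y} : Set S) := by
        rintro _ ⟨n, rfl⟩
        refine sup_le (fun z hz => ?_) (fun z hz => ?_)
        · rw [Subgroup.mem_centralizer_singleton_iff]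
          exact (Commute.zpow_right (hxA z hz) n)
        · obtain ⟨m, rfl⟩ := hz
          rw [Subgroup.mem_centralizer_singleton_iff]
          show x ^ m * x ^ n = x ^ n * x ^ m
          rw [← zpow_add, ← zpow_add, add_comm]
      intro u hu v hv
      have h5 : A ⊔ Subgroup.zpowers x ≤ Subgroup.centralizer ({u} : Set S) := by
        refine sup_le (fun z hz => ?_) (fun z hz => ?_)
        · have := h3 z hz hu
          rw [Subgroup.mem_centralizer_singleton_iff] at this ⊢
          exact this.symm
        · have := h4 z hz hu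
          rw [Subgroup.mem_centralizer_singleton_iff] at this ⊢
          exact this.symm
      have := h5 hv
      rw [Subgroup.mem_centralizer_singleton_iff] at this
      exact this.symm
    have h6 : IsMulCommutative ↥(A ⊔ Subgroup.zpowers x) := ⟨⟨fun u v => Subtype.ext (hc u.1 u.2 v.1 v.2)⟩⟩
    have h7 := hmax A hA _ h6 le_sup_left
    rw [← h7]
    exact Subgroup.mem_sup_right (Subgroup.mem_zpowers x)
  have h8 : sInf 𝒜 = Subgroup.centralizer ((sSup 𝒜 : Subgroup S) : Set S) := le_antisymm h1 h2
  obtain ⟨A, hA⟩ := hne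
  have h9 : sInf 𝒜 ≤ sSup 𝒜 := (sInf_le hA).trans (le_sSup hA)
  exact ⟨le_antisymm (le_inf h9 h1) (inf_le_right.trans h2), h8⟩

end Cfsg.Agent.S0647
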