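import Cfsg.Statements.S0649

set_option autoImplicit false
open Cfsg

namespace Cfsg.Agent.S0649

open scoped Pointwise

/-- In the Glauberman replacement situation, if B does not normalize A then some element of B normalizes N_S(A) without normalizing A. -/
theorem result {S : Type*} [Group S] [Finite S] {p : ℕ} [Fact p.Prime] (hS : IsPGroup p S) (B : Subgroup S) [B.Normal] (hB2 : p = 2 → IsMulCommutative B) (A : Subgroup S) (hA : IsMulCommutative A) (hBA : ⁅B, B⁆ ≤ A) (hnot : ¬ B ≤ Subgroup.normalizer (A : Set S)) : ∃ b ∈ B, b ∈ Subgroup.normalizer ((Subgroup.normalizer (A : Set S)) : Set S) ∧ b ∉ Subgroup.normalizer (A : Set S) := by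
  classical
  let N := Subgroup.normalizer (A : Set S)
  let K : Subgroup S := N ⊔ B
  have hpK : IsPGroup p K := hS.to_subgroup K
  haveI : Group.IsNilpotent K := hpK.isNilpotent
  have hcond := Group.normalizerCondition_of_isNilpotent (G := K)
  have hlt : N.subgroupOf K < ⊤ := by
    rw [lt_top_iff_ne_top]
    intro h
    apply hnot
    intro x hx
    have hxK : x ∈ K := Subgroup.mem_sup_right hx
    have : (⟨x, hxK⟩ : K) ∈ N.subgroupOf K := by rw [h]; trivial
    exact this
  have hlt2 := hcond _ hlt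
  obtain ⟨⟨x, hxK⟩, hx1, hx2⟩ := SetLike.exists_of_lt hlt2
  have hxN : x ∉ N := fun h => hx2 (by exact h)
  obtain ⟨n, hn, b, hb, rfl⟩ : ∃ n ∈ N, ∃ b ∈ B, n * b = x := by
    have hxK' : x ∈ (N : Set S) * (B : Set S) := by
      rw [← Subgroup.mul_normal]
      exact hxK
    obtain ⟨n, hn, b, hb, h⟩ := Set.mem_mul.mp hxK'
    exact ⟨n, hn, b, hb, h⟩
  have hconj : ∀ y ∈ N, (n * b) * y * (n * b)⁻¹ ∈ N := by
    intro y hy
    have := (Subgroup.mem_normalizer_iff.mp hx1 ⟨y, Subgroup.mem_sup_left hy⟩)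
    exact this.mp hy
  have hconj' : ∀ y ∈ N, (n * b)⁻¹ * y * (n * b) ∈ N := by
    intro y hy
    have := (Subgroup.mem_normalizer_iff.mp hx1 ⟨y, Subgroup.mem_sup_left hy⟩)
    have h2 := (Subgroup.mem_normalizer_iff.mp (Subgroup.inv_mem _ hx1) ⟨y, Subgroup.mem_sup_left hy⟩)
    simpa [Subgroup.mem_subgroupOf] using h2.mp hy
  refine ⟨b, hb, ?_, ?_⟩
  · rw [Subgroup.mem_normalizer_iff]
    intro y
    constructor
    · intro hy
      have h1 := hconj y hy
      have h2 := N.mul_mem (N.mul_mem (N.inv_mem hn) h1) hn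
      have h3 : n⁻¹ * ((n * b) * y * (n * b)⁻¹) * n = b * y * b⁻¹ := by group
      rwa [h3] at h2
    · intro hy
      have h1 := hconj' (n * (b * y * b⁻¹) * n⁻¹) (N.mul_mem (N.mul_mem hn hy) (N.inv_mem hn))
      have h3 : (n * b)⁻¹ * (n * (b * y * b⁻¹) * n⁻¹) * (n * b) = y := by group
      rwa [h3] at h1
  · intro hbN
    exact hxN (N.mul_mem hn hbN)

end Cfsg.Agent.S0649
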