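import Cfsg.Statements.S0651
import Mathlib
import Cfsg.Agent.Lib.ZJReplace
import Cfsg.Agent.Lib.NormalE

set_option autoImplicit false
open Cfsg

namespace Cfsg.Agent.S0651

open scoped commutatorElement Pointwise
open Cfsg.Agent.Lib.ZJReplace Cfsg.Agent.Lib.H5Basic

theorem replacement_pr' {G : Type*} [Group G] [Finite G] {p e : ℕ} [Fact p.Prime] (hp : p ≠ 2) (he : e = 0 ∨ e = p)
    {D A B : Subgroup G} (hG : IsPGroup p G) [hDn : D.Normal] (hA : IsMaxPr e D A)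
    (hn : ∀ a ∈ A, ∀ b ∈ B, a * b * a⁻¹ ∈ B)
    (hcB : ∀ b ∈ B, ∀ c ∈ B, ∀ d ∈ B, ⁅b, c⁆ * d = d * ⁅b, c⁆)
    (hcA : ∀ b ∈ B, ∀ c ∈ B, ∀ a ∈ A, ⁅b, c⁆ * a = a * ⁅b, c⁆)
    (hBA : ¬ B ≤ Subgroup.normalizer (A : Set G)) :
    ∃ A' : Subgroup G, IsMaxPr e D A' ∧ A ⊓ B < A' ⊓ B ∧
      A' ≤ Subgroup.normalizer (A : Set G) := by
  classical
  have hAD := hA.1
  have hAc := hA.2.1.1
  have hAnA : A ≤ Subgroup.normalizer (A : Set G) := Subgroup.le_normalizer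
  have hnB : A ≤ Subgroup.normalizer (B : Set G) := by
    intro a ha
    rw [Subgroup.mem_normalizer_iff]
    intro b
    constructor
    · exact hn a ha b
    · intro hb
      have := hn a⁻¹ (A.inv_mem ha) _ hb
      have h2 : a⁻¹ * (a * b * a⁻¹) * a⁻¹⁻¹ = b := by group
      rwa [h2] at this
  set N := B ⊓ Subgroup.normalizer (A : Set G) with hN
  set T := A ⊔ N with hT
  have hTn : T ≤ Subgroup.normalizer (A : Set G) := sup_le hAnA inf_le_right
  have hle : T ≤ A ⊔ B := sup_le le_sup_left (inf_le_left.trans le_sup_right)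
  have hne : T ≠ A ⊔ B := by
    intro h
    apply hBA
    have h1 : B ≤ A ⊔ B := le_sup_right
    rw [← h] at h1
    exact h1.trans hTn
  have hS : IsPGroup p ↥(A ⊔ B) := hG.to_subgroup _
  obtain ⟨y, hy, hyT, hyn⟩ := exists_mem_normalizer_of_lt hS hle hne
  obtain ⟨a₀, ha₀, x, hxB, rfl⟩ := Cfsg.Agent.Lib.Replacement.mem_sup_of_le_normalizer hnB hy
  have hAT : A ≤ T := le_sup_left
  have hxnT : x ∈ Subgroup.normalizer (T : Set G) := by
    have h1 : a₀ ∈ Subgroup.normalizer (T : Set G) := Subgroup.le_normalizer (hAT ha₀)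
    have h2 := Subgroup.mul_mem _ (Subgroup.inv_mem _ h1) hyn
    simpa using h2
  have hxT : x ∉ T := by
    intro h
    exact hyT (T.mul_mem (hAT ha₀) h)
  have hxnA : x ∉ Subgroup.normalizer (A : Set G) := by
    intro h
    exact hxT (Subgroup.mem_sup_right ⟨hxB, h⟩)
  -- `uu x a` lies in `N`
  have huT : ∀ a ∈ A, uu x a ∈ T := by
    intro a ha
    have h1 : x⁻¹ * a * x ∈ T := by
      have := (Subgroup.mem_normalizer_iff.1 (Subgroup.inv_mem _ hxnT) a).1 (hAT ha)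
      simpa using this
    have h2 : uu x a = (x⁻¹ * a * x) * a⁻¹ := by simp only [uu]; group
    rw [h2]
    exact T.mul_mem h1 (hAT (A.inv_mem ha))
  have huB : ∀ a ∈ A, uu x a ∈ B := fun a ha =>
    B.mul_mem (B.inv_mem hxB) (hn a ha x hxB)
  have huNN : ∀ a ∈ A, uu x a ∈ Subgroup.normalizer (A : Set G) := fun a ha => hTn (huT a ha)
  have h : RepCtx A B x := ⟨hAc, hn, hcB, hcA, hxB, huNN⟩
  have hodd : ∀ z ∈ B, z * z = 1 → z = 1 := by
    intro z hz hzz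
    obtain ⟨k, hk'⟩ := hG z
    have h1 : orderOf z ∣ 2 := orderOf_dvd_of_pow_eq_one (by rw [pow_two]; exact hzz)
    have h2 : orderOf z ∣ p ^ k := orderOf_dvd_of_pow_eq_one hk'
    have hpp : p.Prime := Fact.out
    have h3 : Nat.Coprime 2 (p ^ k) := by
      apply Nat.Coprime.pow_right
      exact (Nat.coprime_primes Nat.prime_two hpp).2 (Ne.symm hp)
    have h4 : orderOf z = 1 := Nat.eq_one_of_dvd_coprimes h3 h1 h2
    exact orderOf_eq_one_iff.1 h4
  set U := UU x A with hU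
  set K := K0 h with hK
  have hUe : PrE e U := by
    apply prE_closure
    · rintro _ ⟨c, hc, rfl⟩ _ ⟨d, hd, rfl⟩
      exact uu_comm h hodd hc hd
    · rintro _ ⟨a, ha, rfl⟩
      rcases he with rfl | rfl
      · simp
      · exact uu_pow_exp h hodd hp hA.2.1.2 ha
  have hKe : PrE e K := ⟨fun a ha b hb => hAc a ha.1 b hb.1, fun a ha => hA.2.1.2 a ha.1⟩
  have hA'e : PrE e (U ⊔ K) := hUe.sup hKe (K0_comm h hodd)
  have hUB : U ≤ B := UU_le_B h
  have huD : ∀ a ∈ A, uu x a ∈ D := by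
    intro a ha
    have h2 : uu x a = (x⁻¹ * a * x) * a⁻¹ := by simp only [uu]; group
    rw [h2]
    refine D.mul_mem ?_ (D.inv_mem (hAD ha))
    have := hDn.conj_mem a (hAD ha) x⁻¹
    simpa using this
  have hUD : U ≤ D := by
    rw [hU]
    show Subgroup.closure _ ≤ D
    rw [Subgroup.closure_le]
    rintro _ ⟨a, ha, rfl⟩
    exact huD a ha
  have hA'D : U ⊔ K ≤ D := sup_le hUD ((K0_le h).trans hAD)
  have hA'm : IsMaxPr e D (U ⊔ K) := by
    refine ⟨hA'D, hA'e, fun A'' hA'' hp'' => ?_⟩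
    exact (hA.2.2 A'' hA'' hp'').trans (card_le h hodd)
  have hABK : A ⊓ B ≤ K := by
    intro y hy
    refine ⟨hy.1, ?_⟩
    apply hA.mem_of_commute
    · exact huD y hy.1
    · exact hUe.2 _ (uu_mem_UU hy.1)
    · intro a ha
      have h1 : uu x y = ⁅x⁻¹, y⁆ := by
        simp only [uu, commutatorElement_def, inv_inv]
        group
      rw [h1]
      exact (hcA _ (B.inv_mem hxB) _ hy.2 a ha).symm
  refine ⟨U ⊔ K, hA'm, ?_, sup_le (UU_le_N h) ((K0_le h).trans hAnA)⟩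
  refine lt_of_le_of_ne (le_inf (hABK.trans le_sup_right) inf_le_right) ?_
  intro heq
  apply hxnA
  -- every `uu x a` lies in `A`
  have hall : ∀ a ∈ A, uu x a ∈ A := by
    intro a ha
    have h1 : uu x a ∈ (U ⊔ K) ⊓ B := ⟨Subgroup.mem_sup_left (uu_mem_UU ha), huB a ha⟩
    rw [← heq] at h1
    exact h1.1
  -- so `x⁻¹ A x ≤ A`, hence equality by orders
  have h2 : ∀ a ∈ A, x⁻¹ * a * x ∈ A := by
    intro a ha
    have h3 : x⁻¹ * a * x = uu x a * a := by simp only [uu]; group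
    rw [h3]
    exact A.mul_mem (hall a ha) ha
  have h3 : (A.map (MulAut.conj x⁻¹).toMonoidHom) ≤ A := by
    rintro _ ⟨a, ha, rfl⟩
    have := h2 a ha
    simpa [MulAut.conj_apply] using this
  have h4 : Nat.card ↥(A.map (MulAut.conj x⁻¹).toMonoidHom) = Nat.card A :=
    Subgroup.card_map_of_injective (MulAut.conj x⁻¹).injective
  have h5 : A.map (MulAut.conj x⁻¹).toMonoidHom = A :=
    Subgroup.eq_of_le_of_card_ge h3 h4.ge
  rw [Subgroup.mem_normalizer_iff]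
  intro a
  constructor
  · intro ha
    rw [← h5] at ha
    obtain ⟨b, hb, rfl⟩ := ha
    have : x * ((MulAut.conj x⁻¹).toMonoidHom b) * x⁻¹ = b := by
      simp [MulAut.conj_apply]
      group
    rw [this]
    exact hb
  · intro ha
    have h6 := h2 _ ha
    have h7 : x⁻¹ * (x * a * x⁻¹) * x = a := by group
    rwa [h7] at h6

theorem main_e {S : Type*} [Group S] [Finite S] {p e : ℕ} [Fact p.Prime] (hp : p ≠ 2) (he : e = 0 ∨ e = p)
    (hS : IsPGroup p S) (D : Subgroup S) [D.Normal] (B : Subgroup S) [hBn : B.Normal]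
    (hcl : ⁅⁅B, B⁆, B⁆ = ⊥) (U₀ : Subgroup S) (hU₀ : IsMaxPr e D U₀) (h1₀ : ⁅B, B⁆ ≤ U₀) (h2₀ : ¬ B ≤ U₀) :
    ∃ A : Subgroup S, IsMaxPr e D A ∧ ⁅B, B⁆ ≤ A ∧ ¬ B ≤ A ∧ B ≤ Subgroup.normalizer (A : Set S) := by
  classical
  -- choose `U` with `U ∩ B` as large as possible
  have hex : ∃ U : Subgroup S, (IsMaxPr e D U ∧ ⁅B, B⁆ ≤ U ∧ ¬ B ≤ U) ∧
      ∀ U' : Subgroup S, (IsMaxPr e D U' ∧ ⁅B, B⁆ ≤ U' ∧ ¬ B ≤ U') → Nat.card ↥(U' ⊓ B) ≤ Nat.card ↥(U ⊓ B) := by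
    have hfin : (Set.univ : Set (Subgroup S)).Finite := Set.toFinite _
    obtain ⟨U, hU, hmax⟩ := Set.exists_max_image {U : Subgroup S | IsMaxPr e D U ∧ ⁅B, B⁆ ≤ U ∧ ¬ B ≤ U}
      (fun U => Nat.card ↥(U ⊓ B)) (Set.toFinite _) ⟨U₀, hU₀, h1₀, h2₀⟩
    exact ⟨U, hU, fun U' hU' => hmax U' hU'⟩
  obtain ⟨U, ⟨hU, h1, h2⟩, hmax⟩ := hex
  refine ⟨U, hU, h1, h2, ?_⟩
  by_contra hnot
  have hcomm : ∀ b ∈ B, ∀ c ∈ B, ⁅b, c⁆ ∈ ⁅B, B⁆ := fun b hb c hc =>
    Subgroup.commutator_mem_commutator hb hc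
  obtain ⟨A', hA', hlt, hN⟩ := replacement_pr' hp he hS hU
    (fun a _ b hb => hBn.conj_mem b hb a)
    (fun b hb c hc d hd => by
      have := Subgroup.commutator_mem_commutator (hcomm b hb c hc) hd
      rw [hcl, Subgroup.mem_bot] at this
      exact commutatorElement_eq_one_iff_mul_comm.mp this)
    (fun b hb c hc a ha => hU.2.1.1 _ (h1 (hcomm b hb c hc)) a ha)
    hnot
  have h3 : ⁅B, B⁆ ≤ U ⊓ B := le_inf h1 (Subgroup.commutator_le_self B)
  have h4 : ⁅B, B⁆ ≤ A' := (h3.trans hlt.le).trans inf_le_left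
  have h5 : ¬ B ≤ A' := fun h => hnot (h.trans hN)
  have h6 := hmax A' ⟨hA', h4, h5⟩
  exact absurd (Cfsg.Agent.Lib.NormalE.card_lt_of_lt' hlt) (not_lt.mpr h6)

section conv
variable {S : Type*} [Group S] (D : Subgroup S)

theorem prE_map {e : ℕ} (X : Subgroup D) : PrE e (X.map D.subtype) ↔ PrE e X := by
  constructor
  · rintro ⟨h1, h2⟩
    constructor
    · intro a ha b hb
      apply Subtype.ext
      exact h1 a.1 ⟨a, ha, rfl⟩ b.1 ⟨b, hb, rfl⟩
    · intro a ha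
      apply Subtype.ext
      exact h2 a.1 ⟨a, ha, rfl⟩
  · rintro ⟨h1, h2⟩
    constructor
    · rintro _ ⟨a, ha, rfl⟩ _ ⟨b, hb, rfl⟩
      exact congrArg Subtype.val (h1 a ha b hb)
    · rintro _ ⟨a, ha, rfl⟩
      exact congrArg Subtype.val (h2 a ha)

theorem prE_sub {e : ℕ} {A : Subgroup S} (hA : A ≤ D) : PrE e (A.subgroupOf D) ↔ PrE e A := by
  rw [← prE_map D (A.subgroupOf D), Subgroup.map_subgroupOf_eq_of_le hA]

theorem card_sub [Finite S] {A : Subgroup S} (hA : A ≤ D) : Nat.card (A.subgroupOf D) = Nat.card A := by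
  have h := Subgroup.card_map_of_injective (K := A.subgroupOf D) (f := D.subtype) (Subgroup.subtype_injective D)
  rw [Subgroup.map_subgroupOf_eq_of_le hA] at h
  exact h.symm

theorem isMax_of {e : ℕ} [Finite S] (X : Subgroup D) (h1 : PrE e X)
    (h2 : ∀ Y : Subgroup D, PrE e Y → Nat.card Y ≤ Nat.card X) : IsMaxPr e D (X.map D.subtype) := by
  refine ⟨Subgroup.map_subtype_le X, (prE_map D X).2 h1, fun A' hA' hp => ?_⟩
  have h3 := h2 (A'.subgroupOf D) ((prE_sub D hA').2 hp)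
  rw [card_sub D hA'] at h3
  have h4 := Subgroup.card_map_of_injective (K := X) (f := D.subtype) (Subgroup.subtype_injective D)
  rw [h4]
  exact h3

end conv

/-- For odd p and D normal in the p-group S, the abelian subgroups of D of largest order satisfy the replacement property: a class-2 normal subgroup B of S with a member containing [B, B] but not B normalizes some such member. -/
theorem result {S : Type*} [Group S] [Finite S] {p : ℕ} [Fact p.Prime] (hS : IsPGroup p S) (hp : p ≠ 2) (D : Subgroup S) [D.Normal] : ∀ (B : Subgroup S) [B.Normal], ⁅⁅B, B⁆, B⁆ = ⊥ → (∃ U ∈ (Set.image (fun A : Subgroup ↥D => A.map D.subtype) (Cfsg.maxAbelianSubgroups ↥D)), ⁅B, B⁆ ≤ U ∧ ¬ B ≤ U) → ∃ A ∈ (Set.image (fun A : Subgroup ↥D => A.map D.subtype) (Cfsg.maxAbelianSubgroups ↥D)), ⁅B, B⁆ ≤ A ∧ ¬ B ≤ A ∧ B ≤ Subgroup.normalizer (A : Set S) := by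
  intro B _ hcl hex
  classical
  obtain ⟨U, ⟨A₀, ⟨hA₀c, hA₀m⟩, rfl⟩, h1, h2⟩ := hex
  have hpre : ∀ X : Subgroup D, PrE 0 X ↔ IsMulCommutative X := by
    intro X
    constructor
    · rintro ⟨h3, -⟩
      exact ⟨⟨fun a b => Subtype.ext (h3 a.1 a.2 b.1 b.2)⟩⟩
    · intro h3
      refine ⟨fun a ha b hb => ?_, fun a _ => pow_zero a⟩
      have := h3.is_comm.comm (⟨a, ha⟩ : X) ⟨b, hb⟩
      exact congrArg Subtype.val this
  have hU := isMax_of (e := 0) D A₀ ((hpre A₀).2 hA₀c) (fun Y hY => hA₀m Y ((hpre Y).1 hY))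
  obtain ⟨A, hA, h3, h4, h5⟩ := main_e hp (Or.inl rfl) hS D B hcl _ hU h1 h2
  refine ⟨A, ⟨A.subgroupOf D, ⟨(hpre _).1 ((prE_sub D hA.1).2 hA.2.1), fun Y hY => ?_⟩, Subgroup.map_subgroupOf_eq_of_le hA.1⟩, h3, h4, h5⟩
  rw [card_sub D hA.1]
  have h6 := hA.2.2 (Y.map D.subtype) (Subgroup.map_subtype_le Y) ((prE_map D Y).2 ((hpre Y).2 hY))
  have h7 := Subgroup.card_map_of_injective (K := Y) (f := D.subtype) (Subgroup.subtype_injective D)
  rw [h7] at h6
  exact h6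

end Cfsg.Agent.S0651
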