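import Cfsg.Statements.S0652
import Mathlib
import Cfsg.Agent.Lib.ZJReplace
import Cfsg.Agent.S0651

set_option autoImplicit false
open Cfsg

namespace Cfsg.Agent.S0652

open Cfsg.Agent.Lib.ZJReplace Cfsg.Agent.S0651

/-- For odd p and D normal in the p-group S, the elementary abelian subgroups of D of largest order satisfy the replacement property for class-2 normal subgroups of S. -/
theorem result {S : Type*} [Group S] [Finite S] {p : ℕ} [Fact p.Prime] (hS : IsPGroup p S) (hp : p ≠ 2) (D : Subgroup S) [D.Normal] : ∀ (B : Subgroup S) [B.Normal], ⁅⁅B, B⁆, B⁆ = ⊥ → (∃ U ∈ (Set.image (fun A : Subgroup ↥D => A.map D.subtype) (Cfsg.maxElementaryAbelianSubgroups p ↥D)), ⁅B, B⁆ ≤ U ∧ ¬ B ≤ U) → ∃ A ∈ (Set.image (fun A : Subgroup ↥D => A.map D.subtype) (Cfsg.maxElementaryAbelianSubgroups p ↥D)), ⁅B, B⁆ ≤ A ∧ ¬ B ≤ A ∧ B ≤ Subgroup.normalizer (A : Set S) := by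
  intro B _ hcl hex
  classical
  obtain ⟨U, ⟨A₀, ⟨hA₀c, hA₀m⟩, rfl⟩, h1, h2⟩ := hex
  have hpre : ∀ X : Subgroup D, PrE p X ↔ Cfsg.IsElementaryAbelian p X := by
    intro X
    constructor
    · rintro ⟨h3, h4⟩
      exact ⟨⟨⟨fun a b => Subtype.ext (h3 a.1 a.2 b.1 b.2)⟩⟩, h4⟩
    · rintro ⟨h3, h4⟩
      refine ⟨fun a ha b hb => ?_, h4⟩
      have := h3.is_comm.comm (⟨a, ha⟩ : X) ⟨b, hb⟩
      exact congrArg Subtype.val this
  have hU := isMax_of (e := p) D A₀ ((hpre A₀).2 hA₀c) (fun Y hY => hA₀m Y ((hpre Y).1 hY))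
  obtain ⟨A, hA, h3, h4, h5⟩ := main_e hp (Or.inr rfl) hS D B hcl _ hU h1 h2
  refine ⟨A, ⟨A.subgroupOf D, ⟨(hpre _).1 ((prE_sub D hA.1).2 hA.2.1), fun Y hY => ?_⟩, Subgroup.map_subgroupOf_eq_of_le hA.1⟩, h3, h4, h5⟩
  rw [card_sub D hA.1]
  have h6 := hA.2.2 (Y.map D.subtype) (Subgroup.map_subtype_le Y) ((prE_map D Y).2 ((hpre Y).2 hY))
  have h7 := Subgroup.card_map_of_injective (K := Y) (f := D.subtype) (Subgroup.subtype_injective D)
  rw [h7] at h6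
  exact h6

end Cfsg.Agent.S0652
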