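import Cfsg.Statements.S0654
import Cfsg.Agent.Lib.ZJOmega
import Cfsg.Agent.Lib.ZJApps
import Cfsg.Agent.Lib.ZJFunctor
import Cfsg.Agent.Lib.ZJQuot
-- import your own Cfsg.Agent.* helpers here

set_option autoImplicit false
open Cfsg

namespace Cfsg.Agent.S0654

/-- The ZJ-Theorem for the elementary-abelian Thompson subgroup: for an odd prime p, a finite group G with C_G(O_p(G)) ≤ O_p(G) acting p-stably on its normal p-subgroups, and a Sylow p-subgroup S of G, the subgroup generated by the elements of order dividing p in Z(J_e(S)) is characteristic in G. -/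
theorem result {G : Type*} [Group G] [Finite G] {p : ℕ} [Fact p.Prime] (hp : p ≠ 2) (hc : Subgroup.centralizer (Cfsg.pCore p G : Set G) ≤ Cfsg.pCore p G) (hst : ∀ (P : Subgroup G) [P.Normal], IsPGroup p P → Cfsg.IsPStableOn p P) (S : Sylow p G) : ((Cfsg.omegaCenterThompson p ↥(S : Subgroup G)).map (S : Subgroup G).subtype).Characteristic := by
  classical
  have hmap : (Cfsg.omegaCenterThompson p ↥(S : Subgroup G)).map (S : Subgroup G).subtype =
      Cfsg.omegaOne p (Cfsg.centerThompsonOf p (S : Subgroup G)) := by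
    rw [Cfsg.omegaCenterThompson, Cfsg.Agent.Lib.ZJQuot.omega_map p _ (fun a _ b _ h => (S : Subgroup G).subtype_injective h),
      Cfsg.Agent.Lib.ZJQuot.center_map _ (fun a _ b _ h => (S : Subgroup G).subtype_injective h)]
    rfl
  rw [hmap]
  have h : (Cfsg.omegaOne p (Cfsg.centerThompsonOf p (S : Subgroup G))).Normal := by
    refine Cfsg.Agent.Lib.ZJApps.omegaCenter_normal hp S (Cfsg.Agent.Lib.ZJFunctor.stronglyClosed_self _) hc
      fun B hB hBp => ?_
    haveI := hB
    exact Cfsg.Agent.Lib.ZJApps.stabOn_of_pStableOn (hst B hBp)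
  rw [Subgroup.characteristic_iff_map_eq]
  intro φ
  have hinj : ∀ a ∈ (S : Subgroup G), ∀ b ∈ (S : Subgroup G), φ.toMonoidHom a = φ.toMonoidHom b → a = b :=
    fun a _ b _ hab => φ.injective hab
  rw [Cfsg.Agent.Lib.ZJQuot.omegaE_map p _ hinj]
  let S' : Sylow p G := S.mapSurjective (f := φ.toMonoidHom) φ.surjective
  have hS' : (S' : Subgroup G) = (S : Subgroup G).map φ.toMonoidHom := rfl
  obtain ⟨k, hk1, hk2⟩ := Cfsg.Agent.Lib.TameInter.exists_conj_pair S S'
  have h1 : (S' : Subgroup G) = (S : Subgroup G).map (MulAut.conj k).toMonoidHom := by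
    apply le_antisymm
    · intro r hr
      exact ⟨_, hk2 r hr, by simp [MulAut.conj_apply]; group⟩
    · rintro _ ⟨s, hs, rfl⟩
      exact hk1 s hs
  rw [← hS', h1, ← Cfsg.Agent.Lib.ZJQuot.omegaE_map p (MulAut.conj k).toMonoidHom (fun a _ b _ hab => (MulAut.conj k).injective hab)]
  apply le_antisymm
  · rintro _ ⟨a, ha, rfl⟩
    exact h.conj_mem a ha k
  · intro a ha
    refine ⟨k⁻¹ * a * k⁻¹⁻¹, h.conj_mem a ha k⁻¹, ?_⟩
    simp [MulAut.conj_apply]
    group

end Cfsg.Agent.S0654
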