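import Cfsg.Statements.S0994
import Cfsg.Agent.Lib.SylowCount
-- import your own Cfsg.Agent.* helpers here

set_option autoImplicit false
set_option linter.all false
open Cfsg

namespace Cfsg.Agent.S0994

/-- No finite simple group has order 1188 = 2^2 * 3^3 * 11. -/
theorem result {G : Type*} [Group G] [Finite G] [IsSimpleGroup G] : Nat.card G ≠ 1188 := by
  intro h
  have hnc : ¬ IsMulCommutative G :=
    Cfsg.Agent.Lib.SylowCount.not_comm_of_not_prime (by rw [h]; norm_num)
  haveI : Fact (Nat.Prime 11) := ⟨by norm_num⟩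
  obtain ⟨P⟩ : Nonempty (Sylow 11 G) := inferInstance
  have hd : 11 ∣ Nat.card G := by rw [h]; norm_num
  have hfac : Nat.card G = 11 ^ 1 * 108 := by rw [h]; norm_num
  have hcardP := Cfsg.Agent.Lib.SylowCount.card_sylow_of_factor P 1 108 hfac (by norm_num)
  rw [pow_one] at hcardP
  have h1 := Cfsg.Agent.Lib.SylowCount.card_sylow_dvd_cofactor (G := G) (p := 11) 1 108 hfac (by norm_num)
  have h2 := Cfsg.Agent.Lib.SylowCount.card_sylow_mod (G := G) 11
  have h3 := Cfsg.Agent.Lib.SylowCount.card_sylow_ne_one_of_simple (G := G) (p := 11) hnc hd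
  generalize hn : Nat.card (Sylow 11 G) = n at h1 h2 h3
  have hle : n ≤ 108 := Nat.le_of_dvd (by norm_num) h1
  have h12 : n = 12 := by
    interval_cases n <;> first | rfl | omega
  subst h12
  have hN := Cfsg.Agent.Lib.SylowCount.card_normalizer_of_card_sylow P 12 99 hn (by rw [h]) (by norm_num)
  exact Cfsg.Agent.Lib.SylowCount.not_coprime_normalizer_of_simple hnc P hcardP hd (by rw [hN]; norm_num)

end Cfsg.Agent.S0994
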