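import Cfsg.Statements.S1249
import Cfsg.Agent.Lib.H2Basic
-- import your own Cfsg.Agent.* helpers here

set_option autoImplicit false
set_option linter.all false
open Cfsg

namespace Cfsg.Agent.S1249

/-- Let P and Q be Sylow p-subgroups of the finite group G both containing the subgroup A. If A is strongly closed in P, then A is strongly closed in Q. -/
theorem result {G : Type*} [Group G] [Finite G] {p : ℕ} [Fact p.Prime] (P Q : Sylow p G) (A : Subgroup G) (hAQ : A ≤ Q) (hA : Cfsg.IsStronglyClosed A (P : Subgroup G)) : Cfsg.IsStronglyClosed A (Q : Subgroup G) := by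
  classical
  obtain ⟨hAP, hcl⟩ := hA
  obtain ⟨h, hh⟩ := MulAction.exists_smul_eq G P Q
  have hQe : (Q : Subgroup G) = (P : Subgroup G).map (MulAut.conj h).toMonoidHom := by
    rw [← hh]
    rfl
  have hmemQ : ∀ y, y ∈ (Q : Subgroup G) ↔ h⁻¹ * y * h ∈ (P : Subgroup G) := by
    intro y
    rw [hQe, Cfsg.Agent.Lib.H2Basic.mem_map_conj_iff]
  have hstep : ∀ x ∈ A, h⁻¹ * x * h ∈ A := by
    intro x hx
    have h1 := (hmemQ x).1 (hAQ hx)
    have h2 := hcl x hx h⁻¹
    rw [inv_inv] at h2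
    exact h2 h1
  have hN : h⁻¹ ∈ Subgroup.normalizer (A : Set G) :=
    Cfsg.Agent.Lib.H2Basic.mem_normalizer_of_conj_le (fun a ha => by
      have := hstep a ha
      simpa using this)
  have hN' : h ∈ Subgroup.normalizer (A : Set G) := by
    have := Subgroup.inv_mem _ hN
    simpa using this
  refine ⟨hAQ, ?_⟩
  intro x hx g hg
  have h1 := (hmemQ _).1 hg
  have h2 : (h⁻¹ * g) * x * (h⁻¹ * g)⁻¹ = h⁻¹ * (g * x * g⁻¹) * h := by group
  have h3 := hcl x hx (h⁻¹ * g) (by rw [h2]; exact h1)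
  rw [h2] at h3
  have h4 := (Subgroup.mem_normalizer_iff.1 hN (g * x * g⁻¹))
  have h5 : h⁻¹ * (g * x * g⁻¹) * h⁻¹⁻¹ ∈ A := by
    rw [inv_inv]; exact h3
  exact h4.2 h5

end Cfsg.Agent.S1249
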