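import Cfsg.Statements.S1250
import Cfsg.Agent.Lib.SylowCount
-- import your own Cfsg.Agent.* helpers here

set_option autoImplicit false
set_option linter.all false
open Cfsg

namespace Cfsg.Agent.S1250

/-- a `p`-element of `S N` is conjugate into `S` by an element of `N` -/
theorem exists_conj_into {G : Type*} [Group G] [Finite G] {p : ℕ} [Fact p.Prime] (S : Sylow p G) (N : Subgroup G) [hN : N.Normal]
    (y : G) (k : ℕ) (hyp : orderOf y = p ^ k) (hyS : y ∈ (S : Subgroup G) ⊔ N) :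
    ∃ n ∈ N, n * y * n⁻¹ ∈ (S : Subgroup G) := by
  classical
  let L : Subgroup G := (S : Subgroup G) ⊔ N
  have hSL : (S : Subgroup G) ≤ L := le_sup_left
  let S' : Sylow p L := S.subtype hSL
  let Y : Subgroup L := Subgroup.zpowers (⟨y, hyS⟩ : L)
  have hYp : IsPGroup p Y := by
    rw [IsPGroup.iff_card, Nat.card_zpowers, Subgroup.orderOf_mk, hyp]
    exact ⟨k, rfl⟩
  obtain ⟨Q, hYQ⟩ := IsPGroup.exists_le_sylow hYp
  obtain ⟨l, hl⟩ := MulAction.exists_smul_eq L Q S'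
  have h1 : (l : L) * ⟨y, hyS⟩ * l⁻¹ ∈ (S' : Subgroup L) := by
    rw [← hl]
    refine (Cfsg.Agent.Lib.SylowCount.mem_smul_sylow _ _ _).2 ?_
    have h9 := hYQ (Subgroup.mem_zpowers (⟨y, hyS⟩ : L))
    have h10 : (l : L)⁻¹ * ((l : L) * ⟨y, hyS⟩ * l⁻¹) * l = ⟨y, hyS⟩ := by group
    rw [h10]
    exact h9
  have h2 : ((l : G) * y * (l : G)⁻¹) ∈ (S : Subgroup G) := by
    have h3 : ((l : L) * ⟨y, hyS⟩ * l⁻¹ : L) ∈ (S : Subgroup G).subgroupOf L := h1
    exact Subgroup.mem_subgroupOf.1 h3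
  have hle : (S : Subgroup G) ≤ Subgroup.normalizer (N : Set G) := by
    rw [Subgroup.normalizer_eq_top_iff.2 hN]
    exact le_top
  have hlm : (l : G) ∈ (((S : Subgroup G) ⊔ N : Subgroup G) : Set G) := l.2
  rw [Subgroup.coe_mul_of_left_le_normalizer_right (S : Subgroup G) N hle] at hlm
  obtain ⟨s, hs, n, hn, hsn⟩ := Set.mem_mul.1 hlm
  refine ⟨n, hn, ?_⟩
  have h4 : n * y * n⁻¹ = s⁻¹ * ((l : G) * y * (l : G)⁻¹) * s := by
    rw [← hsn]; group
  rw [h4]
  exact (S : Subgroup G).mul_mem ((S : Subgroup G).mul_mem ((S : Subgroup G).inv_mem hs) h2) hs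


/-- Let S be a Sylow p-subgroup of the finite group G, A ≤ S strongly closed in S, and N a normal subgroup. Then the image of A in G ⧸ N is strongly closed in the image of S (which is a Sylow p-subgroup of G ⧸ N). -/
theorem result {G : Type*} [Group G] [Finite G] {p : ℕ} [Fact p.Prime] (S : Sylow p G) (A : Subgroup G) (hA : Cfsg.IsStronglyClosed A (S : Subgroup G)) (N : Subgroup G) [N.Normal] : Cfsg.IsStronglyClosed (A.map (QuotientGroup.mk' N)) ((S : Subgroup G).map (QuotientGroup.mk' N)) := by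
  classical
  obtain ⟨hAS, hcl⟩ := hA
  refine ⟨Subgroup.map_mono hAS, ?_⟩
  rintro _ ⟨x, hx, rfl⟩ gb hgb
  induction gb using QuotientGroup.induction_on with
  | H g =>
    obtain ⟨s, hs, hse⟩ := hgb
    have hse' : QuotientGroup.mk' N s = QuotientGroup.mk' N (g * x * g⁻¹) := by
      rw [hse]
      rfl
    have hm : s⁻¹ * (g * x * g⁻¹) ∈ N := QuotientGroup.eq.1 hse'
    have hyS : g * x * g⁻¹ ∈ (S : Subgroup G) ⊔ N := by
      have h1 : g * x * g⁻¹ = s * (s⁻¹ * (g * x * g⁻¹)) := by group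
      rw [h1]
      exact Subgroup.mul_mem _ ((le_sup_left : (S : Subgroup G) ≤ _) hs) ((le_sup_right : N ≤ _) hm)
    obtain ⟨k, hk⟩ := IsPGroup.iff_orderOf.1 S.isPGroup' (⟨x, hAS hx⟩ : (S : Subgroup G))
    rw [Subgroup.orderOf_mk] at hk
    have hyo : orderOf (g * x * g⁻¹) = p ^ k := by
      have h9 := MulEquiv.orderOf_eq (MulAut.conj g) x
      have h10 : (MulAut.conj g) x = g * x * g⁻¹ := rfl
      rw [h10] at h9
      rw [h9, hk]
    obtain ⟨n, hn, hnS⟩ := exists_conj_into S N _ k hyo hyS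
    have h1 : (n * g) * x * (n * g)⁻¹ = n * (g * x * g⁻¹) * n⁻¹ := by group
    have h2 := hcl x hx (n * g) (by rw [h1]; exact hnS)
    refine ⟨_, h2, ?_⟩
    rw [h1]
    show QuotientGroup.mk' N (n * (g * x * g⁻¹) * n⁻¹) = QuotientGroup.mk' N (g * x * g⁻¹)
    have h8 : QuotientGroup.mk' N n = 1 := (QuotientGroup.eq_one_iff n).2 hn
    rw [map_mul, map_mul, map_inv, h8]
    simp

end Cfsg.Agent.S1250
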