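import Cfsg.Statements.S1251
import Cfsg.Agent.Lib.ZStarStrong
-- import your own Cfsg.Agent.* helpers here

set_option autoImplicit false
open Cfsg

namespace Cfsg.Agent.S1251

/-- Let S be a Sylow 2-subgroup of the finite group G and A ≤ S strongly closed in S. If H is a subgroup normalized by A with no nontrivial normal subgroup of odd order and A ∩ H = 1, then A ≤ C_G(H). -/
theorem result {G : Type*} [Group G] [Finite G] (S : Sylow 2 G) (A : Subgroup G) (hA : Cfsg.IsStronglyClosed A (S : Subgroup G)) (H : Subgroup G) (hAH : A ≤ Subgroup.normalizer (H : Set G)) (hO : Cfsg.oddCore ↥H = ⊥) (hdisj : A ⊓ H = ⊥) : A ≤ Subgroup.centralizer (H : Set G) := by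
  intro a ha
  rw [Subgroup.mem_centralizer_iff]
  intro h hh
  have h1 := Cfsg.Agent.Lib.ZStarStrong.comm_mem_core hA hAH hdisj a ha ⟨h, hh⟩
  rw [hO, Subgroup.map_bot, Subgroup.mem_bot] at h1
  have h2 : h * a * h⁻¹ = a := mul_inv_eq_one.1 h1
  calc h * a = h * a * h⁻¹ * h := by group
    _ = a * h := by rw [h2]

end Cfsg.Agent.S1251
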