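import Cfsg.Statements.S1323
import Mathlib
import Cfsg.Agent.Lib.PComps3

set_option autoImplicit false
open Cfsg

namespace Cfsg.Agent.S1323

open Equiv Equiv.Perm

variable {α : Type*} [Fintype α] [DecidableEq α]

def tc (a b c : α) : Perm α := swap a b * swap b c

theorem tc_a {a b c : α} (hab : a ≠ b) (hac : a ≠ c) : tc a b c a = b := by
  simp [tc, swap_apply_of_ne_of_ne hab hac]

theorem tc_off {a b c x : α} (ha : x ≠ a) (hb : x ≠ b) (hc : x ≠ c) : tc a b c x = x := by
  simp [tc, swap_apply_of_ne_of_ne hb hc, swap_apply_of_ne_of_ne ha hb]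

theorem tc_sign {a b c : α} (hab : a ≠ b) (hbc : b ≠ c) : tc a b c ∈ alternatingGroup α := by
  rw [mem_alternatingGroup]; simp [tc, sign_swap hab, sign_swap hbc]

theorem pick (S : Finset α) (x y : α) (h : 4 ≤ S.card) :
    ∃ a b, a ∈ S ∧ b ∈ S ∧ a ≠ b ∧ a ≠ x ∧ b ≠ x ∧ a ≠ y ∧ b ≠ y := by
  have h1 : 1 < (S \ {x, y}).card := by
    have := Finset.le_card_sdiff ({x, y} : Finset α) S
    have h2 : ({x, y} : Finset α).card ≤ 2 := Finset.card_le_two
    omega
  obtain ⟨a, ha, b, hb, hab⟩ := Finset.one_lt_card.1 h1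
  simp only [Finset.mem_sdiff, Finset.mem_insert, Finset.mem_singleton, not_or] at ha hb
  exact ⟨a, b, ha.1, hb.1, hab, ha.2.1, hb.2.1, ha.2.2, hb.2.2⟩

def Fx (S : Finset α) : Subgroup (alternatingGroup α) where
  carrier := {g | ∀ x ∈ S, (g : Perm α) x = x}
  mul_mem' := by
    intro a b ha hb x hx
    show (a : Perm α) ((b : Perm α) x) = x
    rw [hb x hx, ha x hx]
  one_mem' := fun _ _ => rfl
  inv_mem' := by
    intro a ha x hx
    show (a : Perm α)⁻¹ x = x
    rw [Perm.inv_eq_iff_eq]; exact (ha x hx).symm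

theorem tc_mem_Fx {S : Finset α} {a b c : α} (hab : a ≠ b) (hbc : b ≠ c)
    (ha : a ∉ S) (hb : b ∉ S) (hc : c ∉ S) :
    (⟨tc a b c, tc_sign hab hbc⟩ : alternatingGroup α) ∈ Fx S := by
  intro x hx
  exact tc_off (by rintro rfl; exact ha hx) (by rintro rfl; exact hb hx) (by rintro rfl; exact hc hx)

theorem cent_Fx {Δ : Finset α} (h : 4 ≤ Δᶜ.card) :
    Subgroup.centralizer (Fx Δ : Set (alternatingGroup α)) = Fx Δᶜ := by
  ext c
  rw [Subgroup.mem_centralizer_iff]
  constructor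
  · intro hc x hx
    by_contra hne
    obtain ⟨a, b, ha, hb, hab, hax, hbx, hay, hby⟩ := pick Δᶜ x ((c : Perm α) x) h
    rw [Finset.mem_compl] at ha hb hx
    have hl := tc_mem_Fx (S := Δ) (Ne.symm hax) hab hx ha hb
    have := hc _ hl
    have h1 := congrArg (fun q : alternatingGroup α => (q : Perm α) x) this
    change tc x a b ((c : Perm α) x) = (c : Perm α) (tc x a b x) at h1
    rw [tc_a (Ne.symm hax) (Ne.symm hbx), tc_off hne (Ne.symm hay) (Ne.symm hby)] at h1
    exact hax ((c : Perm α).injective h1).symm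
  · intro hc l hl
    have hd : Disjoint (l : Perm α) (c : Perm α) := by
      intro x
      by_cases hx : x ∈ Δ
      · exact Or.inl (hl x hx)
      · exact Or.inr (hc x (Finset.mem_compl.2 hx))
    exact Subtype.ext hd.commute.eq

theorem stable_back (S : Finset α) (g : Perm α) (h : ∀ x ∈ S, g x ∈ S) (x : α) :
    g x ∈ S ↔ x ∈ S := by
  refine ⟨fun hx => ?_, h x⟩
  have himg : S.image g = S := Finset.eq_of_subset_of_card_le (by
      intro y hy; obtain ⟨z, hz, rfl⟩ := Finset.mem_image.1 hy; exact h z hz)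
    (by rw [Finset.card_image_of_injective _ g.injective])
  have hx' : g x ∈ S.image g := by rw [himg]; exact hx
  obtain ⟨z, hz, hzx⟩ := Finset.mem_image.1 hx'
  rwa [← g.injective hzx]

theorem norm_stable {S : Finset α} (h : 4 ≤ Sᶜ.card) {g : alternatingGroup α}
    (hg : g ∈ Subgroup.normalizer (Fx S : Set (alternatingGroup α))) (x : α) (hx : x ∈ S) :
    (g : Perm α) x ∈ S := by
  by_contra hgx
  obtain ⟨a, b, ha, hb, hab, hax, hbx, -, -⟩ := pick Sᶜ ((g : Perm α) x) ((g : Perm α) x) h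
  rw [Finset.mem_compl] at ha hb
  have hl := tc_mem_Fx (S := S) (Ne.symm hax) hab hgx ha hb
  have h2 : g⁻¹ * (⟨tc ((g : Perm α) x) a b, tc_sign (Ne.symm hax) hab⟩ : alternatingGroup α) * g ∈ (Fx S : Set (alternatingGroup α)) := by
    refine (Subgroup.mem_normalizer_iff.1 hg _).2 ?_
    have : g * (g⁻¹ * (⟨tc ((g : Perm α) x) a b, tc_sign (Ne.symm hax) hab⟩ : alternatingGroup α) * g) * g⁻¹ = (⟨tc ((g : Perm α) x) a b, tc_sign (Ne.symm hax) hab⟩ : alternatingGroup α) := by group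
    rw [this]; exact hl
  have h3 := h2 x hx
  change (g : Perm α)⁻¹ (tc ((g : Perm α) x) a b ((g : Perm α) x)) = x at h3
  rw [tc_a (Ne.symm hax) (Ne.symm hbx)] at h3
  exact hax (by rw [← h3]; simp)

theorem stable_norm {S : Finset α} {g : alternatingGroup α} (h : ∀ x, (g : Perm α) x ∈ S ↔ x ∈ S) :
    g ∈ Subgroup.normalizer (Fx S : Set (alternatingGroup α)) := by
  rw [Subgroup.mem_normalizer_iff]
  intro k
  constructor
  · intro hk x hx
    change (g : Perm α) ((k : Perm α) ((g : Perm α)⁻¹ x)) = x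
    have hx' : (g : Perm α)⁻¹ x ∈ S := (h _).1 (by simpa using hx)
    rw [hk _ hx']; simp
  · intro hk x hx
    have := hk ((g : Perm α) x) ((h x).2 hx)
    change (g : Perm α) ((k : Perm α) ((g : Perm α)⁻¹ ((g : Perm α) x))) = (g : Perm α) x at this
    simpa using this

theorem norm_eq {Δ : Finset α} (h : Δ.card = 4) (h' : 4 ≤ Δᶜ.card) :
    Subgroup.normalizer (Fx Δ : Set (alternatingGroup α)) =
      Subgroup.normalizer (Fx Δᶜ : Set (alternatingGroup α)) := by
  ext g
  constructor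
  · intro hg
    have := stable_back Δ (g : Perm α) (norm_stable h' hg)
    apply stable_norm
    intro x
    rw [Finset.mem_compl, Finset.mem_compl, this]
  · intro hg
    have hcc : 4 ≤ (Δᶜ)ᶜ.card := by rw [compl_compl]; omega
    have := stable_back Δᶜ (g : Perm α) (norm_stable hcc hg)
    apply stable_norm
    intro x
    have h1 := this x
    rw [Finset.mem_compl, Finset.mem_compl] at h1
    exact not_iff_not.1 h1

theorem even_K {Δ : Finset α} (h : Δ.card = 4) : Even (Nat.card (Fx Δᶜ)) := by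
  obtain ⟨a, ha⟩ : Δ.Nonempty := Finset.card_pos.1 (by omega)
  obtain ⟨b, c, hb, hc, hbc, hba, hca, -, -⟩ := pick Δ a a (by omega)
  obtain ⟨p, q, hp, hq, hpq, hpb, hqb, hpc, hqc⟩ := pick Δ b c (by omega)
  obtain ⟨d, hd, hda, hdb, hdc⟩ : ∃ d ∈ Δ, d ≠ a ∧ d ≠ b ∧ d ≠ c := by
    by_cases hpa : p = a
    · exact ⟨q, hq, fun h => hpq (hpa.trans h.symm), hqb, hqc⟩
    · exact ⟨p, hp, hpa, hpb, hpc⟩
  have hdis : Disjoint (swap a b) (swap c d) := by
    intro x
    by_cases hxa : x = a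
    · subst hxa; exact Or.inr (swap_apply_of_ne_of_ne (Ne.symm hca) (Ne.symm hda))
    by_cases hxb : x = b
    · subst hxb; exact Or.inr (swap_apply_of_ne_of_ne hbc (Ne.symm hdb))
    exact Or.inl (swap_apply_of_ne_of_ne hxa hxb)
  have hsgn : swap a b * swap c d ∈ alternatingGroup α := by
    rw [mem_alternatingGroup]; simp [sign_swap (Ne.symm hba), sign_swap (Ne.symm hdc)]
  have hmem : (⟨swap a b * swap c d, hsgn⟩ : alternatingGroup α) ∈ Fx Δᶜ := by
    intro x hx
    rw [Finset.mem_compl] at hx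
    have hxa : x ≠ a := by rintro rfl; exact hx ha
    have hxb : x ≠ b := by rintro rfl; exact hx hb
    have hxc : x ≠ c := by rintro rfl; exact hx hc
    have hxd : x ≠ d := by rintro rfl; exact hx hd
    change swap a b (swap c d x) = x
    rw [swap_apply_of_ne_of_ne hxc hxd, swap_apply_of_ne_of_ne hxa hxb]
  let T : ↥(Fx Δᶜ) := ⟨⟨swap a b * swap c d, hsgn⟩, hmem⟩
  have hT2 : T ^ 2 = 1 := by
    apply Subtype.ext; apply Subtype.ext
    change (swap a b * swap c d) ^ 2 = 1
    rw [hdis.commute.mul_pow, pow_two, pow_two, swap_mul_self, swap_mul_self, one_mul]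
  have hT1 : T ≠ 1 := by
    intro hT
    have h1 : (swap a b * swap c d) a = (1 : Perm α) a := by
      have := congrArg (fun q : ↥(Fx Δᶜ) => ((q : alternatingGroup α) : Perm α) a) hT
      exact this
    have h2 : swap a b (swap c d a) = a := h1
    rw [swap_apply_of_ne_of_ne (Ne.symm hca) (Ne.symm hda), swap_apply_left] at h2
    exact hba h2
  haveI : Fact (Nat.Prime 2) := ⟨Nat.prime_two⟩
  have h3 := orderOf_eq_prime hT2 hT1
  have h4 := orderOf_dvd_natCard T
  rw [h3] at h4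
  exact even_iff_two_dvd.2 h4

theorem odd_K {Δ : Finset α} (h : Δ.card = 4) (g : alternatingGroup α)
    (hg : g ∉ Subgroup.normalizer (Fx Δᶜ : Set (alternatingGroup α))) :
    Odd (Nat.card ↥(Fx Δᶜ ⊓ (Fx Δᶜ).map (MulAut.conj g).toMonoidHom)) := by
  rw [← Nat.not_even_iff_odd]
  intro hev
  obtain ⟨δ, hδ, hgδ⟩ : ∃ δ, δ ∉ Δ ∧ (g : Perm α) δ ∈ Δ := by
    by_contra hcon
    push Not at hcon
    apply hg
    apply stable_norm
    apply stable_back
    intro x hx
    rw [Finset.mem_compl] at *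
    exact hcon x hx
  haveI : Fact (Nat.Prime 2) := ⟨Nat.prime_two⟩
  obtain ⟨t, ht⟩ := exists_prime_orderOf_dvd_card' 2 (even_iff_two_dvd.1 hev)
  have hK := (Subgroup.mem_inf.1 t.2).1
  obtain ⟨k, hk, hkt⟩ := Subgroup.mem_map.1 (Subgroup.mem_inf.1 t.2).2
  have hσ2 : ((t.1 : alternatingGroup α) : Perm α) ^ 2 = 1 := by
    have := pow_orderOf_eq_one t
    rw [ht] at this
    exact congrArg (fun q : ↥(Fx Δᶜ ⊓ (Fx Δᶜ).map (MulAut.conj g).toMonoidHom) => ((q : alternatingGroup α) : Perm α)) this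
  have hσ1 : ((t.1 : alternatingGroup α) : Perm α) ≠ 1 := by
    intro h1
    have : t = 1 := Subtype.ext (Subtype.ext h1)
    rw [this, orderOf_one] at ht
    omega
  have hfix : ((t.1 : alternatingGroup α) : Perm α) ((g : Perm α) δ) = (g : Perm α) δ := by
    rw [← hkt]
    change (g : Perm α) ((k : Perm α) ((g : Perm α)⁻¹ ((g : Perm α) δ))) = (g : Perm α) δ
    have h2 : (g : Perm α)⁻¹ ((g : Perm α) δ) = δ := by simp
    rw [h2, hk δ (Finset.mem_compl.2 hδ)]
  have hsub : ((t.1 : alternatingGroup α) : Perm α).support ⊆ Δ.erase ((g : Perm α) δ) := by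
    intro x hx
    rw [mem_support] at hx
    rw [Finset.mem_erase]
    refine ⟨?_, ?_⟩
    · rintro rfl; exact hx hfix
    · by_contra hxΔ
      exact hx (hK x (Finset.mem_compl.2 hxΔ))
  have hcard := Finset.card_le_card hsub
  rw [Finset.card_erase_of_mem hgδ, h] at hcard
  have h2d := two_dvd_card_support hσ2
  have h0 : ((t.1 : alternatingGroup α) : Perm α).support.card ≠ 0 := by
    intro h0
    exact hσ1 (support_eq_empty_iff.1 (Finset.card_eq_zero.1 h0))
  have h2c : ((t.1 : alternatingGroup α) : Perm α).support.card = 2 := by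
    obtain ⟨m, hm⟩ := h2d
    omega
  have hs := (card_support_eq_two.1 h2c).sign_eq
  have hs1 := mem_alternatingGroup.1 (t.1 : alternatingGroup α).2
  rw [hs] at hs1
  exact absurd hs1 (by decide)

theorem comm_ne {Δ : Finset α} (h : Δ.card = 4) (hα : 9 ≤ Fintype.card α) (g : alternatingGroup α) :
    ⁅Fx Δ, (Fx Δ).map (MulAut.conj g).toMonoidHom⁆ ≠ ⊥ := by
  intro hb
  have hc : 4 ≤ Δᶜ.card := by rw [Finset.card_compl]; omega
  rw [Subgroup.commutator_comm, Subgroup.commutator_eq_bot_iff_le_centralizer, cent_Fx hc] at hb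
  have himg : (Δ.image (g : Perm α)).card = 4 := by
    rw [Finset.card_image_of_injective _ (g : Perm α).injective, h]
  have hu : (Δ ∪ Δ.image (g : Perm α)).card ≤ 8 := by
    have := Finset.card_union_le Δ (Δ.image (g : Perm α))
    omega
  obtain ⟨z, -, hz⟩ := Finset.exists_mem_notMem_of_card_lt_card
    (s := Δ ∪ Δ.image (g : Perm α)) (t := Finset.univ) (by rw [Finset.card_univ]; omega)
  rw [Finset.mem_union, not_or] at hz
  have hc2 : 4 ≤ (Δ.image (g : Perm α))ᶜ.card := by rw [Finset.card_compl]; omega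
  obtain ⟨a, b, ha, hb', hab, haz, hbz, -, -⟩ := pick (Δ.image (g : Perm α))ᶜ z z hc2
  rw [Finset.mem_compl] at ha hb'
  have hl := tc_mem_Fx (S := Δ.image (g : Perm α)) (Ne.symm haz) hab hz.2 ha hb'
  have hmem : (⟨tc z a b, tc_sign (Ne.symm haz) hab⟩ : alternatingGroup α) ∈ (Fx Δ).map (MulAut.conj g).toMonoidHom := by
    refine Subgroup.mem_map.2 ⟨g⁻¹ * ⟨tc z a b, tc_sign (Ne.symm haz) hab⟩ * g, ?_, ?_⟩
    · intro x hx
      change (g : Perm α)⁻¹ (tc z a b ((g : Perm α) x)) = x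
      have h5 := hl ((g : Perm α) x) (Finset.mem_image_of_mem _ hx)
      change tc z a b ((g : Perm α) x) = (g : Perm α) x at h5
      rw [h5]; simp
    · show g * (g⁻¹ * ⟨tc z a b, tc_sign (Ne.symm haz) hab⟩ * g) * g⁻¹ = _
      group
  have h6 := hb hmem z (Finset.mem_compl.2 hz.1)
  change tc z a b z = z at h6
  rw [tc_a (Ne.symm haz) (Ne.symm hbz)] at h6
  exact haz h6

theorem alt_quasi (β : Type*) [Fintype β] [DecidableEq β] (h5 : 5 ≤ Nat.card β) :
    IsQuasisimple (alternatingGroup β) := by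
  haveI := alternatingGroup.isSimpleGroup h5
  refine ⟨⟨commutator_alternatingGroup_eq_top h5⟩, ?_⟩
  have hc : Subgroup.center (alternatingGroup β) = ⊥ := alternatingGroup.center_eq_bot (by omega)
  have hinj : Function.Injective (QuotientGroup.mk' (Subgroup.center (alternatingGroup β))) := by
    rw [← MonoidHom.ker_eq_bot_iff, QuotientGroup.ker_mk', hc]
  exact (MulEquiv.ofBijective _ ⟨hinj, QuotientGroup.mk'_surjective _⟩).symm.isSimpleGroup

theorem Fx_quasi {Δ : Finset α} (h5 : 5 ≤ Δᶜ.card) : IsQuasisimple (Fx Δ) := by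
  have hcard : 5 ≤ Nat.card {x // x ∉ Δ} := by
    rw [Nat.card_eq_fintype_card, Fintype.card_subtype_compl, Fintype.card_coe]
    rw [Finset.card_compl] at h5
    exact h5
  have hq := alt_quasi {x // x ∉ Δ} hcard
  have hsgn (σ : alternatingGroup {x // x ∉ Δ}) : ofSubtype (σ : Perm {x // x ∉ Δ}) ∈ alternatingGroup α := by
    rw [mem_alternatingGroup, sign_ofSubtype]; exact mem_alternatingGroup.1 σ.2
  have hfix (σ : alternatingGroup {x // x ∉ Δ}) : (⟨ofSubtype (σ : Perm {x // x ∉ Δ}), hsgn σ⟩ : alternatingGroup α) ∈ Fx Δ := by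
    intro x hx
    exact ofSubtype_apply_of_not_mem _ (not_not.2 hx)
  let f : alternatingGroup {x // x ∉ Δ} →* Fx Δ := MonoidHom.mk'
    (fun σ => ⟨⟨ofSubtype (σ : Perm {x // x ∉ Δ}), hsgn σ⟩, hfix σ⟩)
    (by
      intro a b
      apply Subtype.ext; apply Subtype.ext
      exact map_mul ofSubtype _ _)
  refine Cfsg.Agent.Lib.PComps3.isQuasisimple_of_surjective hq f ?_ ?_
  · rintro ⟨l, hl⟩
    have hback := stable_back Δ (l : Perm α) (fun x hx => by rw [hl x hx]; exact hx)
    have h1 : ∀ x, (fun y => y ∉ Δ) ((l : Perm α) x) ↔ (fun y => y ∉ Δ) x := fun x => not_iff_not.2 (hback x)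
    have h2 : ∀ x, (l : Perm α) x ≠ x → (fun y => y ∉ Δ) x := fun x hx hxΔ => hx (hl x hxΔ)
    have h3 := ofSubtype_subtypePerm h1 h2
    have hs : subtypePerm (l : Perm α) h1 ∈ alternatingGroup {x // x ∉ Δ} := by
      rw [mem_alternatingGroup, ← sign_ofSubtype, h3]
      exact mem_alternatingGroup.1 l.2
    refine ⟨⟨subtypePerm (l : Perm α) h1, hs⟩, ?_⟩
    apply Subtype.ext; apply Subtype.ext
    exact h3
  · intro σ hσ
    have h1 : f σ = 1 := hσ
    have h2 : ofSubtype (σ : Perm {x // x ∉ Δ}) = 1 :=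
      congrArg (fun q : Fx Δ => ((q : alternatingGroup α) : Perm α)) h1
    have h3 : (σ : Perm {x // x ∉ Δ}) = 1 := ofSubtype_injective (by rw [h2, map_one])
    have h4 : σ = 1 := Subtype.ext h3
    rw [h4]; exact one_mem _

theorem std_Fx {Δ : Finset α} (h : Δ.card = 4) (hα : 9 ≤ Fintype.card α) :
    Cfsg.IsStandardSubgroup (Fx Δ) := by
  have h5 : 5 ≤ Δᶜ.card := by rw [Finset.card_compl]; omega
  have h4 : 4 ≤ Δᶜ.card := by omega
  refine ⟨Fx_quasi h5, ?_, fun g _ => comm_ne h hα g, ?_⟩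
  · rw [cent_Fx h4]
    exact ⟨even_K h, fun g hg => odd_K h g hg⟩
  · rw [cent_Fx h4]
    exact norm_eq h h4

/-- For n ≥ 9, the subgroup of the alternating group on Fin n fixing each of the points 0, 1, 2, 3 is a standard subgroup. -/
theorem result (n : ℕ) (h4 : 4 ≤ n) (hn : 9 ≤ n) : Cfsg.IsStandardSubgroup (⨅ i : Fin 4, MulAction.stabilizer ↥(alternatingGroup (Fin n)) (Fin.castLE h4 i : Fin n)) := by
  have hL : (⨅ i : Fin 4, MulAction.stabilizer ↥(alternatingGroup (Fin n)) (Fin.castLE h4 i : Fin n)) =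
      Fx (Finset.univ.image (Fin.castLE h4)) := by
    ext g
    rw [Subgroup.mem_iInf]
    constructor
    · intro hg x hx
      obtain ⟨i, -, rfl⟩ := Finset.mem_image.1 hx
      exact MulAction.mem_stabilizer_iff.1 (hg i)
    · intro hg i
      exact MulAction.mem_stabilizer_iff.2 (hg _ (Finset.mem_image_of_mem _ (Finset.mem_univ i)))
  rw [hL]
  refine std_Fx ?_ (by simpa using hn)
  rw [Finset.card_image_of_injective _ (Fin.castLE_injective h4), Finset.card_univ, Fintype.card_fin]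

end Cfsg.Agent.S1323
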