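import Cfsg.Statements.S1339
import Mathlib
import Cfsg.Agent.Lib.PComps2
import Cfsg.Agent.Lib.FitCore
import Cfsg.Agent.Lib.SolvCore

set_option autoImplicit false
open Cfsg

namespace Cfsg.Agent.S1339

open Cfsg Cfsg.Agent.Lib Matrix

section mats
variable {F : Type*} [Field F] {n : ℕ}

theorem comm_entry {k l : Fin n} {M : Matrix (Fin n) (Fin n) F} (h : M * transvection k l 1 = transvection k l 1 * M)
    (a b : Fin n) : (if b = l then M a k else 0) = (if a = k then M l b else 0) := by
  have h1 : M * Matrix.single k l 1 = Matrix.single k l 1 * M := by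
    have e : M * (1 + Matrix.single k l (1 : F)) = (1 + Matrix.single k l (1 : F)) * M := h
    rw [mul_add, add_mul, mul_one, one_mul] at e
    exact add_left_cancel e
  have h2 := congrFun (congrFun h1 a) b
  have h3 : (M * Matrix.single k l (1 : F)) a b = if b = l then M a k else 0 := by
    split_ifs with hb
    · subst hb
      rw [Matrix.mul_single_apply_same, mul_one]
    · exact Matrix.mul_single_apply_of_ne _ k l a b hb M
  have h4 : (Matrix.single k l (1 : F) * M) a b = if a = k then M l b else 0 := by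
    split_ifs with ha
    · subst ha
      rw [Matrix.single_mul_apply_same, one_mul]
    · exact Matrix.single_mul_apply_of_ne _ k l a b ha M
  rw [h3, h4] at h2
  exact h2

theorem f2 [Fintype F] (hF : Fintype.card F = 2) (x : F) : x = 0 ∨ x = 1 := by
  classical
  by_contra h
  push Not at h
  have h1 : ({0, 1, x} : Finset F).card = 3 := by
    rw [Finset.card_insert_of_notMem, Finset.card_insert_of_notMem, Finset.card_singleton]
    · simpa using h.2.symm
    · simp only [Finset.mem_insert, Finset.mem_singleton, not_or]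
      exact ⟨zero_ne_one, h.1.symm⟩
  have h2 := Finset.card_le_univ ({0, 1, x} : Finset F)
  omega

theorem f2_add [Fintype F] (hF : Fintype.card F = 2) (x : F) : x + x = 0 := by
  rcases f2 hF x with rfl | rfl
  · simp
  · rcases f2 hF ((1 : F) + 1) with h | h
    · exact h
    · exfalso
      have : (1 : F) = 0 := by simpa using h
      exact one_ne_zero this

theorem isC [Fintype F] (hF : Fintype.card F = 2) {i j : Fin n} {M : Matrix (Fin n) (Fin n) F}
    (h : M * transvection i j 1 = transvection i j 1 * M) (hdet : M.det ≠ 0) :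
    (∀ a, a ≠ i → M a i = 0) ∧ M i i = 1 ∧ (∀ b, b ≠ j → M j b = 0) ∧ M j j = 1 := by
  have h1 : ∀ a, a ≠ i → M a i = 0 := by
    intro a ha
    have := comm_entry h a j
    simpa [ha] using this
  have h2 : ∀ b, b ≠ j → M j b = 0 := by
    intro b hb
    have := comm_entry h i b
    simpa [hb] using this.symm
  refine ⟨h1, ?_, h2, ?_⟩
  · rcases f2 hF (M i i) with h0 | h0
    · exfalso
      apply hdet
      apply Matrix.det_eq_zero_of_column_eq_zero i
      intro a
      by_cases ha : a = i
      · rw [ha, h0]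
      · exact h1 a ha
    · exact h0
  · rcases f2 hF (M j j) with h0 | h0
    · exfalso
      apply hdet
      apply Matrix.det_eq_zero_of_row_eq_zero j
      intro b
      by_cases hb : b = j
      · rw [hb, h0]
      · exact h2 b hb
    · exact h0

theorem pow4 [Fintype F] (hF : Fintype.card F = 2) {i j : Fin n} (hij : i ≠ j) {A : Matrix (Fin n) (Fin n) F}
    (hi : ∀ a, A a i = 0) (hj : ∀ b, A j b = 0) (hs : ∀ a b, a ≠ i → b ≠ j → A a b = 0) :
    ((1 + A) * (1 + A)) * ((1 + A) * (1 + A)) = 1 := by
  have hadd : ∀ X : Matrix (Fin n) (Fin n) F, X + X = 0 := by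
    intro X
    ext a b
    exact f2_add hF _
  set D := A * A with hDdef
  have hD : ∀ a b, ¬ (a = i ∧ b = j) → D a b = 0 := by
    intro a b hab
    rw [hDdef, Matrix.mul_apply]
    apply Finset.sum_eq_zero
    intro c _
    by_cases ha : a = i
    · have hb : b ≠ j := fun hb => hab ⟨ha, hb⟩
      by_cases hc : c = i
      · rw [ha, hc, hi, zero_mul]
      · rw [hs c b hc hb, mul_zero]
    · by_cases hc : c = j
      · rw [hc, hj, mul_zero]
      · rw [hs a c ha hc, zero_mul]
  have hDD : D * D = 0 := by
    ext a b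
    rw [Matrix.mul_apply]
    apply Finset.sum_eq_zero
    intro c _
    by_cases hc : c = j
    · rw [hc, hD j b (fun h => hij h.1.symm), mul_zero]
    · rw [hD a c (fun h => hc h.2), zero_mul]
  have h1 : (1 + A) * (1 + A) = 1 + D := by
    have : (1 + A) * (1 + A) = 1 + (A + A) + A * A := by noncomm_ring
    rw [this, hadd, add_zero]
  rw [h1]
  have : (1 + D) * (1 + D) = 1 + (D + D) + D * D := by noncomm_ring
  rw [this, hadd, hDD, add_zero, add_zero]

theorem mul_entry {i j : Fin n} {A A' : Matrix (Fin n) (Fin n) F} (hs : ∀ a b, a ≠ i → b ≠ j → A a b = 0)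
    (hj : ∀ b, A' j b = 0) (a b : Fin n) (ha : a ≠ i) (hb : b ≠ j) : (A * A') a b = 0 := by
  rw [Matrix.mul_apply]
  apply Finset.sum_eq_zero
  intro c _
  by_cases hc : c = j
  · rw [hc, hj, mul_zero]
  · rw [hs a c ha hc, zero_mul]

theorem conj_entry {i j : Fin n} {H A K : Matrix (Fin n) (Fin n) F} (hs : ∀ a b, a ≠ i → b ≠ j → A a b = 0)
    (hH : ∀ a, a ≠ i → H a i = 0) (hK : ∀ b, b ≠ j → K j b = 0) (a b : Fin n) (ha : a ≠ i) (hb : b ≠ j) :
    (H * A * K) a b = 0 := by
  have h1 : ∀ d, d ≠ j → (H * A) a d = 0 := by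
    intro d hd
    rw [Matrix.mul_apply]
    apply Finset.sum_eq_zero
    intro c _
    by_cases hc : c = i
    · rw [hc, hH a ha, zero_mul]
    · rw [hs c d hc hd, mul_zero]
  rw [Matrix.mul_apply]
  apply Finset.sum_eq_zero
  intro d _
  by_cases hd : d = j
  · rw [hd, hK b hb, mul_zero]
  · rw [h1 d hd, zero_mul]

end mats

/-- Let F be a field with 2 elements, n ≥ 3, and t ∈ SL(n, F) a transvection (t = 1 + E_{ij}, i ≠ j). Then the generalized Fitting subgroup of C(t) is O_2(C(t)). -/
theorem result {F : Type*} [Field F] [Fintype F] [DecidableEq F] (hF : Fintype.card F = 2) (n : ℕ) (hn : 3 ≤ n) (i j : Fin n) (hij : i ≠ j) (t : Matrix.SpecialLinearGroup (Fin n) F) (ht : (t : Matrix (Fin n) (Fin n) F) = Matrix.transvection i j 1) : Cfsg.generalizedFittingSubgroup ↥(Subgroup.centralizer ({t} : Set (Matrix.SpecialLinearGroup (Fin n) F))) = Cfsg.pCore 2 ↥(Subgroup.centralizer ({t} : Set (Matrix.SpecialLinearGroup (Fin n) F))) := by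
  classical
  haveI : Fact (Nat.Prime 2) := ⟨Nat.prime_two⟩
  set C := Subgroup.centralizer ({t} : Set (Matrix.SpecialLinearGroup (Fin n) F)) with hC
  let mat : ↥C → Matrix (Fin n) (Fin n) F := fun g => ((g : Matrix.SpecialLinearGroup (Fin n) F) : Matrix (Fin n) (Fin n) F)
  have hmat1 : mat 1 = 1 := rfl
  have hmatmul : ∀ g h : ↥C, mat (g * h) = mat g * mat h := fun _ _ => rfl
  have hcomm : ∀ g : ↥C, mat g * transvection i j 1 = transvection i j 1 * mat g := by
    intro g
    have h1 := Subgroup.mem_centralizer_iff.1 g.2 t rfl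
    have h2 : (t : Matrix (Fin n) (Fin n) F) * mat g = mat g * (t : Matrix (Fin n) (Fin n) F) :=
      congrArg (fun z : Matrix.SpecialLinearGroup (Fin n) F => (z : Matrix (Fin n) (Fin n) F)) h1
    rw [ht] at h2
    exact h2.symm
  have hdet : ∀ g : ↥C, (mat g).det ≠ 0 := by
    intro g
    have : (mat g).det = 1 := (g : Matrix.SpecialLinearGroup (Fin n) F).2
    rw [this]; exact one_ne_zero
  have hisC := fun g : ↥C => isC hF (hcomm g) (hdet g)
  let P : ↥C → Prop := fun g => ∀ a b, a ≠ i → b ≠ j → (mat g - 1) a b = 0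
  have hcoli : ∀ g : ↥C, ∀ a, (mat g - 1) a i = 0 := by
    intro g a
    obtain ⟨h1, h2, -, -⟩ := hisC g
    rw [Matrix.sub_apply]
    by_cases ha : a = i
    · rw [ha, h2, Matrix.one_apply_eq, sub_self]
    · rw [h1 a ha, Matrix.one_apply_ne ha, sub_self]
  have hrowj : ∀ g : ↥C, ∀ b, (mat g - 1) j b = 0 := by
    intro g b
    obtain ⟨-, -, h1, h2⟩ := hisC g
    rw [Matrix.sub_apply]
    by_cases hb : b = j
    · rw [hb, h2, Matrix.one_apply_eq, sub_self]
    · rw [h1 b hb, Matrix.one_apply_ne (Ne.symm hb), sub_self]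
  have hPmul : ∀ g h : ↥C, P g → P h → P (g * h) := by
    intro g h hg hh a b ha hb
    have e : mat (g * h) - 1 = (mat g - 1) + (mat h - 1) + (mat g - 1) * (mat h - 1) := by
      rw [hmatmul]; noncomm_ring
    rw [e, Matrix.add_apply, Matrix.add_apply, hg a b ha hb, hh a b ha hb,
      mul_entry hg (hrowj h) a b ha hb]
    simp
  have hPone : P 1 := by
    intro a b _ _
    rw [hmat1, sub_self]; rfl
  have hPpow : ∀ g : ↥C, P g → g * g * (g * g) = 1 := by
    intro g hg
    have h1 := pow4 hF hij (hcoli g) (hrowj g) hg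
    have e : 1 + (mat g - 1) = mat g := by noncomm_ring
    rw [e] at h1
    apply Subtype.ext
    apply Subtype.ext
    exact h1
  let Q : Subgroup ↥C :=
    { carrier := {g | P g}
      mul_mem' := fun {g h} hg hh => hPmul g h hg hh
      one_mem' := hPone
      inv_mem' := fun {g} hg => by
        have h1 := hPpow g hg
        have e : g⁻¹ = g * g * g := by
          rw [inv_eq_iff_mul_eq_one]
          rw [← h1]; group
        show P g⁻¹
        rw [e]
        exact hPmul _ _ (hPmul _ _ hg hg) hg }
  have hQp : IsPGroup 2 Q := by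
    intro x
    refine ⟨2, ?_⟩
    apply Subtype.ext
    have h1 := hPpow x.1 x.2
    show (x.1) ^ 2 ^ 2 = 1
    rw [← h1, show (2 : ℕ) ^ 2 = 2 + 2 from rfl, pow_add, pow_two]
  have hQn : Q.Normal := by
    constructor
    intro g hg h
    show P (h * g * h⁻¹)
    intro a b ha hb
    have hinv : mat h * mat h⁻¹ = 1 := by
      rw [← hmatmul, mul_inv_cancel]; rfl
    have e : mat (h * g * h⁻¹) - 1 = mat h * (mat g - 1) * mat h⁻¹ := by
      rw [hmatmul, hmatmul]
      have : mat h * (mat g - 1) * mat h⁻¹ = mat h * mat g * mat h⁻¹ - mat h * mat h⁻¹ := by noncomm_ring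
      rw [this, hinv]
    rw [e]
    exact conj_entry hg (hisC h).1 (hisC h⁻¹).2.2.1 a b ha hb
  have hQle : Q ≤ Cfsg.pCore 2 ↥C := FitCore.le_pCore 2 Q hQn hQp
  -- the centralizer
  have hchar : Subgroup.centralizer (Cfsg.pCore 2 ↥C : Set ↥C) ≤ Cfsg.pCore 2 ↥C := by
    intro c hc
    apply hQle
    show P c
    intro a b _ hb
    -- the transvection `1 + E_{b j}` lies in `Q`
    let Tb : Matrix.SpecialLinearGroup (Fin n) F := ⟨transvection b j 1, Matrix.det_transvection_of_ne b j hb 1⟩
    have hTbC : Tb ∈ C := by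
      refine Subgroup.mem_centralizer_iff.2 ?_
      intro h hh
      have hh' : h = t := hh
      rw [hh']
      apply Subtype.ext
      show (t : Matrix (Fin n) (Fin n) F) * transvection b j 1 = transvection b j 1 * (t : Matrix (Fin n) (Fin n) F)
      rw [ht]
      simp only [transvection, mul_add, add_mul, mul_one, one_mul]
      rw [Matrix.single_mul_single_of_ne (1 : F) i j b (Ne.symm hb) (1 : F),
        Matrix.single_mul_single_of_ne (1 : F) b j i hij.symm (1 : F)]
      abel
    let Tc : ↥C := ⟨Tb, hTbC⟩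
    have hTcQ : Tc ∈ Q := by
      intro a' b' _ hb'
      have : mat Tc = transvection b j 1 := rfl
      rw [this]
      simp only [transvection, add_sub_cancel_left]
      rw [Matrix.single_apply_of_ne]
      intro hh
      exact hb' hh.2.symm
    have h1 := Subgroup.mem_centralizer_iff.1 hc Tc (hQle hTcQ)
    have h2 : transvection b j 1 * mat c = mat c * transvection b j 1 := by
      have := congrArg (fun z : ↥C => mat z) h1
      exact this
    have h3 := comm_entry h2.symm a j
    obtain ⟨-, -, -, hjj⟩ := hisC c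
    simp only [if_true] at h3
    rw [Matrix.sub_apply, h3]
    by_cases hab : a = b
    · subst hab
      simp [hjj]
    · simp [hab]
  have hO := PComps2.pPrimeCore_eq_bot_of_char hchar
  have hL := PComps2.layer_eq_bot_of_char hchar
  rw [Cfsg.generalizedFittingSubgroup, hL, bot_sup_eq]
  have hFp : IsPGroup 2 (fittingSubgroup ↥C) :=
    SolvCore.isPGroup_of_nilpotent_normal hO _ FitCore.fitting_normal FitCore.fitting_isNilpotent
  exact le_antisymm (FitCore.le_pCore 2 _ FitCore.fitting_normal hFp) (FitCore.pCore_le_fitting 2)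

end Cfsg.Agent.S1339
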