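import Mathlib
import Cfsg.Prelude
import Cfsg.Agent.Lib.SLn
import Cfsg.Agent.Lib.SLNormal
import Cfsg.Agent.Lib.PComps3
import Cfsg.Statements.S1340
-- import your own Cfsg.Agent.* helpers here

set_option autoImplicit false
open Cfsg

namespace Cfsg.Agent.S1340


open Matrix Matrix.SpecialLinearGroup
open scoped MatrixGroups
open Cfsg.Agent.Lib.Layer Cfsg.Agent.Lib.Comps Cfsg.Agent.Lib.PComps Cfsg.Agent.Lib.PComps3

theorem transfer_hc {G H : Type*} [Group G] [Group H] (f : G ≃* H) (t : G)
    (hc : Cfsg.HasComponent (↥(Subgroup.centralizer ({t} : Set G)) ⧸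
      Cfsg.oddCore ↥(Subgroup.centralizer ({t} : Set G)))) :
    Cfsg.HasComponent (↥(Subgroup.centralizer ({f t} : Set H)) ⧸
      Cfsg.oddCore ↥(Subgroup.centralizer ({f t} : Set H))) := by
  classical
  set A := Subgroup.centralizer ({t} : Set G)
  set B := Subgroup.centralizer ({f t} : Set H)
  have h1 : ∀ x : A, f x ∈ B := by
    intro x
    rw [Subgroup.mem_centralizer_singleton_iff]
    have := (Subgroup.mem_centralizer_singleton_iff.mp x.2)
    rw [← map_mul, this, map_mul]
  have h2 : ∀ y : B, f.symm y ∈ A := by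
    intro y
    rw [Subgroup.mem_centralizer_singleton_iff]
    have := (Subgroup.mem_centralizer_singleton_iff.mp y.2)
    apply f.injective
    simp only [map_mul, MulEquiv.apply_symm_apply]
    exact this
  let e₁ : A ≃* B :=
    { toFun := fun x => ⟨f x, h1 x⟩
      invFun := fun y => ⟨f.symm y, h2 y⟩
      left_inv := fun x => by simp
      right_inv := fun y => by simp
      map_mul' := fun x y => by ext; simp }
  have hm : (Cfsg.oddCore A).map e₁.toMonoidHom = Cfsg.oddCore B := pPrimeCore_map_equiv e₁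
  let e₂ := QuotientGroup.congr (Cfsg.oddCore A) (Cfsg.oddCore B) e₁ hm
  obtain ⟨K, hK⟩ := hc
  exact ⟨K.map e₂.toMonoidHom, isComponent_map e₂ hK⟩

variable {F : Type*} [Field F]

abbrev Ix (m : ℕ) := Unit ⊕ Fin m

noncomputable def phi (m : ℕ) : SpecialLinearGroup (Fin m) F →* GL (Ix m) F where
  toFun B := ⟨fromBlocks 1 0 0 (B : Matrix (Fin m) (Fin m) F),
    fromBlocks 1 0 0 (B : Matrix (Fin m) (Fin m) F).adjugate,
    by
      simp [fromBlocks_multiply, Matrix.mul_adjugate, B.2],
    by
      simp [fromBlocks_multiply, Matrix.adjugate_mul, B.2]⟩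
  map_one' := by
    apply Units.ext
    simp
  map_mul' A B := by
    apply Units.ext
    simp [fromBlocks_multiply]

theorem phi_coe (m : ℕ) (B : SpecialLinearGroup (Fin m) F) :
    ((phi m B : GL (Ix m) F) : Matrix (Ix m) (Ix m) F) = fromBlocks 1 0 0 (B : Matrix (Fin m) (Fin m) F) := rfl

theorem phi_injective (m : ℕ) : Function.Injective (phi (F := F) m) := by
  intro A B h
  have h1 := congrArg (fun g : GL (Ix m) F => (g : Matrix (Ix m) (Ix m) F)) h
  simp only [phi_coe] at h1
  have := (Matrix.fromBlocks_inj.mp h1).2.2.2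
  exact Subtype.ext this

noncomputable def tt (m : ℕ) : GL (Ix m) F :=
  ⟨fromBlocks (-1) 0 0 1, fromBlocks (-1) 0 0 1, by simp [fromBlocks_multiply], by simp [fromBlocks_multiply]⟩

theorem tt_coe (m : ℕ) : ((tt m : GL (Ix m) F) : Matrix (Ix m) (Ix m) F) = fromBlocks (-1) 0 0 1 := rfl

theorem block_of_mem (h2 : (2 : F) ≠ 0) (m : ℕ) (g : GL (Ix m) F)
    (hg : g ∈ Subgroup.centralizer ({tt m} : Set (GL (Ix m) F))) :
    ∃ (A : Matrix Unit Unit F) (D : Matrix (Fin m) (Fin m) F),
      (g : Matrix (Ix m) (Ix m) F) = fromBlocks A 0 0 D := by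
  rw [Subgroup.mem_centralizer_singleton_iff] at hg
  have h1 := congrArg (fun g : GL (Ix m) F => (g : Matrix (Ix m) (Ix m) F)) hg
  simp only [Units.val_mul, tt_coe] at h1
  rw [← fromBlocks_toBlocks (g : Matrix (Ix m) (Ix m) F)] at h1 ⊢
  rw [fromBlocks_multiply, fromBlocks_multiply] at h1
  simp only [Matrix.mul_neg, Matrix.mul_one, Matrix.mul_zero, add_zero, Matrix.neg_mul, Matrix.one_mul, Matrix.zero_mul, zero_add] at h1
  have h3 := Matrix.fromBlocks_inj.mp h1
  have key : ∀ {a b : Type} (X : Matrix a b F), X = -X → X = 0 := by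
    intro a b X hX
    ext i j
    have := congrFun (congrFun hX i) j
    simp only [Matrix.neg_apply, Matrix.zero_apply] at this ⊢
    have h5 : (2 : F) * X i j = 0 := by linear_combination this
    exact (mul_eq_zero.mp h5).resolve_left h2
  have hB := key _ h3.2.1
  have hC := key _ h3.2.2.1.symm
  exact ⟨_, _, by rw [hB, hC]⟩

theorem phi_conj (h2 : (2 : F) ≠ 0) (m : ℕ) (g : GL (Ix m) F)
    (hg : g ∈ Subgroup.centralizer ({tt m} : Set (GL (Ix m) F)))
    (B : SpecialLinearGroup (Fin m) F) :
    ∃ B' : SpecialLinearGroup (Fin m) F, g * phi m B * g⁻¹ = phi m B' := by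
  obtain ⟨A, D, hgb⟩ := block_of_mem h2 m g hg
  obtain ⟨A', D', hgb'⟩ := block_of_mem h2 m g⁻¹ (Subgroup.inv_mem _ hg)
  have h1 : (g : Matrix (Ix m) (Ix m) F) * ((g⁻¹ : GL (Ix m) F) : Matrix (Ix m) (Ix m) F) = 1 := by
    rw [← Units.val_mul, mul_inv_cancel, Units.val_one]
  rw [hgb, hgb', fromBlocks_multiply, ← fromBlocks_one] at h1
  simp only [Matrix.mul_zero, add_zero, Matrix.zero_mul, zero_add] at h1
  have h3 := Matrix.fromBlocks_inj.mp h1
  have hdet : (D * (B : Matrix (Fin m) (Fin m) F) * D').det = 1 := by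
    rw [Matrix.det_mul, Matrix.det_mul, B.2, mul_one, ← Matrix.det_mul, h3.2.2.2, Matrix.det_one]
  refine ⟨⟨D * (B : Matrix (Fin m) (Fin m) F) * D', hdet⟩, ?_⟩
  apply Units.ext
  simp only [Units.val_mul, phi_coe, hgb, hgb', fromBlocks_multiply]
  simp only [Matrix.mul_zero, add_zero, Matrix.zero_mul, zero_add, Matrix.mul_one, h3.1]
  rfl

theorem exists_inv_SL (h2 : (2 : F) ≠ 0) (m : ℕ) (hm : 2 ≤ m) :
    ∃ u : SpecialLinearGroup (Fin m) F, orderOf u = 2 := by
  haveI : Fact (Nat.Prime 2) := ⟨Nat.prime_two⟩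
  have hij : (⟨0, by omega⟩ : Fin m) ≠ ⟨1, by omega⟩ := by simp [Fin.ext_iff]
  have hne : (-1 : F) ≠ 0 := by simp
  refine ⟨diag2n hij (-1) hne, orderOf_eq_prime ?_ ?_⟩
  · apply Subtype.ext
    rw [pow_two]
    simp only [coe_mul, diag2n_coe, Matrix.diagonal_mul_diagonal, coe_one, ← Matrix.diagonal_one]
    congr 1
    funext k
    split_ifs <;> simp
  · intro h
    have h1 := congrArg (fun g : SpecialLinearGroup (Fin m) F => (g : Matrix (Fin m) (Fin m) F) ⟨0, by omega⟩ ⟨0, by omega⟩) h
    simp [diag2n_coe] at h1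
    have h5 : (2 : F) = 0 := by linear_combination -h1
    exact h2 h5

theorem result_core [Finite F] (h2 : (2 : F) ≠ 0) (m : ℕ) (hm : 2 ≤ m)
    (hperf : commutator (SpecialLinearGroup (Fin m) F) = ⊤) :
    Cfsg.HasComponent (↥(Subgroup.centralizer ({tt m} : Set (GL (Ix m) F))) ⧸
      Cfsg.oddCore ↥(Subgroup.centralizer ({tt m} : Set (GL (Ix m) F)))) := by
  classical
  haveI : Nontrivial (Fin m) := Fin.nontrivial_iff_two_le.mpr hm
  have hq : Cfsg.IsQuasisimple (SpecialLinearGroup (Fin m) F) :=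
    ⟨⟨hperf⟩, Cfsg.Agent.Lib.SLn.isSimpleGroup_PSL_of_perfect hperf⟩
  set C := Subgroup.centralizer ({tt m} : Set (GL (Ix m) F)) with hC
  have hmem : ∀ B : SpecialLinearGroup (Fin m) F, phi m B ∈ C := by
    intro B
    rw [hC, Subgroup.mem_centralizer_singleton_iff]
    apply Units.ext
    simp only [Units.val_mul, phi_coe, tt_coe, fromBlocks_multiply]
    simp
  let phiC : SpecialLinearGroup (Fin m) F →* C := (phi m).codRestrict C hmem
  have hinj : Function.Injective phiC := by
    intro A B h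
    apply phi_injective m
    exact congrArg Subtype.val h
  have hnormal : phiC.range.Normal := by
    constructor
    rintro _ ⟨B, rfl⟩ g
    obtain ⟨B', hB'⟩ := phi_conj h2 m g.1 g.2 B
    exact ⟨B', Subtype.ext hB'.symm⟩
  let ψ : SpecialLinearGroup (Fin m) F →* (C ⧸ Cfsg.oddCore C) := (QuotientGroup.mk' (Cfsg.oddCore C)).comp phiC
  have hψ : ψ.range = phiC.range.map (QuotientGroup.mk' (Cfsg.oddCore C)) := by
    rw [MonoidHom.map_range]
  have hnormal2 : ψ.range.Normal := by
    rw [hψ]
    exact hnormal.map _ (QuotientGroup.mk'_surjective _)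
  have hker : ψ.ker ≤ Subgroup.center (SpecialLinearGroup (Fin m) F) := by
    rcases quasisimple_subnormal hq ((inferInstance : ψ.ker.Normal).isSubnormal) with h | h
    · exfalso
      obtain ⟨u, hu⟩ := exists_inv_SL h2 m hm
      have hu1 : u ∈ ψ.ker := by rw [h]; trivial
      have hu2 : phiC u ∈ Cfsg.oddCore C := by
        have : (QuotientGroup.mk' (Cfsg.oddCore C)) (phiC u) = 1 := hu1
        exact (QuotientGroup.eq_one_iff _).mp this
      have hord : orderOf (⟨phiC u, hu2⟩ : Cfsg.oddCore C) = 2 := by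
        rw [← Subgroup.orderOf_coe, orderOf_injective phiC hinj, hu]
      have hc := card_coprime_pPrimeCore (p := 2) (G := C)
      have hd : 2 ∣ Nat.card (Cfsg.oddCore C) := by
        rw [← hord]; exact orderOf_dvd_natCard _
      have := Nat.Coprime.eq_one_of_dvd hc.symm hd
      omega
    · exact h
  refine ⟨ψ.range, hnormal2.isSubnormal, ?_⟩
  refine isQuasisimple_of_surjective hq ψ.rangeRestrict ψ.rangeRestrict_surjective ?_
  rw [MonoidHom.ker_rangeRestrict]
  exact hker


/-- Let F be a finite field of odd order and n ≥ 3 with (n, |F|) ≠ (3, 3). Then GL(n, F) has a non-central involution t such that C(t) / O(C(t)) has a component. -/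
theorem result {F : Type*} [Field F] [Fintype F] [DecidableEq F] (hF : Odd (Fintype.card F)) (n : ℕ) (hn : 3 ≤ n) (h33 : ¬ (n = 3 ∧ Fintype.card F = 3)) : ∃ t : Matrix.GeneralLinearGroup (Fin n) F, orderOf t = 2 ∧ t ∉ Subgroup.center (Matrix.GeneralLinearGroup (Fin n) F) ∧ Cfsg.HasComponent (↥(Subgroup.centralizer ({t} : Set (Matrix.GeneralLinearGroup (Fin n) F))) ⧸ Cfsg.oddCore ↥(Subgroup.centralizer ({t} : Set (Matrix.GeneralLinearGroup (Fin n) F)))) := by
  classical
  have h2 : (2 : F) ≠ 0 := Ring.two_ne_zero (fun hc => by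
    have h := FiniteField.even_card_iff_char_two.mp hc
    have h' := Nat.odd_iff.mp hF
    omega)
  obtain ⟨m, rfl⟩ : ∃ m, n = m + 1 := ⟨n - 1, by omega⟩
  have hm : 2 ≤ m := by omega
  have hperf : commutator (SpecialLinearGroup (Fin m) F) = ⊤ := by
    by_cases hm3 : 3 ≤ m
    · exact Cfsg.Agent.Lib.SLn.commutator_eq_top_of_three (by simpa using hm3)
    · obtain rfl : m = 2 := by omega
      apply Cfsg.Agent.Lib.SLNormal.perfect_SL2
      have hcard : 5 ≤ Fintype.card F := by
        have h3 : Fintype.card F ≠ 3 := fun h => h33 ⟨rfl, h⟩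
        have h1 : 1 < Fintype.card F := Fintype.one_lt_card
        have h4 : Fintype.card F ≠ 4 := by
          intro h; rw [h] at hF; exact absurd hF (by decide)
        have h22 : Fintype.card F ≠ 2 := by
          intro h; rw [h] at hF; exact absurd hF (by decide)
        omega
      -- find a with a ≠ 0, a² ≠ 1
      by_contra hno
      push Not at hno
      have hsub : (Finset.univ : Finset F) ⊆ {0, 1, -1} := by
        intro a _
        by_cases ha : a = 0
        · simp [ha]
        · have h1 := hno a ha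
          have h5 : (a - 1) * (a + 1) = 0 := by linear_combination h1
          rcases mul_eq_zero.mp h5 with h6 | h6
          · have : a = 1 := by linear_combination h6
            simp [this]
          · have : a = -1 := by linear_combination h6
            simp [this]
      have := Finset.card_le_card hsub
      rw [Finset.card_univ] at this
      have h3 : ({0, 1, -1} : Finset F).card ≤ 3 := Finset.card_le_three
      omega
  let e : Ix m ≃ Fin (m + 1) := Fintype.equivFinOfCardEq (by simp; omega)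
  let f : GL (Ix m) F ≃* GL (Fin (m + 1)) F := Units.mapEquiv (reindexAlgEquiv F F e).toMulEquiv
  haveI : Fact (Nat.Prime 2) := ⟨Nat.prime_two⟩
  have hneg : (-1 : F) ≠ 1 := by
    intro h
    apply h2
    linear_combination -h
  have ht1 : (tt m : GL (Ix m) F) ≠ 1 := by
    intro h
    have h1 := congrArg (fun g : GL (Ix m) F => (g : Matrix (Ix m) (Ix m) F) (Sum.inl ()) (Sum.inl ())) h
    simp [tt_coe] at h1
    exact hneg h1
  have ht2 : (tt m : GL (Ix m) F) ^ 2 = 1 := by
    apply Units.ext
    rw [pow_two, Units.val_mul, tt_coe]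
    simp [fromBlocks_multiply]
  refine ⟨f (tt m), ?_, ?_, transfer_hc f (tt m) (result_core h2 m hm hperf)⟩
  · rw [MulEquiv.orderOf_eq]
    exact orderOf_eq_prime ht2 ht1
  · intro hc
    have hc' : (tt m : GL (Ix m) F) ∈ Subgroup.center (GL (Ix m) F) := by
      rw [Subgroup.mem_center_iff] at hc ⊢
      intro g
      apply f.injective
      simp only [map_mul]
      exact hc _
    rw [Subgroup.mem_center_iff] at hc'
    let X : Matrix Unit (Fin m) F := Matrix.of fun _ _ => 1
    let g : GL (Ix m) F := ⟨fromBlocks 1 X 0 1, fromBlocks 1 (-X) 0 1, by simp [fromBlocks_multiply], by simp [fromBlocks_multiply]⟩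
    have h1 := congrArg (fun g : GL (Ix m) F => (g : Matrix (Ix m) (Ix m) F)) (hc' g)
    simp only [Units.val_mul, tt_coe, g, fromBlocks_multiply] at h1
    simp only [Matrix.mul_one, Matrix.mul_neg, Matrix.mul_zero, add_zero, zero_add, Matrix.zero_mul, Matrix.one_mul, Matrix.neg_mul] at h1
    have h3 := (Matrix.fromBlocks_inj.mp h1).2.1
    have h4 := congrFun (congrFun h3 ()) ⟨0, by omega⟩
    simp [X] at h4
    exact hneg (by rw [← h4])

end Cfsg.Agent.S1340
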