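import Cfsg.Statements.S1921
import Mathlib
import Cfsg.Agent.Lib.Comps
import Cfsg.Agent.Lib.Layer

set_option autoImplicit false
open Cfsg

namespace Cfsg.Agent.S1921

open Cfsg.Agent.Lib Cfsg
open scoped commutatorElement Pointwise

/-- Let a be an involution of a finite group H and L a component of H with a L a⁻¹ ≠ L; put M = ⟨L, aLa⁻¹⟩ and let J be the subgroup generated by the elements x · a x a⁻¹ with x ∈ L (the diagonal). Then every element of M outside J·Z(M) generates M together with J. -/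
theorem result {H : Type*} [Group H] [Finite H] (a : H) (ha : orderOf a = 2) (L : Subgroup H) (hL : Cfsg.IsComponent L)
    (hLa : L.map (MulAut.conj a).toMonoidHom ≠ L) (x : H) (hxM : x ∈ L ⊔ L.map (MulAut.conj a).toMonoidHom)
    (hxJ : x ∉ Subgroup.closure {y : H | ∃ l ∈ L, y = l * (a * l * a⁻¹)} ⊔
      ((L ⊔ L.map (MulAut.conj a).toMonoidHom) ⊓ Subgroup.centralizer ((L ⊔ L.map (MulAut.conj a).toMonoidHom : Subgroup H) : Set H))) :
    Subgroup.closure {y : H | ∃ l ∈ L, y = l * (a * l * a⁻¹)} ⊔ Subgroup.zpowers x = L ⊔ L.map (MulAut.conj a).toMonoidHom := by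
  classical
  set La := L.map (MulAut.conj a).toMonoidHom with hLa'
  have ha2 : a * a = 1 := by
    have := pow_orderOf_eq_one a
    rw [ha, pow_two] at this
    exact this
  have haInv : a⁻¹ = a := by
    rw [inv_eq_iff_mul_eq_one]; exact ha2
  have hmemLa : ∀ l ∈ L, a * l * a⁻¹ ∈ La := fun l hl => ⟨l, hl, rfl⟩
  have hLaComp : Cfsg.IsComponent La := Layer.isComponent_map (MulAut.conj a) hL
  have hcomm : ⁅L, La⁆ = ⊥ := by
    rcases Comps.comp_comm_comp hL hLaComp with h | h
    · exact absurd h.symm hLa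
    · exact h
  have hc : ∀ u ∈ L, ∀ v ∈ La, u * v = v * u := by
    intro u hu v hv
    have h1 : ⁅u, v⁆ ∈ ⁅L, La⁆ := Subgroup.commutator_mem_commutator hu hv
    rw [hcomm, Subgroup.mem_bot, commutatorElement_eq_one_iff_mul_comm] at h1
    exact h1
  set J := Subgroup.closure {y : H | ∃ l ∈ L, y = l * (a * l * a⁻¹)} with hJ
  set M := L ⊔ La with hM
  have hJM : J ≤ M := by
    refine (Subgroup.closure_le _).2 ?_
    rintro _ ⟨l, hl, rfl⟩
    exact M.mul_mem (Subgroup.mem_sup_left hl) (Subgroup.mem_sup_right (hmemLa l hl))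
  set W := J ⊔ Subgroup.zpowers x with hW
  have hWM : W ≤ M := sup_le hJM ((Subgroup.zpowers_le).2 hxM)
  -- decompose x
  have hLN : L ≤ Subgroup.normalizer (La : Set H) := by
    intro u hu
    rw [Subgroup.mem_normalizer_iff]
    intro v
    constructor
    · intro hv
      have : u * v * u⁻¹ = v := by rw [hc u hu v hv]; group
      rw [this]; exact hv
    · intro hv
      have h1 := hc u hu _ hv
      have h2 : v = u * v * u⁻¹ := by
        have h3 : u * (u * v * u⁻¹) * u⁻¹ = u * v * u⁻¹ := by rw [h1]; group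
        exact (mul_left_cancel (mul_right_cancel h3)).symm
      rw [h2]; exact hv
  have hsupSet : ((L ⊔ La : Subgroup H) : Set H) = (L : Set H) * (La : Set H) :=
    Subgroup.coe_mul_of_left_le_normalizer_right L La hLN
  have hxSet : x ∈ ((L ⊔ La : Subgroup H) : Set H) := hxM
  rw [hsupSet] at hxSet
  obtain ⟨u, hu, v, hv, hxuv⟩ := hxSet
  obtain ⟨l', hl', hvl⟩ := hv
  have hvl' : a * l' * a⁻¹ = v := hvl
  set j' := l' * (a * l' * a⁻¹) with hj'
  have hj'J : j' ∈ J := Subgroup.subset_closure ⟨l', hl', rfl⟩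
  have hj'W : j' ∈ W := Subgroup.mem_sup_left hj'J
  have hxW : x ∈ W := Subgroup.mem_sup_right (Subgroup.mem_zpowers x)
  set t := u * l'⁻¹ with ht
  have htL : t ∈ L := L.mul_mem hu (L.inv_mem hl')
  have hxt : x = t * j' := by
    rw [ht, hj', hvl', ← hxuv]
    group
  have htW : t ∈ W := by
    have : t = x * j'⁻¹ := by rw [hxt]; group
    rw [this]
    exact W.mul_mem hxW (W.inv_mem hj'W)
  -- `t` is not central in `L`
  have htnc : ∃ l ∈ L, l * t ≠ t * l := by
    by_contra hcon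
    push Not at hcon
    apply hxJ
    have htC : t ∈ M ⊓ Subgroup.centralizer (M : Set H) := by
      refine ⟨Subgroup.mem_sup_left htL, Subgroup.mem_centralizer_iff.2 ?_⟩
      intro h hh
      have hh' : h ∈ ((L ⊔ La : Subgroup H) : Set H) := hh
      rw [hsupSet] at hh'
      obtain ⟨u', hu', v', hv', rfl⟩ := hh'
      rw [mul_assoc, ← hc t htL v' hv', ← mul_assoc, hcon u' hu', mul_assoc]
    rw [hxt]
    exact Subgroup.mul_mem _ (Subgroup.mem_sup_right htC) (Subgroup.mem_sup_left hj'J)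
  obtain ⟨l₀, hl₀, hne⟩ := htnc
  have hjg : ∀ g ∈ L, g * (a * g * a⁻¹) ∈ W := fun g hg =>
    Subgroup.mem_sup_left (Subgroup.subset_closure ⟨g, hg, rfl⟩)
  have hUn : (W.subgroupOf L).Normal := by
    constructor
    intro n hn g
    rw [Subgroup.mem_subgroupOf] at hn ⊢
    have h1 : (g * (a * g * a⁻¹)) * (n : H) * (g * (a * g * a⁻¹))⁻¹ ∈ W :=
      W.mul_mem (W.mul_mem (hjg g g.2) hn) (W.inv_mem (hjg g g.2))
    have h2 := hc n n.2 _ (hmemLa g g.2)
    have e : ((g * n * g⁻¹ : L) : H) = (g * (a * g * a⁻¹)) * (n : H) * (g * (a * g * a⁻¹))⁻¹ := by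
      have e2 : (g * (a * g * a⁻¹)) * (n : H) * (g * (a * g * a⁻¹))⁻¹
          = g * ((a * g * a⁻¹) * (n : H)) * (a * g * a⁻¹)⁻¹ * (g : H)⁻¹ := by group
      rw [e2, ← h2]
      simp
      group
    rw [e]; exact h1
  have hLW : L ≤ W := by
    rcases Comps.quasisimple_subnormal hL.2 hUn.isSubnormal with h | h
    · intro z hz
      have : (⟨z, hz⟩ : L) ∈ W.subgroupOf L := by rw [h]; trivial
      exact this
    · exfalso
      have h1 : (⟨t, htL⟩ : L) ∈ W.subgroupOf L := htW
      have h2 := h h1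
      rw [Subgroup.mem_center_iff] at h2
      have h3 := h2 ⟨l₀, hl₀⟩
      exact hne (congrArg Subtype.val h3)
  have hLaW : La ≤ W := by
    rintro _ ⟨l, hl, rfl⟩
    have e : (MulAut.conj a).toMonoidHom l = l⁻¹ * (l * (a * l * a⁻¹)) := by
      show a * l * a⁻¹ = _
      group
    rw [e]
    exact W.mul_mem (W.inv_mem (hLW hl)) (hjg l hl)
  exact le_antisymm hWM (sup_le hLW hLaW)

end Cfsg.Agent.S1921
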