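import Cfsg.Statements.S2477
import Cfsg.Agent.Lib.AltOrders

set_option autoImplicit false
open Cfsg

namespace Cfsg.Agent.S2477

/-- The set of element orders of the alternating group of degree 10 is {1, 2, 3, 4, 5, 6, 7, 8, 9, 10, 12, 15, 21}. -/
theorem result : Set.range (orderOf : alternatingGroup (Fin 10) → ℕ) = {1, 2, 3, 4, 5, 6, 7, 8, 9, 10, 12, 15, 21} := by
  classical
  open Cfsg.Agent.Lib.AltOrders in
  apply Set.Subset.antisymm
  · rintro _ ⟨σ, rfl⟩
    obtain ⟨hsum, h2, hpar, hl⟩ := Cfsg.Agent.Lib.AltOrders.facts σ
    have hchk : Cfsg.Agent.Lib.AltOrders.chk (fun x => decide (x ∈ [1, 2, 3, 4, 5, 6, 7, 8, 9, 10, 12, 15, 21])) 10 10 1 0 = true := by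
      decide +kernel
    have hcard : Multiset.card (σ : Equiv.Perm (Fin 10)).cycleType ≤ 10 := by
      have h3 : 2 * Multiset.card (σ : Equiv.Perm (Fin 10)).cycleType ≤ (σ : Equiv.Perm (Fin 10)).cycleType.sum := by
        have := Multiset.card_nsmul_le_sum h2
        simpa [mul_comm] using this
      omega
    have h := Cfsg.Agent.Lib.AltOrders.chk_spec _ _ h2 10 10 1 0 hsum hcard hchk (by simpa using hpar)
    rw [Nat.lcm_one_left, hl] at h
    simp only [decide_eq_true_eq, List.mem_cons, List.not_mem_nil, or_false] at h
    simp only [Set.mem_insert_iff, Set.mem_singleton_iff]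
    exact h
  · intro x hx
    simp only [Set.mem_insert_iff, Set.mem_singleton_iff] at hx
    have key : ∀ m : Multiset ℕ, m.sum ≤ 10 → (∀ a ∈ m, 2 ≤ a) → Even (m.sum + Multiset.card m) → m.lcm = x →
        x ∈ Set.range (orderOf : alternatingGroup (Fin 10) → ℕ) := by
      intro m h1 h2 h3 h4
      obtain ⟨σ, hσ⟩ := Cfsg.Agent.Lib.AltOrders.exists_alt_of_multiset (n := 10) m h1 h2 h3
      exact ⟨σ, hσ.trans h4⟩
    rcases hx with rfl | rfl | rfl | rfl | rfl | rfl | rfl | rfl | rfl | rfl | rfl | rfl | rfl
    · exact key 0 (by simp) (by simp) (by simp) (by simp)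
    · exact key {2, 2} (by decide) (by decide) (by decide) (by decide)
    · exact key {3} (by decide) (by decide) (by decide) (by decide)
    · exact key {4, 2} (by decide) (by decide) (by decide) (by decide)
    · exact key {5} (by decide) (by decide) (by decide) (by decide)
    · exact key {6, 2} (by decide) (by decide) (by decide) (by decide)
    · exact key {7} (by decide) (by decide) (by decide) (by decide)
    · exact key {8, 2} (by decide) (by decide) (by decide) (by decide)
    · exact key {9} (by decide) (by decide) (by decide) (by decide)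
    · exact key {5, 2, 2} (by decide) (by decide) (by decide) (by decide)
    · exact key {4, 3, 2} (by decide) (by decide) (by decide) (by decide)
    · exact key {5, 3} (by decide) (by decide) (by decide) (by decide)
    · exact key {7, 3} (by decide) (by decide) (by decide) (by decide)

end Cfsg.Agent.S2477
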