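import Cfsg.Statements.S2530
import Mathlib

set_option autoImplicit false
open Cfsg

namespace Cfsg.Agent.S2530


open Equiv

section
variable {n : ℕ}

/-- simple reflections extended by `1` past the end -/
noncomputable def r (n : ℕ) (i : ℕ) : (CoxeterMatrix.A n).Group :=
  if h : i < n then (CoxeterMatrix.A n).toCoxeterSystem.simple ⟨i, h⟩ else 1

lemma r_sq (i : ℕ) : r n i * r n i = 1 := by
  unfold r
  split_ifs with h
  · exact (CoxeterMatrix.A n).toCoxeterSystem.simple_mul_simple_self _
  · simp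

lemma r_inv (i : ℕ) : (r n i)⁻¹ = r n i := inv_eq_of_mul_eq_one_left (r_sq i)

lemma r_comm {i j : ℕ} (h : i + 2 ≤ j ∨ j + 2 ≤ i) : r n i * r n j = r n j * r n i := by
  by_cases h1 : i < n
  · by_cases h2 : j < n
    · have hp := (CoxeterMatrix.A n).toCoxeterSystem.simple_mul_simple_pow ⟨i, h1⟩ ⟨j, h2⟩
      have hM : (CoxeterMatrix.A n) ⟨i, h1⟩ ⟨j, h2⟩ = 2 := by
        show (if (⟨i, h1⟩ : Fin n) = ⟨j, h2⟩ then 1 else
          (if j + 1 = i ∨ i + 1 = j then 3 else 2)) = 2
        rw [if_neg (by simp only [Fin.mk.injEq]; omega), if_neg (by omega)]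
      rw [hM, pow_two] at hp
      have ha : r n i = (CoxeterMatrix.A n).toCoxeterSystem.simple ⟨i, h1⟩ := by simp [r, h1]
      have hb : r n j = (CoxeterMatrix.A n).toCoxeterSystem.simple ⟨j, h2⟩ := by simp [r, h2]
      rw [← ha, ← hb] at hp
      have : r n i * r n j = (r n i * r n j)⁻¹ := eq_inv_of_mul_eq_one_left hp
      rw [this, mul_inv_rev, r_inv, r_inv]
    · have hb : r n j = 1 := by simp [r, h2]
      simp [hb]
  · have ha : r n i = 1 := by simp [r, h1]
    simp [ha]

lemma r_braid {i : ℕ} (hi : i + 1 < n) :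
    r n i * r n (i + 1) * r n i = r n (i + 1) * r n i * r n (i + 1) := by
  have h2 : i < n := by omega
  have hp := (CoxeterMatrix.A n).toCoxeterSystem.simple_mul_simple_pow ⟨i, h2⟩ ⟨i + 1, hi⟩
  have hM : (CoxeterMatrix.A n) ⟨i, h2⟩ ⟨i + 1, hi⟩ = 3 := by
    show (if (⟨i, h2⟩ : Fin n) = ⟨i + 1, hi⟩ then 1 else
      (if i + 1 + 1 = i ∨ i + 1 = i + 1 then 3 else 2)) = 3
    rw [if_neg (by simp), if_pos (by omega)]
  rw [hM] at hp
  have ha : r n i = (CoxeterMatrix.A n).toCoxeterSystem.simple ⟨i, h2⟩ := by simp [r, h2]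
  have hb : r n (i + 1) = (CoxeterMatrix.A n).toCoxeterSystem.simple ⟨i + 1, hi⟩ := by simp [r, hi]
  rw [← ha, ← hb] at hp
  set a := r n i
  set b := r n (i + 1)
  have hai : a⁻¹ = a := r_inv _
  have hbi : b⁻¹ = b := r_inv _
  have h5 : a * b * a * (b * a * b) = 1 := by
    rw [← hp]; simp only [pow_succ, pow_zero, one_mul, mul_assoc]
  have h6 : a * b * a = (b * a * b)⁻¹ := eq_inv_of_mul_eq_one_left h5
  rw [h6]; simp [mul_assoc, hai, hbi]

/-- `d k t = r_k r_{k-1} ⋯ r_{k-t+1}` -/
noncomputable def d (n k : ℕ) : ℕ → (CoxeterMatrix.A n).Group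
  | 0 => 1
  | t + 1 => d n k t * r n (k - t)

/-- commuting case -/
lemma d_comm {k i : ℕ} : ∀ t, i + t < k → d n k t * r n i = r n i * d n k t := by
  intro t
  induction t with
  | zero => intro _; simp [d]
  | succ t ih =>
    intro h
    show d n k t * r n (k - t) * r n i = r n i * (d n k t * r n (k - t))
    rw [mul_assoc, r_comm (by omega : (k - t) + 2 ≤ i ∨ i + 2 ≤ (k - t)), ← mul_assoc, ih (by omega), mul_assoc]

/-- braid case -/
lemma d_shift {k i : ℕ} (hk : k < n) (hi1 : 1 ≤ i) (hik : i ≤ k) :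
    ∀ t, k - i + 2 ≤ t → t ≤ k + 1 → d n k t * r n i = r n (i - 1) * d n k t := by
  intro t
  induction t with
  | zero => intro h; omega
  | succ t ih =>
    intro h htk
    by_cases ht : t = k - i + 1
    · subst ht
      obtain ⟨j, rfl⟩ : ∃ j, i = j + 1 := ⟨i - 1, by omega⟩
      have e1 : k - (k - (j + 1) + 1) = j := by omega
      have e2 : k - (k - (j + 1)) = j + 1 := by omega
      have hA : d n k (k - (j + 1) + 1 + 1) = d n k (k - (j + 1)) * r n (j + 1) * r n j := by
        show d n k (k - (j + 1)) * r n (k - (k - (j + 1))) * r n (k - (k - (j + 1) + 1)) = _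
        rw [e1, e2]
      have hc := d_comm (n := n) (k := k) (i := j) (k - (j + 1)) (by omega)
      simp only [Nat.add_sub_cancel]
      rw [hA]
      calc d n k (k - (j + 1)) * r n (j + 1) * r n j * r n (j + 1)
          = d n k (k - (j + 1)) * (r n (j + 1) * r n j * r n (j + 1)) := by simp only [mul_assoc]
        _ = d n k (k - (j + 1)) * (r n j * r n (j + 1) * r n j) := by rw [r_braid (by omega)]
        _ = (d n k (k - (j + 1)) * r n j) * (r n (j + 1) * r n j) := by simp only [mul_assoc]
        _ = r n j * (d n k (k - (j + 1)) * r n (j + 1) * r n j) := by rw [hc]; simp only [mul_assoc]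
    · have ih' := ih (by omega) (by omega)
      show d n k t * r n (k - t) * r n i = r n (i - 1) * (d n k t * r n (k - t))
      rw [mul_assoc, r_comm (by omega : (k - t) + 2 ≤ i ∨ i + 2 ≤ (k - t)), ← mul_assoc, ih', mul_assoc]

/-- parabolic chain -/
noncomputable def U (n k : ℕ) : Subgroup (CoxeterMatrix.A n).Group :=
  Subgroup.closure {x | ∃ i, i < k ∧ x = r n i}

lemma r_mem {k i : ℕ} (h : i < k) : r n i ∈ U n k := Subgroup.subset_closure ⟨i, h, rfl⟩

/-- the union of cosets is stable under right multiplication by `r_i`, `i ≤ k` -/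
lemma stable {k i t : ℕ} (hk : k < n) (hi : i ≤ k) (ht : t ≤ k + 1) :
    ∃ t', t' ≤ k + 1 ∧ ∃ u ∈ U n k, d n k t * r n i = u * d n k t' := by
  by_cases h1 : i + t < k
  · exact ⟨t, ht, r n i, r_mem (by omega), d_comm t h1⟩
  by_cases h2 : i + t = k
  · refine ⟨t + 1, by omega, 1, one_mem _, ?_⟩
    rw [one_mul]
    show _ = d n k t * r n (k - t)
    congr 2; omega
  by_cases h3 : i + t = k + 1
  · obtain ⟨s, rfl⟩ : ∃ s, t = s + 1 := ⟨t - 1, by omega⟩
    refine ⟨s, by omega, 1, one_mem _, ?_⟩
    rw [one_mul]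
    show d n k s * r n (k - s) * r n i = _
    have : k - s = i := by omega
    rw [this, mul_assoc, r_sq, mul_one]
  · refine ⟨t, ht, r n (i - 1), r_mem (by omega), d_shift hk (by omega) hi t (by omega) ht⟩

lemma U_succ_subset {k : ℕ} (hk : k < n) (x) (hx : x ∈ U n (k + 1)) :
    ∃ u ∈ U n k, ∃ t, t ≤ k + 1 ∧ x = u * d n k t := by
  have key : ∀ x, (∃ u ∈ U n k, ∃ t, t ≤ k + 1 ∧ x = u * d n k t) → ∀ i, i < k + 1 →
      ∃ u ∈ U n k, ∃ t, t ≤ k + 1 ∧ x * r n i = u * d n k t := by
    rintro x ⟨u, hu, t, ht, rfl⟩ i hi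
    obtain ⟨t', ht', u', hu', e⟩ := stable (n := n) (k := k) (i := i) (t := t) hk (by omega) ht
    exact ⟨u * u', mul_mem hu hu', t', ht', by rw [mul_assoc, e, mul_assoc]⟩
  unfold U at hx
  induction hx using Subgroup.closure_induction_right with
  | one => exact ⟨1, one_mem _, 0, by omega, by simp [d]⟩
  | mul_right x y _ hy ih =>
    obtain ⟨i, hi, rfl⟩ := hy
    exact key x ih i hi
  | mul_inv_cancel x y _ hy ih =>
    obtain ⟨i, hi, rfl⟩ := hy
    rw [r_inv]
    exact key x ih i hi

lemma U_bound : ∀ k, k ≤ n → ((U n k : Set (CoxeterMatrix.A n).Group)).Finite ∧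
    ((U n k : Set (CoxeterMatrix.A n).Group)).ncard ≤ (k + 1).factorial := by
  intro k
  induction k with
  | zero =>
    intro _
    have : U n 0 = ⊥ := by
      unfold U
      rw [Subgroup.closure_eq_bot_iff]
      rintro x ⟨i, hi, -⟩
      omega
    rw [this]
    simp
  | succ k ih =>
    intro hk
    obtain ⟨h1, h2⟩ := ih (by omega)
    have hsub : (U n (k + 1) : Set (CoxeterMatrix.A n).Group) ⊆
        (fun p : (CoxeterMatrix.A n).Group × ℕ => p.1 * d n k p.2) ''
          ((U n k : Set (CoxeterMatrix.A n).Group) ×ˢ (Set.Iic (k + 1))) := by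
      intro x hx
      obtain ⟨u, hu, t, ht, rfl⟩ := U_succ_subset (by omega) x hx
      exact ⟨(u, t), ⟨hu, ht⟩, rfl⟩
    have hfin : ((U n k : Set (CoxeterMatrix.A n).Group) ×ˢ (Set.Iic (k + 1))).Finite :=
      h1.prod (Set.finite_Iic _)
    refine ⟨(hfin.image _).subset hsub, ?_⟩
    calc ((U n (k + 1) : Set (CoxeterMatrix.A n).Group)).ncard
        ≤ ((fun p : (CoxeterMatrix.A n).Group × ℕ => p.1 * d n k p.2) ''
          ((U n k : Set (CoxeterMatrix.A n).Group) ×ˢ (Set.Iic (k + 1)))).ncard :=
          Set.ncard_le_ncard hsub (hfin.image _)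
      _ ≤ ((U n k : Set (CoxeterMatrix.A n).Group) ×ˢ (Set.Iic (k + 1))).ncard :=
          Set.ncard_image_le hfin
      _ = ((U n k : Set (CoxeterMatrix.A n).Group)).ncard * (Set.Iic (k + 1)).ncard :=
          Set.ncard_prod
      _ ≤ (k + 1).factorial * (k + 2) := by
          apply Nat.mul_le_mul h2
          rw [Set.ncard_eq_toFinset_card']
          simp
      _ = (k + 1 + 1).factorial := by
          rw [Nat.factorial_succ (k + 1)]; ring

lemma U_top : U n n = ⊤ := by
  rw [eq_top_iff, ← (CoxeterMatrix.A n).toCoxeterSystem.subgroup_closure_range_simple]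
  rw [Subgroup.closure_le]
  rintro _ ⟨i, rfl⟩
  have : (CoxeterMatrix.A n).toCoxeterSystem.simple i = r n i := by simp [r]
  rw [this]
  exact r_mem i.2

lemma liftable : (CoxeterMatrix.A n).IsLiftable
    (fun i : Fin n => (swap i.castSucc i.succ : Perm (Fin (n + 1)))) := by
  intro i j
  by_cases hij : i = j
  · subst hij
    have : (CoxeterMatrix.A n) i i = 1 := (CoxeterMatrix.A n).diagonal i
    simp [this]
  by_cases h3 : (j : ℕ) + 1 = i ∨ (i : ℕ) + 1 = j
  · have hM : (CoxeterMatrix.A n) i j = 3 := by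
      show (if i = j then 1 else (if (j : ℕ) + 1 = i ∨ (i : ℕ) + 1 = j then 3 else 2)) = 3
      rw [if_neg hij, if_pos h3]
    rw [hM]
    have key : ∀ a b c : Fin (n + 1), a ≠ b → b ≠ c → a ≠ c →
        ((swap b a * swap b c : Perm (Fin (n + 1))) ^ 3 = 1) := by
      intro a b c hab hbc hac
      have := Equiv.Perm.isThreeCycle_swap_mul_swap_same hab.symm hbc hac
      have h := pow_orderOf_eq_one (swap b a * swap b c : Perm (Fin (n + 1)))
      rwa [this.orderOf] at h
    show ((swap i.castSucc i.succ * swap j.castSucc j.succ : Perm (Fin (n + 1)))) ^ 3 = 1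
    rcases h3 with h3 | h3
    · have e : i.castSucc = j.succ := by
        apply Fin.ext; simp; omega
      rw [e, swap_comm j.castSucc j.succ]
      apply key i.succ j.succ j.castSucc <;>
        (simp [Fin.ext_iff]; try omega)
    · have e : i.succ = j.castSucc := by
        apply Fin.ext; simp; omega
      rw [e, swap_comm i.castSucc j.castSucc]
      apply key i.castSucc j.castSucc j.succ <;>
        (simp [Fin.ext_iff]; try omega)
  · have hM : (CoxeterMatrix.A n) i j = 2 := by
      show (if i = j then 1 else (if (j : ℕ) + 1 = i ∨ (i : ℕ) + 1 = j then 3 else 2)) = 2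
      rw [if_neg hij, if_neg h3]
    rw [hM]
    have hdis : Equiv.Perm.Disjoint (swap i.castSucc i.succ : Perm (Fin (n + 1)))
        (swap j.castSucc j.succ) := by
      apply Equiv.Perm.disjoint_swap_swap
      have : (i : ℕ) ≠ j := fun h => hij (Fin.ext h)
      simp [Fin.ext_iff]
      omega
    show ((swap i.castSucc i.succ * swap j.castSucc j.succ : Perm (Fin (n + 1)))) ^ 2 = 1
    rw [hdis.commute.mul_pow]
    simp [pow_two]

end


/-- The Coxeter presentation of the symmetric group: for every n, the symmetric group on n+1 letters is the Coxeter group of type A_n with the adjacent transpositions (i, i+1) as simple reflections; that is, it is presented by generators r_1, …, r_n subject to r_i² = 1, (r_i r_j)² = 1 for |i − j| > 1 and (r_i r_{i+1})³ = 1, with r_i mapping to (i, i+1). -/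
theorem result (n : ℕ) :
    ∃ cs : CoxeterSystem (CoxeterMatrix.A n) (Equiv.Perm (Fin (n + 1))), ∀ i : Fin n, cs.simple i = Equiv.swap i.castSucc i.succ := by
  classical
  let cs := (CoxeterMatrix.A n).toCoxeterSystem
  let f : (CoxeterMatrix.A n).Group →* Perm (Fin (n + 1)) := cs.lift ⟨_, liftable⟩
  have hf : ∀ i : Fin n, f (cs.simple i) = swap i.castSucc i.succ := fun i =>
    cs.lift_apply_simple liftable i
  have hsurj : Function.Surjective f := by
    rw [← MonoidHom.range_eq_top, eq_top_iff]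
    have h := Equiv.Perm.mclosure_swap_castSucc_succ n
    intro x _
    have hx : x ∈ Submonoid.closure (Set.range fun i : Fin n ↦ (swap i.castSucc i.succ : Perm (Fin (n + 1)))) := by
      rw [h]; trivial
    induction hx using Submonoid.closure_induction with
    | mem y hy =>
      obtain ⟨i, rfl⟩ := hy
      exact ⟨cs.simple i, hf i⟩
    | one => exact one_mem _
    | mul a b _ _ ha hb => exact mul_mem (ha trivial) (hb trivial)
  obtain ⟨h1, h2⟩ := U_bound (n := n) n le_rfl
  rw [U_top] at h1 h2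
  have hfin : Finite (CoxeterMatrix.A n).Group := by
    exact Set.finite_univ_iff.mp (by simpa using h1)
  have hcard : Nat.card (CoxeterMatrix.A n).Group ≤ (n + 1).factorial := by
    simpa [Set.ncard_univ] using h2
  have hbij : Function.Bijective f := by
    refine ⟨?_, hsurj⟩
    have hc : Nat.card (Perm (Fin (n + 1))) = (n + 1).factorial := by
      rw [Nat.card_eq_fintype_card, Fintype.card_perm, Fintype.card_fin]
    exact (Function.Surjective.bijective_of_nat_card_le hsurj (by rw [hc]; exact hcard)).1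
  let e := MulEquiv.ofBijective f hbij
  refine ⟨⟨e.symm⟩, fun i => ?_⟩
  show e (cs.simple i) = _
  exact hf i

end Cfsg.Agent.S2530
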