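import Cfsg.Statements.S2809
import Cfsg.Agent.Lib.CoprimeAct
open scoped commutatorElement

set_option autoImplicit false
open Cfsg

namespace Cfsg.Agent.S2809

/-- Let H be a finite group, p a prime, R a p-subgroup of H with C_H(R) ≤ R, and L a subgroup of N_H(R) acting nilpotently on R (some iterated commutator [R, L, …, L] is trivial). Then L is a p-group. -/
theorem result {H : Type*} [Group H] [Finite H] {p : ℕ} [Fact p.Prime] (R : Subgroup H) (hR : IsPGroup p ↥R) (hC : Subgroup.centralizer (R : Set H) ≤ R) (L : Subgroup H) (hL : L ≤ Subgroup.normalizer (R : Set H)) (hnil : ∃ n : ℕ, Cfsg.iterCommutator R L n = ⊥) : IsPGroup p ↥L := by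
  open Cfsg.Agent.Lib.CoprimeAct Cfsg.Agent.Lib.Commutators in
  obtain ⟨n, hn⟩ := hnil
  have hle : ∀ i, Cfsg.iterCommutator R L i ≤ R := by
    intro i
    induction i with
    | zero => exact le_rfl
    | succ i ih =>
      show ⁅Cfsg.iterCommutator R L i, L⁆ ≤ R
      rw [Subgroup.commutator_le]
      intro a ha l hl
      rw [commutatorElement_def]
      have h1 : a * l * a⁻¹ * l⁻¹ = a * (l * a⁻¹ * l⁻¹) := by group
      rw [h1]
      exact R.mul_mem (ih ha) (conj_mem_of_mem_normalizer (hL hl) (R.inv_mem (ih ha)))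
  apply isPGroup_of_coprime_eq_one
  intro x hx hxo
  have hcent : ∀ k i, i + k = n → ∀ a ∈ Cfsg.iterCommutator R L i, x * a * x⁻¹ = a := by
    intro k
    induction k with
    | zero =>
      intro i hi a ha
      have hin : i = n := by omega
      rw [hin, hn, Subgroup.mem_bot] at ha
      simp [ha]
    | succ k ih =>
      intro i hi a ha
      have h1 := ih (i + 1) (by omega)
      have h2 : ⁅x, a⁆ ∈ Cfsg.iterCommutator R L (i + 1) := by
        have h3 : ⁅x, a⁆ = ⁅a, x⁆⁻¹ := by
          simp only [commutatorElement_def]; group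
        rw [h3]
        exact Subgroup.inv_mem _ (Subgroup.commutator_mem_commutator ha hx)
      refine commutator_trivial_of_coprime hR (hle _ h2) ?_ hxo
      have h4 := h1 _ h2
      calc x * ⁅x, a⁆ = (x * ⁅x, a⁆ * x⁻¹) * x := by group
        _ = _ := by rw [h4]
  have h3 : x ∈ Subgroup.centralizer (R : Set H) := by
    rw [Subgroup.mem_centralizer_iff]
    intro r hr
    have := hcent n 0 (by omega) r hr
    calc r * x = (x * r * x⁻¹) * x := by rw [this]
      _ = x * r := by group
  exact eq_one_of_mem_pgroup_of_coprime hR (hC h3) hxo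

end Cfsg.Agent.S2809
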