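import Cfsg.Statements.S2810
import Cfsg.Agent.Lib.CoprimeAct
open scoped commutatorElement

set_option autoImplicit false
open Cfsg

namespace Cfsg.Agent.S2810

/-- Let H be a finite group of characteristic p and L a subgroup of H centralizing every factor of some H-invariant chain 1 = A₀ ≤ A₁ ≤ … ≤ Aₙ = O_p(H) of normal subgroups (that is, [A_{i+1}, L] ≤ Aᵢ for each i). Then L ≤ O_p(H). -/
theorem result {H : Type*} [Group H] [Finite H] {p : ℕ} [Fact p.Prime] (hchar : Subgroup.centralizer (Cfsg.pCore p H : Set H) ≤ Cfsg.pCore p H) (L : Subgroup H) (n : ℕ) (A : Fin (n + 1) → Subgroup H) (h0 : A 0 = ⊥) (hn : A (Fin.last n) = Cfsg.pCore p H) (hmono : Monotone A) (hnorm : ∀ i, (A i).Normal) (hcent : ∀ i : Fin n, ⁅A i.succ, L⁆ ≤ A i.castSucc) : L ≤ Cfsg.pCore p H := by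
  open Cfsg.Agent.Lib.CoprimeAct Cfsg.Agent.Lib.Commutators Cfsg.Agent.Lib.PCore in
  -- the subgroup of elements centralizing all factors
  let K : Subgroup H :=
    { carrier := {h | ∀ i : Fin n, ∀ a ∈ A i.succ, h * a * h⁻¹ * a⁻¹ ∈ A i.castSucc}
      one_mem' := by
        intro i a ha
        simp [(A i.castSucc).one_mem]
      mul_mem' := by
        intro g h hg hh i a ha
        have h1 := hg i a ha
        have h2 := hh i a ha
        have h3 := (hnorm i.castSucc).conj_mem _ h2 g
        have h4 : g * h * a * (g * h)⁻¹ * a⁻¹ =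
            (g * (h * a * h⁻¹ * a⁻¹) * g⁻¹) * (g * a * g⁻¹ * a⁻¹) := by group
        rw [h4]
        exact (A i.castSucc).mul_mem h3 h1
      inv_mem' := by
        intro h hh i a ha
        have h2 := hh i a ha
        have h3 := (hnorm i.castSucc).conj_mem _ ((A i.castSucc).inv_mem h2) h⁻¹
        have h4 : h⁻¹ * a * h⁻¹⁻¹ * a⁻¹ = h⁻¹ * (h * a * h⁻¹ * a⁻¹)⁻¹ * h⁻¹⁻¹ := by group
        rw [h4]
        exact h3 }
  have hKnorm : K.Normal := by
    refine ⟨fun h hh g i a ha => ?_⟩
    have h1 : g⁻¹ * a * g⁻¹⁻¹ ∈ A i.succ := (hnorm i.succ).conj_mem a ha g⁻¹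
    have h2 := hh i _ h1
    have h3 := (hnorm i.castSucc).conj_mem _ h2 g
    have h4 : g * h * g⁻¹ * a * (g * h * g⁻¹)⁻¹ * a⁻¹ =
        g * (h * (g⁻¹ * a * g⁻¹⁻¹) * h⁻¹ * (g⁻¹ * a * g⁻¹⁻¹)⁻¹) * g⁻¹ := by group
    rw [h4]
    exact h3
  have hLK : L ≤ K := by
    intro l hl i a ha
    exact hcent i (Subgroup.commutator_mem_commutator ha hl) |> fun h => by
      rw [commutatorElement_def] at h
      have h2 := (A i.castSucc).inv_mem h
      have h3 : (a * l * a⁻¹ * l⁻¹)⁻¹ = l * a * l⁻¹ * a⁻¹ := by group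
      rwa [h3] at h2
  have hQp := Cfsg.Agent.Lib.PCore.isPGroup_pCore p H
  have hKp : IsPGroup p K := by
    apply isPGroup_of_coprime_eq_one
    intro x hx hxo
    have hcen : ∀ i : ℕ, ∀ hi : i < n + 1, ∀ a ∈ A ⟨i, hi⟩, x * a * x⁻¹ = a := by
      intro i
      induction i with
      | zero =>
        intro hi a ha
        have h0' : (⟨0, hi⟩ : Fin (n + 1)) = 0 := rfl
        rw [h0', h0, Subgroup.mem_bot] at ha
        simp [ha]
      | succ i ih =>
        intro hi a ha
        have hin : i < n := by omega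
        have h1 := ih (by omega)
        have h2 := hx ⟨i, hin⟩ a ha
        have h2' : x * a * x⁻¹ * a⁻¹ ∈ A ⟨i, by omega⟩ := h2
        have hc : ⁅x, a⁆ ∈ A ⟨i, by omega⟩ := by
          rw [commutatorElement_def]; exact h2'
        have hmono : A ⟨i, by omega⟩ ≤ Cfsg.pCore p H := by
          rw [← hn]
          exact hmono (Fin.le_last _)
        refine commutator_trivial_of_coprime hQp (hmono hc) ?_ hxo
        have h4 := h1 _ hc
        calc x * ⁅x, a⁆ = (x * ⁅x, a⁆ * x⁻¹) * x := by group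
          _ = _ := by rw [h4]
    have h3 : x ∈ Subgroup.centralizer (Cfsg.pCore p H : Set H) := by
      rw [Subgroup.mem_centralizer_iff]
      intro r hr
      have hr' : r ∈ A (Fin.last n) := by rw [hn]; exact hr
      have := hcen n (by omega) r hr'
      calc r * x = (x * r * x⁻¹) * x := by rw [this]
        _ = x * r := by group
    exact eq_one_of_mem_pgroup_of_coprime hQp (hchar h3) hxo
  exact hLK.trans (le_pCore hKnorm hKp)

end Cfsg.Agent.S2810
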