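import Cfsg.Statements.S2812
import Cfsg.Agent.Lib.FStarAct
import Cfsg.Agent.Lib.PCore

set_option autoImplicit false
open Cfsg

namespace Cfsg.Agent.S2812

open scoped commutatorElement
open Cfsg.Agent.Lib


/-- Let H be a subgroup of the finite group G with O_p(H) = 1, Y a p-subgroup of G normalizing H, and L a subgroup of the generalized Fitting subgroup F*(H) that is subnormal in H and normalized by Y. Then L = [L, Y]·C_L(Y) and [L, Y] = [L, Y, Y]. -/
theorem result {G : Type*} [Group G] [Finite G] {p : ℕ} [Fact p.Prime] (H : Subgroup G) (hO : Cfsg.pCore p ↥H = ⊥) (Y : Subgroup G) (hY : IsPGroup p ↥Y) (hYH : Y ≤ Subgroup.normalizer (H : Set G)) (L : Subgroup G) (hLF : L ≤ (Cfsg.generalizedFittingSubgroup ↥H).map H.subtype) (hLsn : (L.subgroupOf H).IsSubnormal) (hYL : Y ≤ Subgroup.normalizer (L : Set G)) : ⁅L, Y⁆ ⊔ (L ⊓ Subgroup.centralizer (Y : Set G)) = L ∧ ⁅L, Y⁆ = ⁅⁅L, Y⁆, Y⁆ := by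

  have hLH : L ≤ H := hLF.trans (Subgroup.map_subtype_le _)
  have hLF' : L.subgroupOf H ≤ Cfsg.generalizedFittingSubgroup ↥H := by
    rintro ⟨x, hx⟩ hxL
    obtain ⟨y, hy, hyx⟩ := hLF hxL
    have : y = ⟨x, hx⟩ := Subtype.ext hyx
    rwa [← this]
  have h1 := Comps.fitting_sup_layer_eq_top hLsn hLF'
  let e : ↥(L.subgroupOf H) ≃* ↥L := Subgroup.subgroupOfEquivOfLe hLH
  have hF : Cfsg.fittingSubgroup ↥L ⊔ Cfsg.layer ↥L = ⊤ := by
    have h2 := congrArg (Subgroup.map e.toMonoidHom) h1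
    rw [Subgroup.map_sup, Layer.fitting_map, Layer.layer_map,
      Subgroup.map_top_of_surjective _ e.surjective] at h2
    exact h2
  have hO' : Cfsg.pCore p ↥(L.subgroupOf H) = ⊥ := FStarAct.pCore_sub_eq_bot hO hLsn
  have hOL : Cfsg.pCore p ↥L = ⊥ := by
    have h2 := PCore.pCore_map_equiv (p := p) e
    rw [hO', Subgroup.map_bot] at h2
    exact h2.symm
  exact FStarAct.core_act hF hOL hY hYL

end Cfsg.Agent.S2812
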