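import Cfsg.Statements.S2813
import Cfsg.Agent.Lib.CoprimeAct
open scoped commutatorElement

set_option autoImplicit false
open Cfsg

namespace Cfsg.Agent.S2813

/-- Let K be a subgroup of the finite group H with O_p(K) = 1 and Y a p-subgroup of N_H(K) with [K, Y, Y] = 1. Then [K, Y] = 1. -/
theorem result {H : Type*} [Group H] [Finite H] {p : ℕ} [Fact p.Prime] (K : Subgroup H) (hO : Cfsg.pCore p ↥K = ⊥) (Y : Subgroup H) (hY : IsPGroup p ↥Y) (hYK : Y ≤ Subgroup.normalizer (K : Set H)) (hq : ⁅⁅K, Y⁆, Y⁆ = ⊥) : ⁅K, Y⁆ = ⊥ := by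
  open Cfsg.Agent.Lib.CoprimeAct Cfsg.Agent.Lib.Commutators Cfsg.Agent.Lib.PCore in
  set W : Subgroup H := ⁅K, Y⁆ with hW
  have hWK : W ≤ K := by
    rw [hW, Subgroup.commutator_le]
    intro k hk y hy
    rw [commutatorElement_def]
    have h1 : k * y * k⁻¹ * y⁻¹ = k * (y * k⁻¹ * y⁻¹) := by group
    rw [h1]
    exact K.mul_mem hk (conj_mem_of_mem_normalizer (hYK hy) (K.inv_mem hk))
  -- `Y` centralizes `W`
  have hYW : ∀ y ∈ Y, ∀ w ∈ W, y * w * y⁻¹ = w := by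
    intro y hy w hw
    have h1 : ⁅w, y⁆ ∈ (⊥ : Subgroup H) := by
      rw [← hq]; exact Subgroup.commutator_mem_commutator hw hy
    rw [Subgroup.mem_bot, commutatorElement_eq_one_iff_mul_comm] at h1
    rw [← h1]; group
  -- generators are central in `W`
  have hgen : ∀ k ∈ K, ∀ y ∈ Y, ∀ w ∈ W, ⁅k, y⁆ * w = w * ⁅k, y⁆ := by
    intro k hk y hy w hw
    have hc : ⁅k, y⁆ ∈ W := Subgroup.commutator_mem_commutator hk hy
    -- `w' = k⁻¹ w k ∈ W` is fixed by `y`
    have hw' : k⁻¹ * w * k ∈ W := by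
      have := conj_commutator_mem_left (K.inv_mem hk) hw (B := Y)
      simpa using this
    have h1 := hYW y hy _ hw'
    -- `y k y⁻¹ = ⁅k,y⁆⁻¹ k`
    have h2 : y * k * y⁻¹ = ⁅k, y⁆⁻¹ * k := by
      rw [commutatorElement_def]; group
    have h3 : y * w * y⁻¹ = w := hYW y hy w hw
    have h4 : y * (k⁻¹ * w * k) * y⁻¹ = (y * k * y⁻¹)⁻¹ * (y * w * y⁻¹) * (y * k * y⁻¹) := by group
    rw [h4, h2, h3] at h1
    have h5 : (⁅k, y⁆⁻¹ * k)⁻¹ * w * (⁅k, y⁆⁻¹ * k) = k⁻¹ * (⁅k, y⁆ * w * ⁅k, y⁆⁻¹) * k := by group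
    rw [h5] at h1
    have h6 := mul_left_cancel (mul_right_cancel h1)
    calc ⁅k, y⁆ * w = (⁅k, y⁆ * w * ⁅k, y⁆⁻¹) * ⁅k, y⁆ := by group
      _ = _ := by rw [h6]
  have hcentral : ∀ a ∈ W, ∀ w ∈ W, a * w = w * a := by
    intro a ha
    rw [hW] at ha
    have key : ⁅K, Y⁆ ≤ Subgroup.centralizer (W : Set H) := by
      rw [Subgroup.commutator_le]
      intro k hk y hy
      rw [Subgroup.mem_centralizer_iff]
      intro w hw
      exact (hgen k hk y hy w hw).symm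
    intro w hw
    exact ((Subgroup.mem_centralizer_iff.1 (key ha)) w hw).symm
  -- generators have `p`-power order
  have hpow : ∀ k ∈ K, ∀ y ∈ Y, ∃ j : ℕ, ⁅k, y⁆ ^ p ^ j = 1 := by
    intro k hk y hy
    obtain ⟨j, hj⟩ := (IsPGroup.iff_orderOf.1 hY) ⟨y, hy⟩
    rw [Subgroup.orderOf_mk] at hj
    refine ⟨j, ?_⟩
    have hc : ⁅k, y⁆ ∈ W := Subgroup.commutator_mem_commutator hk hy
    have h2 : y * k * y⁻¹ = ⁅k, y⁆⁻¹ * k := by
      rw [commutatorElement_def]; group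
    have h3 : y * ⁅k, y⁆⁻¹ = ⁅k, y⁆⁻¹ * y := by
      have := hYW y hy _ (W.inv_mem hc)
      calc y * ⁅k, y⁆⁻¹ = (y * ⁅k, y⁆⁻¹ * y⁻¹) * y := by group
        _ = _ := by rw [this]
    have h4 := pow_eq_one_of_conj h2 h3 (n := p ^ j) (by rw [← hj, pow_orderOf_eq_one])
    rwa [inv_pow, inv_eq_one] at h4
  have hWp : IsPGroup p W := by
    rintro ⟨w, hw⟩
    have hw0 := hw
    rw [hW] at hw0
    have key : ∀ x ∈ ⁅K, Y⁆, ∃ j : ℕ, x ^ p ^ j = 1 := by
      intro x hx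
      rw [Subgroup.commutator_def] at hx
      induction hx using Subgroup.closure_induction with
      | mem x hx =>
        obtain ⟨k, hk, y, hy, rfl⟩ := hx
        exact hpow k hk y hy
      | one => exact ⟨0, by simp⟩
      | mul a b ha hb iha ihb =>
        obtain ⟨i, hi⟩ := iha
        obtain ⟨j, hj⟩ := ihb
        have ha' : a ∈ W := by rw [hW, Subgroup.commutator_def]; exact ha
        have hb' : b ∈ W := by rw [hW, Subgroup.commutator_def]; exact hb
        have hcomm : Commute a b := hcentral a ha' b hb'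
        refine ⟨i + j, ?_⟩
        rw [hcomm.mul_pow, pow_add, pow_mul, hi, one_pow, one_mul, pow_mul', hj, one_pow]
      | inv a ha ih =>
        obtain ⟨i, hi⟩ := ih
        exact ⟨i, by rw [inv_pow, hi, inv_one]⟩
    obtain ⟨j, hj⟩ := key w hw0
    exact ⟨j, Subtype.ext (by simpa using hj)⟩
  -- `W` is a normal `p`-subgroup of `K`
  have hnormal : (W.subgroupOf K).Normal := by
    refine ⟨fun a ha g => ?_⟩
    have := conj_commutator_mem_left g.2 (show (a : H) ∈ ⁅K, Y⁆ from ha)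
    exact this
  have hp2 : IsPGroup p ↥(W.subgroupOf K) := hWp.comap_of_injective K.subtype K.subtype_injective
  have hle := le_pCore hnormal hp2
  rw [hO] at hle
  rw [eq_bot_iff]
  intro w hw
  have h1 : (⟨w, hWK hw⟩ : K) ∈ W.subgroupOf K := hw
  have h2 := hle h1
  rw [Subgroup.mem_bot] at h2 ⊢
  exact congrArg Subtype.val h2

end Cfsg.Agent.S2813
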