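import Cfsg.Statements.S2814
import Cfsg.Agent.Lib.AmalgamChar
import Cfsg.Agent.Lib.Commutators
import Cfsg.Agent.Lib.PResidual
import Cfsg.Agent.Lib.PIrreducible

open scoped commutatorElement

set_option autoImplicit false
open Cfsg

namespace Cfsg.Agent.S2814


open Cfsg.Agent.Lib.Commutators in
theorem sInf_subnormal {H : Type*} [Group H] [Finite H] (S : Set (Subgroup H)) (hS : ∀ K ∈ S, K.IsSubnormal) :
    (sInf S).IsSubnormal := by
  have hfin : S.Finite := Set.toFinite S
  induction S, hfin using Set.Finite.induction_on with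
  | empty => simp
  | @insert a s _ _ ih =>
    rw [sInf_insert]
    exact (hS _ (Set.mem_insert _ _)).inf (ih fun K hK => hS K (Set.mem_insert_of_mem _ hK))

theorem closure_subnormal {H : Type*} [Group H] [Finite H] (A : Subgroup H) : (Cfsg.subnormalClosure A).IsSubnormal :=
  sInf_subnormal _ fun _ hK => hK.2

theorem le_closure {H : Type*} [Group H] (A : Subgroup H) : A ≤ Cfsg.subnormalClosure A :=
  le_sInf fun _ hK => hK.1

theorem closure_le {H : Type*} [Group H] {A K : Subgroup H} (hA : A ≤ K) (hK : K.IsSubnormal) :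
    Cfsg.subnormalClosure A ≤ K :=
  sInf_le ⟨hA, hK⟩

theorem subnormal_of_nilpotent {Q : Type*} [Group Q] [Finite Q] [Group.IsNilpotent Q]
    (L : Subgroup Q) : L.IsSubnormal := by
  induction L using WellFoundedGT.induction with
  | ind L ih =>
    by_cases h : L = ⊤
    · rw [h]; exact Subgroup.IsSubnormal.top
    · have hlt : L < Subgroup.normalizer (L : Set Q) :=
        normalizerCondition_of_isNilpotent L (lt_top_iff_ne_top.mpr h)
      exact Subgroup.IsSubnormal.step L _ hlt.le (ih _ hlt) inferInstance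


/-- Let A be a subgroup of the finite group H and K the subnormal closure of A (intersection of the subnormal subgroups containing A). Then K is the normal closure of A inside K and N_H(A) ≤ N_H(K); K = A·O^p(K), O^p(K) being generated by the elements of K of order prime to p; and if A is a p-group, O^p(K) = [O^p(K), A]. -/
theorem result {H : Type*} [Group H] [Finite H] {p : ℕ} [Fact p.Prime] (A : Subgroup H) (K : Subgroup H) (hK : K = Cfsg.subnormalClosure A) : (Subgroup.normalClosure ((A.subgroupOf K : Subgroup ↥K) : Set ↥K)).map K.subtype = K ∧ Subgroup.normalizer (A : Set H) ≤ Subgroup.normalizer (K : Set H) ∧ A ⊔ (Cfsg.pResidual p ↥K).map K.subtype = K ∧ (IsPGroup p ↥A → ⁅(Cfsg.pResidual p ↥K).map K.subtype, A⁆ = (Cfsg.pResidual p ↥K).map K.subtype) := by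
  classical
  subst hK
  open Cfsg.Agent.Lib.Commutators Cfsg.Agent.Lib.PResidual Cfsg.Agent.Lib.AmalgamChar Cfsg.Agent.Lib.PIrreducible in
  set K := Cfsg.subnormalClosure A with hKdef
  have hKs : K.IsSubnormal := closure_subnormal A
  have hAK : A ≤ K := le_closure A
  have hmin : ∀ L : Subgroup ↥K, L.IsSubnormal → A.subgroupOf K ≤ L → L = ⊤ := by
    intro L hL hAL
    have h1 : (L.map K.subtype).IsSubnormal := hL.trans' hKs
    have h2 : A ≤ L.map K.subtype := by
      intro a ha
      exact ⟨⟨a, hAK ha⟩, hAL (Subgroup.mem_subgroupOf.mpr ha), rfl⟩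
    have h3 : K ≤ L.map K.subtype := closure_le h2 h1
    rw [eq_top_iff]
    rintro ⟨x, hx⟩ -
    obtain ⟨y, hy, hxy⟩ := h3 hx
    have h4 : y = ⟨x, hx⟩ := Subtype.ext hxy
    rwa [← h4]
  have hmapTop : (⊤ : Subgroup ↥K).map K.subtype = K := by
    rw [← MonoidHom.range_eq_map, Subgroup.range_subtype]
  refine ⟨?_, ?_, ?_, ?_⟩
  · rw [hmin _ (Subgroup.Normal.isSubnormal Subgroup.normalClosure_normal)
      (by exact Subgroup.subset_normalClosure), hmapTop]
  · intro g hg
    apply Cfsg.Agent.Lib.AmalgamChar.mem_normalizer_of_map_eq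
    have h1 : K ≤ K.map (MulAut.conj g).toMonoidHom := by
      refine closure_le ?_ (Subgroup.IsSubnormal.map (MulAut.conj g).surjective hKs)
      intro a ha
      rw [Cfsg.Agent.Lib.AmalgamChar.mem_conj_iff]
      apply hAK
      have := Cfsg.Agent.Lib.Commutators.conj_inv_mem_of_mem_normalizer hg ha
      simpa [mul_assoc] using this
    exact (Subgroup.eq_of_le_of_card_ge h1 (by rw [Cfsg.Agent.Lib.AmalgamChar.card_map_conj])).symm
  all_goals
    haveI hRn : (Cfsg.pResidual p ↥K).Normal := Cfsg.Agent.Lib.PResidual.pResidual_normal p _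
    have hsupq : A.subgroupOf K ⊔ Cfsg.pResidual p ↥K = ⊤ := by
      apply hmin
      · have hQ : IsPGroup p (↥K ⧸ Cfsg.pResidual p ↥K) :=
          Cfsg.Agent.Lib.PResidual.isPGroup_quotient_pResidual
        haveI : Group.IsNilpotent (↥K ⧸ Cfsg.pResidual p ↥K) := hQ.isNilpotent
        have h1 := subnormal_of_nilpotent
          ((A.subgroupOf K ⊔ Cfsg.pResidual p ↥K).map (QuotientGroup.mk' (Cfsg.pResidual p ↥K)))
        have h2 := h1.comap (QuotientGroup.mk' (Cfsg.pResidual p ↥K))
        rwa [Subgroup.comap_map_eq, QuotientGroup.ker_mk', sup_eq_left.mpr le_sup_right] at h2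
      · exact le_sup_left
    have hsup : A ⊔ (Cfsg.pResidual p ↥K).map K.subtype = K := by
      have h1 := congrArg (Subgroup.map K.subtype) hsupq
      rwa [Subgroup.map_sup, Subgroup.map_subgroupOf_eq_of_le hAK, hmapTop] at h1
  · exact hsup
  · intro hpA
    set R' := (Cfsg.pResidual p ↥K).map K.subtype with hR'
    have hR'K : R' ≤ K := Subgroup.map_subtype_le _
    have hconjR : ∀ k ∈ K, ∀ x ∈ R', k * x * k⁻¹ ∈ R' := by
      rintro k hk x ⟨y, hy, rfl⟩
      exact ⟨⟨k, hk⟩ * y * ⟨k, hk⟩⁻¹, hRn.conj_mem y hy _, rfl⟩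
    set I := ⁅R', A⁆ with hI
    have hIR : I ≤ R' := by
      rw [hI, Subgroup.commutator_le]
      intro r hr a ha
      rw [commutatorElement_def]
      have h1 := hconjR a (hAK ha) _ (R'.inv_mem hr)
      have h2 : r * a * r⁻¹ * a⁻¹ = r * (a * r⁻¹ * a⁻¹) := by group
      rw [h2]
      exact R'.mul_mem hr h1
    have hN1 : R' ≤ Subgroup.normalizer (I : Set H) :=
      Cfsg.Agent.Lib.Commutators.commutator_le_normalizer_left
    have hN2 : A ≤ Subgroup.normalizer (I : Set H) :=
      Cfsg.Agent.Lib.Commutators.commutator_le_normalizer_right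
    have hKNI : K ≤ Subgroup.normalizer (I : Set H) := by
      rw [← hsup]
      exact sup_le hN2 hN1
    have hJK : A ⊔ I ≤ K := sup_le hAK (hIR.trans hR'K)
    have hconjJ : ∀ r ∈ R', ∀ x ∈ A ⊔ I, r * x * r⁻¹ ∈ A ⊔ I := by
      intro r hr x hx
      have hle : A ⊔ I ≤ (A ⊔ I).comap (MulAut.conj r).toMonoidHom := by
        refine sup_le ?_ ?_
        · intro a ha
          show r * a * r⁻¹ ∈ A ⊔ I
          have h1 : r * a * r⁻¹ = ⁅r, a⁆ * a := by
            rw [commutatorElement_def]; group
          rw [h1]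
          exact (A ⊔ I).mul_mem ((le_sup_right : I ≤ A ⊔ I) (Subgroup.commutator_mem_commutator hr ha))
            ((le_sup_left : A ≤ A ⊔ I) ha)
        · intro a ha
          show r * a * r⁻¹ ∈ A ⊔ I
          exact (le_sup_right : I ≤ A ⊔ I) (Cfsg.Agent.Lib.Commutators.conj_mem_of_mem_normalizer (hN1 hr) ha)
      exact hle hx
    have hKNJ : K ≤ Subgroup.normalizer ((A ⊔ I : Subgroup H) : Set H) := by
      rw [← hsup]
      refine sup_le ?_ ?_
      · intro a ha
        apply Cfsg.Agent.Lib.Commutators.normalizer_le_normalizer_sup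
        refine ⟨?_, hN2 ha⟩
        exact Subgroup.le_normalizer ha
      · intro r hr
        apply Cfsg.Agent.Lib.Commutators.mem_normalizer_of_conj_mem
        · exact hconjJ r hr
        · intro x hx
          have := hconjJ r⁻¹ (R'.inv_mem hr) x hx
          simpa using this
    have hJtop : (A ⊔ I).subgroupOf K = ⊤ := by
      apply hmin
      · exact Subgroup.Normal.isSubnormal ((Subgroup.normal_subgroupOf_iff_le_normalizer hJK).mpr hKNJ)
      · intro x hx
        rw [Subgroup.mem_subgroupOf] at hx ⊢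
        exact (le_sup_left : A ≤ A ⊔ I) hx
    haveI hIn : (I.subgroupOf K).Normal :=
      (Subgroup.normal_subgroupOf_iff_le_normalizer (hIR.trans hR'K)).mpr hKNI
    have hsupI : I.subgroupOf K ⊔ A.subgroupOf K = ⊤ := by
      rw [sup_comm, ← Subgroup.subgroupOf_sup hAK (hIR.trans hR'K)]
      exact hJtop
    have hle := Cfsg.Agent.Lib.PResidual.pResidual_le_of_sup_eq_top
      (Cfsg.Agent.Lib.PIrreducible.isPGroup_subgroupOf hpA K) hsupI
    refine le_antisymm hIR ?_
    rintro _ ⟨y, hy, rfl⟩
    exact Subgroup.mem_subgroupOf.mp (hle hy)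

end Cfsg.Agent.S2814
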