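import Cfsg.Statements.S2815
import Cfsg.Agent.Lib.Comps
import Cfsg.Agent.Lib.Layer
import Cfsg.Agent.Lib.PResidual
import Cfsg.Agent.Lib.H2Basic

set_option autoImplicit false
open Cfsg

namespace Cfsg.Agent.S2815

open Cfsg.Agent.Lib Cfsg.Agent.Lib.PResidual Subgroup Cfsg.Agent.Lib.Comps


/-- Let H be a finite group and p a prime dividing its order with O_p(H) = 1, and suppose K = O^p(H) (generated by the elements of order prime to p) is quasisimple. Then K = F*(H); for every nontrivial p-subgroup Y of H, K = [K, Y] and K lies in the subgroup generated by the K-conjugates of Y; every normal subgroup of H not containing K has order prime to p; and H is p-irreducible. -/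
theorem result {H : Type*} [Group H] [Finite H] {p : ℕ} [Fact p.Prime] (hp : p ∣ Nat.card H) (hO : Cfsg.pCore p H = ⊥) (hq : Cfsg.IsQuasisimple ↥(Cfsg.pResidual p H)) : Cfsg.pResidual p H = Cfsg.generalizedFittingSubgroup H ∧ (∀ Y : Subgroup H, IsPGroup p ↥Y → Y ≠ ⊥ → ⁅Cfsg.pResidual p H, Y⁆ = Cfsg.pResidual p H ∧ Cfsg.pResidual p H ≤ ⨆ k : ↥(Cfsg.pResidual p H), Y.map (MulAut.conj (k : H)).toMonoidHom) ∧ (∀ C : Subgroup H, C.Normal → ¬ Cfsg.pResidual p H ≤ C → (Nat.card ↥C).Coprime p) ∧ Cfsg.IsPIrreducible p H := by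
  classical
  set K := Cfsg.pResidual p H with hK
  haveI hKn : K.Normal := pResidual_normal p H
  have hKc : Cfsg.IsComponent K := ⟨hKn.isSubnormal, hq⟩
  have hperf : ⁅K, K⁆ = K := comp_perfect hKc
  set C := centralizer (K : Set H) with hC
  haveI hCn : C.Normal := inferInstance
  -- `C` is a p'-group
  have hCc : Cfsg.IsPClosed p C := by
    intro T
    haveI hW : (K.subgroupOf C).Normal := inferInstance
    have hq' : IsPGroup p (↥C ⧸ K.subgroupOf C) := by
      intro q
      induction q using QuotientGroup.induction_on with | H x => ?_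
      obtain ⟨k, hk⟩ := isPGroup_quotient_pResidual (G := H) (p := p) (QuotientGroup.mk (x : H))
      refine ⟨k, ?_⟩
      rw [← QuotientGroup.mk_pow, QuotientGroup.eq_one_iff] at hk ⊢
      exact hk
    have hsup := sup_sylow_eq_top_of_isPGroup_quotient hq' T
    have hWN : K.subgroupOf C ≤ normalizer ((T : Subgroup C) : Set C) := by
      intro w hw
      apply H2Basic.mem_normalizer_of_forall_comm
      intro a _
      apply Subtype.ext
      exact (mem_centralizer_iff.1 a.2 w hw)
    have htop : normalizer ((T : Subgroup C) : Set C) = ⊤ :=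
      top_le_iff.1 (hsup ▸ sup_le hWN le_normalizer)
    exact normalizer_eq_top_iff.1 htop
  have hCnot : ¬ p ∣ Nat.card C := by
    intro hd
    obtain ⟨T⟩ : Nonempty (Sylow p C) := inferInstance
    have h1 := map_sylow_le_pCore hCn hCc T
    rw [hO] at h1
    apply T.ne_bot_of_dvd_card hd
    rw [eq_bot_iff]
    intro t ht
    have h2 := h1 ⟨t, ht, rfl⟩
    rw [Subgroup.mem_bot] at h2
    exact (Subgroup.mem_bot).2 (Subtype.ext h2)
  have hCco : (Nat.card C).Coprime p := ((Nat.Prime.coprime_iff_not_dvd Fact.out).2 hCnot).symm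
  have hCK : C ≤ K := by
    intro x hx
    apply mem_pResidual_of_coprime
    have h1 : orderOf (⟨x, hx⟩ : C) ∣ Nat.card C := orderOf_dvd_natCard _
    rw [Subgroup.orderOf_mk] at h1
    exact Nat.Coprime.coprime_dvd_left h1 hCco
  have hle_C : ∀ X : Subgroup H, ⁅K, X⁆ = ⊥ → X ≤ C := by
    intro X hX
    rw [Subgroup.commutator_comm] at hX
    exact Subgroup.commutator_eq_bot_iff_le_centralizer.1 hX
  have hcard : ∀ X : Subgroup H, ⁅K, X⁆ = ⊥ → (Nat.card X).Coprime p := by
    intro X hX
    exact Nat.Coprime.coprime_dvd_left (Subgroup.card_dvd_of_le (hle_C X hX)) hCco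
  refine ⟨?_, ?_, ?_, ?_, ?_⟩
  · apply le_antisymm
    · exact le_sup_of_le_left (le_sSup hKc)
    · apply sup_le
      · apply sSup_le
        intro L hL
        rcases comp_comm_comp hKc hL with h | h
        · exact h.symm.le
        · exact (hle_C L h).trans hCK
      · have h1 := Cfsg.Agent.Lib.Comps.comp_comm_fitting hKc
        exact (hle_C _ h1).trans hCK
  · intro Y hYp hY1
    have hUK : ⁅K, Y⁆ ≤ K := Subgroup.commutator_le_left K Y
    have hU : ⁅K, Y⁆ = K := by
      apply le_antisymm hUK
      have hn : (⁅K, Y⁆.subgroupOf K).Normal :=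
        (Subgroup.normal_subgroupOf_iff_le_normalizer hUK).2 (Subgroup.normalizer_commutator_ge_left K Y)
      rcases quasisimple_subnormal hq hn.isSubnormal with h | h
      · intro k hk
        have h1 : (⟨k, hk⟩ : K) ∈ ⁅K, Y⁆.subgroupOf K := by rw [h]; trivial
        exact h1
      · exfalso
        apply hY1
        have h2 : ⁅⁅Y, K⁆, K⁆ = ⊥ := by
          rw [Subgroup.commutator_comm Y K, Subgroup.commutator_eq_bot_iff_le_centralizer]
          intro u hu
          apply mem_centralizer_iff.2
          intro k hk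
          have h3 : (⟨u, hUK hu⟩ : K) ∈ center K := h hu
          have h4 := Subgroup.mem_center_iff.1 h3 ⟨k, hk⟩
          exact congrArg Subtype.val h4
        have h5 := comm_eq_bot_of_comm_comm hperf h2
        rw [Subgroup.commutator_comm] at h5
        have h6 := hcard Y h5
        obtain ⟨n, hn'⟩ := IsPGroup.iff_card.1 hYp
        rw [hn'] at h6
        have h7 : n = 0 := by
          by_contra hne
          have h8 : p ∣ Nat.gcd (p ^ n) p := Nat.dvd_gcd (dvd_pow_self p hne) dvd_rfl
          rw [h6] at h8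
          exact (Fact.out : p.Prime).one_lt.ne' (Nat.dvd_one.1 h8)
        rw [h7, pow_zero] at hn'
        exact Subgroup.card_eq_one.1 hn'
    refine ⟨hU, hU.symm.le.trans ?_⟩
    rw [Subgroup.commutator_le]
    intro k hk y hy
    rw [commutatorElement_def]
    have h1 : k * y * k⁻¹ ∈ ⨆ k : ↥K, Y.map (MulAut.conj (k : H)).toMonoidHom := by
      have h2 := le_iSup (fun k : ↥K => Y.map (MulAut.conj (k : H)).toMonoidHom) ⟨k, hk⟩
      exact h2 ⟨y, hy, rfl⟩
    have h3 : y⁻¹ ∈ ⨆ k : ↥K, Y.map (MulAut.conj (k : H)).toMonoidHom := by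
      have h2 := le_iSup (fun k : ↥K => Y.map (MulAut.conj (k : H)).toMonoidHom) (1 : ↥K)
      apply h2
      exact ⟨y⁻¹, Y.inv_mem hy, by simp⟩
    exact mul_mem h1 h3
  · intro N hN hNK
    rcases comp_lemma hKc hN.isSubnormal with h | h
    · exact absurd h hNK
    · exact hcard N h
  · intro hcl
    obtain ⟨T⟩ : Nonempty (Sylow p H) := inferInstance
    have h1 : (T : Subgroup H) ≤ Cfsg.pCore p H := FitCore.le_pCore p _ (hcl T) T.isPGroup'
    rw [hO] at h1
    exact T.ne_bot_of_dvd_card hp (eq_bot_iff.2 h1)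
  · intro N hN hNc
    by_contra hNK
    apply hNc
    have h1 : (Nat.card N).Coprime p := by
      rcases comp_lemma hKc hN.isSubnormal with h | h
      · exact absurd h hNK
      · exact hcard N h
    intro T
    have h2 : (T : Subgroup N) = ⊥ := by
      by_contra hne
      obtain ⟨n, hn⟩ := IsPGroup.iff_card.1 T.isPGroup'
      have h3 : Nat.card (T : Subgroup N) ∣ Nat.card N := Subgroup.card_subgroup_dvd_card _
      rw [hn] at h3
      have h4 : n = 0 := by
        by_contra hne'
        have h8 : p ∣ Nat.gcd (Nat.card N) p := Nat.dvd_gcd ((dvd_pow_self p hne').trans h3) dvd_rfl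
        rw [h1] at h8
        exact (Fact.out : p.Prime).one_lt.ne' (Nat.dvd_one.1 h8)
      rw [h4, pow_zero] at hn
      exact hne (Subgroup.card_eq_one.1 hn)
    rw [h2]
    infer_instance

end Cfsg.Agent.S2815
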