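import Cfsg.Statements.S2816
import Cfsg.Agent.Lib.FStarAct
import Cfsg.Agent.Lib.PCore

set_option autoImplicit false
open Cfsg

namespace Cfsg.Agent.S2816

open scoped commutatorElement
open Cfsg.Agent.Lib Subgroup Cfsg


/-- Let H be a finite group and p a prime with O_p(H) = 1, and Y a p-subgroup of H. Then for every subnormal subgroup K of H containing Y, [F*(H), Y] = [F*(K), Y] = [F*(K), Y, Y]; and if Y₀ ≤ Y with [F*(H), Y, Y₀] = 1 then Y₀ = 1 (in particular [F*(H), Y] = 1 forces Y = 1). -/
theorem result {H : Type*} [Group H] [Finite H] {p : ℕ} [Fact p.Prime] (hO : Cfsg.pCore p H = ⊥) (Y : Subgroup H) (hY : IsPGroup p ↥Y) : (∀ K : Subgroup H, K.IsSubnormal → Y ≤ K → ⁅Cfsg.generalizedFittingSubgroup H, Y⁆ = ⁅(Cfsg.generalizedFittingSubgroup ↥K).map K.subtype, Y⁆ ∧ ⁅(Cfsg.generalizedFittingSubgroup ↥K).map K.subtype, Y⁆ = ⁅⁅(Cfsg.generalizedFittingSubgroup ↥K).map K.subtype, Y⁆, Y⁆) ∧ (∀ Y₀ : Subgroup H, Y₀ ≤ Y → ⁅⁅Cfsg.generalizedFittingSubgroup H, Y⁆, Y₀⁆ = ⊥ → Y₀ = ⊥) := by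

  classical
  have hFp : ¬ p ∣ Nat.card (Cfsg.fittingSubgroup H) := FStarAct.fitting_not_dvd hO
  constructor
  · intro K hK hYK
    have hLsn := FStarAct.map_genFit_subnormal hK
    have hLX := FStarAct.map_genFit_le hK
    set L := (Cfsg.generalizedFittingSubgroup ↥K).map K.subtype with hL
    have hLK : L ≤ K := Subgroup.map_subtype_le _
    have hYL : Y ≤ normalizer (L : Set H) :=
      (hYK.trans (Subgroup.le_normalizer)).trans (FStarAct.normalizer_le_map_genFit K)
    have hW := FStarAct.core_act (Comps.fitting_sup_layer_eq_top hLsn hLX)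
      (FStarAct.pCore_sub_eq_bot hO hLsn) hY hYL
    refine ⟨?_, hW.2⟩
    apply le_antisymm _ (Subgroup.commutator_mono hLX le_rfl)
    have hYF : Y ≤ normalizer (Cfsg.fittingSubgroup H : Set H) := by
      rw [normalizer_eq_top]; exact le_top
    have hYE : Y ≤ normalizer (Cfsg.layer H : Set H) := by
      rw [normalizer_eq_top]; exact le_top
    have hsplit : ⁅Cfsg.generalizedFittingSubgroup H, Y⁆ = ⁅Cfsg.layer H, Y⁆ ⊔ ⁅Cfsg.fittingSubgroup H, Y⁆ :=
      FStarAct.comm_sup_of_comm (Comps.layer_comm_fitting) hYE hYF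
    rw [hsplit]
    have hWK : ⁅L, Y⁆ ≤ K := (FStarAct.comm_le_left hYL).trans hLK
    apply sup_le
    · -- the layer
      have hcase : ∀ C : Subgroup H, IsComponent C → C ≤ L ∨ C ≤ centralizer (K : Set H) := by
        intro C hC
        rcases Comps.comp_lemma hC hK with h | h
        · left
          have h1 := Comps.isComponent_subgroupOf hC h
          have h2 : C = (C.subgroupOf K).map K.subtype := (Subgroup.map_subgroupOf_eq_of_le h).symm
          rw [h2]
          apply Subgroup.map_mono
          refine le_trans ?_ (Layer.layer_le_genFitting _)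
          exact le_sSup h1
        · right
          rwa [Subgroup.commutator_eq_bot_iff_le_centralizer] at h
      have hN : Cfsg.layer H ≤ normalizer ((⁅L, Y⁆ : Subgroup H) : Set H) := by
        apply sSup_le
        intro C hC
        rcases hcase C hC with h | h
        · exact h.trans (FStarAct.comm_normalized_left L Y)
        · exact (h.trans (Subgroup.centralizer_le hWK)).trans (FStarAct.centralizer_le_normalizer' _)
      apply FStarAct.comm_le_of_stabMod hN
      apply sSup_le
      intro C hC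
      intro x hx
      refine ⟨(le_sSup hC : C ≤ Cfsg.layer H) hx, fun y hy => ?_⟩
      rcases hcase C hC with h | h
      · have := Subgroup.commutator_mem_commutator (h hx) hy
        rwa [commutatorElement_def] at this
      · have h1 : y * x = x * y := mem_centralizer_iff.1 (h hx) y (hYK hy)
        have h2 : x * y * x⁻¹ * y⁻¹ = 1 := by rw [← h1]; group
        rw [h2]; exact Subgroup.one_mem _
    · -- the Fitting part
      obtain ⟨-, h2⟩ := FStarAct.coprime_comm hFp hY hYF
      have hiter : ∀ n, Comps.iter Y (Cfsg.fittingSubgroup H) (n + 1) = ⁅Cfsg.fittingSubgroup H, Y⁆ := by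
        intro n
        induction n with
        | zero => rfl
        | succ n ih =>
          change ⁅Comps.iter Y (Cfsg.fittingSubgroup H) (n + 1), Y⁆ = _
          rw [ih]
          exact h2.symm
      obtain ⟨m, hm⟩ := Comps.exists_iter_le hK Y (Cfsg.fittingSubgroup H) hYK
      have hVK : ⁅Cfsg.fittingSubgroup H, Y⁆ ≤ K := by
        cases m with
        | zero => exact (FStarAct.comm_le_left hYF).trans hm
        | succ n => rwa [hiter n] at hm
      have hVL : ⁅Cfsg.fittingSubgroup H, Y⁆ ≤ L := by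
        have h3 : ⁅Cfsg.fittingSubgroup H, Y⁆ ≤ Cfsg.fittingSubgroup H ⊓ K :=
          le_inf (FStarAct.comm_le_left hYF) hVK
        rw [← Comps.map_fitting_eq hK] at h3
        exact h3.trans (Subgroup.map_mono (Layer.fitting_le_genFitting _))
      rw [h2]
      exact Subgroup.commutator_mono hVL le_rfl
  · intro Y₀ hY₀ hc
    have hXn : (Cfsg.generalizedFittingSubgroup H).IsSubnormal := (Layer.genFitting_normal H).isSubnormal
    have hF := Comps.fitting_sup_layer_eq_top hXn le_rfl
    have hO' := FStarAct.pCore_sub_eq_bot hO hXn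
    have hYp₀ : IsPGroup p ↥Y₀ := hY.to_le hY₀
    have hYX : Y₀ ≤ normalizer (Cfsg.generalizedFittingSubgroup H : Set H) := by
      rw [normalizer_eq_top]; exact le_top
    obtain ⟨-, h2⟩ := FStarAct.core_act hF hO' hYp₀ hYX
    have h3 : ⁅⁅Cfsg.generalizedFittingSubgroup H, Y₀⁆, Y₀⁆ = ⊥ := by
      rw [eq_bot_iff, ← hc]
      exact Subgroup.commutator_mono (Subgroup.commutator_mono le_rfl hY₀) le_rfl
    rw [h3] at h2
    rw [Subgroup.commutator_eq_bot_iff_le_centralizer] at h2
    have h4 : Y₀ ≤ centralizer (Cfsg.generalizedFittingSubgroup H : Set H) := Subgroup.le_centralizer_iff.1 h2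
    have h5 : Y₀ ≤ Cfsg.generalizedFittingSubgroup H := h4.trans Comps.bender
    have h6 : Y₀ ≤ (Cfsg.fittingSubgroup ↥(Cfsg.generalizedFittingSubgroup H)).map (Cfsg.generalizedFittingSubgroup H).subtype := by
      intro y hy
      apply FStarAct.inf_centralizer_EL_le_FL hF
      refine ⟨h5 hy, ?_⟩
      exact Subgroup.centralizer_le (Subgroup.map_subtype_le _) (h4 hy)
    have h7 := FStarAct.card_FL hO'
    rw [eq_bot_iff]
    intro y hy
    by_contra hne
    have hne' : (⟨y, hy⟩ : Y₀) ≠ 1 := fun h => hne (by simpa using congrArg Subtype.val h)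
    obtain ⟨k, hk⟩ := IsPGroup.iff_orderOf.1 hYp₀ ⟨y, hy⟩
    rw [Subgroup.orderOf_mk] at hk
    have h8 : orderOf y ∣ Nat.card ↥((Cfsg.fittingSubgroup ↥(Cfsg.generalizedFittingSubgroup H)).map (Cfsg.generalizedFittingSubgroup H).subtype) :=
      Subgroup.orderOf_dvd_natCard _ (h6 hy)
    have h9 : orderOf y ≠ 1 := by
      rw [Ne, orderOf_eq_one_iff]; exact hne
    rcases Nat.eq_zero_or_pos k with rfl | hkpos
    · apply h9; simpa using hk
    · apply h7
      rw [hk] at h8
      exact (dvd_pow_self p hkpos.ne').trans h8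

end Cfsg.Agent.S2816
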