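import Cfsg.Statements.S2817
import Cfsg.Agent.Lib.FStarAct
import Cfsg.Agent.Lib.PCore

set_option autoImplicit false
open Cfsg

namespace Cfsg.Agent.S2817

open scoped commutatorElement
open Cfsg.Agent.Lib Subgroup Cfsg


/-- Let H be a finite group and p a prime with O_p(H) = 1, Q a p-subgroup of H, L = [F*(H), Q], and F the largest normal subgroup of F*(H) centralized by Q (a normal subgroup of F*(H) centralized by Q and containing every such). Then F = C_{F*(H)}(LQ); L = [L, Q]; L ∩ F ≤ Φ(L); every p-subgroup B of N_H(Q) with [L, B] ≤ F satisfies [L, B] = 1; and C_H(FL) has order prime to p. -/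
theorem result {H : Type*} [Group H] [Finite H] {p : ℕ} [Fact p.Prime] (hO : Cfsg.pCore p H = ⊥) (Q : Subgroup H) (hQ : IsPGroup p ↥Q) (L : Subgroup H) (hL : L = ⁅Cfsg.generalizedFittingSubgroup H, Q⁆) (F : Subgroup H) (hF : F ≤ Cfsg.generalizedFittingSubgroup H ∧ Cfsg.generalizedFittingSubgroup H ≤ Subgroup.normalizer (F : Set H) ∧ Q ≤ Subgroup.centralizer (F : Set H) ∧ ∀ N : Subgroup H, N ≤ Cfsg.generalizedFittingSubgroup H → Cfsg.generalizedFittingSubgroup H ≤ Subgroup.normalizer (N : Set H) → Q ≤ Subgroup.centralizer (N : Set H) → N ≤ F) : F = Cfsg.generalizedFittingSubgroup H ⊓ Subgroup.centralizer ((L ⊔ Q : Subgroup H) : Set H) ∧ ⁅L, Q⁆ = L ∧ L ⊓ F ≤ (frattini ↥L).map L.subtype ∧ (∀ B : Subgroup H, IsPGroup p ↥B → B ≤ Subgroup.normalizer (Q : Set H) → ⁅L, B⁆ ≤ F → ⁅L, B⁆ = ⊥) ∧ (Nat.card ↥(Subgroup.centralizer ((F ⊔ L : Subgroup H) : Set H))).Coprime p := by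
  classical
  obtain ⟨hFX, hXF, hQF, hmax⟩ := hF
  set X := Cfsg.generalizedFittingSubgroup H with hXdef
  have hXnn : X.Normal := Layer.genFitting_normal H
  have hXn : X.IsSubnormal := hXnn.isSubnormal
  have hF' : Cfsg.fittingSubgroup ↥X ⊔ Cfsg.layer ↥X = ⊤ := Comps.fitting_sup_layer_eq_top hXn le_rfl
  have hO' : Cfsg.pCore p ↥X = ⊥ := FStarAct.pCore_sub_eq_bot hO hXn
  have hNX : ∀ S : Subgroup H, S ≤ normalizer (X : Set H) := by
    intro S
    rw [normalizer_eq_top]; exact le_top
  obtain ⟨h1, h2⟩ := FStarAct.core_act hF' hO' hQ (hNX Q)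
  obtain ⟨E₂, Ec, hD⟩ := FStarAct.exists_coreData hF' (hNX Q)
  rw [← hL] at h1 h2
  have hLX : L ≤ X := by rw [hL]; exact FStarAct.comm_le_left (hNX Q)
  have hLnX : X ≤ normalizer (L : Set H) := by rw [hL]; exact FStarAct.comm_normalized_left X Q
  have hLnQ : Q ≤ normalizer (L : Set H) := by rw [hL]; exact FStarAct.comm_normalized_right X Q
  -- first part
  have hFL : F ≤ centralizer (L : Set H) := by
    rw [← Subgroup.commutator_eq_bot_iff_le_centralizer, commutator_comm, hL]
    have hQFc : ⁅Q, F⁆ = ⊥ := Subgroup.commutator_eq_bot_iff_le_centralizer.2 hQF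
    apply Subgroup.commutator_commutator_eq_bot_of_rotate
    · rw [hQFc]
      simp
    · rw [eq_bot_iff]
      have h3 : ⁅F, X⁆ ≤ F := FStarAct.comm_le_left hXF
      refine (Subgroup.commutator_mono h3 le_rfl).trans ?_
      rw [commutator_comm, hQFc]
  have hFQ : F ≤ centralizer (Q : Set H) := Subgroup.le_centralizer_iff.1 hQF
  have hpart1 : F = X ⊓ centralizer ((L ⊔ Q : Subgroup H) : Set H) := by
    apply le_antisymm
    · exact le_inf hFX (fun x hx => FStarAct.mem_centralizer_sup (hFL hx) (hFQ hx))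
    · apply hmax _ inf_le_left
      · -- `X` normalizes
        have hcq : X ⊓ centralizer (Q : Set H) ≤ normalizer (L : Set H) := by
          rw [hL]
          intro c hc
          apply FStarAct.commutator_normalizer_le
          exact ⟨Subgroup.le_normalizer hc.1, FStarAct.centralizer_le_normalizer' Q hc.2⟩
        have hcq2 : X ⊓ centralizer (Q : Set H) ≤ normalizer ((L ⊔ Q : Subgroup H) : Set H) := by
          intro c hc
          exact FStarAct.sup_normalizer_le _ _ ⟨hcq hc, FStarAct.centralizer_le_normalizer' Q hc.2⟩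
        refine h1.symm.le.trans ?_
        apply sup_le
        · have h3 : L ≤ centralizer ((X ⊓ centralizer ((L ⊔ Q : Subgroup H) : Set H) : Subgroup H) : Set H) := by
            rw [Subgroup.le_centralizer_iff]
            exact inf_le_right.trans (Subgroup.centralizer_le (le_sup_left : L ≤ L ⊔ Q))
          exact h3.trans (FStarAct.centralizer_le_normalizer' _)
        · intro c hc
          apply FStarAct.inf_normalizer_le
          refine ⟨(hNX _) (?_ : c ∈ (⊤ : Subgroup H)), FStarAct.normalizer_le_normalizer_centralizer' _ (hcq2 hc)⟩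
          trivial
      · rw [Subgroup.le_centralizer_iff]
        exact inf_le_right.trans (Subgroup.centralizer_le (le_sup_right : Q ≤ L ⊔ Q))
  -- the perfect part
  have hE₂L : E₂ ≤ L := by
    rw [hL]
    refine hD.le_comm.trans (Subgroup.commutator_mono ?_ le_rfl)
    have : E₂ ≤ (Cfsg.layer ↥X).map X.subtype := hD.sup_eq ▸ le_sup_left
    exact this.trans (Subgroup.map_subtype_le _)
  have hE₂X : E₂ ≤ X := hE₂L.trans hLX
  have hEcX : Ec ≤ X := by
    have : Ec ≤ (Cfsg.layer ↥X).map X.subtype := hD.sup_eq ▸ le_sup_right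
    exact this.trans (Subgroup.map_subtype_le _)
  have hEcF : Ec ≤ F := hmax Ec hEcX hD.norm_Ec (Subgroup.le_centralizer_iff.1 hD.cent)
  set V := ⁅(Cfsg.fittingSubgroup ↥X).map X.subtype, Q⁆ with hV
  have hLeq : V ⊔ E₂ = L := by rw [hL]; exact hD.comm_eq.symm
  have hVp : ¬ p ∣ Nat.card V := by
    intro h
    apply FStarAct.card_FL hO'
    exact h.trans (Subgroup.card_dvd_of_le (FStarAct.comm_le_left ((hNX Q).trans (FStarAct.norm_FL X))))
  have hVX : V ≤ X := (hLeq ▸ le_sup_left : V ≤ L).trans hLX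
  have hAb : ¬ p ∣ Nat.card (Abelianization ↥L) := by
    apply FStarAct.card_abelianization_of_sup hLeq (hVX.trans hD.norm_E₂) _ hVp
    rw [← hD.perf]
    exact Subgroup.commutator_mono hE₂L hE₂L
  have hLC : L ⊓ centralizer (Q : Set H) ≤ (commutator ↥L).map L.subtype :=
    FStarAct.inf_centralizer_le_derived hQ hLnQ (hL ▸ h2.symm : ⁅L, Q⁆ = L) hAb
  have hpart3 : L ⊓ F ≤ (frattini ↥L).map L.subtype := by
    rintro x ⟨hxL, hxF⟩
    refine ⟨⟨x, hxL⟩, ?_, rfl⟩
    have hz1 : (⟨x, hxL⟩ : L) ∈ center ↥L := by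
      rw [Subgroup.mem_center_iff]
      rintro ⟨g, hg⟩
      apply Subtype.ext
      exact mem_centralizer_iff.1 (hFL hxF) g hg
    have hz2 : (⟨x, hxL⟩ : L) ∈ commutator ↥L := by
      obtain ⟨y, hy, hyx⟩ := hLC ⟨hxL, hFQ hxF⟩
      have : y = ⟨x, hxL⟩ := Subtype.ext hyx
      rwa [← this]
    exact FStarAct.center_inf_commutator_le_frattini ↥L ⟨hz1, hz2⟩
  -- `Φ(L)` has order prime to `p`
  have hLn : L.IsSubnormal := by
    have h3 : (L.subgroupOf X).Normal := (Subgroup.normal_subgroupOf_iff_le_normalizer hLX).2 hLnX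
    have h4 := Subgroup.IsSubnormal.trans' (h3.isSubnormal) hXn
    rwa [Subgroup.map_subgroupOf_eq_of_le hLX] at h4
  have hFrat : ¬ p ∣ Nat.card (frattini ↥L) := by
    have hfn : (frattini ↥L).Normal := inferInstance
    have h3 : ((frattini ↥L).map L.subtype).IsSubnormal :=
      Subgroup.IsSubnormal.trans' hfn.isSubnormal hLn
    haveI hnil : Group.IsNilpotent (frattini ↥L) := frattini_nilpotent
    have h4 : Group.IsNilpotent ((frattini ↥L).map L.subtype : Subgroup H) :=
      nilpotent_of_mulEquiv (Subgroup.equivMapOfInjective _ L.subtype L.subtype_injective)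
    have h5 := Comps.subnormal_nilpotent_le_fitting h3 h4
    intro h6
    apply FStarAct.fitting_not_dvd (p := p) hO
    refine h6.trans ?_
    rw [← Subgroup.card_map_of_injective L.subtype_injective]
    exact Subgroup.card_dvd_of_le h5
  have hPtriv : ∀ P : Subgroup H, IsPGroup p ↥P → P ≤ (Cfsg.fittingSubgroup ↥X).map X.subtype → P = ⊥ := by
    intro P hP hle
    rw [eq_bot_iff]
    intro y hy
    by_contra hne
    obtain ⟨k, hk⟩ := IsPGroup.iff_orderOf.1 hP ⟨y, hy⟩
    rw [Subgroup.orderOf_mk] at hk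
    have h8 := Subgroup.orderOf_dvd_natCard _ (hle hy)
    have h9 : orderOf y ≠ 1 := by
      rw [Ne, orderOf_eq_one_iff]; exact hne
    rcases Nat.eq_zero_or_pos k with rfl | hkpos
    · apply h9; simpa using hk
    · apply FStarAct.card_FL hO'
      rw [hk] at h8
      exact (dvd_pow_self p hkpos.ne').trans h8
  refine ⟨hpart1, hL ▸ h2.symm, hpart3, ?_, ?_⟩
  · -- fourth part
    intro B hB hBQ hLB
    have hBL : B ≤ normalizer (L : Set H) := by
      rw [hL]
      intro b hb
      exact FStarAct.commutator_normalizer_le _ _ ⟨hNX B hb, hBQ hb⟩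
    have hcop : (Nat.card ↥B).Coprime (Nat.card ↥(frattini ↥L)) := by
      obtain ⟨k, hk⟩ := IsPGroup.iff_card.1 hB
      rw [hk]
      exact Nat.Coprime.pow_left _ (((Fact.out : p.Prime).coprime_iff_not_dvd).2 hFrat)
    have h3 := SchurZ2.le_centralizer_of_frattini B L hBL hcop (by
      intro a ha k hk
      apply hpart3
      constructor
      · have := L.mul_mem ((mem_normalizer_iff.1 (hBL ha) k).1 hk) (L.inv_mem hk)
        exact this
      · have h4 : ⁅k, a⁆ ∈ F := hLB (Subgroup.commutator_mem_commutator hk ha)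
        have h5 := F.inv_mem h4
        have e : ⁅k, a⁆⁻¹ = a * k * a⁻¹ * k⁻¹ := by
          simp only [commutatorElement_def]; group
        rw [e] at h5
        exact h5)
    rw [Subgroup.commutator_eq_bot_iff_le_centralizer]
    exact Subgroup.le_centralizer_iff.1 h3
  · -- fifth part
    set N := F ⊔ L with hN
    have hXN : X ≤ normalizer (N : Set H) :=
      le_trans (le_inf hXF hLnX) (FStarAct.sup_normalizer_le _ _)
    have hQN : Q ≤ normalizer (N : Set H) :=
      le_trans (le_inf (hQF.trans (FStarAct.centralizer_le_normalizer' F)) hLnQ) (FStarAct.sup_normalizer_le _ _)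
    have hELN : (Cfsg.layer ↥X).map X.subtype ≤ N := by
      rw [← hD.sup_eq]
      exact sup_le (hE₂L.trans le_sup_right) (hEcF.trans le_sup_left)
    set D := X ⊓ centralizer (N : Set H) with hDdef
    have hDFL : D ≤ (Cfsg.fittingSubgroup ↥X).map X.subtype := by
      intro d hd
      exact FStarAct.inf_centralizer_EL_le_FL hF' ⟨hd.1, Subgroup.centralizer_le hELN hd.2⟩
    have hDp : ¬ p ∣ Nat.card D := fun h => FStarAct.card_FL hO' (h.trans (Subgroup.card_dvd_of_le hDFL))
    have hQD : Q ≤ normalizer (D : Set H) := by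
      intro q hq
      exact FStarAct.inf_normalizer_le _ _ ⟨hNX Q hq, FStarAct.normalizer_le_normalizer_centralizer' _ (hQN hq)⟩
    obtain ⟨hd1, -⟩ := FStarAct.coprime_comm hDp hQ hQD
    have hDN : D ≤ N := by
      refine hd1.symm.le.trans ?_
      apply sup_le
      · have h3 : ⁅D, Q⁆ ≤ L := by
          rw [hL]; exact Subgroup.commutator_mono inf_le_left le_rfl
        exact h3.trans le_sup_right
      · refine le_trans ?_ le_sup_left
        refine le_trans ?_ hpart1.symm.le
        rintro x ⟨⟨hxX, hxN⟩, hxQ⟩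
        exact ⟨hxX, FStarAct.mem_centralizer_sup (Subgroup.centralizer_le (le_sup_right : L ≤ N) hxN) hxQ⟩
    have hPbot : ∀ P : Subgroup H, IsPGroup p ↥P → P ≤ centralizer (N : Set H) → P = ⊥ := by
      intro P hP hPN
      have hPNc : ⁅P, N⁆ = ⊥ := Subgroup.commutator_eq_bot_iff_le_centralizer.2 hPN
      have hrot : ⁅⁅X, P⁆, N⁆ = ⊥ := by
        apply Subgroup.commutator_commutator_eq_bot_of_rotate
        · rw [hPNc]; simp
        · have h3 : ⁅N, X⁆ ≤ N := FStarAct.comm_le_left hXN
          rw [eq_bot_iff]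
          refine (Subgroup.commutator_mono h3 le_rfl).trans ?_
          rw [commutator_comm, hPNc]
      have h3 : ⁅X, P⁆ ≤ D :=
        le_inf (FStarAct.comm_le_left (hNX P)) (Subgroup.commutator_eq_bot_iff_le_centralizer.1 hrot)
      have h4 : ⁅⁅X, P⁆, P⁆ = ⊥ := by
        rw [eq_bot_iff]
        refine (Subgroup.commutator_mono (h3.trans hDN) le_rfl).trans ?_
        rw [commutator_comm, hPNc]
      obtain ⟨-, h5⟩ := FStarAct.core_act hF' hO' hP (hNX P)
      rw [h4, Subgroup.commutator_eq_bot_iff_le_centralizer] at h5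
      have h6 : P ≤ centralizer (X : Set H) := Subgroup.le_centralizer_iff.1 h5
      have h7 : P ≤ X := h6.trans Comps.bender
      apply hPtriv P hP
      intro y hy
      exact FStarAct.inf_centralizer_EL_le_FL hF' ⟨h7 hy, Subgroup.centralizer_le (Subgroup.map_subtype_le _) (h6 hy)⟩
    rw [Nat.coprime_comm, (Fact.out : p.Prime).coprime_iff_not_dvd]
    intro hdvd
    obtain ⟨x, hx⟩ := exists_prime_orderOf_dvd_card' p hdvd
    have hxo : orderOf (x : H) = p := by rw [Subgroup.orderOf_coe]; exact hx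
    have hP : IsPGroup p ↥(zpowers (x : H)) := by
      apply IsPGroup.of_card (n := 1)
      rw [Nat.card_zpowers, hxo, pow_one]
    have h3 := hPbot _ hP ((Subgroup.zpowers_le).2 x.2)
    rw [Subgroup.zpowers_eq_bot] at h3
    rw [h3, orderOf_one] at hxo
    exact (Fact.out : p.Prime).one_lt.ne hxo

end Cfsg.Agent.S2817
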