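import Cfsg.Statements.S2818
import Cfsg.Agent.Lib.CoprimeAct
open scoped commutatorElement

set_option autoImplicit false
open Cfsg

namespace Cfsg.Agent.S2818

/-- Let P be a finite p-subgroup of a group G and H a subgroup of N_G(P) with [P, H] ≤ Ω₁(Z(P)) (the elements of order dividing p in the centre of P). Then H centralizes the Frattini subgroup of P. -/
theorem result {G : Type*} [Group G] [Finite G] {p : ℕ} [Fact p.Prime] (P : Subgroup G) (hP : IsPGroup p ↥P) (H : Subgroup G) (hH : H ≤ Subgroup.normalizer (P : Set G)) (h : ⁅P, H⁆ ≤ Cfsg.omegaOne p (P ⊓ Subgroup.centralizer (P : Set G))) : ⁅(frattini ↥P).map P.subtype, H⁆ = ⊥ := by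
  open Cfsg.Agent.Lib.CoprimeAct Cfsg.Agent.Lib.Commutators Cfsg.Agent.Lib.PCore in
  rw [eq_bot_iff, Subgroup.commutator_le]
  rintro _ ⟨a, ha, rfl⟩ x hx
  rw [Subgroup.mem_bot, commutatorElement_eq_one_iff_mul_comm]
  -- `y ↦ x y x⁻¹ = z y` with `z` central of order dividing `p`
  have hz : ∀ y : P, ∃ z : G, z ∈ P ∧ z ∈ Subgroup.centralizer (P : Set G) ∧ z ^ p = 1 ∧
      x * (y : G) * x⁻¹ = z * y := by
    intro y
    have h1 : ⁅(y : G), x⁆ ∈ ⁅P, H⁆ := Subgroup.commutator_mem_commutator y.2 hx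
    obtain ⟨h2, h3, h4⟩ := mem_omegaOne_center (h h1)
    refine ⟨⁅(y : G), x⁆⁻¹, P.inv_mem h2, Subgroup.inv_mem _ h3, by rw [inv_pow, h4, inv_one], ?_⟩
    rw [commutatorElement_def]; group
  -- `C_P(x)` as a subgroup of `P`
  let N : Subgroup P := (Subgroup.centralizer ({x} : Set G)).subgroupOf P
  have hmemN : ∀ y : P, y ∈ N ↔ x * (y : G) * x⁻¹ = y := by
    intro y
    show (y : G) ∈ Subgroup.centralizer ({x} : Set G) ↔ _
    rw [Subgroup.mem_centralizer_iff]
    constructor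
    · intro h1
      have := h1 x (Set.mem_singleton x)
      rw [this]; group
    · intro h1 g hg
      rw [Set.mem_singleton_iff.1 hg]
      calc x * (y : G) = (x * (y : G) * x⁻¹) * x := by group
        _ = _ := by rw [h1]
  have hNn : N.Normal := by
    refine ⟨fun c hc y => ?_⟩
    rw [hmemN] at hc ⊢
    obtain ⟨z, hzP, hzc, -, hzy⟩ := hz y
    have hc1 : z * ((y : G) * (c : G) * (y : G)⁻¹) = ((y : G) * (c : G) * (y : G)⁻¹) * z :=
      ((Subgroup.mem_centralizer_iff.1 hzc) _ (P.mul_mem (P.mul_mem y.2 c.2) (P.inv_mem y.2))).symm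
    push_cast
    calc x * ((y : G) * (c : G) * (y : G)⁻¹) * x⁻¹
        = (x * (y : G) * x⁻¹) * (x * (c : G) * x⁻¹) * (x * (y : G) * x⁻¹)⁻¹ := by group
      _ = (z * y) * (c : G) * (z * y)⁻¹ := by rw [hc, hzy]
      _ = (z * ((y : G) * (c : G) * (y : G)⁻¹)) * z⁻¹ := by group
      _ = _ := by rw [hc1]; group
  have hfrat : frattini P ≤ N := by
    refine frattini_le_of_elementary (p := p) ?_ ?_
    · intro u v
      rw [hmemN]
      obtain ⟨z, -, hzc, -, hzu⟩ := hz u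
      obtain ⟨z', hz', hzc', -, hzv⟩ := hz v
      have c1 : ∀ w ∈ P, z * w = w * z := fun w hw => ((Subgroup.mem_centralizer_iff.1 hzc) w hw).symm
      have c2 : ∀ w ∈ P, z' * w = w * z' := fun w hw => ((Subgroup.mem_centralizer_iff.1 hzc') w hw).symm
      push_cast
      have e1 : x * ((u : G) * (v : G) * (u : G)⁻¹ * (v : G)⁻¹) * x⁻¹ =
          (x * (u : G) * x⁻¹) * (x * (v : G) * x⁻¹) * (x * (u : G) * x⁻¹)⁻¹ * (x * (v : G) * x⁻¹)⁻¹ := by group
      rw [e1, hzu, hzv]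
      have hzP' : z' ∈ P := hz' 
      have m1 : (u : G) * z' * (v : G) * (u : G)⁻¹ ∈ P :=
        P.mul_mem (P.mul_mem (P.mul_mem u.2 hzP') v.2) (P.inv_mem u.2)
      have m2 : (u : G) * (v : G) * (u : G)⁻¹ * (v : G)⁻¹ ∈ P :=
        P.mul_mem (P.mul_mem (P.mul_mem u.2 v.2) (P.inv_mem u.2)) (P.inv_mem v.2)
      calc z * (u : G) * (z' * (v : G)) * (z * (u : G))⁻¹ * (z' * (v : G))⁻¹
          = z * ((u : G) * z' * (v : G) * (u : G)⁻¹) * z⁻¹ * (z' * (v : G))⁻¹ := by group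
        _ = ((u : G) * z' * (v : G) * (u : G)⁻¹) * z * z⁻¹ * (z' * (v : G))⁻¹ := by rw [c1 _ m1]
        _ = ((u : G) * z' * (v : G) * (u : G)⁻¹) * (z' * (v : G))⁻¹ := by group
        _ = (z' * (u : G) * (v : G) * (u : G)⁻¹) * (z' * (v : G))⁻¹ := by rw [← c2 _ u.2]
        _ = z' * ((u : G) * (v : G) * (u : G)⁻¹ * (v : G)⁻¹) * z'⁻¹ := by group
        _ = ((u : G) * (v : G) * (u : G)⁻¹ * (v : G)⁻¹) * z' * z'⁻¹ := by rw [c2 _ m2]
        _ = _ := by group
    · intro u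
      rw [hmemN]
      obtain ⟨z, -, hzc, hzp, hzu⟩ := hz u
      have hcomm : Commute z (u : G) := ((Subgroup.mem_centralizer_iff.1 hzc) _ u.2).symm
      push_cast
      have e1 : x * (u : G) ^ p * x⁻¹ = (x * (u : G) * x⁻¹) ^ p := by
        rw [conj_pow]
      rw [e1, hzu, hcomm.mul_pow, hzp, one_mul]
  have h5 := (hmemN a).1 (hfrat ha)
  show (a : G) * x = x * a
  calc (a : G) * x = (x * (a : G) * x⁻¹) * x := by rw [h5]
    _ = x * a := by group

end Cfsg.Agent.S2818
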