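import Cfsg.Statements.S2819
import Cfsg.Agent.Lib.DualAB
import Cfsg.Agent.Lib.CoprimeAct
import Cfsg.Agent.Lib.PResidual

set_option autoImplicit false
open Cfsg

namespace Cfsg.Agent.S2819


open scoped commutatorElement
open Cfsg.Agent.Lib.DualAB

theorem pow_mul_mem {G : Type*} [Group G] (P : Subgroup G) {u v : G} (hu : u ∈ P) (hv : v ∈ P) (n : ℕ) :
    (u * v) ^ n * (v ^ n)⁻¹ * (u ^ n)⁻¹ ∈ (⁅P, P⁆ : Subgroup G) := by
  let u' : P := ⟨u, hu⟩
  let v' : P := ⟨v, hv⟩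
  have h1 : Abelianization.of ((u' * v') ^ n * (v' ^ n)⁻¹ * (u' ^ n)⁻¹) = 1 := by
    simp only [map_mul, map_pow, map_inv, mul_pow]
    rw [mul_inv_cancel_right, mul_inv_cancel]
  have h2 : ((u' * v') ^ n * (v' ^ n)⁻¹ * (u' ^ n)⁻¹) ∈ commutator P := by
    rw [← Abelianization.ker_of]
    exact h1
  have h3 := Subgroup.mem_map_of_mem P.subtype h2
  rw [Subgroup.map_subtype_commutator] at h3
  exact h3

/-- `{x ∈ P | x^p ∈ P'}`. -/
def E0 {G : Type*} [Group G] (P : Subgroup G) (p : ℕ) : Subgroup G where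
  carrier := {x | x ∈ P ∧ x ^ p ∈ (⁅P, P⁆ : Subgroup G)}
  mul_mem' := by
    rintro x y ⟨hx, hx2⟩ ⟨hy, hy2⟩
    refine ⟨P.mul_mem hx hy, ?_⟩
    have h1 := pow_mul_mem P hx hy p
    have e : (x * y) ^ p = ((x * y) ^ p * (y ^ p)⁻¹ * (x ^ p)⁻¹) * (x ^ p * y ^ p) := by
      simp [mul_assoc]
    rw [e]
    exact Subgroup.mul_mem _ h1 (Subgroup.mul_mem _ hx2 hy2)
  one_mem' := ⟨P.one_mem, by simp [Subgroup.one_mem]⟩
  inv_mem' := by
    rintro x ⟨hx, hx2⟩
    exact ⟨P.inv_mem hx, by rw [inv_pow]; exact Subgroup.inv_mem _ hx2⟩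


/-- Let P be a finite p-subgroup of a group G, H a subgroup of N_G(P), and Y a subgroup of H centralizing the derived subgroup P' such that [P, Y] is elementary abelian. Then O^p(⟨Y^H⟩), the subgroup of the normal closure of Y in H generated by its elements of order prime to p, centralizes the Frattini subgroup of P. -/
theorem result {G : Type*} [Group G] [Finite G] {p : ℕ} [Fact p.Prime] (P : Subgroup G) (hP : IsPGroup p ↥P) (H : Subgroup G) (hH : H ≤ Subgroup.normalizer (P : Set G)) (Y : Subgroup G) (hYH : Y ≤ H) (hYc : Y ≤ Subgroup.centralizer ((⁅P, P⁆ : Subgroup G) : Set G)) (hel : Cfsg.IsElementaryAbelian p ⁅P, Y⁆) (NY : Subgroup G) (hNY : NY = (Subgroup.normalClosure ((Y.subgroupOf H : Subgroup ↥H) : Set ↥H)).map H.subtype) : (Cfsg.pResidual p ↥NY).map NY.subtype ≤ Subgroup.centralizer (((frattini ↥P).map P.subtype : Subgroup G) : Set G) := by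
  classical
  set D : Subgroup G := ⁅P, P⁆ with hD
  set E₀ := E0 P p with hE₀
  have hcj : ∀ {A : Subgroup G} {g : G}, g ∈ Subgroup.normalizer (A : Set G) → ∀ b ∈ A, g * b * g⁻¹ ∈ A :=
    fun hg b hb => (Subgroup.mem_normalizer_iff.1 hg b).1 hb
  have hDn : ∀ g ∈ Subgroup.normalizer (P : Set G), g ∈ Subgroup.normalizer (D : Set G) :=
    fun g hg => norm_comm hg hg
  have hE₀n : ∀ g ∈ Subgroup.normalizer (P : Set G), g ∈ Subgroup.normalizer (E₀ : Set G) := by
    intro g hg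
    have h1 : ∀ g ∈ Subgroup.normalizer (P : Set G), ∀ x ∈ E₀, g * x * g⁻¹ ∈ E₀ := by
      rintro g hg x ⟨hx, hx2⟩
      refine ⟨hcj hg x hx, ?_⟩
      rw [conj_pow]
      exact hcj (hDn g hg) _ hx2
    rw [Subgroup.mem_normalizer_iff]
    intro x
    refine ⟨h1 g hg x, fun h => ?_⟩
    have := h1 g⁻¹ (Subgroup.inv_mem _ hg) _ h
    simpa [mul_assoc] using this
  -- the subgroup acting trivially modulo `E₀`
  let M : Subgroup G :=
    { carrier := {g | g ∈ Subgroup.normalizer (P : Set G) ∧ g ∈ Subgroup.centralizer (D : Set G) ∧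
        ∀ x ∈ P, x * g * x⁻¹ * g⁻¹ ∈ E₀}
      mul_mem' := by
        rintro g h ⟨hg, hg2, hg3⟩ ⟨hh, hh2, hh3⟩
        refine ⟨Subgroup.mul_mem _ hg hh, Subgroup.mul_mem _ hg2 hh2, fun x hx => ?_⟩
        have e : x * (g * h) * x⁻¹ * (g * h)⁻¹ = (x * g * x⁻¹ * g⁻¹) * (g * (x * h * x⁻¹ * h⁻¹) * g⁻¹) := by group
        rw [e]
        exact E₀.mul_mem (hg3 x hx) (hcj (hE₀n g hg) _ (hh3 x hx))
      one_mem' := ⟨Subgroup.one_mem _, Subgroup.one_mem _, fun x _ => by simp [E₀.one_mem]⟩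
      inv_mem' := by
        rintro g ⟨hg, hg2, hg3⟩
        refine ⟨Subgroup.inv_mem _ hg, Subgroup.inv_mem _ hg2, fun x hx => ?_⟩
        have e : x * g⁻¹ * x⁻¹ * g⁻¹⁻¹ = g⁻¹ * (x * g * x⁻¹ * g⁻¹)⁻¹ * g⁻¹⁻¹ := by group
        rw [e]
        exact hcj (hE₀n g⁻¹ (Subgroup.inv_mem _ hg)) _ (E₀.inv_mem (hg3 x hx)) }
  have hHP : ∀ h ∈ H, h ∈ Subgroup.normalizer (P : Set G) := fun h hh => hH hh
  have hYM : Y ≤ M := by
    intro y hy
    have hyN : y ∈ Subgroup.normalizer (P : Set G) := hH (hYH hy)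
    refine ⟨hyN, hYc hy, fun x hx => ?_⟩
    have h1 : ⁅x, y⁆ ∈ (⁅P, Y⁆ : Subgroup G) := Subgroup.commutator_mem_commutator hx hy
    have h2 : (⁅P, Y⁆ : Subgroup G) ≤ P :=
      Cfsg.Agent.Lib.SchurZ.commutator_le_of_normalizes (fun g hg => hH (hYH hg))
    refine ⟨h2 h1, ?_⟩
    have h3 := hel.2 _ h1
    rw [commutatorElement_def] at h3
    rw [h3]
    exact Subgroup.one_mem _
  have hMconj : ∀ h ∈ H, ∀ g ∈ M, h * g * h⁻¹ ∈ M := by
    rintro h hh g ⟨hg, hg2, hg3⟩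
    refine ⟨Subgroup.mul_mem _ (Subgroup.mul_mem _ (hHP h hh) hg) (Subgroup.inv_mem _ (hHP h hh)), ?_, fun x hx => ?_⟩
    · rw [Subgroup.mem_centralizer_iff]
      intro d hd
      have h1 := hcj (hDn h⁻¹ (Subgroup.inv_mem _ (hHP h hh))) d hd
      have h2 := Subgroup.mem_centralizer_iff.1 hg2 _ h1
      calc d * (h * g * h⁻¹) = h * ((h⁻¹ * d * h⁻¹⁻¹) * g) * h⁻¹ := by group
        _ = h * (g * (h⁻¹ * d * h⁻¹⁻¹)) * h⁻¹ := by rw [h2]
        _ = _ := by group
    · have hx' : h⁻¹ * x * h⁻¹⁻¹ ∈ P := hcj (Subgroup.inv_mem _ (hHP h hh)) x hx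
      have h1 := hg3 _ hx'
      have e : x * (h * g * h⁻¹) * x⁻¹ * (h * g * h⁻¹)⁻¹
          = h * ((h⁻¹ * x * h⁻¹⁻¹) * g * (h⁻¹ * x * h⁻¹⁻¹)⁻¹ * g⁻¹) * h⁻¹ := by group
      rw [e]
      exact hcj (hE₀n h (hHP h hh)) _ h1
  have hNYM : NY ≤ M := by
    rw [hNY, Subgroup.map_le_iff_le_comap]
    haveI hnorm : (M.comap H.subtype).Normal := ⟨fun g hg h => by
      exact hMconj h.1 h.2 g.1 hg⟩
    apply Subgroup.normalClosure_le_normal
    intro g hg
    exact hYM hg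
  -- a coprime element
  have key : ∀ y ∈ M, (orderOf y).Coprime p → ∀ f ∈ frattini ↥P, (f : G) * y = y * f := by
    intro y hyM hco f hf
    obtain ⟨hyN, hyC, hy3⟩ := id hyM
    have hAP : Subgroup.zpowers y ≤ Subgroup.normalizer (P : Set G) := (Subgroup.zpowers_le).2 hyN
    have hAM : Subgroup.zpowers y ≤ M := (Subgroup.zpowers_le).2 hyM
    have hcop : Nat.Coprime (Nat.card P) (Nat.card (Subgroup.zpowers y)) := by
      obtain ⟨n, hn⟩ := IsPGroup.iff_card.1 hP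
      rw [hn, Nat.card_zpowers]
      exact Nat.Coprime.pow_left n hco.symm
    have hs : Group.IsSolvable P ∨ Group.IsSolvable (Subgroup.zpowers y) := by
      left
      haveI := hP.isNilpotent
      infer_instance
    have hAE : (⁅P, Subgroup.zpowers y⁆ : Subgroup G) ≤ E₀ := by
      rw [Subgroup.commutator_le]
      intro x hx a ha
      exact (hAM ha).2.2 x hx
    have hyD : ∀ d ∈ D, y * d = d * y := fun d hd => (Subgroup.mem_centralizer_iff.1 hyC d hd).symm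
    have hpow : ∀ z ∈ P, y * z ^ p = z ^ p * y := by
      intro z hz
      obtain ⟨n, hn, hc⟩ := Cfsg.Agent.Lib.SchurZ.exists_decomp_fixed hAP hcop hs hz
      set c := n * z with hcdef
      have hn' : n⁻¹ ∈ E₀ := E₀.inv_mem (hAE hn)
      have hcy : c * y = y * c := Subgroup.mem_centralizer_iff.1 hc.2 y (Subgroup.mem_zpowers y) |>.symm
      have hz' : z = n⁻¹ * c := by rw [hcdef]; group
      have h1 := pow_mul_mem P hn'.1 hc.1 p
      rw [← hz'] at h1
      set w := z ^ p * (c ^ p)⁻¹ * ((n⁻¹) ^ p)⁻¹ with hw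
      have h2 : z ^ p = (w * (n⁻¹) ^ p) * c ^ p := by rw [hw]; group
      have h3 : w * (n⁻¹) ^ p ∈ D := D.mul_mem h1 hn'.2
      have h4 : y * c ^ p = c ^ p * y := ((Commute.pow_left hcy p)).eq.symm
      rw [h2]
      calc y * ((w * n⁻¹ ^ p) * c ^ p) = (y * (w * n⁻¹ ^ p)) * c ^ p := by group
        _ = ((w * n⁻¹ ^ p) * y) * c ^ p := by rw [hyD _ h3]
        _ = (w * n⁻¹ ^ p) * (y * c ^ p) := by group
        _ = (w * n⁻¹ ^ p) * (c ^ p * y) := by rw [h4]
        _ = _ := by group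
    let C' : Subgroup ↥P := (Subgroup.centralizer ({y} : Set G)).subgroupOf P
    have hmemC : ∀ a : ↥P, y * (a : G) = (a : G) * y → a ∈ C' := by
      intro a ha
      show (a : G) ∈ Subgroup.centralizer ({y} : Set G)
      rw [Subgroup.mem_centralizer_singleton_iff]
      exact ha.symm
    haveI : C'.normalCore.Normal := Subgroup.normalCore_normal _
    have hle : frattini ↥P ≤ C'.normalCore := by
      apply Cfsg.Agent.Lib.CoprimeAct.frattini_le_of_elementary (p := p)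
      · intro a b g
        apply hmemC
        have h1 : ((a : G) * b * (a : G)⁻¹ * (b : G)⁻¹) ∈ D :=
          Subgroup.commutator_mem_commutator a.2 b.2
        have h2 : (g : G) * ((a : G) * b * (a : G)⁻¹ * (b : G)⁻¹) * (g : G)⁻¹ ∈ D :=
          hcj (hDn g.1 (Subgroup.le_normalizer g.2)) _ h1
        exact hyD _ h2
      · intro a g
        apply hmemC
        have e : ((g * a ^ p * g⁻¹ : ↥P) : G) = ((g : G) * a * (g : G)⁻¹) ^ p := by
          rw [conj_pow]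
          simp
        rw [e]
        exact hpow _ (P.mul_mem (P.mul_mem g.2 a.2) (P.inv_mem g.2))
    have h1 : f ∈ C' := Subgroup.normalCore_le _ (hle hf)
    exact Subgroup.mem_centralizer_singleton_iff.1 h1
  rw [Subgroup.map_le_iff_le_comap, Cfsg.pResidual, Subgroup.closure_le]
  intro g hg
  show (g : G) ∈ Subgroup.centralizer _
  rw [Subgroup.mem_centralizer_iff]
  rintro _ ⟨f, hf, rfl⟩
  exact key g.1 (hNYM g.2) (by rwa [Subgroup.orderOf_coe]) f hf

end Cfsg.Agent.S2819
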