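import Cfsg.Statements.S2820
import Cfsg.Agent.Lib.CharP

set_option autoImplicit false
open Cfsg

namespace Cfsg.Agent.S2820

/-- Let A and B be subnormal subgroups of the finite group H with A a p-group and B = O^p(B) (B generated by its elements of order prime to p). Then A normalizes B and B = O^p(AB), the subgroup of ⟨A, B⟩ generated by its elements of order prime to p. -/
theorem result {H : Type*} [Group H] [Finite H] {p : ℕ} [Fact p.Prime] (A B : Subgroup H) (hA : A.IsSubnormal) (hB : B.IsSubnormal) (hAp : IsPGroup p ↥A) (hBres : (Cfsg.pResidual p ↥B).map B.subtype = B) : A ≤ Subgroup.normalizer (B : Set H) ∧ (Cfsg.pResidual p ↥(A ⊔ B)).map (A ⊔ B).subtype = B := by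
  open Cfsg.Agent.Lib.CharP in
  have hAQ := le_pCore_of_subnormal hA hAp
  have hBres' : res p B = B := hBres
  have h1 : A ≤ Subgroup.normalizer (B : Set H) := by
    have := pCore_le_normalizer_res (p := p) hB
    rw [hBres'] at this
    exact hAQ.trans this
  refine ⟨h1, ?_⟩
  apply le_antisymm
  · show res p (A ⊔ B) ≤ B
    rw [res_eq_closure, Subgroup.closure_le]
    rintro y ⟨hy, hyo⟩
    rw [sup_comm] at hy
    exact mem_of_coprime_of_mem_sup' h1 hAp hy hyo
  · show B ≤ res p (A ⊔ B)
    calc B = res p B := hBres'.symm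
      _ ≤ res p (A ⊔ B) := res_mono le_sup_right

end Cfsg.Agent.S2820
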