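import Cfsg.Statements.S2821
import Cfsg.Agent.Lib.PReduced
import Cfsg.Agent.Lib.WeaklyClosed
import Cfsg.Agent.Lib.SylowIn

set_option autoImplicit false
open Cfsg

namespace Cfsg.Agent.S2821

/-- Let H be a finite group, p a prime, T a Sylow p-subgroup and L a subgroup of characteristic p containing T; let Y_L be the largest p-reduced normal subgroup of L (the join of the normal elementary abelian p-subgroups V of L with O_p(L/C_L(V)) = 1). Then T₀ := C_T(Y_L) is a Sylow p-subgroup of C_H(Y_L); moreover O_p(L) ≤ T₀ ≤ C_L(Y_L) and Ω₁(Z(T)) ≤ Z_L ≤ Y_L ≤ Ω₁(Z(O_p(L))), where Z_L is generated by the Ω₁(Z(S)) over the Sylow p-subgroups S of L. -/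
theorem result {H : Type*} [Group H] [Finite H] {p : ℕ} [Fact p.Prime] (T : Sylow p H) (L : Subgroup H) (hTL : (T : Subgroup H) ≤ L) (hL : Subgroup.centralizer (Cfsg.pCore p ↥L : Set ↥L) ≤ Cfsg.pCore p ↥L) (T₀ : Subgroup H) (hT₀ : T₀ = (T : Subgroup H) ⊓ Subgroup.centralizer (((Cfsg.largestPReducedOf p L) : Subgroup H) : Set H)) : (∃ P : Sylow p ↥(Subgroup.centralizer (((Cfsg.largestPReducedOf p L) : Subgroup H) : Set H)), (P : Subgroup ↥(Subgroup.centralizer (((Cfsg.largestPReducedOf p L) : Subgroup H) : Set H))) = T₀.subgroupOf (Subgroup.centralizer (((Cfsg.largestPReducedOf p L) : Subgroup H) : Set H))) ∧ (Cfsg.pCoreOf p L) ≤ T₀ ∧ T₀ ≤ L ⊓ Subgroup.centralizer (((Cfsg.largestPReducedOf p L) : Subgroup H) : Set H) ∧ (Cfsg.omegaOne p ((T : Subgroup H) ⊓ Subgroup.centralizer (((T : Subgroup H) : Subgroup H) : Set H))) ≤ Cfsg.sylowCenterClosure p L ∧ Cfsg.sylowCenterClosure p L ≤ (Cfsg.largestPReducedOf p L) ∧ (Cfsg.largestPReducedOf p L) ≤ (Cfsg.omegaOne p ((Cfsg.pCoreOf p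 L) ⊓ Subgroup.centralizer (((Cfsg.pCoreOf p L) : Subgroup H) : Set H))) := by
  open Cfsg.Agent.Lib.PReduced Cfsg.Agent.Lib.AmalgamChar Cfsg.Agent.Lib.WeaklyClosed in
  set Y := Cfsg.largestPReducedOf p L with hY
  set C := Subgroup.centralizer ((Y : Subgroup H) : Set H) with hC
  have hTC : (T : Subgroup H) ≤ Subgroup.normalizer (C : Set H) :=
    hTL.trans ((le_normalizer_largestPReducedOf L).trans (normalizer_le_normalizer_centralizer Y))
  refine ⟨?_, ?_, ?_, ?_, ?_, ?_⟩
  · -- Sylow in C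
    have hX : (T : Subgroup H) ⊔ C ≤ Subgroup.normalizer (C : Set H) :=
      sup_le hTC Subgroup.le_normalizer
    have hA : Cfsg.Agent.Lib.SylowIn.IsSylowIn p (T : Subgroup H) ((T : Subgroup H) ⊔ C) := by
      refine Cfsg.Agent.Lib.SylowIn.isSylowIn_of_card le_sup_left T.isPGroup' fun U _ hU => ?_
      obtain ⟨Q, hQ⟩ := hU.exists_le_sylow
      calc Nat.card U ≤ Nat.card Q := Subgroup.card_le_of_le hQ
        _ = Nat.card T := by rw [Sylow.card_eq_multiplicity, Sylow.card_eq_multiplicity]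
    have h := hA.inf_of_normal le_sup_left le_sup_right (fun x hx m hm => by
      have := hX hx
      rw [Subgroup.mem_normalizer_iff] at this
      exact (this m).mp hm)
    rw [hT₀]
    exact h
  · rw [hT₀]
    exact le_inf (pCoreOf_le_sylow T hTL) (pCoreOf_le_centralizer_largestPReducedOf L)
  · rw [hT₀]
    exact le_inf (inf_le_left.trans hTL) inf_le_right
  · have hS : ((T.subtype hTL : Sylow p L) : Subgroup L).map L.subtype = T := by
      rw [Sylow.coe_subtype, Subgroup.map_subgroupOf_eq_of_le hTL]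
    have := le_iSup (fun S : Sylow p L => Cfsg.omegaOne p (((S : Subgroup L).map L.subtype) ⊓
      Subgroup.centralizer (((S : Subgroup L).map L.subtype : Subgroup H) : Set H))) (T.subtype hTL)
    simp only [hS] at this
    exact this
  · exact sylowCenterClosure_le_largestPReducedOf L hL
  · exact largestPReducedOf_le_omegaOne L

end Cfsg.Agent.S2821
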