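import Cfsg.Statements.S2822
import Cfsg.Agent.Lib.PReduced

set_option autoImplicit false
open Cfsg

namespace Cfsg.Agent.S2822

/-- Let H be a finite group, p a prime, T a Sylow p-subgroup, and L, M subgroups of characteristic p containing T, with largest p-reduced normal subgroups Y_L, Y_M. If L·C_H(Y_M) = M·C_H(Y_M), then Y_M ≤ Y_L. -/
theorem result {H : Type*} [Group H] [Finite H] {p : ℕ} [Fact p.Prime] (T : Sylow p H) (L M : Subgroup H) (hTL : (T : Subgroup H) ≤ L) (hTM : (T : Subgroup H) ≤ M) (hL : Subgroup.centralizer (Cfsg.pCore p ↥L : Set ↥L) ≤ Cfsg.pCore p ↥L) (hM : Subgroup.centralizer (Cfsg.pCore p ↥M : Set ↥M) ≤ Cfsg.pCore p ↥M) : L ⊔ Subgroup.centralizer (((Cfsg.largestPReducedOf p M) : Subgroup H) : Set H) = M ⊔ Subgroup.centralizer (((Cfsg.largestPReducedOf p M) : Subgroup H) : Set H) → (Cfsg.largestPReducedOf p M) ≤ (Cfsg.largestPReducedOf p L) := by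
  open Cfsg.Agent.Lib.PReduced Cfsg.Agent.Lib.AmalgamChar in
  intro hsup
  set Y := Cfsg.largestPReducedOf p M with hY
  have hYM : Y ≤ M := largestPReducedOf_le M
  have hYT : Y ≤ T := (largestPReducedOf_le_pCoreOf M).trans (pCoreOf_le_sylow T hTM)
  have hYL : Y ≤ L := hYT.trans hTL
  have h1 : Cfsg.IsPReducedNormal p (Y.subgroupOf M) := by
    have h2 : Y.subgroupOf M = Cfsg.largestPReduced p M := by
      exact Subgroup.comap_map_eq_self_of_injective M.subtype_injective _
    rw [h2]
    exact isPReducedNormal_largestPReduced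
  have h2 := isPReducedNormal_of_sup_eq hYL hYM hsup h1
  have h3 := le_largestPReduced h2
  intro y hy
  exact ⟨⟨y, hYL hy⟩, h3 hy, rfl⟩

end Cfsg.Agent.S2822
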