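import Cfsg.Statements.S2823
import Cfsg.Agent.Lib.PReduced

set_option autoImplicit false
open Cfsg

namespace Cfsg.Agent.S2823

/-- Let H be a finite group, p a prime, T a Sylow p-subgroup and L a subgroup of characteristic p containing T; let Z_L be the subgroup generated by the Ω₁(Z(S)) over the Sylow p-subgroups S of L and O^p(L) the subgroup generated by the elements of L of order prime to p. Then Z_L = Ω₁(Z(L))·[Z_L, O^p(L)] and [Z_L, L] = [Z_L, O^p(L)]. -/
theorem result {H : Type*} [Group H] [Finite H] {p : ℕ} [Fact p.Prime] (T : Sylow p H) (L : Subgroup H) (hTL : (T : Subgroup H) ≤ L) (hL : Subgroup.centralizer (Cfsg.pCore p ↥L : Set ↥L) ≤ Cfsg.pCore p ↥L) : Cfsg.sylowCenterClosure p L = (Cfsg.omegaOne p (L ⊓ Subgroup.centralizer ((L : Subgroup H) : Set H))) ⊔ ⁅Cfsg.sylowCenterClosure p L, (Cfsg.pResidual p ↥L).map L.subtype⁆ ∧ ⁅Cfsg.sylowCenterClosure p L, L⁆ = ⁅Cfsg.sylowCenterClosure p L, (Cfsg.pResidual p ↥L).map L.subtype⁆ := by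
  open Cfsg.Agent.Lib.PReduced Cfsg.Agent.Lib.AmalgamChar in
  have h1 := sylowZ_eq (p := p) hL
  have h2 := commutator_sylowZ_top (p := p) (L := L)
  have hZ := sylowCenterClosure_eq_map (p := p) L
  have hom : Cfsg.omegaOne p (L ⊓ Subgroup.centralizer ((L : Subgroup H) : Set H)) =
      (Cfsg.omegaOne p (Subgroup.center L)).map L.subtype := by
    rw [Cfsg.omegaOne, Cfsg.omegaOne, MonoidHom.map_closure]
    congr 1
    ext x
    constructor
    · rintro ⟨⟨hxL, hxc⟩, hxp⟩
      refine ⟨⟨x, hxL⟩, ⟨?_, ?_⟩, rfl⟩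
      · rw [Subgroup.mem_center_iff]
        intro y
        apply Subtype.ext
        exact Subgroup.mem_centralizer_iff.mp hxc y y.2
      · apply Subtype.ext
        simpa using hxp
    · rintro ⟨y, ⟨hyc, hyp⟩, rfl⟩
      refine ⟨⟨y.2, ?_⟩, ?_⟩
      · refine Subgroup.mem_centralizer_iff.mpr ?_
        intro l hl
        have := Subgroup.mem_center_iff.mp hyc ⟨l, hl⟩
        simpa using congrArg Subtype.val this
      · simpa using congrArg Subtype.val hyp
  have hcomm : ⁅Cfsg.sylowCenterClosure p L, (Cfsg.pResidual p ↥L).map L.subtype⁆ =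
      (⁅sylowZ p L, Cfsg.pResidual p L⁆ : Subgroup L).map L.subtype := by
    rw [Subgroup.map_commutator, hZ]
  have hcomm2 : ⁅Cfsg.sylowCenterClosure p L, L⁆ =
      (⁅sylowZ p L, (⊤ : Subgroup L)⁆ : Subgroup L).map L.subtype := by
    rw [Subgroup.map_commutator, hZ]
    congr 1
    ext x
    simp
  constructor
  · rw [hcomm, hom, hZ, ← Subgroup.map_sup, ← h1]
  · rw [hcomm, hcomm2, h2]

end Cfsg.Agent.S2823
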