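import Cfsg.Statements.S2824
import Cfsg.Agent.Lib.PReduced2
import Cfsg.Agent.Lib.StrongEmb
import Cfsg.Agent.Lib.WeaklyClosed

set_option autoImplicit false
open Cfsg

namespace Cfsg.Agent.S2824

/-- Let H be a finite group, p a prime, T a Sylow p-subgroup, L and M subgroups of characteristic p containing T, Y_L the largest p-reduced normal subgroup of L and T₀ = C_T(Y_L). If M·C_H(Y_L) = L·C_H(Y_L), then L* := N_M(T₀) has Y_{L*} = Y_L and L·C_H(Y_L) = L*·C_H(Y_L). -/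
theorem result {H : Type*} [Group H] [Finite H] {p : ℕ} [Fact p.Prime] (T : Sylow p H) (L M : Subgroup H) (hTL : (T : Subgroup H) ≤ L) (hTM : (T : Subgroup H) ≤ M) (hL : Subgroup.centralizer (Cfsg.pCore p ↥L : Set ↥L) ≤ Cfsg.pCore p ↥L) (hM : Subgroup.centralizer (Cfsg.pCore p ↥M : Set ↥M) ≤ Cfsg.pCore p ↥M) (T₀ : Subgroup H) (hT₀ : T₀ = (T : Subgroup H) ⊓ Subgroup.centralizer (((Cfsg.largestPReducedOf p L) : Subgroup H) : Set H)) (hfac : M ⊔ Subgroup.centralizer (((Cfsg.largestPReducedOf p L) : Subgroup H) : Set H) = L ⊔ Subgroup.centralizer (((Cfsg.largestPReducedOf p L) : Subgroup H) : Set H)) (Ls : Subgroup H) (hLs : Ls = M ⊓ Subgroup.normalizer ((T₀ : Subgroup H) : Set H)) : (Cfsg.largestPReducedOf p Ls) = (Cfsg.largestPReducedOf p L) ∧ L ⊔ Subgroup.centralizer (((Cfsg.largestPReducedOf p L) : Subgroup H) : Set H) = Ls ⊔ Subgroup.centralizer (((Cfsg.largestPReducedOf p L) : Subgroup H) : Set H) := by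
  open Cfsg.Agent.Lib.PReduced Cfsg.Agent.Lib.AmalgamChar Cfsg.Agent.Lib.PCore Cfsg.Agent.Lib.Commutators in
  set Y := Cfsg.largestPReducedOf p L with hY
  set C := Subgroup.centralizer ((Y : Subgroup H) : Set H) with hC
  have hYT : Y ≤ T := (largestPReducedOf_le_pCoreOf L).trans (pCoreOf_le_sylow T hTL)
  have hYL : Y ≤ L := hYT.trans hTL
  have hYM : Y ≤ M := hYT.trans hTM
  have hred : Cfsg.IsPReducedNormal p (Y.subgroupOf L) := by
    have h2 : Y.subgroupOf L = Cfsg.largestPReduced p L :=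
      Subgroup.comap_map_eq_self_of_injective L.subtype_injective _
    rw [h2]
    exact isPReducedNormal_largestPReduced
  have hredM : Cfsg.IsPReducedNormal p (Y.subgroupOf M) :=
    isPReducedNormal_of_sup_eq hYM hYL hfac hred
  have hMY : M ≤ Subgroup.normalizer (Y : Set H) :=
    (Subgroup.normal_subgroupOf_iff_le_normalizer hYM).mp hredM.1
  have hMC : M ≤ Subgroup.normalizer (C : Set H) := hMY.trans (normalizer_le_normalizer_centralizer Y)
  have hTC : (T : Subgroup H) ≤ Subgroup.normalizer (C : Set H) := hTM.trans hMC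
  have hT₀C : T₀ ≤ C := by rw [hT₀]; exact inf_le_right
  have hT₀T : T₀ ≤ T := by rw [hT₀]; exact inf_le_left
  have hT₀p : IsPGroup p T₀ := T.isPGroup'.to_le hT₀T
  -- `T` normalizes `T₀`
  have hTN : (T : Subgroup H) ≤ Subgroup.normalizer (T₀ : Set H) := by
    intro t ht
    rw [hT₀]
    refine (le_inf Subgroup.le_normalizer hTC : (T : Subgroup H) ≤ _ ⊓ _).trans ?_ ht
    intro x hx
    rw [Subgroup.mem_normalizer_iff]
    intro y
    rw [Subgroup.mem_inf, Subgroup.mem_inf, Subgroup.mem_normalizer_iff.mp hx.1 y,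
      Subgroup.mem_normalizer_iff.mp hx.2 y]
  have hTLs : (T : Subgroup H) ≤ Ls := by
    rw [hLs]; exact le_inf hTM hTN
  -- Frattini in `M`
  have hSylM : Cfsg.Agent.Lib.SylowIn.IsSylowIn p (T : Subgroup H) M := by
    refine Cfsg.Agent.Lib.SylowIn.isSylowIn_of_card hTM T.isPGroup' fun U _ hU => ?_
    obtain ⟨Q, hQ⟩ := hU.exists_le_sylow
    calc Nat.card U ≤ Nat.card Q := Subgroup.card_le_of_le hQ
      _ = Nat.card T := by rw [Sylow.card_eq_multiplicity, Sylow.card_eq_multiplicity]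
  have hSylT₀ : Cfsg.Agent.Lib.SylowIn.IsSylowIn p T₀ (M ⊓ C) := by
    have h := hSylM.inf_of_normal (M := M ⊓ C) hTM inf_le_left (fun x hx m hm => by
      refine ⟨M.mul_mem (M.mul_mem hx hm.1) (M.inv_mem hx), ?_⟩
      have := hMC hx
      rw [Subgroup.mem_normalizer_iff] at this
      exact (this m).mp hm.2)
    have e : (T : Subgroup H) ⊓ (M ⊓ C) = T₀ := by
      rw [hT₀]
      ext x
      exact ⟨fun hx => ⟨hx.1, hx.2.2⟩, fun hx => ⟨hx.1, hTM hx.1, hx.2⟩⟩
    rwa [e] at h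
  have hMLs : M ≤ Ls ⊔ C := by
    intro m hm
    have hT₀MC : T₀ ≤ M ⊓ C := le_inf (hT₀T.trans hTM) hT₀C
    have hmC : ∀ x ∈ M ⊓ C, m * x * m⁻¹ ∈ M ⊓ C := fun x hx =>
      ⟨M.mul_mem (M.mul_mem hm hx.1) (M.inv_mem hm), conj_mem_of_mem_normalizer (hMC hm) hx.2⟩
    have hmapeq : (M ⊓ C).map (MulAut.conj m).toMonoidHom = M ⊓ C := by
      apply map_conj_eq_of_mem_normalizer
      apply mem_normalizer_of_conj_mem hmC
      intro x hx
      have := hmC
      refine ⟨M.mul_mem (M.mul_mem (M.inv_mem hm) hx.1) hm, ?_⟩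
      exact conj_inv_mem_of_mem_normalizer (hMC hm) hx.2
    have hc := hSylT₀.conj hT₀MC m
    rw [hmapeq] at hc
    have hcle : T₀.map (MulAut.conj m).toMonoidHom ≤ M ⊓ C := by
      rw [← hmapeq]; exact Subgroup.map_mono hT₀MC
    obtain ⟨c, hc1, hc2⟩ := Cfsg.Agent.Lib.StrongEmb.IsSylowIn.exists_conj hSylT₀ hc hT₀MC hcle
    have hu : c⁻¹ * m ∈ Ls := by
      rw [hLs]
      refine ⟨M.mul_mem (M.inv_mem hc1.1) hm, ?_⟩
      apply mem_normalizer_of_map_eq
      rw [map_conj_mul, hc2]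
      exact Cfsg.Agent.Lib.WeaklyClosed.map_conj_inv_map T₀ c
    have e2 : m = c * (c⁻¹ * m) := by group
    rw [e2, sup_comm]
    exact mul_mem (Subgroup.mem_sup_left hc1.2) (Subgroup.mem_sup_right hu)
  have hLsM : Ls ≤ M := by rw [hLs]; exact inf_le_left
  have hsup : Ls ⊔ C = L ⊔ C := by
    rw [← hfac]
    exact le_antisymm (sup_le (hLsM.trans le_sup_left) le_sup_right) (sup_le hMLs le_sup_right)
  refine ⟨?_, hsup.symm⟩
  have hYLs : Y ≤ Ls := hYT.trans hTLs
  have hredLs : Cfsg.IsPReducedNormal p (Y.subgroupOf Ls) :=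
    isPReducedNormal_of_sup_eq hYLs hYL hsup hred
  -- `O_p(Ls) = T₀`
  have hLsT₀ : Ls ≤ Subgroup.normalizer (T₀ : Set H) := by rw [hLs]; exact inf_le_right
  have hT₀Ls : T₀ ≤ Ls := hT₀T.trans hTLs
  have hT₀O : T₀ ≤ Cfsg.pCoreOf p Ls := by
    have hn : (T₀.subgroupOf Ls).Normal :=
      (Subgroup.normal_subgroupOf_iff_le_normalizer hT₀Ls).mpr hLsT₀
    have hp' : IsPGroup p (T₀.subgroupOf Ls) := Cfsg.Agent.Lib.PIrreducible.isPGroup_subgroupOf hT₀p Ls
    intro x hx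
    exact ⟨⟨x, hT₀Ls hx⟩, le_pCore hn hp' hx, rfl⟩
  have hOT₀ : Cfsg.pCoreOf p Ls ≤ T₀ := by
    have h1 : Cfsg.pCoreOf p Ls ≤ T := pCoreOf_le_sylow T hTLs
    have h2 : Cfsg.pCoreOf p Ls ≤ C := by
      rintro _ ⟨x, hx, rfl⟩
      have h3 := le_centralizer_of_isPReducedNormal hredLs (pCore_normal p Ls) (isPGroup_pCore p Ls) hx
      exact (mem_centralizer_subgroupOf_iff hYLs x).mp h3
    rw [hT₀]
    exact le_inf h1 h2
  -- the inclusion `Y_{Ls} ≤ Y`
  have hstruct := structure_TL hL (T.subtype hTL) (Cfsg.largestPReduced p L)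
    ⟨isPReducedNormal_largestPReduced, fun V hV => le_largestPReduced hV⟩
    (T₀.subgroupOf L) (by
      rw [hT₀, Sylow.coe_subtype]
      ext x
      simp only [Subgroup.mem_subgroupOf, Subgroup.mem_inf]
      refine ⟨fun hx => ⟨hx.1, ?_⟩, fun hx => ⟨hx.1, ?_⟩⟩
      · refine Subgroup.mem_centralizer_iff.mpr fun y hy => ?_
        apply Subtype.ext
        exact Subgroup.mem_centralizer_iff.mp hx.2 y ⟨y, hy, rfl⟩
      · refine Subgroup.mem_centralizer_iff.mpr ?_
        rintro _ ⟨y, hy, rfl⟩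
        have := Subgroup.mem_centralizer_iff.mp hx.2 y hy
        simpa using congrArg Subtype.val this)
  have hY3 := hstruct.2.2
  apply le_antisymm
  · -- `Y_{Ls} ≤ Y`
    intro x hx
    have h1 : x ∈ Cfsg.omegaOne p (Cfsg.pCoreOf p Ls ⊓ Subgroup.centralizer ((Cfsg.pCoreOf p Ls : Subgroup H) : Set H)) :=
      largestPReducedOf_le_omegaOne Ls hx
    have hxe := (isElementaryAbelian_largestPReducedOf (p := p) Ls).2 x hx
    have hxO : x ∈ Cfsg.pCoreOf p Ls := largestPReducedOf_le_pCoreOf Ls hx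
    have hxc : x ∈ Subgroup.centralizer ((T₀ : Subgroup H) : Set H) := by
      refine Subgroup.mem_centralizer_iff.mpr fun y hy => ?_
      exact (Subgroup.mem_centralizer_iff.mp (pCoreOf_le_centralizer_largestPReducedOf Ls (hT₀O hy)) x hx).symm
    have hxT₀ := hOT₀ hxO
    have hxL : x ∈ L := hTL (hT₀T hxT₀)
    have h4 : (⟨x, hxL⟩ : L) ∈ Cfsg.largestPReduced p L := by
      rw [hY3]
      refine Subgroup.subset_closure ⟨⟨hxT₀, ?_⟩, ?_⟩
      · refine Subgroup.mem_centralizer_iff.mpr fun y hy => ?_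
        apply Subtype.ext
        exact Subgroup.mem_centralizer_iff.mp hxc _ hy
      · apply Subtype.ext
        simpa using hxe
    exact ⟨_, h4, rfl⟩
  · -- `Y ≤ Y_{Ls}`
    have h3 := le_largestPReduced hredLs
    intro y hy
    exact ⟨⟨y, hYLs hy⟩, h3 hy, rfl⟩

end Cfsg.Agent.S2824
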