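import Cfsg.Statements.S2825
import Cfsg.Agent.Lib.PReducedSub

set_option autoImplicit false
open Cfsg

namespace Cfsg.Agent.S2825

open Cfsg.Agent.Lib Cfsg


/-- Let L be a subnormal subgroup of the finite group H, p a prime, Y_H and Y_L the largest p-reduced normal subgroups. Then Y_H ∩ L = Y_H ∩ Y_L and this subgroup is a p-reduced normal subgroup of L; C_L(Y_L) = C_L(Y_H) = C_L(Y_H ∩ L); and if O^p(H) ≤ L, then [Y_L, L] = 1 if and only if [Y_H, H] = 1. -/
theorem result {H : Type*} [Group H] [Finite H] {p : ℕ} [Fact p.Prime] (L : Subgroup H) (hL : L.IsSubnormal) : Cfsg.largestPReduced p H ⊓ L = Cfsg.largestPReduced p H ⊓ (Cfsg.largestPReducedOf p L) ∧ Cfsg.IsPReducedNormal p ((Cfsg.largestPReduced p H ⊓ L).subgroupOf L) ∧ L ⊓ Subgroup.centralizer ((Cfsg.largestPReducedOf p L : Subgroup H) : Set H) = L ⊓ Subgroup.centralizer (Cfsg.largestPReduced p H : Set H) ∧ L ⊓ Subgroup.centralizer (Cfsg.largestPReduced p H : Set H) = L ⊓ Subgroup.centralizer ((Cfsg.largestPReduced p H ⊓ L : Subgroup H) : Set H) ∧ (Cfsg.pResidual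 p H ≤ L → (⁅(Cfsg.largestPReducedOf p L), L⁆ = ⊥ ↔ ⁅Cfsg.largestPReduced p H, (⊤ : Subgroup H)⁆ = ⊥)) := by
  have hY : IsPReducedNormal p (largestPReduced p H) := PReduced.isPReducedNormal_largestPReduced
  have hr := PReducedSub.reduced_inf hY hL
  have hYL : largestPReducedOf p L ≤ L := PReduced.largestPReducedOf_le L
  have hle : largestPReduced p H ⊓ L ≤ largestPReducedOf p L := by
    intro x hx
    exact ⟨⟨x, hx.2⟩, PReduced.le_largestPReduced hr hx, rfl⟩
  have hK := PReducedSub.inf_centralizer_le hY hL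
  have hS := PReducedSub.le_centralizer_of_subnormal (p := p) hL
  refine ⟨?_, hr, ?_, ?_, ?_⟩
  · exact le_antisymm (le_inf inf_le_left hle) (inf_le_inf_left _ hYL)
  · apply le_antisymm
    · intro x hx
      exact ⟨hx.1, hK ⟨hx.1, Subgroup.centralizer_le hle hx.2⟩⟩
    · exact le_inf inf_le_left hS
  · apply le_antisymm
    · exact inf_le_inf_left _ (Subgroup.centralizer_le (inf_le_left : largestPReduced p H ⊓ L ≤ _))
    · exact le_inf inf_le_left hK
  · intro hres
    constructor
    · intro h
      rw [Subgroup.commutator_eq_bot_iff_le_centralizer] at h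
      have h1 : L ≤ Subgroup.centralizer (largestPReducedOf p L : Set H) := Subgroup.le_centralizer_iff.1 h
      have h2 : L ≤ Subgroup.centralizer (largestPReduced p H : Set H) := by
        intro x hx
        exact hK ⟨hx, Subgroup.centralizer_le hle (h1 hx)⟩
      obtain ⟨-, -, hCn, hcore⟩ := hY
      haveI := PResidual.pResidual_normal p H
      have hq := PResidual.isPGroup_quotient_pResidual (p := p) (G := H)
      have hP : IsPGroup p (H ⧸ Subgroup.centralizer (largestPReduced p H : Set H)) := by
        intro q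
        obtain ⟨x, rfl⟩ := QuotientGroup.mk_surjective q
        obtain ⟨k, hk⟩ := hq (x : H ⧸ pResidual p H)
        refine ⟨k, ?_⟩
        rw [← QuotientGroup.mk_pow, QuotientGroup.eq_one_iff]
        rw [← QuotientGroup.mk_pow, QuotientGroup.eq_one_iff] at hk
        exact h2 (hres hk)
      have h3 := FitCore.le_pCore (G := H ⧸ Subgroup.centralizer (largestPReduced p H : Set H)) p ⊤ inferInstance (hP.to_subgroup ⊤)
      rw [hcore] at h3
      rw [Subgroup.commutator_eq_bot_iff_le_centralizer, Subgroup.le_centralizer_iff]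
      intro x _
      have h4 := h3 (show ((x : H ⧸ Subgroup.centralizer (largestPReduced p H : Set H))) ∈ ⊤ from trivial)
      rw [Subgroup.mem_bot, QuotientGroup.eq_one_iff] at h4
      exact h4
    · intro h
      rw [Subgroup.commutator_eq_bot_iff_le_centralizer, Subgroup.le_centralizer_iff] at h
      rw [Subgroup.commutator_eq_bot_iff_le_centralizer, Subgroup.le_centralizer_iff]
      intro x hx
      exact hS ⟨hx, h (Subgroup.mem_top x)⟩

end Cfsg.Agent.S2825
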