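import Cfsg.Statements.S2827
import Cfsg.Agent.Lib.PIrreducible
import Cfsg.Agent.Lib.Commutators

set_option autoImplicit false
open scoped commutatorElement
open Cfsg

namespace Cfsg.Agent.S2827

/-- Let H be a finite p-irreducible group (not p-closed, and O^p(H) lies in every normal subgroup that is not p-closed) and T a Sylow p-subgroup. Then H is generated by the conjugates of T and H = H'·T; O^p(H) ≤ H'; and for every normal subgroup Y of T not contained in O_p(H), O^p(H) = [O^p(H), Y] and O^p(H) is contained in the normal closure of Y in H. -/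
theorem result {H : Type*} [Group H] [Finite H] {p : ℕ} [Fact p.Prime] (hH : Cfsg.IsPIrreducible p H) (T : Sylow p H) : Subgroup.normalClosure ((T : Subgroup H) : Set H) = ⊤ ∧ commutator H ⊔ (T : Subgroup H) = ⊤ ∧ Cfsg.pResidual p H ≤ commutator H ∧ ∀ Y : Subgroup H, Y ≤ (T : Subgroup H) → (T : Subgroup H) ≤ Subgroup.normalizer (Y : Set H) → ¬ Y ≤ Cfsg.pCore p H → ⁅Cfsg.pResidual p H, Y⁆ = Cfsg.pResidual p H ∧ Cfsg.pResidual p H ≤ Subgroup.normalClosure (Y : Set H) := by
  open Cfsg.Agent.Lib.PIrreducible Cfsg.Agent.Lib.PResidual Cfsg.Agent.Lib.PCore Cfsg.Agent.Lib.Commutators in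
  have hR := pResidual_normal p H
  have hsup := pResidual_sup_sylow T
  have hb : commutator H ⊔ (T : Subgroup H) = ⊤ :=
    eq_top_of_sylow_le hH T (Subgroup.Normal.of_commutator_le H le_sup_left) le_sup_right
  refine ⟨eq_top_of_sylow_le hH T (Subgroup.normalClosure_normal) Subgroup.subset_normalClosure, hb, ?_, ?_⟩
  · exact pResidual_le_of_sup_eq_top T.isPGroup' hb
  · intro Y hYT hTY hYO
    have hYp : IsPGroup p Y := T.isPGroup'.to_le hYT
    -- a normal subgroup containing `Y` is not `p`-closed
    have hnc : ∀ N : Subgroup H, N.Normal → Y ≤ N → Cfsg.pResidual p H ≤ N := by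
      intro N hN hYN
      apply hH.2 N hN
      intro hc
      exact hYO (le_pCore_of_isPClosed hN hc hYN hYp)
    refine ⟨?_, hnc _ Subgroup.normalClosure_normal Subgroup.subset_normalClosure⟩
    have hRnorm : ∀ g : H, g ∈ Subgroup.normalizer ((Cfsg.pResidual p H : Subgroup H) : Set H) := by
      intro g
      rw [Subgroup.normalizer_eq_top_iff.2 hR]; trivial
    set R := Cfsg.pResidual p H with hRdef
    set W : Subgroup H := ⁅R, Y⁆ with hWdef
    have hWR : W ≤ R := Subgroup.commutator_le_left R Y
    have hRW : R ≤ Subgroup.normalizer (W : Set H) := commutator_le_normalizer_left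
    have hTW : (T : Subgroup H) ≤ Subgroup.normalizer (W : Set H) := fun t ht =>
      normalizer_le_normalizer_commutator ⟨hRnorm t, hTY ht⟩
    have hWn : W.Normal := normal_of_le_normalizer hsup hRW hTW
    -- `W ⊔ Y` is normal
    have hZn : (W ⊔ Y).Normal := by
      refine normal_of_le_normalizer hsup ?_ ?_
      · intro r hr
        have key : ∀ r ∈ R, ∀ x ∈ W ⊔ Y, r * x * r⁻¹ ∈ W ⊔ Y := by
          intro r hr x hx
          have hle : W ⊔ Y ≤ (W ⊔ Y).comap (MulAut.conj r).toMonoidHom := by
            refine sup_le ?_ ?_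
            · intro a ha
              exact (le_sup_left : W ≤ W ⊔ Y) (conj_mem_of_mem_normalizer (hRW hr) ha)
            · intro y hy
              show r * y * r⁻¹ ∈ W ⊔ Y
              have h3 : r * y * r⁻¹ = ⁅r, y⁆ * y := by
                rw [commutatorElement_def]; group
              rw [h3]
              exact Subgroup.mul_mem _
                ((le_sup_left : W ≤ W ⊔ Y) (Subgroup.commutator_mem_commutator hr hy))
                ((le_sup_right : Y ≤ W ⊔ Y) hy)
          exact hle hx
        apply mem_normalizer_of_conj_mem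
        · exact key r hr
        · intro x hx
          have := key r⁻¹ (R.inv_mem hr) x hx
          simpa using this
      · intro t ht
        exact normalizer_le_normalizer_sup ⟨hTW ht, hTY ht⟩
    have hRZ : R ≤ W ⊔ Y := hnc _ hZn le_sup_right
    apply le_antisymm hWR
    show Subgroup.closure _ ≤ W
    rw [Subgroup.closure_le]
    intro x hx
    exact mem_of_coprime_of_mem_sup hYp (hRZ (Subgroup.subset_closure hx)) hx

end Cfsg.Agent.S2827
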