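import Cfsg.Statements.S2830
import Cfsg.Agent.Lib.PIrreducible

set_option autoImplicit false
open Cfsg

namespace Cfsg.Agent.S2830

/-- Let H act by conjugation on the elementary abelian p-subgroup V of a finite group G (H ≤ N(V)), with H p-irreducible and O^p(H) not centralizing V. Then C_H(V) is p-closed and C_T(V) ≤ O_p(H) for every p-subgroup T of H. If in addition O_p(H) centralizes V, then C_T(V) = T ∩ O_p(H) for every p-subgroup T of H, and V is p-reduced for H: O_p(H/C_H(V)) = 1. -/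
theorem result {G : Type*} [Group G] [Finite G] {p : ℕ} [Fact p.Prime] (V H : Subgroup G) (hV : Cfsg.IsElementaryAbelian p V) (hHV : H ≤ Subgroup.normalizer (V : Set G)) (hH : Cfsg.IsPIrreducible p ↥H) (hnc : ¬ (Cfsg.pResidual p ↥H).map H.subtype ≤ Subgroup.centralizer (V : Set G)) [hn : ((Subgroup.centralizer (V : Set G)).subgroupOf H).Normal] : Cfsg.IsPClosed p ↥(H ⊓ Subgroup.centralizer (V : Set G)) ∧ (∀ T : Subgroup G, T ≤ H → IsPGroup p ↥T → T ⊓ Subgroup.centralizer (V : Set G) ≤ Cfsg.pCoreOf p H) ∧ (Cfsg.pCoreOf p H ≤ Subgroup.centralizer (V : Set G) → (∀ T : Subgroup G, T ≤ H → IsPGroup p ↥T → T ⊓ Subgroup.centralizer (V : Set G) = T ⊓ Cfsg.pCoreOf p H) ∧ Cfsg.pCore p (↥H ⧸ (Subgroup.centralizer (V : Set G)).subgroupOf H) = ⊥) := by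
  open Cfsg.Agent.Lib.PIrreducible Cfsg.Agent.Lib.PResidual Cfsg.Agent.Lib.PCore in
  have hCc : Cfsg.IsPClosed p ↥((Subgroup.centralizer (V : Set G)).subgroupOf H) := by
    by_contra hcon
    apply hnc
    have h1 := hH.2 _ hn hcon
    rintro _ ⟨x, hx, rfl⟩
    exact h1 hx
  have hle : H ⊓ Subgroup.centralizer (V : Set G) ≤ H := inf_le_left
  have hC1 : Cfsg.IsPClosed p ↥(H ⊓ Subgroup.centralizer (V : Set G)) := by
    have hsub : (H ⊓ Subgroup.centralizer (V : Set G)).subgroupOf H =
        (Subgroup.centralizer (V : Set G)).subgroupOf H := Subgroup.inf_subgroupOf_left _ _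
    rw [← hsub] at hCc
    exact isPClosed_of_surjective (Subgroup.subgroupOfEquivOfLe hle).toMonoidHom
      (Subgroup.subgroupOfEquivOfLe hle).surjective hCc
  have h2 : ∀ T : Subgroup G, T ≤ H → IsPGroup p ↥T →
      T ⊓ Subgroup.centralizer (V : Set G) ≤ Cfsg.pCoreOf p H := by
    intro T hTH hT
    have hA : IsPGroup p ↥((T ⊓ Subgroup.centralizer (V : Set G)).subgroupOf H) :=
      isPGroup_subgroupOf (hT.to_le inf_le_left) H
    have hAC : (T ⊓ Subgroup.centralizer (V : Set G)).subgroupOf H ≤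
        (Subgroup.centralizer (V : Set G)).subgroupOf H := by
      intro a ha
      exact ha.2
    have h3 := le_pCore_of_isPClosed hn hCc hAC hA
    intro x hx
    exact ⟨⟨x, hTH hx.1⟩, h3 hx, rfl⟩
  refine ⟨hC1, h2, fun hQ => ⟨?_, ?_⟩⟩
  · intro T hTH hT
    apply le_antisymm
    · exact le_inf inf_le_left (h2 T hTH hT)
    · exact le_inf inf_le_left (inf_le_right.trans hQ)
  · set C := (Subgroup.centralizer (V : Set G)).subgroupOf H with hCdef
    have hQC : Cfsg.pCore p ↥H ≤ C := by
      intro a ha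
      exact hQ ⟨a, ha, rfl⟩
    have hKp := isPGroup_pCore p (↥H ⧸ C)
    have hKn := pCore_normal p (↥H ⧸ C)
    -- elements of order prime to `p` mapping into the `p`-core lie in `C`
    have hcop : ∀ x : ↥H, (orderOf x).Coprime p → QuotientGroup.mk' C x ∈ Cfsg.pCore p (↥H ⧸ C) → x ∈ C := by
      intro x hx hxK
      obtain ⟨k, hk⟩ := (IsPGroup.iff_orderOf.1 hKp) ⟨_, hxK⟩
      rw [Subgroup.orderOf_mk] at hk
      have h3 := eq_one_of_coprime_of_pow (orderOf_map_coprime (QuotientGroup.mk' C) hx) hk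
      exact (QuotientGroup.eq_one_iff x).1 h3
    set K := (Cfsg.pCore p (↥H ⧸ C)).comap (QuotientGroup.mk' C) with hKdef
    have hKnorm : K.Normal := hKn.comap _
    have hKC : K ≤ C := by
      by_cases hKc : Cfsg.IsPClosed p ↥K
      · intro k hk
        obtain ⟨y, z, rfl, -, hy, ⟨j, hj⟩, hyz, hz⟩ := exists_decomp (p := p) k
        have hzK : z ∈ K := (Subgroup.zpowers_le.2 hk) hz
        have hyK : y ∈ K := (Subgroup.zpowers_le.2 hk) hyz
        refine C.mul_mem (hcop y hy hyK) ?_
        have hzp : IsPGroup p (Subgroup.zpowers z) := by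
          rw [IsPGroup.iff_card, Nat.card_zpowers, hj]
          exact ⟨j, rfl⟩
        have hzle : Subgroup.zpowers z ≤ K := Subgroup.zpowers_le.2 hzK
        exact hQC (le_pCore_of_isPClosed hKnorm hKc hzle hzp (Subgroup.mem_zpowers z))
      · exfalso
        apply hnc
        have h1 := hH.2 K hKnorm hKc
        have h3 : Cfsg.pResidual p ↥H ≤ C := by
          show Subgroup.closure _ ≤ C
          rw [Subgroup.closure_le]
          intro x hx
          exact hcop x hx (h1 (Subgroup.subset_closure hx))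
        rintro _ ⟨x, hx, rfl⟩
        exact h3 hx
    rw [eq_bot_iff]
    intro q hq
    obtain ⟨k, rfl⟩ := QuotientGroup.mk_surjective q
    have hk : k ∈ K := hq
    exact (QuotientGroup.eq_one_iff k).2 (hKC hk)

end Cfsg.Agent.S2830
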