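import Cfsg.Statements.S2833
import Cfsg.Agent.Lib.PReduced
import Cfsg.Agent.Lib.Commutators
open scoped commutatorElement

set_option autoImplicit false
open Cfsg

namespace Cfsg.Agent.S2833

/-- Let V be a subgroup of a finite group G normalized by the subgroup L, let X ≤ L and g ∈ L with [V, X, X] = 1 and L generated by X and gXg⁻¹. Put W = [V, L]. Then W = [V, X]·[V, gXg⁻¹], C_W(X) = [V, X], and C_W(L) = [V, X] ∩ [V, gXg⁻¹]. -/
theorem result {G : Type*} [Group G] [Finite G] (V L : Subgroup G) (hLV : L ≤ Subgroup.normalizer (V : Set G)) (X : Subgroup G) (hX : X ≤ L) (g : G) (hg : g ∈ L) (hq : ⁅⁅V, X⁆, X⁆ = ⊥) (hgen : X ⊔ X.map (MulAut.conj g).toMonoidHom = L) (W : Subgroup G) (hW : W = ⁅V, L⁆) : ⁅V, X⁆ ⊔ ⁅V, X.map (MulAut.conj g).toMonoidHom⁆ = W ∧ W ⊓ Subgroup.centralizer (X : Set G) = ⁅V, X⁆ ∧ W ⊓ Subgroup.centralizer (L : Set G) = ⁅V, X⁆ ⊓ ⁅V, X.map (MulAut.conj g).toMonoidHom⁆ := by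
  open Cfsg.Agent.Lib.PReduced Cfsg.Agent.Lib.AmalgamChar Cfsg.Agent.Lib.Commutators in
  subst hW
  set c := (MulAut.conj g).toMonoidHom with hc
  have hVc : V.map c = V := map_conj_eq_of_mem_normalizer (hLV hg)
  set A := ⁅V, X⁆ with hA
  set B := ⁅V, X.map c⁆ with hB
  have hBA : B = A.map c := by
    rw [hB, hA, Subgroup.map_commutator, hVc]
  have hX' : X.map c ≤ L := by
    rw [← hgen]; exact le_sup_right
  have hVmem : ∀ l ∈ L, ∀ v ∈ V, l * v * l⁻¹ ∈ V := fun l hl v hv =>
    conj_mem_of_mem_normalizer (hLV hl) hv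
  have hcomm_mem : ∀ (Y : Subgroup G), Y ≤ L → ⁅V, Y⁆ ≤ V := by
    intro Y hY
    rw [Subgroup.commutator_le]
    intro v hv y hy
    rw [commutatorElement_def]
    have : v * y * v⁻¹ * y⁻¹ = v * (y * v⁻¹ * y⁻¹) := by group
    rw [this]
    exact V.mul_mem hv (hVmem y (hY hy) _ (V.inv_mem hv))
  have hAV : A ≤ V := hcomm_mem X hX
  have hBV : B ≤ V := hcomm_mem _ hX'
  have hAC : A ≤ Subgroup.centralizer (X : Set G) :=
    Subgroup.commutator_eq_bot_iff_le_centralizer.mp hq
  have hq' : ⁅B, X.map c⁆ = ⊥ := by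
    rw [hBA, ← Subgroup.map_commutator, hq, Subgroup.map_bot]
  have hBC : B ≤ Subgroup.centralizer ((X.map c : Subgroup G) : Set G) :=
    Subgroup.commutator_eq_bot_iff_le_centralizer.mp hq'
  have hAx : ∀ a ∈ A, ∀ x ∈ X, a * x = x * a := fun a ha x hx =>
    (Subgroup.mem_centralizer_iff.mp (hAC ha) x hx).symm
  have hBx : ∀ b ∈ B, ∀ x ∈ X.map c, b * x = x * b := fun b hb x hx =>
    (Subgroup.mem_centralizer_iff.mp (hBC hb) x hx).symm
  have hAB : A ≤ Subgroup.normalizer (B : Set G) := hAV.trans commutator_le_normalizer_left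
  -- `A ⊔ B` is normalized by `L`
  set K := A ⊔ B with hK
  have hsideX0 : ∀ x ∈ X, K.map (MulAut.conj x).toMonoidHom ≤ K := by
    intro x hx
    rw [hK, Subgroup.map_sup]
    refine sup_le ?_ ?_
    · rintro _ ⟨a, ha, rfl⟩
      have : (MulAut.conj x).toMonoidHom a = a := by
        rw [conj_apply, ← hAx a ha x hx]; group
      rw [this]
      exact Subgroup.mem_sup_left ha
    · rintro _ ⟨b, hb, rfl⟩
      have hb' : b ∈ V := hBV hb
      have h1 : ⁅b, x⁆ ∈ A := Subgroup.commutator_mem_commutator hb' hx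
      have e : (MulAut.conj x).toMonoidHom b = ⁅b, x⁆⁻¹ * b := by
        rw [conj_apply, commutatorElement_def]; group
      rw [e]
      exact K.mul_mem (K.inv_mem (Subgroup.mem_sup_left h1)) (Subgroup.mem_sup_right hb)
  have hsideX : ∀ x ∈ X, x ∈ Subgroup.normalizer (K : Set G) := fun x hx =>
    mem_normalizer_of_map_le (hsideX0 x hx) (hsideX0 x⁻¹ (X.inv_mem hx))
  have hsideY0 : ∀ x ∈ X.map c, K.map (MulAut.conj x).toMonoidHom ≤ K := by
    intro x hx
    rw [hK, Subgroup.map_sup]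
    refine sup_le ?_ ?_
    · rintro _ ⟨b, hb, rfl⟩
      have hb' : b ∈ V := hAV hb
      have h1 : ⁅b, x⁆ ∈ B := Subgroup.commutator_mem_commutator hb' hx
      have e : (MulAut.conj x).toMonoidHom b = ⁅b, x⁆⁻¹ * b := by
        rw [conj_apply, commutatorElement_def]; group
      rw [e]
      exact K.mul_mem (K.inv_mem (Subgroup.mem_sup_right h1)) (Subgroup.mem_sup_left hb)
    · rintro _ ⟨a, ha, rfl⟩
      have : (MulAut.conj x).toMonoidHom a = a := by
        rw [conj_apply, ← hBx a ha x hx]; group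
      rw [this]
      exact Subgroup.mem_sup_right ha
  have hsideY : ∀ x ∈ X.map c, x ∈ Subgroup.normalizer (K : Set G) := fun x hx =>
    mem_normalizer_of_map_le (hsideY0 x hx) (hsideY0 x⁻¹ (Subgroup.inv_mem _ hx))
  have hLK : L ≤ Subgroup.normalizer (K : Set G) := by
    rw [← hgen]
    exact sup_le hsideX hsideY
  have hW : ⁅V, L⁆ ≤ K := by
    rw [Subgroup.commutator_le]
    intro v hv l hl
    have hl' : l ∈ Subgroup.closure ((X : Set G) ∪ (X.map c : Subgroup G)) := by
      rw [Subgroup.closure_union, Subgroup.closure_eq, Subgroup.closure_eq, hgen]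
      exact hl
    clear hl
    have key : l ∈ L ∧ ⁅v, l⁆ ∈ K := by
      induction hl' using Subgroup.closure_induction with
      | mem x hx =>
        rcases hx with hx | hx
        · exact ⟨hX hx, Subgroup.mem_sup_left (Subgroup.commutator_mem_commutator hv hx)⟩
        · exact ⟨hX' hx, Subgroup.mem_sup_right (Subgroup.commutator_mem_commutator hv hx)⟩
      | one => exact ⟨L.one_mem, by simp⟩
      | mul x y _ _ hx hy =>
        refine ⟨L.mul_mem hx.1 hy.1, ?_⟩
        have e : ⁅v, x * y⁆ = ⁅v, x⁆ * (x * ⁅v, y⁆ * x⁻¹) := by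
          simp only [commutatorElement_def]; group
        rw [e]
        exact K.mul_mem hx.2 (conj_mem_of_mem_normalizer (hLK hx.1) hy.2)
      | inv x _ hx =>
        refine ⟨L.inv_mem hx.1, ?_⟩
        have e : ⁅v, x⁻¹⁆ = x⁻¹ * ⁅v, x⁆⁻¹ * x⁻¹⁻¹ := by
          simp only [commutatorElement_def]; group
        rw [e]
        exact conj_mem_of_mem_normalizer (hLK (L.inv_mem hx.1)) (K.inv_mem hx.2)
    exact key.2
  have hKW : K ≤ ⁅V, L⁆ :=
    sup_le (Subgroup.commutator_mono le_rfl hX) (Subgroup.commutator_mono le_rfl hX')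
  have hWeq : K = ⁅V, L⁆ := le_antisymm hKW hW
  have hL_of : ∀ y : G, (∀ x ∈ X, y * x = x * y) → (∀ x ∈ X.map c, y * x = x * y) → ∀ l ∈ L, y * l = l * y := by
    intro y h1 h2 l hl
    have : L ≤ Subgroup.centralizer ({y} : Set G) := by
      rw [← hgen]
      refine sup_le ?_ ?_
      · intro x hx
        rw [Subgroup.mem_centralizer_iff]
        intro z hz
        rw [Set.mem_singleton_iff] at hz
        subst hz
        exact h1 x hx
      · intro x hx
        rw [Subgroup.mem_centralizer_iff]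
        intro z hz
        rw [Set.mem_singleton_iff] at hz
        subst hz
        exact h2 x hx
    exact Subgroup.mem_centralizer_iff.mp (this hl) y rfl
  have hcentg : ∀ y : G, (∀ l ∈ L, y * l = l * y) → g⁻¹ * y * g = y := by
    intro y h
    rw [mul_assoc, h g hg]; group
  have hXg : ∀ x ∈ X, g * x * g⁻¹ ∈ X.map c := fun x hx => ⟨x, hx, rfl⟩
  have hCWX : ⁅V, L⁆ ⊓ Subgroup.centralizer (X : Set G) ≤ A := by
    rintro w ⟨hw, hwc⟩
    rw [← hWeq] at hw
    obtain ⟨a, ha, b, hb, rfl⟩ := exists_mul_of_mem_sup hAB hw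
    have hb1 : ∀ x ∈ X, b * x = x * b := by
      intro x hx
      have h1 := Subgroup.mem_centralizer_iff.mp hwc x hx
      have h2 := hAx a ha x hx
      have h3 : x * a * b = a * x * b := by rw [h2]
      have h4 : a * (x * b) = a * (b * x) := by
        rw [← mul_assoc, ← h3, mul_assoc, h1]; group
      exact (mul_left_cancel h4).symm
    have hb2 := hL_of b hb1 (hBx b hb)
    have hb3 := hcentg b hb2
    have hb4 : g⁻¹ * b * g ∈ A := by
      rw [hBA] at hb
      exact (mem_conj_iff A g b).mp hb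
    rw [hb3] at hb4
    exact A.mul_mem ha hb4
  have hCWY : ⁅V, L⁆ ⊓ Subgroup.centralizer (L : Set G) ≤ B := by
    rintro w ⟨hw, hwc⟩
    rw [← hWeq] at hw
    obtain ⟨a, ha, b, hb, rfl⟩ := exists_mul_of_mem_sup hAB hw
    have hlw : ∀ l ∈ L, l * (a * b) = (a * b) * l := fun l hl =>
      Subgroup.mem_centralizer_iff.mp hwc l hl
    have ha1 : ∀ x ∈ X.map c, a * x = x * a := by
      intro x hx
      have h1 := hlw x (hX' hx)
      have h2 := hBx b hb x hx
      have h4 : (a * x) * b = (x * a) * b := by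
        rw [mul_assoc, ← h2, ← mul_assoc, ← h1, mul_assoc]
      exact mul_right_cancel h4
    have ha2 := hL_of a (hAx a ha) ha1
    have ha3 : g * a * g⁻¹ = a := by
      rw [← ha2 g hg]; group
    have ha4 : a ∈ B := by
      rw [hBA, ← ha3]
      exact ⟨a, ha, rfl⟩
    exact B.mul_mem ha4 hb
  refine ⟨hWeq, le_antisymm hCWX (le_inf ?_ hAC), le_antisymm ?_ ?_⟩
  · exact Subgroup.commutator_mono le_rfl hX
  · intro w hw
    refine ⟨hCWX ⟨hw.1, ?_⟩, hCWY hw⟩
    refine Subgroup.mem_centralizer_iff.mpr fun x hx => ?_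
    exact Subgroup.mem_centralizer_iff.mp hw.2 x (hX hx)
  · rintro w ⟨hwA, hwB⟩
    refine ⟨hKW (Subgroup.mem_sup_left hwA), ?_⟩
    refine Subgroup.mem_centralizer_iff.mpr fun l hl => ?_
    exact (hL_of w (hAx w hwA) (hBx w hwB) l hl).symm

end Cfsg.Agent.S2833
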