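import Cfsg.Statements.S2835
import Cfsg.Agent.Lib.WeaklyClosed

set_option autoImplicit false
open Cfsg

namespace Cfsg.Agent.S2835

/-- Let L be a finite group, L₀ a maximal subgroup, T a Sylow p-subgroup of L₀ and Y ≤ T, and suppose L is Y-minimal (generated by the conjugates of Y, with Y in exactly one maximal subgroup, necessarily L₀). Then N_L(T) ≤ L₀, O_p(L) ≤ L₀ and T is a Sylow p-subgroup of L; N_L(L₀) = L₀; L = ⟨Y, gYg⁻¹⟩ for each g ∈ L outside L₀; and if Y is abelian then Y ∩ gYg⁻¹ = C_Y(L) for each such g. -/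
theorem result {L : Type*} [Group L] [Finite L] {p : ℕ} [Fact p.Prime] (L₀ : Subgroup L) (hL₀ : IsCoatom L₀) (T : Sylow p ↥L₀) (Y : Subgroup L) (hYT : Y ≤ (T : Subgroup ↥L₀).map L₀.subtype) (hmin : Cfsg.IsMinimalOver Y) : Subgroup.normalizer (((T : Subgroup ↥L₀).map L₀.subtype : Subgroup L) : Set L) ≤ L₀ ∧ Cfsg.pCore p L ≤ L₀ ∧ (∃ P : Sylow p L, (P : Subgroup L) = (T : Subgroup ↥L₀).map L₀.subtype) ∧ Subgroup.normalizer (L₀ : Set L) = L₀ ∧ (∀ g : L, g ∉ L₀ → Y ⊔ Y.map (MulAut.conj g).toMonoidHom = ⊤) ∧ (IsMulCommutative ↥Y → ∀ g : L, g ∉ L₀ → Y ⊓ Y.map (MulAut.conj g).toMonoidHom = Y ⊓ Subgroup.center L) := by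
  open Cfsg.Agent.Lib.WeaklyClosed Cfsg.Agent.Lib.AmalgamChar Cfsg.Agent.Lib.Commutators Cfsg.Agent.Lib.PIrreducible Cfsg.Agent.Lib.PCore in
  obtain ⟨hcl, M, ⟨hM, hYM⟩, huniq⟩ := hmin
  set T' : Subgroup L := (T : Subgroup ↥L₀).map L₀.subtype with hT'
  have hT'L₀ : T' ≤ L₀ := Subgroup.map_subtype_le _
  have hYL₀ : Y ≤ L₀ := hYT.trans hT'L₀
  have hML₀ : L₀ = M := huniq L₀ ⟨hL₀, hYL₀⟩
  subst hML₀
  have hT'p : IsPGroup p T' := T.isPGroup'.map _
  have hnot : ¬ L₀.Normal := by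
    intro hn
    have h1 : Subgroup.normalClosure (Y : Set L) ≤ L₀ := Subgroup.normalClosure_le_normal hYL₀
    rw [hcl] at h1
    exact hL₀.1 (top_le_iff.1 h1)
  have h4 : Subgroup.normalizer (L₀ : Set L) = L₀ := by
    by_contra hne
    have hlt : L₀ < Subgroup.normalizer (L₀ : Set L) :=
      lt_of_le_of_ne Subgroup.le_normalizer (Ne.symm hne)
    have htop := hL₀.2 _ hlt
    exact hnot (Subgroup.normalizer_eq_top_iff.1 htop)
  have h1 : Subgroup.normalizer (T' : Set L) ≤ L₀ := by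
    refine le_unique_coatom huniq (hYT.trans Subgroup.le_normalizer) ?_
    intro htop
    have hn := Subgroup.normalizer_eq_top_iff.1 htop
    have h2 : Subgroup.normalClosure (Y : Set L) ≤ T' := Subgroup.normalClosure_le_normal hYT
    rw [hcl] at h2
    exact hL₀.1 (top_le_iff.1 (h2.trans hT'L₀))
  have h2 : Cfsg.pCore p L ≤ L₀ := by
    by_contra hcon
    have hQn := pCore_normal p L
    have hKp : IsPGroup p ↥(T' ⊔ Cfsg.pCore p L) := hT'p.to_sup_of_normal_right (isPGroup_pCore p L)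
    have hKtop : T' ⊔ Cfsg.pCore p L = ⊤ := by
      by_contra hne
      exact hcon (le_sup_right.trans (le_unique_coatom huniq (hYT.trans le_sup_left) hne))
    rw [hKtop] at hKp
    obtain ⟨t, -, ht1, ht2⟩ := exists_mem_normalizer_not_mem hKp le_top hL₀.1
    rw [h4] at ht2
    exact ht1 ht2
  have h3 : ∃ P : Sylow p L, (P : Subgroup L) = T' := by
    obtain ⟨P, hP⟩ := hT'p.exists_le_sylow
    refine ⟨P, ?_⟩
    by_contra hne
    obtain ⟨t, htP, htT, htN⟩ := exists_mem_normalizer_not_mem P.isPGroup' hP (Ne.symm hne)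
    have htL₀ := h1 htN
    have hB : IsPGroup p ↥(((P : Subgroup L) ⊓ L₀).subgroupOf L₀) :=
      isPGroup_subgroupOf (P.isPGroup'.to_le inf_le_left) L₀
    have hle : (T : Subgroup ↥L₀) ≤ ((P : Subgroup L) ⊓ L₀).subgroupOf L₀ := by
      intro a ha
      exact ⟨hP ⟨a, ha, rfl⟩, a.2⟩
    have heq := T.is_maximal' hB hle
    apply htT
    have hmem : (⟨t, htL₀⟩ : L₀) ∈ ((P : Subgroup L) ⊓ L₀).subgroupOf L₀ := ⟨htP, htL₀⟩
    rw [heq] at hmem
    exact ⟨_, hmem, rfl⟩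
  have h5 : ∀ g : L, g ∉ L₀ → Y ⊔ Y.map (MulAut.conj g).toMonoidHom = ⊤ := by
    intro g hg
    by_contra hne
    have hW := le_unique_coatom huniq le_sup_left hne
    have hYg : Y.map (MulAut.conj g).toMonoidHom ≤ L₀ := le_sup_right.trans hW
    have hcoat : IsCoatom (L₀.map (MulAut.conj g⁻¹).toMonoidHom) := by
      refine isCoatom_map _ (MulAut.conj g⁻¹).surjective hL₀ ?_
      rw [(MonoidHom.ker_eq_bot_iff _).2 (MulAut.conj g⁻¹).injective]
      exact bot_le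
    have hY2 : Y ≤ L₀.map (MulAut.conj g⁻¹).toMonoidHom := by
      have := Subgroup.map_mono (f := (MulAut.conj g⁻¹).toMonoidHom) hYg
      rwa [map_conj_inv_map] at this
    have he := huniq _ ⟨hcoat, hY2⟩
    have hgN : g⁻¹ ∈ Subgroup.normalizer (L₀ : Set L) := mem_normalizer_of_map_eq he
    rw [h4] at hgN
    exact hg (by simpa using L₀.inv_mem hgN)
  refine ⟨h1, h2, h3, h4, h5, ?_⟩
  intro hab g hg
  have hcomm : ∀ a ∈ Y, ∀ b ∈ Y, a * b = b * a := fun a ha b hb =>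
    congrArg Subtype.val (hab.is_comm.comm ⟨a, ha⟩ ⟨b, hb⟩)
  apply le_antisymm
  · rintro z ⟨hzY, hzg⟩
    refine ⟨hzY, ?_⟩
    show z ∈ Subgroup.center L
    rw [Subgroup.mem_center_iff]
    intro x
    have hC : (⊤ : Subgroup L) ≤ Subgroup.centralizer ({z} : Set L) := by
      rw [← h5 g hg]
      refine sup_le ?_ ?_
      · intro y hy
        rw [Subgroup.mem_centralizer_iff]
        intro w hw
        rw [Set.mem_singleton_iff.1 hw]
        exact hcomm z hzY y hy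
      · rintro _ ⟨y, hy, rfl⟩
        rw [Subgroup.mem_centralizer_iff]
        intro w hw
        rw [Set.mem_singleton_iff.1 hw]
        obtain ⟨y₀, hy₀, rfl⟩ := hzg
        show g * y₀ * g⁻¹ * (g * y * g⁻¹) = g * y * g⁻¹ * (g * y₀ * g⁻¹)
        calc g * y₀ * g⁻¹ * (g * y * g⁻¹) = g * (y₀ * y) * g⁻¹ := by group
          _ = g * (y * y₀) * g⁻¹ := by rw [hcomm y₀ hy₀ y hy]
          _ = _ := by group
    have := (Subgroup.mem_centralizer_iff.1 (hC (Subgroup.mem_top x))) z (Set.mem_singleton z)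
    exact this.symm
  · rintro z ⟨hzY, hzc⟩
    refine ⟨hzY, ?_⟩
    show z ∈ Subgroup.map _ Y
    rw [mem_conj_iff]
    have h6 := (Subgroup.mem_center_iff.1 (show z ∈ Subgroup.center L from hzc)) g⁻¹
    have h7 : g⁻¹ * z * g = z := by
      rw [h6]; group
    rwa [h7]

end Cfsg.Agent.S2835
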