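import Cfsg.Statements.S2836
import Mathlib
import Cfsg.Agent.Lib.PIrreducible
import Cfsg.Agent.Lib.H6PGroup
import Cfsg.Agent.Lib.FitCore
import Cfsg.Agent.Lib.SchurZ2
import Cfsg.Agent.Lib.PResidual
import Cfsg.Agent.Lib.CharP
import Cfsg.Agent.Lib.Commutators
import Cfsg.Agent.Lib.WeaklyClosed
import Cfsg.Prelude.Def_LocalStructure

set_option autoImplicit false
open Cfsg

namespace Cfsg.Agent.S2836

open Cfsg.Agent.Lib Cfsg.Agent.Lib.PResidual Subgroup

variable {L : Type*} [Group L] [Finite L] {p : ℕ} [Fact p.Prime]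

theorem exists_conj_le_of_index {X Y : Subgroup L} (hY : IsPGroup p Y) (hX : ¬ p ∣ X.index) :
    ∃ g : L, Y.map (MulAut.conj g).toMonoidHom ≤ X := by
  obtain ⟨S₁⟩ : Nonempty (Sylow p X) := inferInstance
  have hS'p : IsPGroup p ((S₁ : Subgroup X).map X.subtype) := S₁.isPGroup'.map _
  have hidx : ¬ p ∣ ((S₁ : Subgroup X).map X.subtype).index := by
    rw [Subgroup.index_map_subtype]
    intro h
    rcases (Nat.Prime.dvd_mul (Fact.out : p.Prime)).1 h with h1 | h1
    · exact S₁.not_dvd_index h1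
    · exact hX h1
  obtain ⟨P₀, hP₀⟩ := hY.exists_le_sylow
  obtain ⟨g, hg⟩ := MulAction.exists_smul_eq L P₀ (hS'p.toSylow hidx)
  refine ⟨g, ?_⟩
  have h1 : ((hS'p.toSylow hidx : Sylow p L) : Subgroup L) = (P₀ : Subgroup L).map (MulAut.conj g).toMonoidHom := by
    rw [← hg]; rfl
  have h2 : ((hS'p.toSylow hidx : Sylow p L) : Subgroup L) ≤ X := by
    show (S₁ : Subgroup X).map X.subtype ≤ X
    exact Subgroup.map_subtype_le _
  exact (Subgroup.map_mono hP₀).trans (h1 ▸ h2)

theorem pcore_eq_of_le (R : Subgroup L) (hR : R = Cfsg.pCore p L) (N : Subgroup L) [N.Normal] :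
    Cfsg.pCore p N = R.subgroupOf N := by
  subst hR
  haveI hn : (Cfsg.pCore p L).Normal := FitCore.pCore_normal p
  apply le_antisymm
  · intro x hx
    exact CharP.map_pCore_le_pCore N ⟨x, hx, rfl⟩
  · exact FitCore.le_pCore p _ inferInstance ((FitCore.pCore_isPGroup p).comap_of_injective _ N.subtype_injective)


/-- Let L be a finite group, L₀ a maximal subgroup, T a Sylow p-subgroup of L₀, Y ≤ T, and suppose L is Y-minimal. Let D be the intersection of the conjugates of L₀ (the core of L₀). Then D contains O_p(L) and D/O_p(L) is the Frattini subgroup of L/O_p(L), so D is p-closed; and every normal subgroup N of L contained in L₀ is p-closed with N/O_p(N) a nilpotent group of order prime to p. -/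
theorem result {L : Type*} [Group L] [Finite L] {p : ℕ} [Fact p.Prime] (L₀ : Subgroup L) (hL₀ : IsCoatom L₀) (T : Sylow p ↥L₀) (Y : Subgroup L) (hYT : Y ≤ (T : Subgroup ↥L₀).map L₀.subtype) (hmin : Cfsg.IsMinimalOver Y) : (Cfsg.pCore p L ≤ L₀.normalCore ∧ (L₀.normalCore).map (QuotientGroup.mk' (Cfsg.pCore p L)) = frattini (L ⧸ Cfsg.pCore p L) ∧ Cfsg.IsPClosed p ↥(L₀.normalCore)) ∧ ∀ (N : Subgroup L) [N.Normal], N ≤ L₀ → Cfsg.IsPClosed p ↥N ∧ Group.IsNilpotent (↥N ⧸ Cfsg.pCore p ↥N) ∧ (Nat.card (↥N ⧸ Cfsg.pCore p ↥N)).Coprime p := by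
  classical
  obtain ⟨hnc, M₀, ⟨hM₀1, hM₀2⟩, hu⟩ := hmin
  have hYL₀ : Y ≤ L₀ := hYT.trans (Subgroup.map_subtype_le _)
  have hL₀u : ∀ X : Subgroup L, IsCoatom X → Y ≤ X → X = L₀ := fun X h1 h2 =>
    (hu X ⟨h1, h2⟩).trans (hu L₀ ⟨hL₀, hYL₀⟩).symm
  have hmax : ∀ X : Subgroup L, Y ≤ X → X ≠ ⊤ → X ≤ L₀ := by
    intro X hX hne
    rcases eq_top_or_exists_le_coatom X with h | ⟨W, hW, hXW⟩
    · exact absurd h hne
    · rw [← hL₀u W hW (hX.trans hXW)]; exact hXW
  have hL₀top : L₀ ≠ ⊤ := hL₀.1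
  set T₀ := (T : Subgroup ↥L₀).map L₀.subtype with hT₀
  have hT₀p : IsPGroup p T₀ := T.isPGroup'.map _
  have hT₀L : T₀ ≤ L₀ := Subgroup.map_subtype_le _
  have hYp : IsPGroup p Y := hT₀p.to_le hYT
  set R := Cfsg.pCore p L with hR
  haveI hRn : R.Normal := FitCore.pCore_normal p
  have hRp : IsPGroup p R := FitCore.pCore_isPGroup p
  set D := L₀.normalCore with hD
  have hDL : D ≤ L₀ := Subgroup.normalCore_le L₀
  haveI hDn : D.Normal := inferInstance
  -- `R ≤ D`
  have hRD : R ≤ D := by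
    apply Subgroup.normal_le_normalCore.2
    by_cases htop : R ⊔ Y = ⊤
    · exfalso
      have hLp : IsPGroup p L := by
        have h1 : IsPGroup p (R ⊔ Y : Subgroup L) := IsPGroup.to_sup_of_normal_left' hRp hYp (by
          rw [normalizer_eq_top_iff.2 hRn]; exact le_top)
        rw [htop] at h1
        exact h1.of_equiv Subgroup.topEquiv
      haveI hn : L₀.Normal := by
        constructor
        intro y hy x
        have h1 := (H6PGroup.coatom_facts hLp hL₀).2 x y
        have h2 := L₀.mul_mem h1 hy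
        have h3 : x * y * x⁻¹ * y⁻¹ * y = x * y * x⁻¹ := by group
        rwa [h3] at h2
      apply hL₀top
      rw [eq_top_iff, ← hnc]
      exact Subgroup.normalClosure_le_normal hYL₀
    · exact le_sup_left.trans (hmax _ le_sup_right htop)
  have hRL₀ : R ≤ L₀ := hRD.trans hDL
  have hRT₀ : R ≤ T₀ := by
    intro r hr
    have h1 : R.subgroupOf L₀ ≤ Cfsg.pCore p L₀ :=
      FitCore.le_pCore p _ inferInstance (hRp.comap_of_injective _ L₀.subtype_injective)
    have h2 := PCore.pCore_le_sylow T (h1 (show (⟨r, hRL₀ hr⟩ : L₀) ∈ R.subgroupOf L₀ from hr))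
    exact ⟨_, h2, rfl⟩
  -- `T₀ ∩ D` is a Sylow subgroup of `D`
  have hidx : ¬ p ∣ T₀.relIndex D := by
    have h1 := FitCore.relIndex_dvd_index_of_normal_right (T : Subgroup ↥L₀) (D.subgroupOf L₀)
    have h2 : T₀.subgroupOf L₀ = T := Subgroup.comap_map_eq_self_of_injective L₀.subtype_injective _
    have h3 := Subgroup.relIndex_subgroupOf (H := T₀) hDL
    rw [h2] at h3
    rw [h3] at h1
    intro h
    exact T.not_dvd_index (h.trans h1)
  have hTD : IsPGroup p (T₀.subgroupOf D) := hT₀p.comap_of_injective _ D.subtype_injective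
  set Tz := hTD.toSylow hidx with hTz
  have hTzm : (Tz : Subgroup D).map D.subtype = T₀ ⊓ D := Subgroup.subgroupOf_map_subtype _ _
  have hYN : Y ≤ normalizer ((T₀ ⊓ D : Subgroup L) : Set L) := by
    intro y hy
    have hy' := hYT hy
    apply Commutators.mem_normalizer_of_conj_mem
    · rintro a ⟨ha1, ha2⟩
      exact ⟨T₀.mul_mem (T₀.mul_mem hy' ha1) (T₀.inv_mem hy'), hDn.conj_mem a ha2 y⟩
    · rintro a ⟨ha1, ha2⟩
      have h3 := hDn.conj_mem a ha2 y⁻¹
      rw [inv_inv] at h3
      exact ⟨T₀.mul_mem (T₀.mul_mem (T₀.inv_mem hy') ha1) hy', h3⟩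
  have hNtop : normalizer ((T₀ ⊓ D : Subgroup L) : Set L) = ⊤ := by
    by_contra hne
    have hle := hmax _ hYN hne
    apply hL₀top
    rw [eq_top_iff]
    intro x _
    have hxD : x ∈ normalizer (D : Set L) := by
      rw [normalizer_eq_top_iff.2 hDn]; trivial
    obtain ⟨k, hk, hkx⟩ := SchurZ2.frattini_of_normalizer Tz hxD
    rw [hTzm] at hkx
    have h1 := hle hkx
    have h2 := L₀.mul_mem (L₀.inv_mem (hDL hk)) h1
    have h3 : k⁻¹ * (k * x) = x := by group
    rwa [h3] at h2
  haveI hT₁n : (T₀ ⊓ D : Subgroup L).Normal := normalizer_eq_top_iff.1 hNtop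
  have hT₁R : T₀ ⊓ D ≤ R := FitCore.le_pCore p _ hT₁n (hT₀p.to_le inf_le_left)
  have hT₁ : T₀ ⊓ D = R := le_antisymm hT₁R (le_inf hRT₀ hRD)
  have hidxR : ¬ p ∣ R.relIndex D := by
    rw [← hT₁, Subgroup.inf_relIndex_right]
    exact hidx
  -- normal subgroups inside `L₀`
  have hN0 : ∀ (N : Subgroup L) [N.Normal], N ≤ L₀ → ¬ p ∣ R.relIndex N := by
    intro N hNn hNL hdvd
    have hND : N ≤ D := Subgroup.normal_le_normalCore.2 hNL
    have h1 := FitCore.relIndex_dvd_index_of_normal_right (R.subgroupOf D) (N.subgroupOf D)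
    rw [Subgroup.relIndex_subgroupOf hND] at h1
    exact hidxR (hdvd.trans h1)
  have hN1 : ∀ (N : Subgroup L) [N.Normal], N ≤ L₀ → Cfsg.IsPClosed p ↥N := by
    intro N hNn hNL
    have hp : IsPGroup p (R.subgroupOf N) := hRp.comap_of_injective _ N.subtype_injective
    rw [isPClosed_iff_exists]
    refine ⟨hp.toSylow (hN0 N hNL), ?_⟩
    show (R.subgroupOf N).Normal
    infer_instance
  -- every maximal subgroup above `R` contains `D`
  have hDX : ∀ X : Subgroup L, IsCoatom X → R ≤ X → D ≤ X := by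
    intro X hX hRX
    by_contra hnle
    have hsup : D ⊔ X = ⊤ := by
      have hlt : X < D ⊔ X := lt_of_le_of_ne le_sup_right (fun h => hnle (by
        rw [h]; exact le_sup_left))
      exact hX.2 _ hlt
    have hindex : ¬ p ∣ X.index := by
      have h1 := FitCore.relIndex_sup_of_normal X D
      rw [hsup, Subgroup.relIndex_top_right] at h1
      rw [h1]
      intro h
      exact hidxR (h.trans (Subgroup.relIndex_dvd_of_le_left D hRX))
    obtain ⟨g, hg⟩ := exists_conj_le_of_index hYp hindex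
    have h2 : Y ≤ X.map (MulAut.conj g⁻¹).toMonoidHom := by
      intro y hy
      refine ⟨g * y * g⁻¹, hg ⟨y, hy, rfl⟩, ?_⟩
      show g⁻¹ * (g * y * g⁻¹) * g⁻¹⁻¹ = y
      group
    have h3 : IsCoatom (X.map (MulAut.conj g⁻¹).toMonoidHom) :=
      PIrreducible.isCoatom_map _ (MulAut.conj g⁻¹).surjective hX (by
        intro x hx
        have : x = 1 := (MulAut.conj g⁻¹).injective (by simpa using hx)
        rw [this]; exact X.one_mem)
    have h4 := hL₀u _ h3 h2
    apply hnle
    intro d hd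
    have hd' : g⁻¹ * d * g⁻¹⁻¹ ∈ D := hDn.conj_mem d hd g⁻¹
    have h5 : g⁻¹ * d * g⁻¹⁻¹ ∈ X.map (MulAut.conj g⁻¹).toMonoidHom := by
      rw [h4]; exact hDL hd'
    obtain ⟨x, hx, hxe⟩ := h5
    have hxe' : g⁻¹ * x * g⁻¹⁻¹ = g⁻¹ * d * g⁻¹⁻¹ := hxe
    have h6 : x = d := by
      exact mul_left_cancel (mul_right_cancel hxe')
    rwa [← h6]
  let π := QuotientGroup.mk' R
  have hπs : Function.Surjective π := QuotientGroup.mk'_surjective R
  have hker : π.ker = R := QuotientGroup.ker_mk' R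
  have hFr : D.map π = frattini (L ⧸ R) := by
    apply le_antisymm
    · rw [Subgroup.map_le_iff_le_comap]
      simp only [frattini, Order.radical, Subgroup.comap_iInf, le_iInf_iff]
      intro X hX
      apply hDX _ (PIrreducible.isCoatom_comap π hπs hX)
      exact hker.symm.le.trans (MonoidHom.ker_le_comap π X)
    · have hcoat : IsCoatom (L₀.map π) :=
        PIrreducible.isCoatom_map π hπs hL₀ (by rw [hker]; exact hRL₀)
      have h1 := frattini_le_coatom hcoat
      have h2 : (frattini (L ⧸ R)).comap π ≤ L₀ := by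
        rw [← Subgroup.comap_map_eq_self (f := π) (H := L₀) (by rw [hker]; exact hRL₀)]
        exact Subgroup.comap_mono h1
      haveI hfn : (frattini (L ⧸ R)).Normal := inferInstance
      have h3 : (frattini (L ⧸ R)).comap π ≤ D := Subgroup.normal_le_normalCore.2 h2
      have h4 := Subgroup.map_mono (f := π) h3
      rwa [Subgroup.map_comap_eq_self_of_surjective hπs] at h4
  refine ⟨⟨hRD, hFr, hN1 D hDL⟩, ?_⟩
  intro N hNn hNL
  have hND : N ≤ D := Subgroup.normal_le_normalCore.2 hNL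
  have hcore := pcore_eq_of_le (p := p) R hR N
  refine ⟨hN1 N hNL, ?_, ?_⟩
  · -- embed into the Frattini subgroup
    let f : N →* L ⧸ R := π.comp N.subtype
    have hfker : f.ker = Cfsg.pCore p N := by
      rw [hcore]
      ext x
      simp only [f, MonoidHom.mem_ker, MonoidHom.comp_apply, Subgroup.mem_subgroupOf]
      exact QuotientGroup.eq_one_iff _
    have hfr : f.range ≤ frattini (L ⧸ R) := by
      rw [← hFr]
      rintro _ ⟨n, rfl⟩
      exact ⟨n, hND n.2, rfl⟩
    haveI hnil : Group.IsNilpotent (frattini (L ⧸ R)) := frattini_nilpotent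
    let e : N ⧸ Cfsg.pCore p N ≃* f.range :=
      (QuotientGroup.quotientMulEquivOfEq hfker.symm).trans (QuotientGroup.quotientKerEquivRange f)
    haveI : Group.IsNilpotent f.range :=
      nilpotent_of_mulEquiv (Subgroup.subgroupOfEquivOfLe hfr)
    exact nilpotent_of_mulEquiv e.symm
  · have h1 : Nat.card (N ⧸ Cfsg.pCore p N) = R.relIndex N := by
      rw [hcore]
      rfl
    rw [h1]
    exact ((Fact.out : p.Prime).coprime_iff_not_dvd.2 (hN0 N hNL)).symm

end Cfsg.Agent.S2836
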