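import Cfsg.Statements.S2837
import Mathlib
import Cfsg.Agent.Lib.H6PGroup
import Cfsg.Agent.Lib.CoprimeAct
import Cfsg.Agent.Lib.FitCore
import Cfsg.Agent.Lib.Commutators
import Cfsg.Agent.Lib.WeaklyClosed
import Cfsg.Prelude.Def_LocalStructure

set_option autoImplicit false
open Cfsg

namespace Cfsg.Agent.S2837

open Cfsg.Agent.Lib Subgroup
open scoped commutatorElement

variable {L : Type*} [Group L]

theorem mem_sup_normalizes {A C : Subgroup L} (h : A ≤ normalizer (C : Set L)) {x : L} (hx : x ∈ A ⊔ C) :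
    ∃ a ∈ A, ∃ c ∈ C, x = a * c := by
  let P₀ : Subgroup L :=
    { carrier := {x | ∃ a ∈ A, ∃ c ∈ C, x = a * c}
      one_mem' := ⟨1, A.one_mem, 1, C.one_mem, by simp⟩
      mul_mem' := by
        rintro _ _ ⟨a, ha, c, hc, rfl⟩ ⟨a', ha', c', hc', rfl⟩
        refine ⟨a * a', A.mul_mem ha ha', a'⁻¹ * c * a' * c', C.mul_mem ?_ hc', by group⟩
        have h1 := (mem_normalizer_iff.1 (h (A.inv_mem ha')) c).1 hc
        rwa [inv_inv] at h1
      inv_mem' := by
        rintro _ ⟨a, ha, c, hc, rfl⟩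
        refine ⟨a⁻¹, A.inv_mem ha, a * c⁻¹ * a⁻¹, ?_, by group⟩
        exact (mem_normalizer_iff.1 (h ha) _).1 (C.inv_mem hc) }
  have hle : A ⊔ C ≤ P₀ := by
    apply sup_le
    · intro a ha
      exact ⟨a, ha, 1, C.one_mem, by simp⟩
    · intro c hc
      exact ⟨1, A.one_mem, c, hc, by simp⟩
  exact hle hx


/-- Let L be a finite group of characteristic p, L₀ a maximal subgroup, Y an elementary abelian p-subgroup of L₀ with L Y-minimal and O_p(L) ≤ N_L(Y). Put A = the normal closure of O_p(L) ∩ Y in L. Then for every g ∈ L outside L₀: Φ(A) = A' = [A ∩ Y, A] = [A ∩ Y, A ∩ gYg⁻¹] ≤ C_Y(L), and Y ∩ gYg⁻¹ = (A ∩ Y) ∩ (A ∩ gYg⁻¹) = C_Y(L) = C_A(L). -/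
theorem result {L : Type*} [Group L] [Finite L] {p : ℕ} [Fact p.Prime] (hchar : Subgroup.centralizer (Cfsg.pCore p L : Set L) ≤ Cfsg.pCore p L) (L₀ : Subgroup L) (hL₀ : IsCoatom L₀) (Y : Subgroup L) (hYL₀ : Y ≤ L₀) (hYel : Cfsg.IsElementaryAbelian p Y) (hmin : Cfsg.IsMinimalOver Y) (hOY : Cfsg.pCore p L ≤ Subgroup.normalizer (Y : Set L)) (A : Subgroup L) (hA : A = Subgroup.normalClosure (((Cfsg.pCore p L ⊓ Y : Subgroup L)) : Set L)) (g : L) (hg : g ∉ L₀) : (frattini ↥A).map A.subtype = ⁅A, A⁆ ∧ ⁅A, A⁆ = ⁅A ⊓ Y, A⁆ ∧ ⁅A ⊓ Y, A⁆ = ⁅A ⊓ Y, A ⊓ Y.map (MulAut.conj g).toMonoidHom⁆ ∧ ⁅A ⊓ Y, A⁆ ≤ Y ⊓ Subgroup.center L ∧ Y ⊓ Y.map (MulAut.conj g).toMonoidHom = Y ⊓ Subgroup.center L ∧ (A ⊓ Y) ⊓ (A ⊓ Y.map (MulAut.conj g).toMonoidHom) = Y ⊓ Subgroup.center L ∧ A ⊓ Subgroup.center L = Y ⊓ Subgroup.center L := by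
  classical
  obtain ⟨hnc, M₀, ⟨hM₀1, hM₀2⟩, hu⟩ := hmin
  have hL₀u : ∀ X : Subgroup L, IsCoatom X → Y ≤ X → X = L₀ := fun X h1 h2 =>
    (hu X ⟨h1, h2⟩).trans (hu L₀ ⟨hL₀, hYL₀⟩).symm
  have hmax : ∀ X : Subgroup L, Y ≤ X → X ≠ ⊤ → X ≤ L₀ := by
    intro X hX hne
    rcases eq_top_or_exists_le_coatom X with h | ⟨W, hW, hXW⟩
    · exact absurd h hne
    · rw [← hL₀u W hW (hX.trans hXW)]; exact hXW
  have hL₀top : L₀ ≠ ⊤ := hL₀.1
  -- `L₀` is not normal and self-normalizing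
  have hNL₀ : normalizer (L₀ : Set L) = L₀ := by
    have hle : L₀ ≤ normalizer (L₀ : Set L) := le_normalizer
    rcases hle.eq_or_lt with h | h
    · exact h.symm
    · have htop := hL₀.2 _ h
      exfalso
      haveI hn : L₀.Normal := normalizer_eq_top_iff.1 htop
      apply hL₀top
      rw [eq_top_iff, ← hnc]
      exact Subgroup.normalClosure_le_normal hYL₀
  set Yg := Y.map (MulAut.conj g).toMonoidHom with hYg
  have hgen : Y ⊔ Yg = ⊤ := by
    by_contra hne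
    have h1 : Yg ≤ L₀ := le_sup_right.trans (hmax _ le_sup_left hne)
    have h2 : Y ≤ L₀.map (MulAut.conj g⁻¹).toMonoidHom := by
      intro y hy
      refine ⟨g * y * g⁻¹, h1 ⟨y, hy, rfl⟩, ?_⟩
      show g⁻¹ * (g * y * g⁻¹) * g⁻¹⁻¹ = y
      group
    have h3 : L₀.map (MulAut.conj g⁻¹).toMonoidHom ≤ L₀ := by
      apply hmax _ h2
      intro h0
      apply hL₀top
      have h9 := Subgroup.comap_map_eq_self_of_injective (f := (MulAut.conj g⁻¹).toMonoidHom) (MulAut.conj g⁻¹).injective L₀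
      rw [h0, Subgroup.comap_top] at h9
      exact h9.symm
    have h4 : L₀.map (MulAut.conj g⁻¹).toMonoidHom = L₀ := by
      apply Subgroup.eq_of_le_of_card_ge h3
      rw [Nat.card_congr (Subgroup.equivMapOfInjective L₀ _ (MulAut.conj g⁻¹).injective).toEquiv.symm]
    have h5 : g⁻¹ ∈ normalizer (L₀ : Set L) := AmalgamChar.mem_normalizer_of_map_eq h4
    rw [hNL₀] at h5
    exact hg (by simpa using L₀.inv_mem h5)
  -- the core
  set R := Cfsg.pCore p L with hR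
  haveI hRn : R.Normal := FitCore.pCore_normal p
  have hRp : IsPGroup p R := FitCore.pCore_isPGroup p
  have hYab : ∀ a ∈ Y, ∀ b ∈ Y, a * b = b * a := fun a ha b hb =>
    congrArg Subtype.val (hYel.1.is_comm.comm ⟨a, ha⟩ ⟨b, hb⟩)
  have hYgab : ∀ a ∈ Yg, ∀ b ∈ Yg, a * b = b * a := by
    rintro _ ⟨a, ha, rfl⟩ _ ⟨b, hb, rfl⟩
    show g * a * g⁻¹ * (g * b * g⁻¹) = g * b * g⁻¹ * (g * a * g⁻¹)
    have := hYab a ha b hb
    calc g * a * g⁻¹ * (g * b * g⁻¹) = g * (a * b) * g⁻¹ := by group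
      _ = g * (b * a) * g⁻¹ := by rw [this]
      _ = _ := by group
  -- `R` normalizes `Yg`
  have hRYg : R ≤ normalizer (Yg : Set L) := by
    intro r hr
    have h1 : g⁻¹ * r * g⁻¹⁻¹ ∈ R := hRn.conj_mem r hr g⁻¹
    have h2 := WeaklyClosed.conj_mem_normalizer_map (g := g) (hOY h1)
    have h3 : g * (g⁻¹ * r * g⁻¹⁻¹) * g⁻¹ = r := by group
    rwa [h3] at h2
  set Y₀ := R ⊓ Y with hY₀
  set Y₁ := R ⊓ Yg with hY₁
  have hcR : ∀ r ∈ R, ∀ y ∈ Y, r * y * r⁻¹ * y⁻¹ ∈ Y₀ := by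
    intro r hr y hy
    constructor
    · have h1 : y * r⁻¹ * y⁻¹ ∈ R := hRn.conj_mem _ (R.inv_mem hr) y
      have h2 := R.mul_mem hr h1
      have h3 : r * (y * r⁻¹ * y⁻¹) = r * y * r⁻¹ * y⁻¹ := by group
      rwa [h3] at h2
    · exact Y.mul_mem ((mem_normalizer_iff.1 (hOY hr) y).1 hy) (Y.inv_mem hy)
  have hcRg : ∀ r ∈ R, ∀ y ∈ Yg, r * y * r⁻¹ * y⁻¹ ∈ Y₁ := by
    intro r hr y hy
    constructor
    · have h1 : y * r⁻¹ * y⁻¹ ∈ R := hRn.conj_mem _ (R.inv_mem hr) y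
      have h2 := R.mul_mem hr h1
      have h3 : r * (y * r⁻¹ * y⁻¹) = r * y * r⁻¹ * y⁻¹ := by group
      rwa [h3] at h2
    · exact Yg.mul_mem ((mem_normalizer_iff.1 (hRYg hr) y).1 hy) (Yg.inv_mem hy)
  -- `Y₀ ⊔ Y₁` is normal
  have hY₀N : ∀ y ∈ Y, ∀ u ∈ Y₀, y * u * y⁻¹ ∈ Y₀ := by
    intro y hy u hu
    have : y * u * y⁻¹ = u := by
      rw [hYab y hy u hu.2]; group
    rwa [this]
  have hY₁Ng : ∀ y ∈ Yg, ∀ u ∈ Y₁, y * u * y⁻¹ ∈ Y₁ := by
    intro y hy u hu
    have : y * u * y⁻¹ = u := by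
      rw [hYgab y hy u hu.2]; group
    rwa [this]
  have hconjY : ∀ y ∈ Y, ∀ u ∈ Y₁, y * u * y⁻¹ ∈ Y₀ ⊔ Y₁ := by
    intro y hy u hu
    have h1 := hcR u hu.1 y hy
    have h2 : y * u * y⁻¹ = (u * y * u⁻¹ * y⁻¹)⁻¹ * u := by group
    rw [h2]
    exact Subgroup.mul_mem _ ((le_sup_left : Y₀ ≤ Y₀ ⊔ Y₁) (Y₀.inv_mem h1)) ((le_sup_right : Y₁ ≤ Y₀ ⊔ Y₁) hu)
  have hconjYg : ∀ y ∈ Yg, ∀ u ∈ Y₀, y * u * y⁻¹ ∈ Y₀ ⊔ Y₁ := by
    intro y hy u hu
    have h1 := hcRg u hu.1 y hy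
    have h2 : y * u * y⁻¹ = (u * y * u⁻¹ * y⁻¹)⁻¹ * u := by group
    rw [h2]
    exact Subgroup.mul_mem _ ((le_sup_right : Y₁ ≤ Y₀ ⊔ Y₁) (Y₁.inv_mem h1)) ((le_sup_left : Y₀ ≤ Y₀ ⊔ Y₁) hu)
  have hNB : normalizer ((Y₀ ⊔ Y₁ : Subgroup L) : Set L) = ⊤ := by
    rw [eq_top_iff, ← hgen]
    apply sup_le
    · intro y hy
      have key : ∀ y ∈ Y, ∀ a ∈ Y₀ ⊔ Y₁, y * a * y⁻¹ ∈ Y₀ ⊔ Y₁ := by
        intro y hy a ha
        have h1 : Y₀ ⊔ Y₁ ≤ (Y₀ ⊔ Y₁).comap (MulAut.conj y).toMonoidHom := by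
          apply sup_le
          · intro u hu
            exact (le_sup_left : Y₀ ≤ Y₀ ⊔ Y₁) (hY₀N y hy u hu)
          · intro u hu
            exact hconjY y hy u hu
        exact h1 ha
      apply Commutators.mem_normalizer_of_conj_mem (key y hy)
      intro a ha
      have := key y⁻¹ (Y.inv_mem hy) a ha
      simpa using this
    · intro y hy
      have key : ∀ y ∈ Yg, ∀ a ∈ Y₀ ⊔ Y₁, y * a * y⁻¹ ∈ Y₀ ⊔ Y₁ := by
        intro y hy a ha
        have h1 : Y₀ ⊔ Y₁ ≤ (Y₀ ⊔ Y₁).comap (MulAut.conj y).toMonoidHom := by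
          apply sup_le
          · intro u hu
            exact hconjYg y hy u hu
          · intro u hu
            exact (le_sup_right : Y₁ ≤ Y₀ ⊔ Y₁) (hY₁Ng y hy u hu)
        exact h1 ha
      apply Commutators.mem_normalizer_of_conj_mem (key y hy)
      intro a ha
      have := key y⁻¹ (Yg.inv_mem hy) a ha
      simpa using this
  haveI hBn : (Y₀ ⊔ Y₁ : Subgroup L).Normal := normalizer_eq_top_iff.1 hNB
  haveI hAn : A.Normal := by rw [hA]; infer_instance
  have hY₀A : Y₀ ≤ A := by rw [hA]; exact Subgroup.subset_normalClosure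
  have hY₁A : Y₁ ≤ A := by
    rintro u ⟨hu1, y, hy, rfl⟩
    have hy' : y ∈ Y₀ := by
      refine ⟨?_, hy⟩
      have := hRn.conj_mem _ hu1 g⁻¹
      have h3 : g⁻¹ * (MulAut.conj g).toMonoidHom y * g⁻¹⁻¹ = y := by
        show g⁻¹ * (g * y * g⁻¹) * g⁻¹⁻¹ = y
        group
      rwa [h3] at this
    exact hAn.conj_mem y (hY₀A hy') g
  have hAeq : A = Y₀ ⊔ Y₁ := by
    apply le_antisymm
    · rw [hA]
      exact Subgroup.normalClosure_le_normal (le_sup_left : Y₀ ≤ Y₀ ⊔ Y₁)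
    · exact sup_le hY₀A hY₁A
  have hY₀Y₁ : Y₀ ≤ normalizer (Y₁ : Set L) := by
    intro u hu
    apply Commutators.mem_normalizer_of_conj_mem
    · rintro a ⟨ha1, ha2⟩
      exact ⟨hRn.conj_mem a ha1 u, (mem_normalizer_iff.1 (hRYg hu.1) a).1 ha2⟩
    · rintro a ⟨ha1, ha2⟩
      have h1 := (mem_normalizer_iff.1 (hRYg (R.inv_mem hu.1)) a).1 ha2
      rw [inv_inv] at h1
      have h2 := hRn.conj_mem a ha1 u⁻¹
      rw [inv_inv] at h2
      exact ⟨h2, h1⟩
  have hdec : ∀ a ∈ A, ∃ u ∈ Y₀, ∃ v ∈ Y₁, a = u * v := by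
    intro a ha
    rw [hAeq] at ha
    exact mem_sup_normalizes hY₀Y₁ ha
  -- the central part
  have hZ1 : Y ⊓ Yg = Y ⊓ center L := by
    apply le_antisymm
    · rintro x ⟨hx1, hx2⟩
      have hc : (⊤ : Subgroup L) ≤ centralizer ({x} : Set L) := by
        rw [← hgen]
        apply sup_le
        · intro y hy
          rw [mem_centralizer_singleton_iff]
          exact hYab y hy x hx1
        · intro y hy
          rw [mem_centralizer_singleton_iff]
          exact hYgab y hy x hx2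
      refine ⟨hx1, Subgroup.mem_center_iff.2 (fun w => ?_)⟩
      exact mem_centralizer_singleton_iff.1 (hc (mem_top w))
    · rintro x ⟨hx1, hx2⟩
      refine ⟨hx1, x, hx1, ?_⟩
      show g * x * g⁻¹ = x
      have h6 := Subgroup.mem_center_iff.1 hx2 g
      calc g * x * g⁻¹ = x * g * g⁻¹ := by rw [h6]
        _ = x := by group
  have hZR : Y ⊓ center L ≤ R := by
    apply FitCore.le_pCore p _
    · constructor
      rintro x ⟨hx1, hx2⟩ w
      have : w * x * w⁻¹ = x := by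
        rw [(Subgroup.mem_center_iff.1 hx2 w)]; group
      rw [this]
      exact ⟨hx1, hx2⟩
    · intro x
      refine ⟨1, ?_⟩
      apply Subtype.ext
      simpa using hYel.2 x x.2.1
  have hZY₀ : Y ⊓ center L ≤ Y₀ := le_inf hZR inf_le_left
  have hZY₁ : Y ⊓ center L ≤ Y₁ := by
    refine le_inf hZR ?_
    rw [← hZ1]
    exact inf_le_right
  have hAY : A ⊓ Y = Y₀ := by
    apply le_antisymm
    · rintro a ⟨ha1, ha2⟩
      obtain ⟨u, hu, v, hv, rfl⟩ := hdec a ha1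
      have hvY : v ∈ Y := by
        have := Y.mul_mem (Y.inv_mem hu.2) ha2
        simpa using this
      have hvZ : v ∈ Y₀ := hZY₀ (by rw [← hZ1]; exact ⟨hvY, hv.2⟩)
      exact Y₀.mul_mem hu hvZ
    · exact le_inf hY₀A inf_le_right
  have hAYg : A ⊓ Yg = Y₁ := by
    apply le_antisymm
    · rintro a ⟨ha1, ha2⟩
      obtain ⟨u, hu, v, hv, rfl⟩ := hdec a ha1
      have huY : u ∈ Yg := by
        have := Yg.mul_mem ha2 (Yg.inv_mem hv.2)
        simpa using this
      have huZ : u ∈ Y₁ := hZY₁ (by rw [← hZ1]; exact ⟨hu.2, huY⟩)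
      exact Y₁.mul_mem huZ hv
    · exact le_inf hY₁A inf_le_right
  -- commutators
  have hcommZ : ⁅Y₀, Y₁⁆ ≤ Y ⊓ center L := by
    rw [Subgroup.commutator_le]
    intro u hu v hv
    rw [← hZ1]
    constructor
    · have h1 := hcR v hv.1 u hu.2
      have h2 : ⁅u, v⁆ = (v * u * v⁻¹ * u⁻¹)⁻¹ := by
        rw [commutatorElement_def]; group
      rw [h2]
      exact Y.inv_mem h1.2
    · exact (hcRg u hu.1 v hv.2).2
  have hZc : ∀ z ∈ ⁅Y₀, Y₁⁆, ∀ w : L, w * z = z * w := by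
    intro z hz w
    exact Subgroup.mem_center_iff.1 (hcommZ hz).2 w
  have hAcomm : ⁅A, A⁆ ≤ ⁅Y₀, Y₁⁆ := by
    rw [Subgroup.commutator_le]
    intro a ha b hb
    obtain ⟨u, hu, v, hv, rfl⟩ := hdec a ha
    obtain ⟨u', hu', v', hv', rfl⟩ := hdec b hb
    have hz₁ : ⁅u', v⁆ ∈ ⁅Y₀, Y₁⁆ := Subgroup.commutator_mem_commutator hu' hv
    have hz₂ : ⁅u, v'⁆ ∈ ⁅Y₀, Y₁⁆ := Subgroup.commutator_mem_commutator hu hv'
    set z₁ := ⁅u', v⁆ with hz₁d
    set z₂ := ⁅u, v'⁆ with hz₂d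
    have e₁ : v * u' = z₁⁻¹ * (u' * v) := by
      rw [hz₁d, commutatorElement_def]; group
    have e₂ : v' * u = z₂⁻¹ * (u * v') := by
      rw [hz₂d, commutatorElement_def]; group
    have huu : u * u' = u' * u := hYab u hu.2 u' hu'.2
    have hvv : v * v' = v' * v := hYgab v hv.2 v' hv'.2
    have h1 : (u * v) * (u' * v') = z₁⁻¹ * (u * u' * (v * v')) := by
      calc (u * v) * (u' * v') = u * (v * u') * v' := by group
        _ = u * (z₁⁻¹ * (u' * v)) * v' := by rw [e₁]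
        _ = (u * z₁⁻¹) * (u' * v) * v' := by group
        _ = (z₁⁻¹ * u) * (u' * v) * v' := by
          rw [hZc _ (Subgroup.inv_mem _ hz₁) u]
        _ = _ := by group
    have h2 : (u' * v') * (u * v) = z₂⁻¹ * (u * u' * (v * v')) := by
      calc (u' * v') * (u * v) = u' * (v' * u) * v := by group
        _ = u' * (z₂⁻¹ * (u * v')) * v := by rw [e₂]
        _ = (u' * z₂⁻¹) * (u * v') * v := by group
        _ = (z₂⁻¹ * u') * (u * v') * v := by
          rw [hZc _ (Subgroup.inv_mem _ hz₂) u']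
        _ = z₂⁻¹ * (u' * u) * (v' * v) := by group
        _ = _ := by rw [← huu, ← hvv]; group
    have h3 : ⁅u * v, u' * v'⁆ = z₁⁻¹ * z₂ := by
      rw [commutatorElement_def]
      have h4 : (u * v) * (u' * v') = z₁⁻¹ * z₂ * ((u' * v') * (u * v)) := by
        rw [h1, h2]; group
      rw [h4]; group
    rw [h3]
    exact Subgroup.mul_mem _ (Subgroup.inv_mem _ hz₁) hz₂
  have hE1 : ⁅A, A⁆ = ⁅Y₀, Y₁⁆ :=
    le_antisymm hAcomm (Subgroup.commutator_mono hY₀A hY₁A)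
  have hE2 : ⁅A ⊓ Y, A⁆ = ⁅Y₀, Y₁⁆ := by
    rw [hAY]
    apply le_antisymm
    · exact (Subgroup.commutator_mono hY₀A le_rfl).trans hAcomm
    · exact Subgroup.commutator_mono le_rfl hY₁A
  -- the Frattini subgroup
  have hAp : IsPGroup p A := hRp.to_le (by
    rw [hAeq]
    exact sup_le inf_le_left inf_le_left)
  have hFr : (frattini ↥A).map A.subtype = ⁅A, A⁆ := by
    rw [← Subgroup.map_subtype_commutator]
    congr 1
    apply le_antisymm
    · apply CoprimeAct.frattini_le_of_elementary (p := p)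
      · intro a b
        exact Subgroup.commutator_mem_commutator (mem_top a) (mem_top b)
      · intro a
        obtain ⟨u, hu, v, hv, hauv⟩ := hdec a a.2
        have hu' : u ∈ A := hY₀A hu
        have hv' : v ∈ A := hY₁A hv
        have ha' : a = (⟨u, hu'⟩ : A) * ⟨v, hv'⟩ := Subtype.ext hauv
        rw [← Abelianization.ker_of, MonoidHom.mem_ker, map_pow, ha', map_mul, mul_pow,
          ← map_pow, ← map_pow]
        have h1 : (⟨u, hu'⟩ : A) ^ p = 1 := Subtype.ext (by simpa using hYel.2 u hu.2)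
        have h2 : (⟨v, hv'⟩ : A) ^ p = 1 := by
          apply Subtype.ext
          obtain ⟨y, hy, hyv⟩ := hv.2
          have := hYel.2 y hy
          have h5 : v ^ p = 1 := by
            rw [← hyv]
            show (g * y * g⁻¹) ^ p = 1
            rw [conj_pow, this]; group
          simpa using h5
        rw [h1, h2]; simp
    · rw [_root_.commutator_def, Subgroup.commutator_le]
      intro a _ b _
      exact H6PGroup.comm_mem_frattini hAp a b
  refine ⟨hFr, hE1.trans hE2.symm, ?_, ?_, hZ1, ?_, ?_⟩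
  · rw [hE2, hAY, hAYg]
  · rw [hE2]; exact hcommZ
  · rw [hAY, hAYg]
    apply le_antisymm
    · rw [← hZ1]
      exact inf_le_inf inf_le_right inf_le_right
    · exact le_inf hZY₀ hZY₁
  · apply le_antisymm
    · rintro x ⟨hx1, hx2⟩
      obtain ⟨u, hu, v, hv, rfl⟩ := hdec x hx1
      refine ⟨?_, hx2⟩
      apply Y.mul_mem hu.2
      -- `v` is central
      have hvc : v ∈ center L := by
        have hc : (⊤ : Subgroup L) ≤ centralizer ({v} : Set L) := by
          rw [← hgen]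
          apply sup_le
          · intro y hy
            rw [mem_centralizer_singleton_iff]
            have h1 := Subgroup.mem_center_iff.1 hx2 y
            have h2 := hYab y hy u hu.2
            -- `y (u v) = (u v) y`
            have h3 : y * v = u⁻¹ * (y * (u * v)) := by
              calc y * v = u⁻¹ * (u * y) * v := by group
                _ = u⁻¹ * (y * u) * v := by rw [h2]
                _ = _ := by group
            rw [h3, h1]
            group
          · intro y hy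
            rw [mem_centralizer_singleton_iff]
            exact hYgab y hy v hv.2
        rw [Subgroup.mem_center_iff]
        intro w
        exact mem_centralizer_singleton_iff.1 (hc (mem_top w))
      have : v ∈ Y ⊓ Yg ⊔ ⊥ := by
        simp only [sup_bot_eq]
        refine ⟨?_, hv.2⟩
        obtain ⟨y, hy, hyv⟩ := hv.2
        have h4 : (MulAut.conj g).toMonoidHom y = g * y * g⁻¹ := rfl
        rw [h4] at hyv
        have h5 : y = v := by
          have h6 := Subgroup.mem_center_iff.1 hvc g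
          have h7 : y = g⁻¹ * v * g := by rw [← hyv]; group
          calc y = g⁻¹ * v * g := h7
            _ = g⁻¹ * (v * g) := by group
            _ = g⁻¹ * (g * v) := by rw [h6]
            _ = v := by group
        rwa [← h5]
      simp only [sup_bot_eq] at this
      exact this.1
    · exact le_inf (hZY₀.trans hY₀A) inf_le_right

end Cfsg.Agent.S2837
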