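import Cfsg.Statements.S2839
import Cfsg.Agent.Lib.WeaklyClosed

set_option autoImplicit false
open Cfsg

namespace Cfsg.Agent.S2839

/-- Let Q be a nontrivial p-subgroup of the finite group H that is a weakly closed subgroup, K a subgroup containing Q and N a normal subgroup of H. Then Q is a weakly closed subgroup of K; every H-conjugate of Q contained in K is a K-conjugate of Q; N_K(Q) contains a Sylow p-subgroup of K; N = N_N(Q)·O^p(N); and QN/N is a weakly closed subgroup of H/N. -/
theorem result {H : Type*} [Group H] [Finite H] {p : ℕ} [Fact p.Prime] (Q : Subgroup H) (hQp : IsPGroup p ↥Q) (hQ1 : Q ≠ ⊥) (hwc : Cfsg.IsWeaklyClosedSubgroup p Q) (K : Subgroup H) (hQK : Q ≤ K) (N' : Subgroup H) [N'.Normal] : Cfsg.IsWeaklyClosedSubgroup p (Q.subgroupOf K) ∧ (∀ g : H, ((Q : Subgroup H).map (MulAut.conj (g : H)).toMonoidHom) ≤ K → ∃ k ∈ K, ((Q : Subgroup H).map (MulAut.conj (g : H)).toMonoidHom) = ((Q : Subgroup H).map (MulAut.conj (k : H)).toMonoidHom)) ∧ Cfsg.IsParabolic p ((Subgroup.normalizer ((Q :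 Subgroup H) : Set H)).subgroupOf K) ∧ (N' ⊓ Subgroup.normalizer ((Q : Subgroup H) : Set H)) ⊔ (Cfsg.pResidual p ↥N').map N'.subtype = N' ∧ Cfsg.IsWeaklyClosedSubgroup p (Q.map (QuotientGroup.mk' N')) := by
  open Cfsg.Agent.Lib.WeaklyClosed Cfsg.Agent.Lib.AmalgamChar Cfsg.Agent.Lib.Commutators Cfsg.Agent.Lib.PIrreducible Cfsg.Agent.Lib.PResidual in
  obtain ⟨S, hS⟩ := hQp.exists_le_sylow
  have hSN := sylow_le_normalizer hwc hS
  refine ⟨isWeaklyClosed_subgroupOf hQp hwc hQK, fun g hg => exists_conj_of_le hQp hwc hQK hg,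
    isParabolic_normalizer_subgroupOf hQp hwc hQK, ?_, ?_⟩
  · -- the factorization of `N'`
    obtain ⟨P, hP⟩ := exists_sylow_inf_normal (p := p) S (N := N')
    have hsup := pResidual_sup_sylow P
    have hmap := congrArg (Subgroup.map N'.subtype) hsup
    rw [Subgroup.map_sup, hP] at hmap
    have htop : (⊤ : Subgroup ↥N').map N'.subtype = N' := by
      rw [← MonoidHom.range_eq_map, Subgroup.range_subtype]
    rw [htop] at hmap
    apply le_antisymm
    · exact sup_le inf_le_left (Subgroup.map_subtype_le _)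
    · calc N' = (Cfsg.pResidual p ↥N').map N'.subtype ⊔ ((S : Subgroup H) ⊓ N') := hmap.symm
        _ ≤ _ := by
          rw [sup_comm]
          refine sup_le_sup ?_ le_rfl
          exact le_inf inf_le_right (inf_le_left.trans hSN)
  · -- the image in the quotient
    have hsurj := QuotientGroup.mk'_surjective N'
    let f := QuotientGroup.mk' N'
    refine ⟨S.mapSurjective hsurj, ?_, ?_⟩
    · rw [Sylow.coe_mapSurjective]
      exact Subgroup.map_mono hS
    · intro q hq
      obtain ⟨g, rfl⟩ := hsurj q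
      rw [Sylow.coe_mapSurjective] at hq
      have e1 : (Q.map (MulAut.conj g).toMonoidHom).map f =
          (Q.map f).map (MulAut.conj (f g)).toMonoidHom := map_map_conj f Q g
      rw [← e1] at hq ⊢
      -- so `Q^g ≤ S N'`
      have hle : Q.map (MulAut.conj g).toMonoidHom ≤ (S : Subgroup H) ⊔ N' := by
        have h1 := Subgroup.map_le_iff_le_comap.1 hq
        rw [Subgroup.comap_map_eq] at h1
        rwa [QuotientGroup.ker_mk'] at h1
      set X : Subgroup H := (S : Subgroup H) ⊔ N' with hX
      have hSX : (S : Subgroup H) ≤ X := le_sup_left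
      have hp1 : IsPGroup p ↥((Q.map (MulAut.conj g).toMonoidHom).subgroupOf X) :=
        isPGroup_subgroupOf (hQp.map _) X
      obtain ⟨S₁, hS₁⟩ := hp1.exists_le_sylow
      obtain ⟨x, hx⟩ := MulAction.exists_smul_eq X (S.subtype hSX) S₁
      have hSmap : (((S.subtype hSX : Sylow p X) : Subgroup X)).map X.subtype = S := by
        rw [Sylow.coe_subtype, Subgroup.subgroupOf_map_subtype, inf_eq_left.2 hSX]
      have hQg : Q.map (MulAut.conj g).toMonoidHom ≤ (S : Subgroup H).map (MulAut.conj (x : H)).toMonoidHom := by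
        rw [← hSmap, ← map_smul_sylow, hx]
        intro y hy
        exact ⟨⟨y, hle hy⟩, hS₁ hy, rfl⟩
      -- write `x = n s`
      have hxmem : (x : H) ∈ N' ⊔ (S : Subgroup H) := by
        rw [sup_comm]; exact x.2
      rw [← SetLike.mem_coe, Subgroup.normal_mul, Set.mem_mul] at hxmem
      obtain ⟨n, hn, s, hs, hxx⟩ := hxmem
      rw [← hxx, map_conj_mul, map_conj_eq_of_mem_normalizer (Subgroup.le_normalizer hs)] at hQg
      have h3 : Q.map (MulAut.conj (n⁻¹ * g)).toMonoidHom ≤ S := by
        rw [map_conj_mul]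
        have := Subgroup.map_mono (f := (MulAut.conj n⁻¹).toMonoidHom) hQg
        rwa [map_conj_inv_map] at this
      have h4 := (all_sylow hwc hS).2 _ h3
      have h5 : Q.map (MulAut.conj g).toMonoidHom = Q.map (MulAut.conj n).toMonoidHom := by
        rw [map_conj_mul] at h4
        conv_rhs => rw [← h4]
        rw [map_conj_map_inv]
      rw [h5, map_map_conj]
      have hfn : f n = 1 := (QuotientGroup.eq_one_iff n).2 hn
      rw [hfn, map_conj_one]

end Cfsg.Agent.S2839
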