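import Cfsg.Statements.S2840
import Cfsg.Agent.Lib.WeaklyClosed

set_option autoImplicit false
open Cfsg

namespace Cfsg.Agent.S2840

/-- Let Q be a nontrivial p-subgroup of the finite group H that is a weakly closed subgroup and K a subgroup containing Q; let K° be the weak closure of Q in K (generated by the H-conjugates of Q inside K). Then K° is generated by the K-conjugates of Q, and K° is the subnormal closure of Q in K. -/
theorem result {H : Type*} [Group H] [Finite H] {p : ℕ} [Fact p.Prime] (Q : Subgroup H) (hQp : IsPGroup p ↥Q) (hQ1 : Q ≠ ⊥) (hwc : Cfsg.IsWeaklyClosedSubgroup p Q) (K : Subgroup H) (hQK : Q ≤ K) (Kc : Subgroup H) (hKc : Kc = Cfsg.weakClosure Q K) : Kc = ⨆ k : ↥K, ((Q : Subgroup H).map (MulAut.conj ((k : H) : H)).toMonoidHom) ∧ Kc = (Cfsg.subnormalClosure (Q.subgroupOf K)).map K.subtype := by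
  open Cfsg.Agent.Lib.WeaklyClosed Cfsg.Agent.Lib.AmalgamChar Cfsg.Agent.Lib.Commutators Cfsg.Agent.Lib.PIrreducible in
  subst hKc
  have h1 : Cfsg.weakClosure Q K = ⨆ k : ↥K, Q.map (MulAut.conj (k : H)).toMonoidHom := by
    apply le_antisymm
    · refine iSup_le fun g => ?_
      obtain ⟨k, hk, hkk⟩ := exists_conj_of_le hQp hwc hQK g.2
      rw [hkk]
      exact le_iSup (fun k : ↥K => Q.map (MulAut.conj (k : H)).toMonoidHom) ⟨k, hk⟩
    · refine iSup_le fun k => ?_
      have hk : Q.map (MulAut.conj (k : H)).toMonoidHom ≤ K := by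
        rintro _ ⟨q, hq, rfl⟩
        exact K.mul_mem (K.mul_mem k.2 (hQK hq)) (K.inv_mem k.2)
      exact le_iSup (fun g : {g : H // Q.map (MulAut.conj g).toMonoidHom ≤ K} =>
        Q.map (MulAut.conj (g : H)).toMonoidHom) ⟨k, hk⟩
  refine ⟨h1, ?_⟩
  rw [h1]
  set C : Subgroup H := ⨆ k : ↥K, Q.map (MulAut.conj (k : H)).toMonoidHom with hC
  have hCK : C ≤ K := by
    refine iSup_le fun k => ?_
    rintro _ ⟨q, hq, rfl⟩
    exact K.mul_mem (K.mul_mem k.2 (hQK hq)) (K.inv_mem k.2)
  have hQC : Q ≤ C := by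
    have h0 : Q.map (MulAut.conj ((1 : K) : H)).toMonoidHom ≤ C :=
      le_iSup (fun k : ↥K => Q.map (MulAut.conj (k : H)).toMonoidHom) 1
    rwa [show ((1 : K) : H) = 1 from rfl, map_conj_one] at h0
  have hCnormal : (C.subgroupOf K).Normal := by
    rw [Subgroup.normal_subgroupOf_iff_le_normalizer hCK]
    have key : ∀ k ∈ K, ∀ c ∈ C, k * c * k⁻¹ ∈ C := by
      intro k hk c hc
      have hle : C ≤ C.comap (MulAut.conj k).toMonoidHom := by
        refine iSup_le fun j => ?_
        rw [← Subgroup.map_le_iff_le_comap, ← map_conj_mul]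
        exact le_iSup (fun k : ↥K => Q.map (MulAut.conj (k : H)).toMonoidHom) ⟨k * j, K.mul_mem hk j.2⟩
      exact hle hc
    intro k hk
    apply mem_normalizer_of_conj_mem (key k hk)
    intro c hc
    have := key k⁻¹ (K.inv_mem hk) c hc
    simpa using this
  apply le_antisymm
  · refine iSup_le fun k => ?_
    rintro _ ⟨q, hq, rfl⟩
    have hmem : (⟨(k : H) * q * (k : H)⁻¹, K.mul_mem (K.mul_mem k.2 (hQK hq)) (K.inv_mem k.2)⟩ : K) ∈
        Cfsg.subnormalClosure (Q.subgroupOf K) := by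
      unfold Cfsg.subnormalClosure
      rw [Subgroup.mem_sInf]
      rintro X ⟨hQX, hX⟩
      have h2 := conj_le_of_subnormal (isPGroup_subgroupOf hQp K)
        (isWeaklyClosed_subgroupOf hQp hwc hQK) hX hQX k
      exact h2 ⟨⟨q, hQK hq⟩, hq, rfl⟩
    exact ⟨_, hmem, rfl⟩
  · have h3 : Cfsg.subnormalClosure (Q.subgroupOf K) ≤ C.subgroupOf K := by
      unfold Cfsg.subnormalClosure
      refine sInf_le ⟨?_, hCnormal.isSubnormal⟩
      intro q hq
      exact hQC hq
    calc (Cfsg.subnormalClosure (Q.subgroupOf K)).map K.subtype ≤ (C.subgroupOf K).map K.subtype :=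
          Subgroup.map_mono h3
      _ ≤ C := by
          rw [Subgroup.subgroupOf_map_subtype]
          exact inf_le_left

end Cfsg.Agent.S2840
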