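import Cfsg.Statements.S2841
import Cfsg.Agent.Lib.DualAB

set_option autoImplicit false
open Cfsg

namespace Cfsg.Agent.S2841


open scoped commutatorElement
open Cfsg.Agent.Lib.DualAB

variable {H : Type*} [Group H]

theorem mem_smul_sylow {p : ℕ} (x y : H) (T : Sylow p H) :
    y ∈ ((x • T : Sylow p H) : Subgroup H) ↔ x⁻¹ * y * x ∈ (T : Subgroup H) := by
  rw [Sylow.coe_subgroup_smul, Subgroup.mem_pointwise_smul_iff_inv_smul_mem]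
  simp [MulAut.smul_def]

theorem wc_any [Finite H] {p : ℕ} [Fact p.Prime] {Q : Subgroup H} {T : Sylow p H}
    (hw : Cfsg.IsWeaklyClosed Q (T : Subgroup H)) {T' : Sylow p H} (hQ : Q ≤ (T' : Subgroup H)) {g : H}
    (hg : Q.map (MulAut.conj g).toMonoidHom ≤ (T' : Subgroup H)) :
    g ∈ Subgroup.normalizer (Q : Set H) := by
  obtain ⟨x, hx⟩ := MulAction.exists_smul_eq H T T'
  have hmem : ∀ y, y ∈ (T' : Subgroup H) → x⁻¹ * y * x ∈ (T : Subgroup H) := by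
    intro y hy
    rw [← hx, mem_smul_sylow] at hy
    exact hy
  have h1 : x⁻¹ ∈ Subgroup.normalizer (Q : Set H) := by
    apply mem_of_map_conj
    apply hw.2
    rintro _ ⟨q, hq, rfl⟩
    have := hmem q (hQ hq)
    simpa using this
  have h2 : x⁻¹ * g ∈ Subgroup.normalizer (Q : Set H) := by
    apply mem_of_map_conj
    apply hw.2
    rintro _ ⟨q, hq, rfl⟩
    have := hmem (g * q * g⁻¹) (hg ⟨q, hq, rfl⟩)
    have e : (MulAut.conj (x⁻¹ * g)).toMonoidHom q = x⁻¹ * (g * q * g⁻¹) * x := by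
      show (x⁻¹ * g) * q * (x⁻¹ * g)⁻¹ = _
      group
    rw [e]
    exact this
  have e : g = x * (x⁻¹ * g) := by group
  rw [e]
  exact Subgroup.mul_mem _ (by simpa using Subgroup.inv_mem _ h1) h2

/-- Frattini argument for weakly closed subgroups. -/
theorem frattini_wc [Finite H] {p : ℕ} [Fact p.Prime] {Q K : Subgroup H} {T : Sylow p H} (hQp : IsPGroup p Q)
    (hw : Cfsg.IsWeaklyClosed Q (T : Subgroup H)) (hQK : Q ≤ K) {g : H}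
    (hg : Q.map (MulAut.conj g).toMonoidHom ≤ K) :
    ∃ k ∈ K, k⁻¹ * g ∈ Subgroup.normalizer (Q : Set H) := by
  have hgp : IsPGroup p (Q.map (MulAut.conj g).toMonoidHom) := hQp.map _
  obtain ⟨S₁, hS₁⟩ := (show IsPGroup p (Q.subgroupOf K) from
    hQp.comap_of_injective K.subtype K.subtype_injective).exists_le_sylow
  obtain ⟨S₂, hS₂⟩ := (show IsPGroup p ((Q.map (MulAut.conj g).toMonoidHom).subgroupOf K) from
    hgp.comap_of_injective K.subtype K.subtype_injective).exists_le_sylow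
  obtain ⟨k, hk⟩ := MulAction.exists_smul_eq K S₁ S₂
  have hS₂p : IsPGroup p ((S₂ : Subgroup K).map K.subtype) := S₂.isPGroup'.map _
  obtain ⟨T₂, hT₂⟩ := hS₂p.exists_le_sylow
  have h1 : ∀ y : H, y ∈ Q.map (MulAut.conj g).toMonoidHom → y ∈ (T₂ : Subgroup H) := by
    intro y hy
    apply hT₂
    have hyK : y ∈ K := hg hy
    exact ⟨⟨y, hyK⟩, hS₂ hy, rfl⟩
  have h2 : ∀ q ∈ Q, (k : H) * q * (k : H)⁻¹ ∈ (T₂ : Subgroup H) := by
    intro q hq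
    apply hT₂
    rw [← hk, Cfsg.Agent.Lib.SchurZ2.map_smul_sylow]
    exact ⟨q, ⟨⟨q, hQK hq⟩, hS₁ hq, rfl⟩, rfl⟩
  refine ⟨k, k.2, ?_⟩
  apply wc_any hw (T' := ((k : H)⁻¹ • T₂))
  · intro q hq
    rw [mem_smul_sylow]
    simpa using h2 q hq
  · rintro _ ⟨q, hq, rfl⟩
    rw [mem_smul_sylow]
    have := h1 _ ⟨q, hq, rfl⟩
    have e : ((k : H)⁻¹)⁻¹ * ((MulAut.conj ((k : H)⁻¹ * g)).toMonoidHom q) * (k : H)⁻¹ = (MulAut.conj g).toMonoidHom q := by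
      show ((k : H)⁻¹)⁻¹ * (((k : H)⁻¹ * g) * q * ((k : H)⁻¹ * g)⁻¹) * (k : H)⁻¹ = g * q * g⁻¹
      group
    rw [e]
    exact this

/-- the subgroup product of a subgroup with a normalized subgroup -/
def prodSub (A B : Subgroup H) (hAB : ∀ a ∈ A, ∀ b ∈ B, a * b * a⁻¹ ∈ B) : Subgroup H where
  carrier := {c | ∃ a ∈ A, ∃ b ∈ B, c = a * b}
  mul_mem' := by
    rintro _ _ ⟨a, ha, b, hb, rfl⟩ ⟨a', ha', b', hb', rfl⟩
    refine ⟨a * a', A.mul_mem ha ha', (a'⁻¹ * b * a'⁻¹⁻¹) * b', B.mul_mem (hAB _ (A.inv_mem ha') _ hb) hb', by group⟩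
  one_mem' := ⟨1, A.one_mem, 1, B.one_mem, by simp⟩
  inv_mem' := by
    rintro _ ⟨a, ha, b, hb, rfl⟩
    exact ⟨a⁻¹, A.inv_mem ha, a * b⁻¹ * a⁻¹, hAB _ ha _ (B.inv_mem hb), by group⟩

theorem mem_prodSub {A B : Subgroup H} {hAB : ∀ a ∈ A, ∀ b ∈ B, a * b * a⁻¹ ∈ B} {c : H} :
    c ∈ prodSub A B hAB ↔ ∃ a ∈ A, ∃ b ∈ B, c = a * b := Iff.rfl



/-- Let Q be a nontrivial p-subgroup of the finite group H that is a weakly closed subgroup and N a normal subgroup of H. Then N = N_N(Q)·[N, Q] and [N, Q] = (Q ∩ [N, Q])·[N, Q, Q]. -/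
theorem result {H : Type*} [Group H] [Finite H] {p : ℕ} [Fact p.Prime] (Q : Subgroup H) (hQp : IsPGroup p ↥Q) (hQ1 : Q ≠ ⊥) (hwc : Cfsg.IsWeaklyClosedSubgroup p Q) (N' : Subgroup H) [N'.Normal] : (∀ n : H, n ∈ N' → ∃ a ∈ N' ⊓ Subgroup.normalizer ((Q : Subgroup H) : Set H), ∃ b ∈ ⁅N', Q⁆, n = a * b) ∧ (∀ c : H, c ∈ ⁅N', Q⁆ → ∃ a ∈ Q ⊓ ⁅N', Q⁆, ∃ b ∈ ⁅⁅N', Q⁆, Q⁆, c = a * b) := by
  classical
  obtain ⟨T, hw⟩ := hwc
  have hNn : ∀ g : H, g ∈ Subgroup.normalizer (N' : Set H) := fun g => by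
    rw [Subgroup.mem_normalizer_iff]
    intro x
    exact ⟨fun h => ‹N'.Normal›.conj_mem x h g, fun h => by
      have := ‹N'.Normal›.conj_mem _ h g⁻¹
      simpa [mul_assoc] using this⟩
  set L : Subgroup H := ⁅N', Q⁆ with hL
  have hLN : L ≤ N' := Cfsg.Agent.Lib.SchurZ.commutator_le_of_normalizes (fun g _ => hNn g)
  have hNL : N' ≤ Subgroup.normalizer (L : Set H) := Subgroup.normalizer_commutator_ge_left N' Q
  have hQL : Q ≤ Subgroup.normalizer (L : Set H) := Subgroup.normalizer_commutator_ge_right N' Q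
  have hcj : ∀ {A : Subgroup H} {g : H}, g ∈ Subgroup.normalizer (A : Set H) → ∀ b ∈ A, g * b * g⁻¹ ∈ A :=
    fun hg b hb => (Subgroup.mem_normalizer_iff.1 hg b).1 hb
  -- the first assertion
  have part1 : ∀ n : H, n ∈ N' → ∃ a ∈ N' ⊓ Subgroup.normalizer ((Q : Subgroup H) : Set H), ∃ b ∈ L, n = a * b := by
    intro n hn
    let K := prodSub Q L (fun a ha b hb => hcj (hQL ha) b hb)
    have hQK : Q ≤ K := fun q hq => ⟨q, hq, 1, L.one_mem, by simp⟩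
    have hg : Q.map (MulAut.conj n).toMonoidHom ≤ K := by
      rintro _ ⟨q, hq, rfl⟩
      have hc : ⁅n, q⁆ ∈ L := Subgroup.commutator_mem_commutator hn hq
      refine ⟨q, hq, q⁻¹ * ⁅n, q⁆ * q⁻¹⁻¹, hcj (hQL (Q.inv_mem hq)) _ hc, ?_⟩
      show n * q * n⁻¹ = q * (q⁻¹ * ⁅n, q⁆ * q⁻¹⁻¹)
      rw [commutatorElement_def]
      group
    obtain ⟨k, ⟨q₀, hq₀, l, hl, rfl⟩, hk⟩ := frattini_wc hQp hw hQK hg
    set a₀ := (q₀ * l)⁻¹ * n with ha₀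
    have ha₀L : a₀ ∈ Subgroup.normalizer (L : Set H) := by
      refine Subgroup.mul_mem _ (Subgroup.inv_mem _ (Subgroup.mul_mem _ (hQL hq₀) (hNL (hLN hl)))) (hNL hn)
    refine ⟨q₀ * a₀, ⟨?_, Subgroup.mul_mem _ (Subgroup.le_normalizer hq₀) hk⟩, a₀⁻¹ * l * a₀⁻¹⁻¹, hcj (Subgroup.inv_mem _ ha₀L) l hl, ?_⟩
    · have e : q₀ * a₀ = n * (a₀⁻¹ * l * a₀⁻¹⁻¹)⁻¹ := by rw [ha₀]; group
      rw [e]
      exact N'.mul_mem hn (N'.inv_mem (hLN (hcj (Subgroup.inv_mem _ ha₀L) l hl)))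
    · rw [ha₀]; group
  refine ⟨part1, ?_⟩
  -- the second assertion
  set L₁ : Subgroup H := ⁅L, Q⁆ with hL₁
  have hA₀ : ∀ a ∈ Q ⊓ L, ∀ b ∈ L₁, a * b * a⁻¹ ∈ L₁ := fun a ha b hb =>
    hcj (Subgroup.normalizer_commutator_ge_right L Q ha.1) b hb
  let M := prodSub (Q ⊓ L) L₁ hA₀
  have hLM : L ≤ M := by
    rw [hL, Subgroup.commutator_le]
    intro n hn q hq
    obtain ⟨a, ⟨ha1, ha2⟩, b, hb, rfl⟩ := part1 n hn
    have haL : a ∈ Subgroup.normalizer (L : Set H) := hNL ha1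
    have hd : a * q * a⁻¹ * q⁻¹ ∈ Q ⊓ L := by
      refine ⟨Q.mul_mem (hcj ha2 q hq) (Q.inv_mem hq), ?_⟩
      exact Subgroup.commutator_mem_commutator ha1 hq
    have h1 : b * q * b⁻¹ * q⁻¹ ∈ L₁ := Subgroup.commutator_mem_commutator hb hq
    have h2 : a * (b * q * b⁻¹ * q⁻¹) * a⁻¹ ∈ L₁ := hcj (norm_comm haL ha2) _ h1
    refine ⟨a * q * a⁻¹ * q⁻¹, hd, (a * q * a⁻¹ * q⁻¹)⁻¹ * (a * (b * q * b⁻¹ * q⁻¹) * a⁻¹) * (a * q * a⁻¹ * q⁻¹)⁻¹⁻¹,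
      hA₀ _ ((Q ⊓ L).inv_mem hd) _ h2, ?_⟩
    rw [commutatorElement_def]
    group
  intro c hc
  obtain ⟨a, ha, b, hb, e⟩ := hLM hc
  exact ⟨a, ha, b, hb, e⟩

end Cfsg.Agent.S2841
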