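import Cfsg.Statements.S2842
import Cfsg.Agent.Lib.WCChar

set_option autoImplicit false
open Cfsg

namespace Cfsg.Agent.S2842

open Cfsg.Agent.Lib Cfsg.Agent.Lib.CharPOver Cfsg.Agent.Lib.WCChar


/-- Let Q be a nontrivial p-subgroup of the finite group H that is a weakly closed subgroup with C_H(Q) ≤ Q, and Q ≤ L ≤ H. Suppose H has characteristic p, or more generally that C_H(y) has characteristic p for some nonidentity y ∈ C_{O_p(L)}(Q). Then [Q, C_H(O_p(L))] ≤ Q ∩ O_p(L), C_H(O_p(L)) is a p-group, and L has characteristic p. -/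
theorem result {H : Type*} [Group H] [Finite H] {p : ℕ} [Fact p.Prime] (Q : Subgroup H) (hQp : IsPGroup p ↥Q) (hQ1 : Q ≠ ⊥) (hwc : Cfsg.IsWeaklyClosedSubgroup p Q) (hCQ : Subgroup.centralizer ((Q : Subgroup H) : Set H) ≤ Q) (L : Subgroup H) (hQL : Q ≤ L) (hyp : Subgroup.centralizer (Cfsg.pCore p H : Set H) ≤ Cfsg.pCore p H ∨ ∃ y : H, y ≠ 1 ∧ y ∈ (Cfsg.pCoreOf p L) ⊓ Subgroup.centralizer ((Q : Subgroup H) : Set H) ∧ Subgroup.centralizer (Cfsg.pCore p ↥(Subgroup.centralizer ({y} : Set H)) : Set ↥(Subgroup.centralizer ({y} : Set H))) ≤ Cfsg.pCore p ↥(Subgroup.centralizer ({y} : Set H))) : ⁅Q, Subgroup.centralizer (((Cfsg.pCoreOf p L) : Subgroup H) : Set H)⁆ ≤ Q ⊓ (Cfsg.pCoreOf p L) ∧ IsPGroup p ↥(Subgroup.centralizer (((Cfsg.pCoreOf p L) : Subgroup H) : Set H)) ∧ Subgroup.centralizer (Cfsg.pCore p ↥L : Set ↥L) ≤ Cfsg.pCore p ↥L := by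
  classical
  have hcase : ∃ y : H, y ∈ (Cfsg.pCoreOf p L) ⊓ Subgroup.centralizer ((Q : Subgroup H) : Set H) ∧ Subgroup.centralizer (Cfsg.pCore p ↥(Subgroup.centralizer ({y} : Set H)) : Set ↥(Subgroup.centralizer ({y} : Set H))) ≤ Cfsg.pCore p ↥(Subgroup.centralizer ({y} : Set H)) := by
    rcases hyp with hH | ⟨y, -, hy1, hy2⟩
    · have hRn : (Cfsg.pCore p H).Normal := FitCore.pCore_normal p
      have hRp : IsPGroup p (Cfsg.pCore p H) := FitCore.pCore_isPGroup p
      have hR1 : Cfsg.pCore p H ≠ ⊥ := by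
        intro h0
        apply hQ1
        rw [h0] at hH
        rw [eq_bot_iff]
        intro q _
        apply hH
        have : Subgroup.centralizer ((⊥ : Subgroup H) : Set H) = ⊤ := by
          simp
        rw [this]
        trivial
      have hSp : IsPGroup p (Q ⊔ Cfsg.pCore p H : Subgroup H) := IsPGroup.to_sup_of_normal_right' hQp hRp (by
        rw [Subgroup.normalizer_eq_top_iff.2 hRn]
        exact le_top)
      have hSN : (Q ⊔ Cfsg.pCore p H : Subgroup H) ≤ Subgroup.normalizer ((Cfsg.pCore p H : Subgroup H) : Set H) := by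
        rw [Subgroup.normalizer_eq_top_iff.2 hRn]
        exact le_top
      obtain ⟨z, hzR, hzo, hzc⟩ := exists_central_order hSp le_sup_right hSN hR1
      have hzC : z ∈ Subgroup.centralizer ((Q : Subgroup H) : Set H) := by
        rw [Subgroup.mem_centralizer_iff]
        intro q hq
        exact hzc q ((le_sup_left : Q ≤ Q ⊔ Cfsg.pCore p H) hq)
      have hzQ := hCQ hzC
      refine ⟨z, ⟨?_, hzC⟩, char_centralizer hH hzo⟩
      have hle : Cfsg.pCore p H ⊓ L ≤ Cfsg.pCoreOf p L := by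
        apply le_core (hRp.to_le inf_le_left) inf_le_right
        intro l hl
        apply Commutators.mem_normalizer_of_conj_mem
        · rintro a ⟨ha1, ha2⟩
          exact ⟨hRn.conj_mem a ha1 l, L.mul_mem (L.mul_mem hl ha2) (L.inv_mem hl)⟩
        · rintro a ⟨ha1, ha2⟩
          have h3 := hRn.conj_mem a ha1 l⁻¹
          rw [inv_inv] at h3
          exact ⟨h3, L.mul_mem (L.mul_mem (L.inv_mem hl) ha2) hl⟩
      exact hle ⟨hzR, hQL hzQ⟩
    · exact ⟨y, hy1, hy2⟩
  obtain ⟨y, hy, hyc⟩ := hcase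
  exact main_of_elem hQp hwc hCQ hQL hy.1 hy.2 hyc

end Cfsg.Agent.S2842
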