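import Cfsg.Statements.S2843
import Cfsg.Agent.Lib.LargeChar

set_option autoImplicit false
open Cfsg

namespace Cfsg.Agent.S2843

open Cfsg.Agent.Lib Cfsg.Agent.Lib.CharPOver Cfsg.Agent.Lib.WCChar Cfsg.Agent.Lib.LargeChar


/-- Let Q be a nontrivial large p-subgroup of the finite group H, Q ≤ L ≤ H, and Y a nontrivial p-subgroup of H normalized by L. Let L° be the weak closure of Q in L (generated by the conjugates of Q inside L). Then L° equals the weak closure of Q in L·C_H(Y), and [L°, C_H(Y)] ≤ O_p(L°); in particular C_H(Y) normalizes L°. -/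
theorem result {H : Type*} [Group H] [Finite H] {p : ℕ} [Fact p.Prime] (Q : Subgroup H) (hQp : IsPGroup p ↥Q) (hQ1 : Q ≠ ⊥) (hL : Cfsg.IsLarge Q) (L : Subgroup H) (hQL : Q ≤ L) (Y : Subgroup H) (hYp : IsPGroup p ↥Y) (hY1 : Y ≠ ⊥) (hLY : L ≤ Subgroup.normalizer ((Y : Subgroup H) : Set H)) : Cfsg.weakClosure Q L = Cfsg.weakClosure Q (L ⊔ Subgroup.centralizer ((Y : Subgroup H) : Set H)) ∧ ⁅Cfsg.weakClosure Q L, Subgroup.centralizer ((Y : Subgroup H) : Set H)⁆ ≤ (Cfsg.pCoreOf p (Cfsg.weakClosure Q L)) ∧ Subgroup.centralizer ((Y : Subgroup H) : Set H) ≤ Subgroup.normalizer (((Cfsg.weakClosure Q L) : Subgroup H) : Set H) := by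
  classical
  have hwc := Cfsg.Agent.Lib.WeaklyClosed.isWeaklyClosed_of_isLarge hQp hQ1 hL
  set C := Subgroup.centralizer ((Y : Subgroup H) : Set H) with hC
  have hCY : C ≤ Subgroup.normalizer ((Y : Subgroup H) : Set H) := by
    intro c hc
    apply H2Basic.mem_normalizer_of_forall_comm
    intro a ha
    exact (Subgroup.mem_centralizer_iff.1 hc a ha).symm
  have hLC : L ≤ Subgroup.normalizer (C : Set H) := by
    intro x hx
    have key : ∀ x ∈ L, ∀ a ∈ C, x * a * x⁻¹ ∈ C := by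
      intro x hx a ha
      rw [hC, Subgroup.mem_centralizer_iff]
      intro u hu
      have h1 := hLY (L.inv_mem hx)
      have h2 : x⁻¹ * u * x⁻¹⁻¹ ∈ Y := (Subgroup.mem_normalizer_iff.1 h1 u).1 hu
      have h3 := Subgroup.mem_centralizer_iff.1 ha _ h2
      calc u * (x * a * x⁻¹) = x * ((x⁻¹ * u * x⁻¹⁻¹) * a) * x⁻¹ := by group
        _ = x * (a * (x⁻¹ * u * x⁻¹⁻¹)) * x⁻¹ := by rw [h3]
        _ = x * a * x⁻¹ * u := by group
    apply Commutators.mem_normalizer_of_conj_mem (key x hx)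
    intro a ha
    have := key x⁻¹ (L.inv_mem hx) a ha
    simpa using this
  -- `C` normalizes every conjugate of `Q` normalizing `Y`
  have hcn : ∀ g : H, Q.map (MulAut.conj g).toMonoidHom ≤ Subgroup.normalizer ((Y : Subgroup H) : Set H) →
      C ≤ Subgroup.normalizer ((Q.map (MulAut.conj g).toMonoidHom : Subgroup H) : Set H) := by
    intro g hg
    obtain ⟨y, hyY, hyo, hyC⟩ := exists_fixed (map_conj_isPGroup hQp g) hYp hg hY1
    refine le_trans ?_ (centralizer_le_normalizer (isLarge_map_conj hL g) (ne_one_of_order hyo) hyC)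
    intro c hc
    rw [Subgroup.mem_centralizer_singleton_iff]
    exact (Subgroup.mem_centralizer_iff.1 hc y hyY).symm
  -- conjugates in `L C` lie in `L`
  have hconj : ∀ k ∈ (L ⊔ C : Subgroup H), Q.map (MulAut.conj k).toMonoidHom ≤ L := by
    intro k hk
    rw [← Subgroup.closure_eq (L ⊔ C), ] at hk
    have hsup : (L ⊔ C : Subgroup H) = Subgroup.closure ((L : Set H) ∪ (C : Set H)) := by
      rw [Subgroup.closure_union, Subgroup.closure_eq, Subgroup.closure_eq]
    rw [Subgroup.closure_eq, hsup] at hk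
    induction hk using Subgroup.closure_induction_left with
    | one =>
      rw [Cfsg.Agent.Lib.WeaklyClosed.map_conj_one]
      exact hQL
    | mul_left x hx y _ ih =>
      rcases hx with hx | hx
      · rw [Cfsg.Agent.Lib.AmalgamChar.map_conj_mul]
        rintro _ ⟨a, ha, rfl⟩
        exact L.mul_mem (L.mul_mem hx (ih ha)) (L.inv_mem hx)
      · rw [Cfsg.Agent.Lib.AmalgamChar.map_conj_mul]
        have h1 := hcn y (ih.trans hLY) hx
        rw [Cfsg.Agent.Lib.AmalgamChar.map_conj_eq_of_mem_normalizer h1]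
        exact ih
    | inv_mul_cancel x hx y _ ih =>
      rcases hx with hx | hx
      · rw [Cfsg.Agent.Lib.AmalgamChar.map_conj_mul]
        rintro _ ⟨a, ha, rfl⟩
        exact L.mul_mem (L.mul_mem (L.inv_mem hx) (ih ha)) (L.inv_mem (L.inv_mem hx))
      · rw [Cfsg.Agent.Lib.AmalgamChar.map_conj_mul]
        have h1 := hcn y (ih.trans hLY) (C.inv_mem hx)
        rw [Cfsg.Agent.Lib.AmalgamChar.map_conj_eq_of_mem_normalizer h1]
        exact ih
  set W := Cfsg.weakClosure Q L with hW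
  have hWL : W ≤ L := weakClosure_le Q L
  have hEq : W = Cfsg.weakClosure Q (L ⊔ C) := by
    apply le_antisymm
    · refine iSup_le fun g => ?_
      exact conj_le_weakClosure (g.2.trans le_sup_left)
    · refine iSup_le fun g => ?_
      obtain ⟨k, hk, hkk⟩ := Cfsg.Agent.Lib.WeaklyClosed.exists_conj_of_le hQp hwc (hQL.trans le_sup_left) g.2
      rw [hkk]
      exact conj_le_weakClosure (hconj k hk)
  -- `C` normalizes each generator of `W`
  have hCgen : ∀ g : {g : H // Q.map (MulAut.conj g).toMonoidHom ≤ L}, C ≤ Subgroup.normalizer ((Q.map (MulAut.conj (g : H)).toMonoidHom : Subgroup H) : Set H) :=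
    fun g => hcn g (g.2.trans hLY)
  have hCW : C ≤ Subgroup.normalizer (W : Set H) := by
    intro c hc
    have key : ∀ c ∈ C, ∀ a ∈ W, c * a * c⁻¹ ∈ W := by
      intro c hc a ha
      induction ha using Subgroup.iSup_induction' with
      | hp g x hx =>
        exact conj_le_weakClosure g.2 ((Subgroup.mem_normalizer_iff.1 (hCgen g hc) x).1 hx)
      | h1 => simp [W.one_mem]
      | hmul x y _ _ hx hy =>
        have := W.mul_mem hx hy
        have h2 : c * x * c⁻¹ * (c * y * c⁻¹) = c * (x * y) * c⁻¹ := by group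
        rwa [h2] at this
    apply Commutators.mem_normalizer_of_conj_mem (key c hc)
    intro a ha
    have := key c⁻¹ (C.inv_mem hc) a ha
    simpa using this
  refine ⟨hEq, ?_, hCW⟩
  -- `[W, C] ≤ V ∩ W`
  set V := Cfsg.pCoreOf p C with hV
  have hVp : IsPGroup p V := pCoreOf_isPGroup C
  have hVn : L ≤ Subgroup.normalizer (V : Set H) := hLC.trans (normalizer_le_normalizer_core C)
  have hgen : ∀ g : {g : H // Q.map (MulAut.conj g).toMonoidHom ≤ L}, ∀ x ∈ Q.map (MulAut.conj (g : H)).toMonoidHom,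
      ∀ c ∈ C, x * c * x⁻¹ * c⁻¹ ∈ V := by
    intro g x hx c hc
    have hA : Q.map (MulAut.conj (g : H)).toMonoidHom ⊓ C ≤ V := by
      apply le_core ((map_conj_isPGroup hQp (g : H)).to_le inf_le_left) inf_le_right
      intro c' hc'
      have h1 := hCgen g hc'
      apply Commutators.mem_normalizer_of_conj_mem
      · rintro a ⟨ha1, ha2⟩
        exact ⟨(Subgroup.mem_normalizer_iff.1 h1 a).1 ha1, C.mul_mem (C.mul_mem hc' ha2) (C.inv_mem hc')⟩
      · rintro a ⟨ha1, ha2⟩
        have h2 := (Subgroup.mem_normalizer_iff.1 (hCgen g (C.inv_mem hc')) a).1 ha1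
        rw [inv_inv] at h2
        exact ⟨h2, C.mul_mem (C.mul_mem (C.inv_mem hc') ha2) hc'⟩
    apply hA
    constructor
    · have h3 : c * x⁻¹ * c⁻¹ ∈ Q.map (MulAut.conj (g : H)).toMonoidHom :=
        (Subgroup.mem_normalizer_iff.1 (hCgen g hc) _).1 (Subgroup.inv_mem _ hx)
      have h4 := Subgroup.mul_mem _ hx h3
      have h5 : x * (c * x⁻¹ * c⁻¹) = x * c * x⁻¹ * c⁻¹ := by group
      rwa [h5] at h4
    · exact C.mul_mem ((Subgroup.mem_normalizer_iff.1 (hLC (g.2 hx)) c).1 hc) (C.inv_mem hc)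
  have hcommV : ∀ x ∈ W, ∀ c ∈ C, x * c * x⁻¹ * c⁻¹ ∈ V := by
    intro x hx c hc
    induction hx using Subgroup.iSup_induction' with
    | hp g x hx => exact hgen g x hx c hc
    | h1 => simp [V.one_mem]
    | hmul x y hxW hyW hx hy =>
      have h1 := (Subgroup.mem_normalizer_iff.1 (hVn (hWL hxW)) _).1 hy
      have h2 := V.mul_mem h1 hx
      have h3 : x * (y * c * y⁻¹ * c⁻¹) * x⁻¹ * (x * c * x⁻¹ * c⁻¹) = x * y * c * (x * y)⁻¹ * c⁻¹ := by group
      rwa [h3] at h2
  have hle : V ⊓ W ≤ Cfsg.pCoreOf p W := by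
    apply le_core (hVp.to_le inf_le_left) inf_le_right
    intro w hw
    have h1 := hVn (hWL hw)
    apply Commutators.mem_normalizer_of_conj_mem
    · rintro a ⟨ha1, ha2⟩
      exact ⟨(Subgroup.mem_normalizer_iff.1 h1 a).1 ha1, W.mul_mem (W.mul_mem hw ha2) (W.inv_mem hw)⟩
    · rintro a ⟨ha1, ha2⟩
      have h2 := (Subgroup.mem_normalizer_iff.1 (hVn (hWL (W.inv_mem hw))) a).1 ha1
      rw [inv_inv] at h2
      exact ⟨h2, W.mul_mem (W.mul_mem (W.inv_mem hw) ha2) hw⟩
  rw [Subgroup.commutator_le]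
  intro x hx c hc
  apply hle
  refine ⟨hcommV x hx c hc, ?_⟩
  have h3 : c * x⁻¹ * c⁻¹ ∈ W := (Subgroup.mem_normalizer_iff.1 (hCW hc) _).1 (W.inv_mem hx)
  have h4 := W.mul_mem hx h3
  have h5 : x * (c * x⁻¹ * c⁻¹) = x * c * x⁻¹ * c⁻¹ := by group
  rw [h5] at h4
  exact h4

end Cfsg.Agent.S2843
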