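import Cfsg.Statements.S2844
import Cfsg.Agent.Lib.WeaklyClosed

set_option autoImplicit false
open Cfsg

namespace Cfsg.Agent.S2844

/-- Let Q be a nontrivial large p-subgroup of the finite group H and Q• = O_p(N_H(Q)). Then for every g ∈ H outside N_H(Q): C_H(Q) ∩ C_H(gQg⁻¹) = 1, C_H(Q•) ∩ C_H(gQ•g⁻¹) = 1, Z(Q) ∩ Z(gQg⁻¹) = 1 and Z(Q•) ∩ Z(gQ•g⁻¹) = 1; moreover N_H(Q) = N_H(Q•) and Q• is large in H. -/
theorem result {H : Type*} [Group H] [Finite H] {p : ℕ} [Fact p.Prime] (Q : Subgroup H) (hQp : IsPGroup p ↥Q) (hQ1 : Q ≠ ⊥) (hL : Cfsg.IsLarge Q) (Qb : Subgroup H) (hQb : Qb = Cfsg.largeBullet p Q) : (∀ g : H, g ∉ Subgroup.normalizer ((Q : Subgroup H) : Set H) → Subgroup.centralizer ((Q : Subgroup H) : Set H) ⊓ Subgroup.centralizer ((((Q : Subgroup H).map (MulAut.conj (g : H)).toMonoidHom) : Subgroup H) : Set H) = ⊥ ∧ Subgroup.centralizer ((Qb : Subgroup H) : Set H) ⊓ Subgroup.centralizer ((((Qb : Subgroup H).map (MulAut.conj (g : H)).toMonoidHom) : Subgroup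 H) : Set H) = ⊥ ∧ (Q ⊓ Subgroup.centralizer ((Q : Subgroup H) : Set H)) ⊓ (((Q : Subgroup H).map (MulAut.conj (g : H)).toMonoidHom) ⊓ Subgroup.centralizer ((((Q : Subgroup H).map (MulAut.conj (g : H)).toMonoidHom) : Subgroup H) : Set H)) = ⊥ ∧ (Qb ⊓ Subgroup.centralizer ((Qb : Subgroup H) : Set H)) ⊓ (((Qb : Subgroup H).map (MulAut.conj (g : H)).toMonoidHom) ⊓ Subgroup.centralizer ((((Qb : Subgroup H).map (MulAut.conj (g : H)).toMonoidHom) : Subgroup H) : Set H)) = ⊥) ∧ Subgroup.normalizer ((Q : Subgroup H) : Set H) = Subgroup.normalizer ((Qb : Subgroup H) : Set H) ∧ Cfsg.IsLarge Qb := by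
  open Cfsg.Agent.Lib.WeaklyClosed Cfsg.Agent.Lib.AmalgamChar Cfsg.Agent.Lib.Commutators Cfsg.Agent.Lib.PCore in
  have hwc := isWeaklyClosed_of_isLarge hQp hQ1 hL
  have hQQb : Q ≤ Qb := by
    rw [hQb]
    intro q hq
    have hn : (Q.subgroupOf (Subgroup.normalizer (Q : Set H))).Normal := by
      rw [Subgroup.normal_subgroupOf_iff_le_normalizer Subgroup.le_normalizer]
    have hp : IsPGroup p ↥(Q.subgroupOf (Subgroup.normalizer (Q : Set H))) :=
      hQp.comap_of_injective _ Subtype.val_injective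
    have hle := le_pCore hn hp
    refine ⟨⟨q, Subgroup.le_normalizer hq⟩, hle hq, rfl⟩
  have hQbp : IsPGroup p Qb := by
    rw [hQb]
    exact (isPGroup_pCore p _).map _
  have hNN : Subgroup.normalizer (Q : Set H) ≤ Subgroup.normalizer (Qb : Set H) := by
    rw [hQb]
    have hnor := pCore_normal p ↥(Subgroup.normalizer (Q : Set H))
    have key : ∀ x ∈ Subgroup.normalizer (Q : Set H), ∀ a ∈ Cfsg.largeBullet p Q, x * a * x⁻¹ ∈ Cfsg.largeBullet p Q := by
      rintro x hx _ ⟨c, hc, rfl⟩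
      have := hnor.conj_mem c hc ⟨x, hx⟩
      exact ⟨_, this, rfl⟩
    intro x hx
    apply mem_normalizer_of_conj_mem (key x hx)
    intro a ha
    have := key x⁻¹ (Subgroup.inv_mem _ hx) a ha
    simpa using this
  have hNN2 : Subgroup.normalizer (Qb : Set H) ≤ Subgroup.normalizer (Q : Set H) :=
    normalizer_le_of_isWeaklyClosed hwc hQbp hQQb
  have hmain : ∀ g : H, g ∉ Subgroup.normalizer ((Q : Subgroup H) : Set H) →
      Subgroup.centralizer ((Q : Subgroup H) : Set H) ⊓ Subgroup.centralizer ((((Q : Subgroup H).map (MulAut.conj (g : H)).toMonoidHom) : Subgroup H) : Set H) = ⊥ := by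
    intro g hg
    by_contra hU
    set U := Subgroup.centralizer ((Q : Subgroup H) : Set H) ⊓ Subgroup.centralizer ((((Q : Subgroup H).map (MulAut.conj (g : H)).toMonoidHom) : Subgroup H) : Set H) with hUdef
    have h1 : Subgroup.normalizer (U : Set H) ≤ Subgroup.normalizer (Q : Set H) :=
      hL.2 U inf_le_left hU
    have hV1 : U.map (MulAut.conj g⁻¹).toMonoidHom ≤ Subgroup.centralizer (Q : Set H) := by
      rintro _ ⟨u, hu, rfl⟩
      rw [Subgroup.mem_centralizer_iff]
      intro q hq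
      have h2 := (Subgroup.mem_centralizer_iff.1 hu.2) (g * q * g⁻¹) ⟨q, hq, rfl⟩
      show q * (g⁻¹ * u * g⁻¹⁻¹) = g⁻¹ * u * g⁻¹⁻¹ * q
      calc q * (g⁻¹ * u * g⁻¹⁻¹) = g⁻¹ * ((g * q * g⁻¹) * u) * g := by group
        _ = g⁻¹ * (u * (g * q * g⁻¹)) * g := by rw [h2]
        _ = _ := by group
    have hV2 : U.map (MulAut.conj g⁻¹).toMonoidHom ≠ ⊥ := by
      intro h
      apply hU
      have := map_conj_map_inv U g
      rw [h, Subgroup.map_bot] at this
      exact this.symm
    have h3 := hL.2 _ hV1 hV2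
    have h4 : Subgroup.normalizer (U : Set H) ≤ Subgroup.normalizer ((Q.map (MulAut.conj g).toMonoidHom : Subgroup H) : Set H) := by
      intro x hx
      have h5 := conj_mem_normalizer_map (g := g⁻¹) hx
      have h6 := conj_mem_normalizer_map (g := g) (h3 h5)
      have h7 : g * (g⁻¹ * x * g⁻¹⁻¹) * g⁻¹ = x := by group
      rwa [h7] at h6
    have h5 : Q ≤ Subgroup.normalizer (U : Set H) := by
      intro q hq
      apply mem_normalizer_of_conj_mem
      · intro u hu
        have := (Subgroup.mem_centralizer_iff.1 hu.1) q hq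
        rw [this]
        simpa using hu
      · intro u hu
        have := (Subgroup.mem_centralizer_iff.1 hu.1) q⁻¹ (Q.inv_mem hq)
        rw [this]
        simpa using hu
    have := eq_of_isWeaklyClosed hwc hQp (h5.trans h4)
    exact hg (mem_normalizer_of_map_eq this)
  have hCQb : Subgroup.centralizer (Qb : Set H) ≤ Subgroup.centralizer (Q : Set H) :=
    Subgroup.centralizer_le hQQb
  refine ⟨fun g hg => ?_, le_antisymm hNN hNN2, ?_, ?_⟩
  · have hm := hmain g hg
    have hCQb2 : Subgroup.centralizer ((Qb.map (MulAut.conj g).toMonoidHom : Subgroup H) : Set H) ≤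
        Subgroup.centralizer ((Q.map (MulAut.conj g).toMonoidHom : Subgroup H) : Set H) :=
      Subgroup.centralizer_le (Subgroup.map_mono hQQb)
    have h2 : Subgroup.centralizer (Qb : Set H) ⊓ Subgroup.centralizer ((Qb.map (MulAut.conj g).toMonoidHom : Subgroup H) : Set H) = ⊥ := by
      rw [eq_bot_iff, ← hm]
      exact inf_le_inf hCQb hCQb2
    refine ⟨hm, h2, ?_, ?_⟩
    · rw [eq_bot_iff, ← hm]
      exact inf_le_inf inf_le_right inf_le_right
    · rw [eq_bot_iff, ← h2]
      exact inf_le_inf inf_le_right inf_le_right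
  · exact hCQb.trans (hL.1.trans hQQb)
  · intro U hU hU1
    exact (hL.2 U (hU.trans hCQb) hU1).trans hNN

end Cfsg.Agent.S2844
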