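import Cfsg.Statements.S2848
import Cfsg.Agent.Lib.PReduced

set_option autoImplicit false
open Cfsg

namespace Cfsg.Agent.S2848

/-- Standing hypotheses: G a finite group, S a Sylow p-subgroup, Q a nontrivial large p-subgroup of G contained in S (C_G(Q) ≤ Q and N_G(U) ≤ N_G(Q) for all nontrivial U ≤ C_G(Q)), and M a subgroup containing S with the basic property (M ∈ 𝔐_G(S)); Y_M denotes the largest p-reduced normal subgroup of M and M† = M·C_G(Y_M). Then O_p(M) is a weakly closed subgroup of M† (for p): it is the only M†-conjugate of itself inside some Sylow p-subgroup of M† containing it. -/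
theorem result {G : Type*} [Group G] [Finite G] {p : ℕ} [Fact p.Prime] (S : Sylow p G) (Q : Subgroup G) (hQp : IsPGroup p ↥Q) (hQ1 : Q ≠ ⊥) (hQS : Q ≤ (S : Subgroup G)) (hQ : Cfsg.IsLarge Q) (M : Subgroup G) (hSM : (S : Subgroup G) ≤ M) (hM : Cfsg.IsInFrakM p M) : Cfsg.IsWeaklyClosedSubgroup p (((Cfsg.pCoreOf p M)).subgroupOf (M ⊔ Subgroup.centralizer (((Cfsg.largestPReducedOf p M) : Subgroup G) : Set G))) := by
  open Cfsg.Agent.Lib.PReduced Cfsg.Agent.Lib.AmalgamChar in
  obtain ⟨-, -, -, -, hclosed, -⟩ := hM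
  set Y := Cfsg.largestPReducedOf p M with hY
  set C := Subgroup.centralizer ((Y : Subgroup G) : Set G) with hC
  set A := Cfsg.pCoreOf p M with hA
  have hSD : (S : Subgroup G) ≤ M ⊔ C := hSM.trans le_sup_left
  have hMC : M ≤ Subgroup.normalizer (C : Set G) :=
    (le_normalizer_largestPReducedOf M).trans (normalizer_le_normalizer_centralizer Y)
  have hAM : A ≤ M := pCoreOf_le M
  have hMA : M ≤ Subgroup.normalizer (A : Set G) := le_normalizer_pCoreOf M
  have hAS : A ≤ S := pCoreOf_le_sylow S hSM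
  have hSC : (S : Subgroup G) ⊓ C ≤ A :=
    le_pCoreOf_of_isPClosed hMC hclosed (inf_le_left.trans hSM) inf_le_right
      (S.isPGroup'.to_le inf_le_left)
  refine ⟨S.subtype hSD, ?_, ?_⟩
  · rw [Sylow.coe_subtype]
    intro x hx
    rw [Subgroup.mem_subgroupOf] at hx ⊢
    exact hAS hx
  · intro g hg
    rw [Sylow.coe_subtype] at hg
    have h1 : A.map (MulAut.conj (g : G)).toMonoidHom ≤ S := by
      rintro _ ⟨a, ha, rfl⟩
      have hamem : a ∈ M ⊔ C := (le_sup_left : M ≤ M ⊔ C) (hAM ha)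
      have : (MulAut.conj g).toMonoidHom (⟨a, hamem⟩ : ↥(M ⊔ C)) ∈ (S : Subgroup G).subgroupOf (M ⊔ C) :=
        hg ⟨⟨a, hamem⟩, ha, rfl⟩
      exact this
    have h2 := map_conj_eq_of_le_sylow hMC hAM hMA hSC hAS g.2 h1
    ext x
    rw [mem_conj_iff, Subgroup.mem_subgroupOf, Subgroup.mem_subgroupOf]
    have h3 : ((g⁻¹ * x * g : ↥(M ⊔ C)) : G) = (g : G)⁻¹ * x * g := rfl
    rw [h3, ← mem_conj_iff, h2]

end Cfsg.Agent.S2848
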