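import Cfsg.Statements.S2849
import Cfsg.Agent.Lib.PReduced
import Cfsg.Agent.Lib.WeaklyClosed

set_option autoImplicit false
open Cfsg

namespace Cfsg.Agent.S2849

/-- Standing hypotheses: G a finite group, S a Sylow p-subgroup, Q a nontrivial large p-subgroup of G contained in S (C_G(Q) ≤ Q and N_G(U) ≤ N_G(Q) for all nontrivial U ≤ C_G(Q)), and M a subgroup containing S with the basic property (M ∈ 𝔐_G(S)); Y_M denotes the largest p-reduced normal subgroup of M and M† = M·C_G(Y_M). Suppose Y_M is asymmetric in G. Then for every subgroup R with Y_M ≤ R ≤ M†, the normal closure of Y_M in N_G(R) is elementary abelian. -/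
theorem result {G : Type*} [Group G] [Finite G] {p : ℕ} [Fact p.Prime] (S : Sylow p G) (Q : Subgroup G) (hQp : IsPGroup p ↥Q) (hQ1 : Q ≠ ⊥) (hQS : Q ≤ (S : Subgroup G)) (hQ : Cfsg.IsLarge Q) (M : Subgroup G) (hSM : (S : Subgroup G) ≤ M) (hM : Cfsg.IsInFrakM p M) (hasym : ¬ Cfsg.IsSymmetricIn (Cfsg.largestPReducedOf p M)) (R : Subgroup G) (hYR : (Cfsg.largestPReducedOf p M) ≤ R) (hRM : R ≤ (M ⊔ Subgroup.centralizer (((Cfsg.largestPReducedOf p M) : Subgroup G) : Set G))) : Cfsg.IsElementaryAbelian p ((Subgroup.normalClosure ((((Cfsg.largestPReducedOf p M)).subgroupOf (Subgroup.normalizer ((R : Subgroup G) : Set G)) : Subgroup ↥(Subgroup.normalizer ((R : Subgroup G) : Set G))) : Set ↥(Subgroup.normalizer ((R : Subgroup G) : Set G)))).map (Subgroup.normalizer ((R : Subgroup G) : Set G)).subtype) := by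
  open Cfsg.Agent.Lib.PReduced Cfsg.Agent.Lib.AmalgamChar Cfsg.Agent.Lib.WeaklyClosed in
  obtain ⟨-, -, -, hYeq, -, -⟩ := hM
  set Y := Cfsg.largestPReducedOf p M with hY
  set C := Subgroup.centralizer ((Y : Subgroup G) : Set G) with hC
  set D := M ⊔ C with hD
  have hDY : D ≤ Subgroup.normalizer (Y : Set G) := by
    have := le_normalizer_largestPReducedOf (p := p) D
    rwa [← hYeq] at this
  set N := Subgroup.normalizer ((R : Subgroup G) : Set G) with hN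
  -- conjugates commute
  have hcomm : ∀ n ∈ N, Y.map (MulAut.conj n).toMonoidHom ≤ Subgroup.centralizer (Y : Set G) := by
    intro n hn
    have h1 : Y.map (MulAut.conj n).toMonoidHom ≤ D := by
      have h2 := Subgroup.map_mono (f := (MulAut.conj n).toMonoidHom) hYR
      rw [map_conj_eq_of_mem_normalizer hn] at h2
      exact h2.trans hRM
    have h3 : Y ≤ D.map (MulAut.conj n).toMonoidHom := by
      have h2 := Subgroup.map_mono (f := (MulAut.conj n).toMonoidHom) hRM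
      rw [map_conj_eq_of_mem_normalizer hn] at h2
      exact hYR.trans h2
    have h4 : Y ≤ Subgroup.normalizer ((Y.map (MulAut.conj n).toMonoidHom : Subgroup G) : Set G) := by
      refine h3.trans ?_
      rintro _ ⟨d, hd, rfl⟩
      exact conj_mem_normalizer_map (hDY hd)
    have h5 := commutator_le_inf_of_normalizes h4 (h1.trans hDY)
    have h6 : ⁅Y, Y.map (MulAut.conj n).toMonoidHom⁆ = ⊥ := by
      by_contra hne
      exact hasym ⟨n, hne, h5⟩
    rw [Subgroup.commutator_eq_bot_iff_le_centralizer] at h6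
    exact Subgroup.le_centralizer_iff.mp h6
  have hcomm' : ∀ n₁ ∈ N, ∀ n₂ ∈ N, ∀ y₁ ∈ Y, ∀ y₂ ∈ Y,
      (n₁ * y₁ * n₁⁻¹) * (n₂ * y₂ * n₂⁻¹) = (n₂ * y₂ * n₂⁻¹) * (n₁ * y₁ * n₁⁻¹) := by
    intro n₁ hn₁ n₂ hn₂ y₁ hy₁ y₂ hy₂
    have h1 := hcomm (n₁⁻¹ * n₂) (mul_mem (inv_mem hn₁) hn₂) ⟨y₂, hy₂, rfl⟩
    have h2 := Subgroup.mem_centralizer_iff.mp h1 y₁ hy₁
    simp only [MulEquiv.coe_toMonoidHom, MulAut.conj_apply] at h2
    calc (n₁ * y₁ * n₁⁻¹) * (n₂ * y₂ * n₂⁻¹)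
        = n₁ * (y₁ * (n₁⁻¹ * n₂ * y₂ * (n₁⁻¹ * n₂)⁻¹)) * n₁⁻¹ := by group
      _ = n₁ * ((n₁⁻¹ * n₂ * y₂ * (n₁⁻¹ * n₂)⁻¹) * y₁) * n₁⁻¹ := by rw [h2]
      _ = _ := by group
  have hYel : Cfsg.IsElementaryAbelian p Y := isElementaryAbelian_largestPReducedOf M
  have hgen : ∀ x ∈ (N.subtype '' Group.conjugatesOfSet ((Y.subgroupOf N : Subgroup N) : Set N)),
      ∃ n ∈ N, ∃ y ∈ Y, x = n * y * n⁻¹ := by
    rintro _ ⟨x, hx, rfl⟩
    rw [Group.mem_conjugatesOfSet_iff] at hx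
    obtain ⟨a, ha, hconj⟩ := hx
    rw [isConj_iff] at hconj
    obtain ⟨c, rfl⟩ := hconj
    exact ⟨c, c.2, a, ha, rfl⟩
  rw [Subgroup.normalClosure, MonoidHom.map_closure]
  apply isElementaryAbelian_closure
  · intro x hx y hy
    obtain ⟨n₁, hn₁, y₁, hy₁, rfl⟩ := hgen x hx
    obtain ⟨n₂, hn₂, y₂, hy₂, rfl⟩ := hgen y hy
    exact hcomm' n₁ hn₁ n₂ hn₂ y₁ hy₁ y₂ hy₂
  · intro x hx
    obtain ⟨n₁, hn₁, y₁, hy₁, rfl⟩ := hgen x hx
    rw [conj_pow, hYel.2 y₁ hy₁]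
    simp

end Cfsg.Agent.S2849
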