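import Cfsg.Statements.S2859
import Cfsg.Agent.Lib.LargeChar
import Cfsg.Agent.Lib.WeaklyClosed
import Cfsg.Agent.Lib.AmalgamChar
import Cfsg.Agent.Lib.SchurZ2
import Cfsg.Agent.Lib.PResidual
import Cfsg.Agent.Lib.Commutators

set_option autoImplicit false
open Cfsg

namespace Cfsg.Agent.S2859

open scoped commutatorElement
open Cfsg.Agent.Lib Subgroup

section aux
variable {G : Type*} [Group G] [Finite G] {p : ℕ} [Fact p.Prime]

theorem mem_sup_normalizes {A C : Subgroup G} (h : A ≤ normalizer (C : Set G)) {x : G} (hx : x ∈ A ⊔ C) :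
    ∃ a ∈ A, ∃ c ∈ C, x = a * c := by
  let P₀ : Subgroup G :=
    { carrier := {x | ∃ a ∈ A, ∃ c ∈ C, x = a * c}
      one_mem' := ⟨1, A.one_mem, 1, C.one_mem, by simp⟩
      mul_mem' := by
        rintro _ _ ⟨a, ha, c, hc, rfl⟩ ⟨a', ha', c', hc', rfl⟩
        refine ⟨a * a', A.mul_mem ha ha', a'⁻¹ * c * a' * c', C.mul_mem ?_ hc', by group⟩
        have h1 := (mem_normalizer_iff.1 (h (A.inv_mem ha')) c).1 hc
        rwa [inv_inv] at h1
      inv_mem' := by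
        rintro _ ⟨a, ha, c, hc, rfl⟩
        refine ⟨a⁻¹, A.inv_mem ha, a * c⁻¹ * a⁻¹, ?_, by group⟩
        exact (mem_normalizer_iff.1 (h ha) _).1 (C.inv_mem hc) }
  have hle : A ⊔ C ≤ P₀ := by
    apply sup_le
    · intro a ha
      exact ⟨a, ha, 1, C.one_mem, by simp⟩
    · intro c hc
      exact ⟨1, A.one_mem, c, hc, by simp⟩
  exact hle hx

theorem le_normalizer_of_forall {A S : Subgroup G} (h : ∀ g ∈ S, ∀ a ∈ A, g * a * g⁻¹ ∈ A) :
    S ≤ normalizer (A : Set G) := by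
  intro g hg
  apply Commutators.mem_normalizer_of_conj_mem (h g hg)
  intro a ha
  have := h g⁻¹ (S.inv_mem hg) a ha
  simpa using this

theorem inf_normalizer_le (A B : Subgroup G) :
    normalizer (A : Set G) ⊓ normalizer (B : Set G) ≤ normalizer ((A ⊓ B : Subgroup G) : Set G) := by
  rintro g ⟨hgA, hgB⟩
  rw [mem_normalizer_iff]
  intro h
  constructor
  · rintro ⟨h1, h2⟩
    exact ⟨(mem_normalizer_iff.1 hgA h).1 h1, (mem_normalizer_iff.1 hgB h).1 h2⟩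
  · rintro ⟨h1, h2⟩
    exact ⟨(mem_normalizer_iff.1 hgA h).2 h1, (mem_normalizer_iff.1 hgB h).2 h2⟩

theorem sup_normalizer_le (A B : Subgroup G) :
    normalizer (A : Set G) ⊓ normalizer (B : Set G) ≤ normalizer ((A ⊔ B : Subgroup G) : Set G) := by
  rintro g ⟨hgA, hgB⟩
  apply AmalgamChar.mem_normalizer_of_map_eq
  rw [Subgroup.map_sup, AmalgamChar.map_conj_eq_of_mem_normalizer hgA, AmalgamChar.map_conj_eq_of_mem_normalizer hgB]

theorem commutator_normalizer_le (A B : Subgroup G) :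
    normalizer (A : Set G) ⊓ normalizer (B : Set G) ≤ normalizer ((⁅A, B⁆ : Subgroup G) : Set G) := by
  rintro g ⟨hgA, hgB⟩
  apply AmalgamChar.mem_normalizer_of_map_eq
  rw [Subgroup.map_commutator, AmalgamChar.map_conj_eq_of_mem_normalizer hgA, AmalgamChar.map_conj_eq_of_mem_normalizer hgB]

/-- Elements of `L` acting trivially on `B` modulo `N₀`. -/
def stabMod (L B N₀ : Subgroup G) (hN : L ≤ normalizer (N₀ : Set G)) : Subgroup G where
  carrier := {x | x ∈ L ∧ ∀ b ∈ B, x * b * x⁻¹ * b⁻¹ ∈ N₀}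
  one_mem' := ⟨L.one_mem, fun b _ => by simpa using N₀.one_mem⟩
  mul_mem' := by
    rintro x y ⟨hx, hx'⟩ ⟨hy, hy'⟩
    refine ⟨L.mul_mem hx hy, fun b hb => ?_⟩
    have h1 := (mem_normalizer_iff.1 (hN hx) _).1 (hy' b hb)
    have h2 := N₀.mul_mem h1 (hx' b hb)
    have e : x * (y * b * y⁻¹ * b⁻¹) * x⁻¹ * (x * b * x⁻¹ * b⁻¹) = x * y * b * (x * y)⁻¹ * b⁻¹ := by group
    rwa [e] at h2
  inv_mem' := by
    rintro x ⟨hx, hx'⟩
    refine ⟨L.inv_mem hx, fun b hb => ?_⟩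
    have h1 := N₀.inv_mem (hx' b hb)
    have h2 := (mem_normalizer_iff.1 (hN (L.inv_mem hx)) _).1 h1
    have e : x⁻¹ * (x * b * x⁻¹ * b⁻¹)⁻¹ * x⁻¹⁻¹ = x⁻¹ * b * x⁻¹⁻¹ * b⁻¹ := by group
    rwa [e] at h2

/-- `O^p(W)` in the ambient group. -/
abbrev res (p : ℕ) (W : Subgroup G) : Subgroup G := (Cfsg.pResidual p ↥W).map W.subtype

theorem res_le' (W : Subgroup G) : res p W ≤ W := Subgroup.map_subtype_le _

theorem res_le_of {W X : Subgroup G} (h : ∀ x ∈ W, (orderOf x).Coprime p → x ∈ X) : res p W ≤ X := by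
  rw [Subgroup.map_le_iff_le_comap]
  unfold Cfsg.pResidual
  rw [Subgroup.closure_le]
  rintro ⟨x, hx⟩ hco
  apply h x hx
  have hco' : (orderOf (⟨x, hx⟩ : W)).Coprime p := hco
  rwa [Subgroup.orderOf_mk] at hco'

theorem mem_res_of {W : Subgroup G} {x : G} (hx : x ∈ W) (hco : (orderOf x).Coprime p) : x ∈ res p W := by
  refine ⟨⟨x, hx⟩, PResidual.mem_pResidual_of_coprime ?_, rfl⟩
  rwa [Subgroup.orderOf_mk]

theorem normalizes_res (W : Subgroup G) : normalizer (W : Set G) ≤ normalizer (res p W : Set G) := by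
  haveI : (Cfsg.pResidual p ↥W).Characteristic := PResidual.pResidual_characteristic
  exact SchurZ2.normalizer_le_normalizer_map_char W _

theorem res_le_of_sup {W N P : Subgroup G} (hWN : W ≤ normalizer (N : Set G)) (hP : IsPGroup p P)
    (h : N ⊔ P = W) : res p W ≤ N := by
  have hNW : N ≤ W := h ▸ le_sup_left
  have hPW : P ≤ W := h ▸ le_sup_right
  haveI hn : (N.subgroupOf W).Normal := (Subgroup.normal_subgroupOf_iff_le_normalizer hNW).2 hWN
  have hP' : IsPGroup p (P.subgroupOf W) := hP.comap_of_injective _ W.subtype_injective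
  have htop : N.subgroupOf W ⊔ P.subgroupOf W = ⊤ := by
    rw [eq_top_iff]
    rintro ⟨w, hw⟩ -
    have hw' : w ∈ P ⊔ N := by
      rw [sup_comm, h]; exact hw
    obtain ⟨a, ha, c, hc, rfl⟩ := mem_sup_normalizes (hPW.trans hWN) hw'
    have h1 : (⟨a, hPW ha⟩ : W) ∈ P.subgroupOf W := ha
    have h2 : (⟨c, hNW hc⟩ : W) ∈ N.subgroupOf W := hc
    have h3 := Subgroup.mul_mem_sup h1 h2
    rw [sup_comm] at h3
    exact h3
  have h1 := PResidual.pResidual_le_of_sup_eq_top hP' htop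
  rw [Subgroup.map_le_iff_le_comap]
  exact h1

theorem mem_of_mem_sup {N P : Subgroup G} (hPN : P ≤ normalizer (N : Set G)) (hP : IsPGroup p P)
    {x : G} (hx : x ∈ N ⊔ P) (hco : (orderOf x).Coprime p) : x ∈ N := by
  have hW : N ⊔ P ≤ normalizer (N : Set G) := sup_le le_normalizer hPN
  exact res_le_of_sup hW hP rfl (mem_res_of hx hco)

theorem wc_gen {Q L : Subgroup G} (hQp : IsPGroup p Q) (hwc : Cfsg.IsWeaklyClosedSubgroup p Q) (hQL : Q ≤ L)
    {X : Subgroup G} (h : ∀ w ∈ Cfsg.weakClosure Q L, Q.map (MulAut.conj w).toMonoidHom ≤ X) :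
    Cfsg.weakClosure Q L ≤ X := by
  refine iSup_le fun g => ?_
  obtain ⟨k, hk, hkk⟩ := WeaklyClosed.exists_conj_of_le hQp hwc (LargeChar.le_weakClosure hQL)
    (LargeChar.conj_le_weakClosure g.2)
  rw [hkk]
  exact h k hk

theorem wc_eq_sup {Q L : Subgroup G} (hQp : IsPGroup p Q) (hwc : Cfsg.IsWeaklyClosedSubgroup p Q) (hQL : Q ≤ L) :
    res p (Cfsg.weakClosure Q L) ⊔ Q = Cfsg.weakClosure Q L := by
  set W := Cfsg.weakClosure Q L with hW
  have hQW : Q ≤ W := LargeChar.le_weakClosure hQL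
  apply le_antisymm (sup_le (res_le' W) hQW)
  apply wc_gen hQp hwc hQL
  intro w hw
  have hQ' : IsPGroup p (Q.subgroupOf W) := hQp.comap_of_injective _ W.subtype_injective
  obtain ⟨T', hT'⟩ := hQ'.exists_le_sylow
  obtain ⟨S, hS⟩ := (T'.isPGroup'.map W.subtype).exists_le_sylow
  have hQS : Q ≤ S := fun q hq => hS ⟨⟨q, hQW hq⟩, hT' hq, rfl⟩
  have hSN := WeaklyClosed.sylow_le_normalizer hwc hQS
  have hsup := PResidual.pResidual_sup_sylow T'
  have hw' : (⟨w, hw⟩ : W) ∈ (T' : Subgroup W) ⊔ Cfsg.pResidual p W := by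
    rw [sup_comm, hsup]
    trivial
  haveI := PResidual.pResidual_normal p W
  obtain ⟨t, ht, k, hk, hw2⟩ := mem_sup_normalizes (h := by
    rw [normalizer_eq_top_iff.2 inferInstance]
    exact le_top) hw'
  have hk' : t * k * t⁻¹ ∈ Cfsg.pResidual p W := Subgroup.Normal.conj_mem inferInstance k hk t
  have hw3 : w = (t * k * t⁻¹ : W) * (t : W) := by
    have h9 : w = ((t * k : W) : G) := congrArg Subtype.val hw2
    rw [h9]
    have h10 : (t * k * t⁻¹ : W) * t = t * k := by group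
    exact (congrArg Subtype.val h10).symm
  rw [hw3]
  have htN : ((t : W) : G) ∈ normalizer (Q : Set G) := hSN (hS ⟨t, ht, rfl⟩)
  rintro _ ⟨q, hq, rfl⟩
  have h1 : ((t : W) : G) * q * ((t : W) : G)⁻¹ ∈ Q := (mem_normalizer_iff.1 htN q).1 hq
  have hkres : (((t * k * t⁻¹ : W)) : G) ∈ res p W := ⟨_, hk', rfl⟩
  show (((t * k * t⁻¹ : W) : G) * ((t : W) : G)) * q * (((t * k * t⁻¹ : W) : G) * ((t : W) : G))⁻¹ ∈ _
  have e : (((t * k * t⁻¹ : W) : G) * ((t : W) : G)) * q * (((t * k * t⁻¹ : W) : G) * ((t : W) : G))⁻¹ =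
      ((t * k * t⁻¹ : W) : G) * (((t : W) : G) * q * ((t : W) : G)⁻¹) * ((t * k * t⁻¹ : W) : G)⁻¹ := by group
  rw [e]
  exact mul_mem (mul_mem (Subgroup.mem_sup_left hkres) (Subgroup.mem_sup_right h1))
    (inv_mem (Subgroup.mem_sup_left hkres))

theorem wc_comm {Q L : Subgroup G} (hQp : IsPGroup p Q) (hwc : Cfsg.IsWeaklyClosedSubgroup p Q) (hQL : Q ≤ L) :
    ⁅res p (Cfsg.weakClosure Q L), Q⁆ = res p (Cfsg.weakClosure Q L) := by
  set W := Cfsg.weakClosure Q L with hW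
  set K := res p W with hK
  have hQW : Q ≤ W := LargeChar.le_weakClosure hQL
  have hWeq : K ⊔ Q = W := wc_eq_sup hQp hwc hQL
  have hWK : W ≤ normalizer (K : Set G) := le_normalizer.trans (normalizes_res W)
  have hU : ⁅K, Q⁆ ≤ K := by
    rw [Subgroup.commutator_le]
    intro k hk q hq
    rw [commutatorElement_def]
    have h1 : q * k⁻¹ * q⁻¹ ∈ K := (mem_normalizer_iff.1 (hWK (hQW hq)) _).1 (K.inv_mem hk)
    have h2 := K.mul_mem hk h1
    have e : k * (q * k⁻¹ * q⁻¹) = k * q * k⁻¹ * q⁻¹ := by group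
    rwa [e] at h2
  apply le_antisymm hU
  set U := ⁅K, Q⁆ with hUdef
  have hKU : K ≤ normalizer (U : Set G) := Subgroup.normalizer_commutator_ge_left K Q
  have hQU : Q ≤ normalizer (U : Set G) := Subgroup.normalizer_commutator_ge_right K Q
  have hWU : W ≤ normalizer (U : Set G) := hWeq ▸ sup_le hKU hQU
  -- `U ⊔ Q` is normal in `W`
  have hKV : K ≤ normalizer ((U ⊔ Q : Subgroup G) : Set G) := by
    apply le_normalizer_of_forall
    intro k hk a ha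
    have h1 : U ⊔ Q ≤ (U ⊔ Q).comap (MulAut.conj k).toMonoidHom := by
      apply sup_le
      · intro u hu
        exact (Subgroup.mem_sup_left ((mem_normalizer_iff.1 (hKU hk) u).1 hu) : k * u * k⁻¹ ∈ U ⊔ Q)
      · intro q hq
        have e : (MulAut.conj k).toMonoidHom q = ⁅k, q⁆ * q := by
          show k * q * k⁻¹ = _
          rw [commutatorElement_def]
          group
        show (MulAut.conj k).toMonoidHom q ∈ U ⊔ Q
        rw [e]
        exact Subgroup.mul_mem_sup (Subgroup.commutator_mem_commutator hk hq) hq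
    exact h1 ha
  have hQV : Q ≤ normalizer ((U ⊔ Q : Subgroup G) : Set G) := by
    apply le_normalizer_of_forall
    intro q hq a ha
    have h1 : U ⊔ Q ≤ (U ⊔ Q).comap (MulAut.conj q).toMonoidHom := by
      apply sup_le
      · intro u hu
        exact (Subgroup.mem_sup_left ((mem_normalizer_iff.1 (hQU hq) u).1 hu) : q * u * q⁻¹ ∈ U ⊔ Q)
      · intro q' hq'
        exact (Subgroup.mem_sup_right (Q.mul_mem (Q.mul_mem hq hq') (Q.inv_mem hq)) : q * q' * q⁻¹ ∈ U ⊔ Q)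
    exact h1 ha
  have hWV : W ≤ normalizer ((U ⊔ Q : Subgroup G) : Set G) := hWeq ▸ sup_le hKV hQV
  have hW_le : W ≤ U ⊔ Q := by
    apply wc_gen hQp hwc hQL
    intro w hw
    rintro _ ⟨q, hq, rfl⟩
    exact (mem_normalizer_iff.1 (hWV hw) q).1 (Subgroup.mem_sup_right hq)
  have hUQ : U ⊔ Q = W := le_antisymm (sup_le (hU.trans (res_le' W)) hQW) hW_le
  exact res_le_of_sup hWU hQp hUQ

/-- Three subgroups lemma modulo a normal subgroup. -/
theorem three_lemma (X₀ H₁ H₂ R : Subgroup G) (hH₁ : H₁ ≤ X₀) (hH₂ : H₂ ≤ X₀) (hR : X₀ ≤ normalizer (R : Set G))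
    (hRX : R ≤ X₀)
    (hc : ∀ h ∈ H₁, ∀ y ∈ H₂, ∀ g ∈ X₀, ⁅⁅h, y⁆, g⁆ ∈ R) :
    ∀ h ∈ H₁, ∀ h' ∈ H₁, ∀ y ∈ H₂, ⁅⁅h, h'⁆, y⁆ ∈ R := by
  haveI hn : (R.subgroupOf X₀).Normal := (Subgroup.normal_subgroupOf_iff_le_normalizer hRX).2 hR
  let π : ↥X₀ →* ↥X₀ ⧸ R.subgroupOf X₀ := QuotientGroup.mk' _
  let A := (H₁.subgroupOf X₀).map π
  let B := (H₂.subgroupOf X₀).map π
  have hAB : ⁅A, B⁆ ≤ center (↥X₀ ⧸ R.subgroupOf X₀) := by
    rw [Subgroup.commutator_le]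
    rintro _ ⟨⟨h, hX⟩, hh, rfl⟩ _ ⟨⟨y, yX⟩, hy, rfl⟩
    rw [Subgroup.mem_center_iff]
    intro g
    obtain ⟨g₀, rfl⟩ := QuotientGroup.mk'_surjective _ g
    have h1 : ⁅⁅(⟨h, hX⟩ : X₀), (⟨y, yX⟩ : X₀)⁆, g₀⁆ ∈ R.subgroupOf X₀ := by
      show ((⁅⁅(⟨h, hX⟩ : X₀), (⟨y, yX⟩ : X₀)⁆, g₀⁆ : X₀) : G) ∈ R
      exact hc h hh y hy g₀ g₀.2
    have h2 : π ⁅⁅(⟨h, hX⟩ : X₀), (⟨y, yX⟩ : X₀)⁆, g₀⁆ = 1 := (QuotientGroup.eq_one_iff _).2 h1
    rw [map_commutatorElement, map_commutatorElement, commutatorElement_eq_one_iff_mul_comm] at h2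
    exact h2.symm
  have h1 : ⁅⁅A, B⁆, A⁆ = ⊥ :=
    Subgroup.commutator_eq_bot_iff_le_centralizer.2 (hAB.trans (Subgroup.center_le_centralizer _))
  have h2 : ⁅⁅B, A⁆, A⁆ = ⊥ := by
    rw [Subgroup.commutator_comm B A]
    exact h1
  have h3 : ⁅⁅A, A⁆, B⁆ = ⊥ := Subgroup.commutator_commutator_eq_bot_of_rotate h1 h2
  intro h hh h' hh' y hy
  have hmem : π ⁅⁅(⟨h, hH₁ hh⟩ : X₀), (⟨h', hH₁ hh'⟩ : X₀)⁆, (⟨y, hH₂ hy⟩ : X₀)⁆ ∈ ⁅⁅A, A⁆, B⁆ := by
    rw [map_commutatorElement, map_commutatorElement]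
    exact Subgroup.commutator_mem_commutator
      (Subgroup.commutator_mem_commutator ⟨_, hh, rfl⟩ ⟨_, hh', rfl⟩) ⟨_, hy, rfl⟩
  rw [h3, Subgroup.mem_bot] at hmem
  have h5 := (QuotientGroup.eq_one_iff _).1 hmem
  exact h5

set_option maxHeartbeats 1000000 in
theorem one_side {Q Hc H₁ H₂ : Subgroup G} (hQp : IsPGroup p Q) (hwc : Cfsg.IsWeaklyClosedSubgroup p Q)
    (hHc : Hc = Cfsg.weakClosure Q ⊤)
    (hn₁ : H₁ ≤ Hc ∧ Hc ≤ normalizer (H₁ : Set G)) (hn₂ : H₂ ≤ Hc ∧ Hc ≤ normalizer (H₂ : Set G))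
    (hprod : H₁ ⊔ H₂ = Hc) (hcomm : ⁅H₁, H₂⁆ ≤ normalizer (Q : Set G)) :
    ⁅res p (Cfsg.weakClosure Q (H₁ ⊔ Q)), Q⁆ = res p (Cfsg.weakClosure Q (H₁ ⊔ Q)) ∧
    ⁅res p (Cfsg.weakClosure Q (H₁ ⊔ Q)), H₁⁆ = res p (Cfsg.weakClosure Q (H₁ ⊔ Q)) ∧
    res p (Cfsg.weakClosure Q (H₁ ⊔ Q)) ≤ ⁅H₁, H₁⁆ ∧
    Hc ≤ normalizer (res p (Cfsg.weakClosure Q (H₁ ⊔ Q)) : Set G) ∧
    res p (Cfsg.weakClosure Q (H₁ ⊔ Q)) ≤ H₁ ∧
    res p (Cfsg.weakClosure Q (H₁ ⊔ Q)) ≤ res p Hc ∧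
    (∀ k ∈ res p (Cfsg.weakClosure Q (H₁ ⊔ Q)), ∀ y ∈ H₂, k * y * k⁻¹ * y⁻¹ ∈ Cfsg.pCoreOf p Hc) ∧
    (∀ h ∈ H₁, Q.map (MulAut.conj h).toMonoidHom ≤ res p (Cfsg.weakClosure Q (H₁ ⊔ Q)) ⊔ Q) := by
  classical
  have hQHc : Q ≤ Hc := hHc ▸ LargeChar.le_weakClosure le_top
  have hHcgen : ∀ X : Subgroup G, (∀ w ∈ Hc, Q.map (MulAut.conj w).toMonoidHom ≤ X) → Hc ≤ X := by
    intro X hX
    rw [hHc]
    apply wc_gen hQp hwc le_top
    rw [← hHc]
    exact hX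
  have hconj : ∀ x : G, ∃ w ∈ Hc, Q.map (MulAut.conj x).toMonoidHom = Q.map (MulAut.conj w).toMonoidHom := by
    intro x
    apply WeaklyClosed.exists_conj_of_le hQp hwc hQHc
    rw [hHc]
    exact LargeChar.conj_le_weakClosure le_top
  set D := ⁅H₁, H₂⁆ with hD
  have hDH₁ : D ≤ H₁ := by
    rw [hD, Subgroup.commutator_le]
    intro a ha b hb
    rw [commutatorElement_def]
    have h1 : b * a⁻¹ * b⁻¹ ∈ H₁ := (mem_normalizer_iff.1 (hn₁.2 (hn₂.1 hb)) _).1 (H₁.inv_mem ha)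
    have h2 := H₁.mul_mem ha h1
    have e : a * (b * a⁻¹ * b⁻¹) = a * b * a⁻¹ * b⁻¹ := by group
    rwa [e] at h2
  have hDHc : D ≤ Hc := hDH₁.trans hn₁.1
  have hHcD : Hc ≤ normalizer (D : Set G) := fun g hg =>
    commutator_normalizer_le H₁ H₂ ⟨hn₁.2 hg, hn₂.2 hg⟩
  set R := Cfsg.pCoreOf p D with hR
  have hRp : IsPGroup p R := WCChar.pCoreOf_isPGroup D
  have hRD : R ≤ D := WCChar.pCoreOf_le D
  have hRHc : R ≤ Hc := hRD.trans hDHc
  have hHcR : Hc ≤ normalizer (R : Set G) := hHcD.trans (WCChar.normalizer_le_normalizer_core D)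
  have hRcore : R ≤ Cfsg.pCoreOf p Hc := WCChar.le_core hRp hRHc hHcR
  have hDQw : ∀ w ∈ Hc, D ≤ normalizer ((Q.map (MulAut.conj w).toMonoidHom : Subgroup G) : Set G) := by
    intro w hw d hd
    have h1 : w⁻¹ * d * w ∈ D := by
      have h2 := (mem_normalizer_iff.1 (hHcD (Hc.inv_mem hw)) d).1 hd
      rwa [inv_inv] at h2
    have h3 := WeaklyClosed.conj_mem_normalizer_map (g := w) (hcomm h1)
    have e : w * (w⁻¹ * d * w) * w⁻¹ = d := by group
    rwa [e] at h3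
  -- `D` is central modulo `R`
  have hcentral : ∀ g ∈ Hc, ∀ d ∈ D, g * d * g⁻¹ * d⁻¹ ∈ R := by
    have hle : Hc ≤ stabMod Hc D R hHcR := by
      apply hHcgen
      intro w hw x hx
      have hwHc : x ∈ Hc := by
        obtain ⟨q, hq, rfl⟩ := hx
        exact Hc.mul_mem (Hc.mul_mem hw (hQHc hq)) (Hc.inv_mem hw)
      refine ⟨hwHc, fun d hd => ?_⟩
      have hQw : IsPGroup p (Q.map (MulAut.conj w).toMonoidHom) := hQp.map _
      have hinf : Q.map (MulAut.conj w).toMonoidHom ⊓ D ≤ R := by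
        apply WCChar.le_core (hQw.to_le inf_le_left) inf_le_right
        intro d' hd'
        exact inf_normalizer_le _ _ ⟨hDQw w hw hd', le_normalizer hd'⟩
      apply hinf
      constructor
      · have h1 : d * x⁻¹ * d⁻¹ ∈ Q.map (MulAut.conj w).toMonoidHom :=
          (mem_normalizer_iff.1 (hDQw w hw hd) _).1 (inv_mem hx)
        have h2 := mul_mem hx h1
        have e : x * (d * x⁻¹ * d⁻¹) = x * d * x⁻¹ * d⁻¹ := by group
        rwa [e] at h2
      · have h1 : x * d * x⁻¹ ∈ D := (mem_normalizer_iff.1 (hHcD hwHc) _).1 hd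
        exact D.mul_mem h1 (D.inv_mem hd)
    intro g hg d hd
    exact (hle hg).2 d hd
  -- the weak closure
  set L := H₁ ⊔ Q with hL
  have hQL : Q ≤ L := le_sup_right
  have hLHc : L ≤ Hc := sup_le hn₁.1 hQHc
  set W := Cfsg.weakClosure Q L with hW
  set K := res p W with hK
  have hKW : K ≤ W := res_le' W
  have hQW : Q ≤ W := LargeChar.le_weakClosure hQL
  have hWL : W ≤ L := LargeChar.weakClosure_le Q L
  have hWeq : K ⊔ Q = W := wc_eq_sup hQp hwc hQL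
  have hKQ : ⁅K, Q⁆ = K := wc_comm hQp hwc hQL
  have hKH₁ : K ≤ H₁ := by
    apply res_le_of
    intro x hx hco
    exact mem_of_mem_sup (hQHc.trans hn₁.2) hQp (hWL hx) hco
  have hDW : D ≤ normalizer (W : Set G) := by
    apply le_normalizer_of_forall
    intro d hd a ha
    have h1 : W ≤ W.comap (MulAut.conj d).toMonoidHom := by
      refine iSup_le fun g => ?_
      obtain ⟨w, hw, hww⟩ := hconj g
      intro x hx
      have h2 : x ∈ Q.map (MulAut.conj w).toMonoidHom := hww ▸ hx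
      have h3 := (mem_normalizer_iff.1 (hDQw w hw hd) _).1 h2
      rw [← hww] at h3
      exact (le_iSup (fun g : {g : G // Q.map (MulAut.conj g).toMonoidHom ≤ L} => Q.map (MulAut.conj (g : G)).toMonoidHom) g) h3
    exact h1 ha
  have hDK : D ≤ normalizer (K : Set G) := hDW.trans (normalizes_res W)
  have hLW : L ≤ normalizer (W : Set G) := by
    apply le_normalizer_of_forall
    intro l hl a ha
    have h1 : W ≤ W.comap (MulAut.conj l).toMonoidHom := by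
      refine iSup_le fun g => ?_
      intro x hx
      have h2 : Q.map (MulAut.conj (l * (g : G))).toMonoidHom ≤ L := by
        rw [AmalgamChar.map_conj_mul]
        rintro _ ⟨y, hy, rfl⟩
        exact L.mul_mem (L.mul_mem hl (g.2 hy)) (L.inv_mem hl)
      have h3 : (MulAut.conj l).toMonoidHom x ∈ Q.map (MulAut.conj (l * (g : G))).toMonoidHom := by
        rw [AmalgamChar.map_conj_mul]
        exact ⟨x, hx, rfl⟩
      exact LargeChar.conj_le_weakClosure h2 h3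
    exact h1 ha
  have hLK : L ≤ normalizer (K : Set G) := hLW.trans (normalizes_res W)
  have hH₁K : H₁ ≤ normalizer (K : Set G) := (le_sup_left.trans le_rfl : H₁ ≤ L).trans hLK
  -- decomposition of elements of `Hc`
  have hdec : ∀ g ∈ Hc, ∃ a ∈ H₁, ∃ b ∈ H₂, g = a * b := by
    intro g hg
    apply mem_sup_normalizes (hn₁.1.trans hn₂.2)
    rw [hprod]
    exact hg
  have hkey : ∀ k a b : G, k * (a * b) * k⁻¹ * (a * b)⁻¹ = (k * a * k⁻¹ * a⁻¹) * (a * (k * b * k⁻¹ * b⁻¹) * a⁻¹) := by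
    intro k a b
    group
  -- K ≤ H₁'
  set A := ⁅H₁, H₁⁆ with hA
  have hAH₁ : A ≤ H₁ := by
    rw [hA, Subgroup.commutator_le]
    intro a ha b hb
    rw [commutatorElement_def]
    exact H₁.mul_mem (H₁.mul_mem (H₁.mul_mem ha hb) (H₁.inv_mem ha)) (H₁.inv_mem hb)
  have hHcA : Hc ≤ normalizer (A : Set G) := fun g hg =>
    commutator_normalizer_le H₁ H₁ ⟨hn₁.2 hg, hn₁.2 hg⟩
  have hKA : K ≤ A := by
    set Y := A ⊔ R with hY
    have hHcY : Hc ≤ normalizer (Y : Set G) := fun g hg => sup_normalizer_le A R ⟨hHcA hg, hHcR hg⟩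
    have hYHc : Y ≤ Hc := sup_le (hAH₁.trans hn₁.1) hRHc
    have hYZ : Y ≤ stabMod Hc Hc Y hHcY := by
      intro y hy
      refine ⟨hYHc hy, fun g hg => ?_⟩
      have h1 : g * y⁻¹ * g⁻¹ ∈ Y := (mem_normalizer_iff.1 (hHcY hg) _).1 (Y.inv_mem hy)
      have h2 := Y.mul_mem hy h1
      have e : y * (g * y⁻¹ * g⁻¹) = y * g * y⁻¹ * g⁻¹ := by group
      rwa [e] at h2
    have hDZ : D ≤ stabMod Hc Hc Y hHcY := by
      intro d hd
      refine ⟨hDHc hd, fun g hg => ?_⟩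
      have h1 := R.inv_mem (hcentral g hg d hd)
      have e : (g * d * g⁻¹ * d⁻¹)⁻¹ = d * g * d⁻¹ * g⁻¹ := by group
      rw [e] at h1
      exact Subgroup.mem_sup_right h1
    have hKZ : K ≤ stabMod Hc Hc Y hHcY := by
      rw [← hKQ, Subgroup.commutator_le]
      intro k hk q hq
      obtain ⟨a, ha, b, hb, rfl⟩ := hdec q (hQHc hq)
      rw [commutatorElement_def, hkey]
      apply Subgroup.mul_mem
      · apply hYZ
        apply Subgroup.mem_sup_left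
        have := Subgroup.commutator_mem_commutator (hKH₁ hk) ha
        rwa [commutatorElement_def] at this
      · apply hDZ
        have h1 := Subgroup.commutator_mem_commutator (hKH₁ hk) hb
        rw [commutatorElement_def] at h1
        exact (mem_normalizer_iff.1 (hHcD (hn₁.1 ha)) _).1 h1
    have hKY : K ≤ Y := by
      rw [← hKQ, Subgroup.commutator_le]
      intro k hk q hq
      exact (hKZ hk).2 q (hQHc hq)
    apply res_le_of
    intro x hx hco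
    exact mem_of_mem_sup (hRHc.trans hHcA) hRp (hKY (mem_res_of hx hco)) hco
  -- `[K, H₂] ≤ R`
  have hthree := three_lemma Hc H₁ H₂ R hn₁.1 hn₂.1 hHcR hRHc (by
    intro h hh y hy g hg
    have h1 := R.inv_mem (hcentral g hg _ (Subgroup.commutator_mem_commutator hh hy))
    have e : (g * ⁅h, y⁆ * g⁻¹ * ⁅h, y⁆⁻¹)⁻¹ = ⁅⁅h, y⁆, g⁆ := by
      rw [commutatorElement_def ⁅h, y⁆ g]
      group
    rwa [e] at h1)
  have hKH₂ : ∀ k ∈ K, ∀ y ∈ H₂, k * y * k⁻¹ * y⁻¹ ∈ R := by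
    have hle : A ≤ stabMod H₁ H₂ R (hn₁.1.trans hHcR) := by
      rw [hA, Subgroup.commutator_le]
      intro h hh h' hh'
      refine ⟨?_, fun y hy => ?_⟩
      · rw [commutatorElement_def]
        exact H₁.mul_mem (H₁.mul_mem (H₁.mul_mem hh hh') (H₁.inv_mem hh)) (H₁.inv_mem hh')
      · have := hthree h hh h' hh' y hy
        rwa [commutatorElement_def ⁅h, h'⁆ y] at this
    intro k hk y hy
    exact (hle (hKA hk)).2 y hy
  -- normality of `K`
  have hHcK : Hc ≤ normalizer (K : Set G) := by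
    have hH₂K : H₂ ≤ normalizer (K : Set G) := by
      set X := K ⊔ R with hX
      have hXN : X ≤ normalizer (K : Set G) := sup_le le_normalizer (hRD.trans hDK)
      have hresX : res p X = K := by
        apply le_antisymm (res_le_of_sup hXN hRp rfl)
        apply res_le_of
        intro x hx hco
        exact mem_res_of (Subgroup.mem_sup_left (mem_res_of hx hco)) hco
      have hH₂X : H₂ ≤ normalizer (X : Set G) := by
        apply le_normalizer_of_forall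
        intro y hy a ha
        have h1 : X ≤ X.comap (MulAut.conj y).toMonoidHom := by
          apply sup_le
          · intro k hk
            have h2 := R.inv_mem (hKH₂ k hk y hy)
            have e : (MulAut.conj y).toMonoidHom k = (k * y * k⁻¹ * y⁻¹)⁻¹ * k := by
              show y * k * y⁻¹ = _
              group
            show (MulAut.conj y).toMonoidHom k ∈ X
            rw [e]
            exact X.mul_mem (Subgroup.mem_sup_right h2) (Subgroup.mem_sup_left hk)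
          · intro r hr
            exact (Subgroup.mem_sup_right ((mem_normalizer_iff.1 (hHcR (hn₂.1 hy)) r).1 hr) : y * r * y⁻¹ ∈ X)
        exact h1 ha
      intro y hy
      have h1 := normalizes_res (p := p) X (hH₂X hy)
      rwa [hresX] at h1
    rw [← hprod]
    exact sup_le hH₁K hH₂K
  -- `[K, H₁] = K`
  have hKH₁' : ⁅K, H₁⁆ = K := by
    have hU : ⁅K, H₁⁆ ≤ K := by
      rw [Subgroup.commutator_le]
      intro k hk h hh
      rw [commutatorElement_def]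
      have h1 : h * k⁻¹ * h⁻¹ ∈ K := (mem_normalizer_iff.1 (hH₁K hh) _).1 (K.inv_mem hk)
      have h2 := K.mul_mem hk h1
      have e : k * (h * k⁻¹ * h⁻¹) = k * h * k⁻¹ * h⁻¹ := by group
      rwa [e] at h2
    apply le_antisymm hU
    set U := ⁅K, H₁⁆ with hUdef
    have hHcU : Hc ≤ normalizer (U : Set G) := fun g hg =>
      commutator_normalizer_le K H₁ ⟨hHcK hg, hn₁.2 hg⟩
    have hKY : K ≤ U ⊔ R := by
      rw [← hKQ, Subgroup.commutator_le]
      intro k hk q hq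
      obtain ⟨a, ha, b, hb, rfl⟩ := hdec q (hQHc hq)
      rw [commutatorElement_def, hkey]
      apply Subgroup.mul_mem
      · apply Subgroup.mem_sup_left
        have := Subgroup.commutator_mem_commutator hk ha
        rwa [commutatorElement_def] at this
      · apply Subgroup.mem_sup_right
        exact (mem_normalizer_iff.1 (hHcR (hn₁.1 ha)) _).1 (hKH₂ k hk b hb)
    apply res_le_of
    intro x hx hco
    exact mem_of_mem_sup (hRHc.trans hHcU) hRp (hKY (mem_res_of hx hco)) hco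
  refine ⟨hKQ, hKH₁', hKA, hHcK, hKH₁, ?_, ?_, ?_⟩
  · apply res_le_of
    intro x hx hco
    exact mem_res_of (hLHc (hWL hx)) hco
  · intro k hk y hy
    exact hRcore (hKH₂ k hk y hy)
  · intro h hh
    rw [hWeq]
    apply LargeChar.conj_le_weakClosure
    rintro _ ⟨q, hq, rfl⟩
    have hh' : h ∈ L := Subgroup.mem_sup_left hh
    exact L.mul_mem (L.mul_mem hh' (hQL hq)) (L.inv_mem hh')

end aux


/-- Let Q be a nontrivial p-subgroup of the finite group H that is a weakly closed subgroup, H° the weak closure of Q in H (generated by the conjugates of Q) and H_∘ = O^p(H°). Suppose H₁, H₂ are normal subgroups of H° with H° = H₁H₂ and [H₁, H₂] ≤ N_H(Q), and put Kᵢ = O^p of the weak closure of Q in HᵢQ. Then for i = 1, 2: Kᵢ = [Kᵢ, Q] = [Kᵢ, Hᵢ] ≤ Hᵢ′ and Kᵢ is normal in H°; H_∘ = K₁K₂; and [K₁, K₂] ≤ O_p(H°). -/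
theorem result {G : Type*} [Group G] [Finite G] {p : ℕ} [Fact p.Prime] (Q : Subgroup G) (hQp : IsPGroup p ↥Q) (hQ1 : Q ≠ ⊥) (hwc : Cfsg.IsWeaklyClosedSubgroup p Q) (Hc : Subgroup G) (hHc : Hc = Cfsg.weakClosure Q ⊤) (H₁ H₂ : Subgroup G) (hn₁ : H₁ ≤ Hc ∧ Hc ≤ Subgroup.normalizer ((H₁ : Subgroup G) : Set G)) (hn₂ : H₂ ≤ Hc ∧ Hc ≤ Subgroup.normalizer ((H₂ : Subgroup G) : Set G)) (hprod : H₁ ⊔ H₂ = Hc) (hcomm : ⁅H₁, H₂⁆ ≤ Subgroup.normalizer ((Q : Subgroup G) : Set G)) (K₁ K₂ : Subgroup G) (hK₁ : K₁ = ((Cfsg.pResidual p ↥(Cfsg.weakClosure Q (H₁ ⊔ Q))).map ((Cfsg.weakClosure Q (H₁ ⊔ Q))).subtype)) (hK₂ : K₂ = ((Cfsg.pResidual p ↥(Cfsg.weakClosure Q (H₂ ⊔ Q))).map ((Cfsg.weakClosure Q (H₂ ⊔ Q))).subtype)) : (⁅K₁, Q⁆ = K₁ ∧ ⁅K₁, H₁⁆ = K₁ ∧ K₁ ≤ ⁅H₁, H₁⁆ ∧ Hc ≤ Subgroup.normalizer ((K₁ : Subgroup G) : Set G)) ∧ (⁅K₂, Q⁆ = K₂ ∧ ⁅K₂, H₂⁆ = K₂ ∧ K₂ ≤ ⁅H₂, H₂⁆ ∧ Hc ≤ Subgroup.normalizer ((K₂ : Subgroup G) : Set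 G)) ∧ K₁ ⊔ K₂ = ((Cfsg.pResidual p ↥Hc).map (Hc).subtype) ∧ ⁅K₁, K₂⁆ ≤ (Cfsg.pCoreOf p Hc) := by
  classical
  subst hK₁ hK₂
  obtain ⟨a1, a2, a3, a4, a5, a6, a7, a8⟩ := one_side hQp hwc hHc hn₁ hn₂ hprod hcomm
  have hcomm' : ⁅H₂, H₁⁆ ≤ normalizer (Q : Set G) := by
    rw [Subgroup.commutator_comm]
    exact hcomm
  obtain ⟨b1, b2, b3, b4, b5, b6, b7, b8⟩ := one_side hQp hwc hHc hn₂ hn₁ (by rw [sup_comm]; exact hprod) hcomm'
  refine ⟨⟨a1, a2, a3, a4⟩, ⟨b1, b2, b3, b4⟩, ?_, ?_⟩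
  · have hQHc : Q ≤ Hc := hHc ▸ LargeChar.le_weakClosure le_top
    set K₁ := res p (Cfsg.weakClosure Q (H₁ ⊔ Q)) with hK₁
    set K₂ := res p (Cfsg.weakClosure Q (H₂ ⊔ Q)) with hK₂
    show K₁ ⊔ K₂ = res p Hc
    apply le_antisymm (sup_le a6 b6)
    have hK₁Hc : K₁ ≤ Hc := a5.trans hn₁.1
    have hK₂Hc : K₂ ≤ Hc := b5.trans hn₂.1
    have hN : Hc ≤ normalizer ((K₁ ⊔ K₂ : Subgroup G) : Set G) := fun g hg => sup_normalizer_le _ _ ⟨a4 hg, b4 hg⟩
    have hH₁V : H₁ ≤ normalizer (((K₁ ⊔ K₂) ⊔ Q : Subgroup G) : Set G) := by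
      apply le_normalizer_of_forall
      intro h hh x hx
      have h1 : (K₁ ⊔ K₂) ⊔ Q ≤ ((K₁ ⊔ K₂) ⊔ Q).comap (MulAut.conj h).toMonoidHom := by
        apply sup_le
        · intro n hn
          exact (Subgroup.mem_sup_left ((mem_normalizer_iff.1 (hN (hn₁.1 hh)) n).1 hn) : h * n * h⁻¹ ∈ (K₁ ⊔ K₂) ⊔ Q)
        · intro q hq
          have h2 := a8 h hh ⟨q, hq, rfl⟩
          have h3 : K₁ ⊔ Q ≤ (K₁ ⊔ K₂) ⊔ Q := sup_le_sup_right le_sup_left Q
          exact h3 h2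
      exact h1 hx
    have hH₂V : H₂ ≤ normalizer (((K₁ ⊔ K₂) ⊔ Q : Subgroup G) : Set G) := by
      apply le_normalizer_of_forall
      intro h hh x hx
      have h1 : (K₁ ⊔ K₂) ⊔ Q ≤ ((K₁ ⊔ K₂) ⊔ Q).comap (MulAut.conj h).toMonoidHom := by
        apply sup_le
        · intro n hn
          exact (Subgroup.mem_sup_left ((mem_normalizer_iff.1 (hN (hn₂.1 hh)) n).1 hn) : h * n * h⁻¹ ∈ (K₁ ⊔ K₂) ⊔ Q)
        · intro q hq
          have h2 := b8 h hh ⟨q, hq, rfl⟩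
          have h3 : K₂ ⊔ Q ≤ (K₁ ⊔ K₂) ⊔ Q := sup_le_sup_right le_sup_right Q
          exact h3 h2
      exact h1 hx
    have hHcV : Hc ≤ normalizer (((K₁ ⊔ K₂) ⊔ Q : Subgroup G) : Set G) := hprod ▸ sup_le hH₁V hH₂V
    have hHc_le : Hc ≤ (K₁ ⊔ K₂) ⊔ Q := by
      rw [hHc]
      apply wc_gen hQp hwc le_top
      rw [← hHc]
      intro w hw
      rintro _ ⟨q, hq, rfl⟩
      exact (mem_normalizer_iff.1 (hHcV hw) q).1 (Subgroup.mem_sup_right hq)
    exact res_le_of_sup hN hQp (le_antisymm (sup_le (sup_le hK₁Hc hK₂Hc) hQHc) hHc_le)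
  · rw [Subgroup.commutator_le]
    intro k hk k' hk'
    rw [commutatorElement_def]
    exact a7 k hk k' (b5 hk')

end Cfsg.Agent.S2859
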