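import Cfsg.Statements.S2864
import Cfsg.Agent.Lib.LargeChar
import Cfsg.Agent.Lib.AmalgamChar
import Cfsg.Agent.Lib.SchurZ2
import Cfsg.Agent.Lib.H6PGroup
import Cfsg.Agent.Lib.Commutators
import Cfsg.Agent.Lib.H2Basic

set_option autoImplicit false
open Cfsg

namespace Cfsg.Agent.S2864

open Cfsg.Agent.Lib Subgroup

section aux
variable {P : Type*} [Group P] [Finite P] {p : ℕ} [Fact p.Prime]

/-- Elements of `L` acting trivially on `B` modulo `N₀`. -/
def stabMod (L B N₀ : Subgroup P) (hN : L ≤ normalizer (N₀ : Set P)) : Subgroup P where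
  carrier := {x | x ∈ L ∧ ∀ b ∈ B, x * b * x⁻¹ * b⁻¹ ∈ N₀}
  one_mem' := ⟨L.one_mem, fun b _ => by simpa using N₀.one_mem⟩
  mul_mem' := by
    rintro x y ⟨hx, hx'⟩ ⟨hy, hy'⟩
    refine ⟨L.mul_mem hx hy, fun b hb => ?_⟩
    have h1 := (mem_normalizer_iff.1 (hN hx) _).1 (hy' b hb)
    have h2 := N₀.mul_mem h1 (hx' b hb)
    have e : x * (y * b * y⁻¹ * b⁻¹) * x⁻¹ * (x * b * x⁻¹ * b⁻¹) = x * y * b * (x * y)⁻¹ * b⁻¹ := by group
    rwa [e] at h2
  inv_mem' := by
    rintro x ⟨hx, hx'⟩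
    refine ⟨L.inv_mem hx, fun b hb => ?_⟩
    have h1 := N₀.inv_mem (hx' b hb)
    have h2 := (mem_normalizer_iff.1 (hN (L.inv_mem hx)) _).1 h1
    have e : x⁻¹ * (x * b * x⁻¹ * b⁻¹)⁻¹ * x⁻¹⁻¹ = x⁻¹ * b * x⁻¹⁻¹ * b⁻¹ := by group
    rwa [e] at h2

theorem mem_stabMod {L B N₀ : Subgroup P} {hN : L ≤ normalizer (N₀ : Set P)} {x : P} :
    x ∈ stabMod L B N₀ hN ↔ x ∈ L ∧ ∀ b ∈ B, x * b * x⁻¹ * b⁻¹ ∈ N₀ := Iff.rfl

theorem stabMod_normal {L B N₀ : Subgroup P} (hN : L ≤ normalizer (N₀ : Set P))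
    (hB : L ≤ normalizer (B : Set P)) : L ≤ normalizer (stabMod L B N₀ hN : Set P) := by
  have key : ∀ g ∈ L, ∀ x ∈ stabMod L B N₀ hN, g * x * g⁻¹ ∈ stabMod L B N₀ hN := by
    rintro g hg x ⟨hx, hx'⟩
    refine ⟨L.mul_mem (L.mul_mem hg hx) (L.inv_mem hg), fun b hb => ?_⟩
    have hb' : g⁻¹ * b * g⁻¹⁻¹ ∈ B := (mem_normalizer_iff.1 (hB (L.inv_mem hg)) _).1 hb
    have h1 := (mem_normalizer_iff.1 (hN hg) _).1 (hx' _ hb')
    have e : g * (x * (g⁻¹ * b * g⁻¹⁻¹) * x⁻¹ * (g⁻¹ * b * g⁻¹⁻¹)⁻¹) * g⁻¹ = g * x * g⁻¹ * b * (g * x * g⁻¹)⁻¹ * b⁻¹ := by group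
    rwa [e] at h1
  intro g hg
  apply Commutators.mem_normalizer_of_conj_mem (key g hg)
  intro a ha
  have := key g⁻¹ (L.inv_mem hg) a ha
  simpa using this

theorem sylow_normal_of {X : Type*} [Group X] [Finite X] (W R : Subgroup X) [W.Normal] [R.Normal]
    (hRp : IsPGroup p R) (hc : ∀ x, ∀ w ∈ W, w * x * w⁻¹ * x⁻¹ ∈ R)
    (hp' : ∀ x : X, (orderOf x).Coprime p → x ∈ W) (T : Sylow p X) : (T : Subgroup X).Normal := by
  have hRT : R ≤ T := hRp.le_sylow_of_normal T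
  have hWN : W ≤ normalizer (T : Set X) := by
    intro w hw
    apply Commutators.mem_normalizer_of_conj_mem
    · intro t ht
      have h := hRT (hc t w hw)
      have e : w * t * w⁻¹ = (w * t * w⁻¹ * t⁻¹) * t := by group
      rw [e]; exact (T : Subgroup X).mul_mem h ht
    · intro t ht
      have h := hRT (hc t w⁻¹ (W.inv_mem hw))
      have e : w⁻¹ * t * w = (w⁻¹ * t * w⁻¹⁻¹ * t⁻¹) * t := by group
      rw [e]; exact (T : Subgroup X).mul_mem h ht
  have hq : IsPGroup p (X ⧸ W) := by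
    intro q
    induction q using QuotientGroup.induction_on with | H x => ?_
    obtain ⟨a, m, hm, hx⟩ := Nat.exists_eq_pow_mul_and_not_dvd (orderOf_pos x).ne' p (Fact.out : p.Prime).ne_one
    refine ⟨a, ?_⟩
    have ho : orderOf (x ^ p ^ a) = m := by
      rw [orderOf_pow_of_dvd (pow_ne_zero _ (Fact.out : p.Prime).ne_zero) ⟨m, hx⟩, hx]
      exact Nat.mul_div_cancel_left _ (pow_pos (Fact.out : p.Prime).pos _)
    have hm' : x ^ p ^ a ∈ W := by
      apply hp'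
      rw [ho]
      exact ((Nat.Prime.coprime_iff_not_dvd Fact.out).2 hm).symm
    rw [← QuotientGroup.mk_pow, QuotientGroup.eq_one_iff]
    exact hm'
  obtain ⟨k, hk⟩ := IsPGroup.iff_card.1 hq
  have hidx : W.index = p ^ k := hk
  have h1 : (T ⊔ W : Subgroup X).index ∣ p ^ k := hidx ▸ Subgroup.index_dvd_of_le le_sup_right
  have h2 : (T ⊔ W : Subgroup X).index ∣ (T : Subgroup X).index := Subgroup.index_dvd_of_le le_sup_left
  have h3 : ¬ p ∣ (T : Subgroup X).index := T.not_dvd_index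
  have h4 : (T ⊔ W : Subgroup X).index = 1 := by
    obtain ⟨j, hj, hj'⟩ := (Nat.dvd_prime_pow Fact.out).1 h1
    by_cases hj0 : j = 0
    · simpa [hj0] using hj'
    · exfalso
      apply h3
      rw [hj'] at h2
      exact (dvd_pow_self p hj0).trans h2
  have h5 : (T ⊔ W : Subgroup X) = ⊤ := Subgroup.index_eq_one.1 h4
  have h6 : normalizer ((T : Subgroup X) : Set X) = ⊤ := top_le_iff.1 (h5 ▸ sup_le le_normalizer hWN)
  exact normalizer_eq_top_iff.1 h6

theorem exists_normal_sylow (Sg W R : Subgroup P) (hWn : Sg ≤ normalizer (W : Set P))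
    (hRn : Sg ≤ normalizer (R : Set P)) (hRp : IsPGroup p R)
    (hc : ∀ x ∈ Sg, ∀ w ∈ W, w * x * w⁻¹ * x⁻¹ ∈ R) (hW : W ≤ Sg)
    (hp' : ∀ x ∈ Sg, (orderOf x).Coprime p → x ∈ W) :
    ∃ T : Subgroup P, T ≤ Sg ∧ IsPGroup p T ∧ ∀ K : Subgroup P, K ≤ Sg → IsPGroup p K → K ≤ T := by
  haveI hW' : (W.subgroupOf Sg).Normal := ⟨fun n hn g => by
    have h1 := (mem_normalizer_iff.1 (hWn g.2) _).1 hn
    exact h1⟩
  haveI hR' : (R.subgroupOf Sg).Normal := ⟨fun n hn g => by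
    have h1 := (mem_normalizer_iff.1 (hRn g.2) _).1 hn
    exact h1⟩
  obtain ⟨T⟩ : Nonempty (Sylow p Sg) := inferInstance
  have hT : (T : Subgroup Sg).Normal := by
    apply sylow_normal_of (W.subgroupOf Sg) (R.subgroupOf Sg)
    · exact hRp.comap_of_injective Sg.subtype Sg.subtype_injective
    · rintro ⟨x, hx⟩ ⟨w, hwSg⟩ hw
      exact hc x hx w hw
    · rintro ⟨x, hx⟩ hco
      apply hp' x hx
      rwa [Subgroup.orderOf_mk] at hco
  refine ⟨(T : Subgroup Sg).map Sg.subtype, Subgroup.map_subtype_le _, T.isPGroup'.map _, ?_⟩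
  intro K hK hKp
  have hK' : IsPGroup p (K.subgroupOf Sg) := hKp.comap_of_injective Sg.subtype Sg.subtype_injective
  obtain ⟨T₁, hT₁⟩ := hK'.exists_le_sylow
  letI := Sylow.unique_of_normal T hT
  have e : T₁ = T := Subsingleton.elim _ _
  subst e
  intro k hk
  exact ⟨⟨k, hK hk⟩, hT₁ hk, rfl⟩

theorem conj_mem_centralizer {A : Subgroup P} {g c : P} (hg : g ∈ normalizer (A : Set P))
    (hc : c ∈ centralizer (A : Set P)) : g * c * g⁻¹ ∈ centralizer (A : Set P) := by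
  apply mem_centralizer_iff.2
  intro a ha
  have h1 : g⁻¹ * a * g ∈ A := by
    have := (mem_normalizer_iff.1 ((normalizer (A : Set P)).inv_mem hg) _).1 ha
    simpa using this
  have h2 := mem_centralizer_iff.1 hc _ h1
  calc a * (g * c * g⁻¹) = g * ((g⁻¹ * a * g) * c) * g⁻¹ := by group
    _ = g * (c * (g⁻¹ * a * g)) * g⁻¹ := by rw [h2]
    _ = g * c * g⁻¹ * a := by group

theorem normalizer_le_normalizer_centralizer' (A : Subgroup P) :
    normalizer (A : Set P) ≤ normalizer (centralizer (A : Set P) : Set P) := by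
  intro g hg
  apply Commutators.mem_normalizer_of_conj_mem (fun c hc => conj_mem_centralizer hg hc)
  intro c hc
  have := conj_mem_centralizer ((normalizer (A : Set P)).inv_mem hg) hc
  simpa using this

theorem inf_normalizer_le (A B : Subgroup P) :
    normalizer (A : Set P) ⊓ normalizer (B : Set P) ≤ normalizer ((A ⊓ B : Subgroup P) : Set P) := by
  rintro g ⟨hgA, hgB⟩
  rw [mem_normalizer_iff]
  intro h
  constructor
  · rintro ⟨h1, h2⟩
    exact ⟨(mem_normalizer_iff.1 hgA h).1 h1, (mem_normalizer_iff.1 hgB h).1 h2⟩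
  · rintro ⟨h1, h2⟩
    exact ⟨(mem_normalizer_iff.1 hgA h).2 h1, (mem_normalizer_iff.1 hgB h).2 h2⟩

end aux


/-- Standing hypotheses: G a finite group, S a Sylow p-subgroup, Q a nontrivial large p-subgroup of G contained in S, M a subgroup containing S with the basic property (M ∈ 𝔐_G(S)); Y_M the largest p-reduced normal subgroup of M and M† = M·C_G(Y_M). Let I be a nontrivial normal p-subgroup of M and Y ≤ O_p(M†); let L be a subgroup of G containing Y and A a normal p-subgroup of L with I ≤ A ≤ M. If [Y, A] ≤ [I, A], then Y ≤ O_p(L). -/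
theorem result {G : Type*} [Group G] [Finite G] {p : ℕ} [Fact p.Prime] (S : Sylow p G) (Q : Subgroup G) (hQp : IsPGroup p ↥Q) (hQ1 : Q ≠ ⊥) (hQS : Q ≤ (S : Subgroup G)) (hQ : Cfsg.IsLarge Q) (M : Subgroup G) (hSM : (S : Subgroup G) ≤ M) (hM : Cfsg.IsInFrakM p M) (I : Subgroup G) (hI1 : I ≠ ⊥) (hIp : IsPGroup p ↥I) (hIM : I ≤ M ∧ M ≤ Subgroup.normalizer ((I : Subgroup G) : Set G)) (Y : Subgroup G) (hY : Y ≤ (Cfsg.pCoreOf p (M ⊔ Subgroup.centralizer (((Cfsg.largestPReducedOf p M) : Subgroup G) : Set G)))) (L : Subgroup G) (hYL : Y ≤ L) (A : Subgroup G) (hAp : IsPGroup p ↥A) (hAL : A ≤ L ∧ L ≤ Subgroup.normalizer ((A : Subgroup G) : Set G)) (hIA : I ≤ A) (hAM : A ≤ M) (hc : ⁅Y, A⁆ ≤ ⁅I, A⁆) : Y ≤ (Cfsg.pCoreOf p L) := by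
  classical
  obtain ⟨hM1, hM2, hM3, -, -, -⟩ := hM
  set Md := M ⊔ centralizer (largestPReducedOf p M : Set G) with hMd
  have hNpar : IsParabolic p (normalizer (I : Set G)) := ⟨S, hSM.trans hIM.2⟩
  have hIcore : I ≤ pCoreOf p (normalizer (I : Set G)) := WCChar.le_core hIp le_normalizer le_rfl
  have hne : pCore p ↥(normalizer (I : Set G)) ≠ ⊥ := by
    intro h
    apply hI1
    rw [eq_bot_iff]
    intro x hx
    have h2 := hIcore hx
    rw [pCoreOf, h] at h2
    simpa using h2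
  have hmain := LargeChar.parabolic_main hQp hQ1 hQ hNpar hne
  have hNL : normalizer (I : Set G) ∈ charPSubgroups p G := ⟨hne, hmain.1⟩
  obtain ⟨X, hNX, hXmax⟩ := (Set.toFinite (charPSubgroups p G)).exists_le_maximal hNL
  have hXM : X ∈ maxCharPSubgroups p G :=
    ⟨hXmax.1, fun L' hL' hXL => le_antisymm (hXmax.2 hL' hXL) hXL⟩
  have hXe := hM3 X hXM (hIM.2.trans hNX)
  have hNMd : normalizer (I : Set G) ≤ Md := hXe ▸ hNX
  set D := pCoreOf p Md with hD
  have hDp : IsPGroup p D := WCChar.pCoreOf_isPGroup Md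
  have hDle : D ≤ Md := WCChar.pCoreOf_le Md
  have hMdN : Md ≤ normalizer (D : Set G) := LargeChar.normalizer_le_normalizer_pCoreOf Md
  have hSMd : (S : Subgroup G) ≤ Md := hSM.trans le_sup_left
  have hDS : D ≤ (S : Subgroup G) := by
    have h1 : IsPGroup p ((S : Subgroup G) ⊔ D : Subgroup G) :=
      IsPGroup.to_sup_of_normal_right' S.isPGroup' hDp (hSMd.trans hMdN)
    have h2 := S.is_maximal' h1 le_sup_left
    rw [← h2]
    exact le_sup_right
  have hYD : Y ≤ D := hY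
  have hYp : IsPGroup p Y := hDp.to_le hYD
  set C := L ⊓ centralizer (A : Set G) with hC
  have hLC : L ≤ normalizer (C : Set G) := by
    intro g hg
    apply inf_normalizer_le L (centralizer (A : Set G))
    exact ⟨le_normalizer hg, normalizer_le_normalizer_centralizer' A (hAL.2 hg)⟩
  have hCN : C ≤ normalizer (I : Set G) := by
    intro c hc
    apply H2Basic.mem_normalizer_of_forall_comm
    intro i hi
    exact (mem_centralizer_iff.1 hc.2 i (hIA hi)).symm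
  set R := pCoreOf p C with hR
  have hRp : IsPGroup p R := WCChar.pCoreOf_isPGroup C
  have hLR : L ≤ normalizer (R : Set G) := hLC.trans (WCChar.normalizer_le_normalizer_core C)
  have hEle : D ⊓ C ≤ R := by
    apply WCChar.le_core (hDp.to_le inf_le_left) inf_le_right
    intro c hc
    apply inf_normalizer_le D C
    exact ⟨hMdN (hNMd (hCN hc)), le_normalizer hc⟩
  have hYC : ∀ y ∈ Y, ∀ c ∈ C, y * c * y⁻¹ * c⁻¹ ∈ R := by
    intro y hy c hc
    apply hEle
    constructor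
    · have h1 : c * y⁻¹ * c⁻¹ ∈ D :=
        (mem_normalizer_iff.1 (hMdN (hNMd (hCN hc))) _).1 (D.inv_mem (hYD hy))
      have h2 := D.mul_mem (hYD hy) h1
      have e : y * (c * y⁻¹ * c⁻¹) = y * c * y⁻¹ * c⁻¹ := by group
      rwa [e] at h2
    · have h1 : y * c * y⁻¹ ∈ C := (mem_normalizer_iff.1 (hLC (hYL hy)) _).1 hc
      exact C.mul_mem h1 (C.inv_mem hc)
  have hLA' : L ≤ normalizer ((⁅A, A⁆ : Subgroup G) : Set G) := by
    intro g hg
    have h1 := AmalgamChar.map_conj_eq_of_mem_normalizer (hAL.2 hg)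
    apply AmalgamChar.mem_normalizer_of_map_eq
    rw [Subgroup.map_commutator, h1]
  have hA'Frat : ⁅A, A⁆ ≤ (frattini A).map A.subtype := by
    rw [Subgroup.commutator_le]
    intro a ha b hb
    have h1 := H6PGroup.comm_mem_frattini hAp ⟨a, ha⟩ ⟨b, hb⟩
    exact ⟨_, h1, rfl⟩
  set Sg₁ := stabMod L A ⁅A, A⁆ hLA' with hSg₁
  set Sg₂ := stabMod L C R hLR with hSg₂
  have hLSg : L ≤ normalizer ((Sg₁ ⊓ Sg₂ : Subgroup G) : Set G) := by
    intro g hg
    apply inf_normalizer_le Sg₁ Sg₂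
    exact ⟨stabMod_normal hLA' hAL.2 hg, stabMod_normal hLR hLC hg⟩
  have hSgL : Sg₁ ⊓ Sg₂ ≤ L := fun x hx => hx.1.1
  have hYSg : Y ≤ Sg₁ ⊓ Sg₂ := by
    intro y hy
    refine ⟨⟨hYL hy, fun a ha => ?_⟩, ⟨hYL hy, fun c hc => hYC y hy c hc⟩⟩
    have h1 := hc (Subgroup.commutator_mem_commutator hy ha)
    exact (Subgroup.commutator_mono hIA le_rfl) h1
  obtain ⟨T, hTSg, hTp, hT⟩ := exists_normal_sylow (p := p) (Sg₁ ⊓ Sg₂) ((Sg₁ ⊓ Sg₂) ⊓ centralizer (A : Set G)) R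
    (by
      intro x hx
      apply inf_normalizer_le
      exact ⟨le_normalizer hx, normalizer_le_normalizer_centralizer' A (hAL.2 (hSgL hx))⟩)
    (hSgL.trans hLR) hRp
    (by
      intro x hx w hw
      have h1 := hx.2.2 w ⟨hSgL hw.1, hw.2⟩
      have h2 := R.inv_mem h1
      have e : (x * w * x⁻¹ * w⁻¹)⁻¹ = w * x * w⁻¹ * x⁻¹ := by group
      rwa [e] at h2)
    inf_le_left
    (by
      intro x hx hco
      refine ⟨hx, ?_⟩
      have hZ : zpowers x ≤ Sg₁ ⊓ Sg₂ := by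
        rw [Subgroup.zpowers_le]; exact hx
      have h2 := SchurZ2.le_centralizer_of_frattini (zpowers x) A
        (hZ.trans (hSgL.trans hAL.2)) ?_ ?_
      · exact h2 (mem_zpowers x)
      · rw [Nat.card_zpowers]
        have hf : IsPGroup p (frattini A) := IsPGroup.to_subgroup hAp _
        obtain ⟨k, hk⟩ := IsPGroup.iff_card.1 hf
        rw [hk]
        exact Nat.Coprime.pow_right _ hco
      · intro z hz k hk
        exact hA'Frat ((hZ hz).1.2 k hk))
  apply (hT Y hYSg hYp).trans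
  apply WCChar.le_core hTp (hTSg.trans hSgL)
  intro g hg
  have key : ∀ g ∈ L, ∀ t ∈ T, g * t * g⁻¹ ∈ T := by
    intro g hg t ht
    have h1 : T.map (MulAut.conj g).toMonoidHom ≤ T := by
      apply hT _ _ (hTp.map _)
      rintro _ ⟨t', ht', rfl⟩
      exact (mem_normalizer_iff.1 (hLSg hg) _).1 (hTSg ht')
    exact h1 ⟨t, ht, rfl⟩
  apply Commutators.mem_normalizer_of_conj_mem (key g hg)
  intro a ha
  have := key g⁻¹ (L.inv_mem hg) a ha
  simpa using this

end Cfsg.Agent.S2864
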