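import Cfsg.Statements.S2872
import Cfsg.Agent.Lib.Transfer2
import Cfsg.Agent.Lib.PReduced

set_option autoImplicit false
open Cfsg

namespace Cfsg.Agent.S2872

/-- Let S be a Sylow 2-subgroup of the finite group G. Then G has a proper normal subgroup of 2-power index (O²(G) ≠ G), or Ω₁(Z(S)) is contained in the Frattini subgroup of S, or N_G(S) acts nontrivially on Ω₁(Z(S)) by conjugation. -/
theorem result {G : Type*} [Group G] [Finite G] (S : Sylow 2 G) : Cfsg.pResidual 2 G ≠ ⊤ ∨ Cfsg.omegaOne 2 ((S : Subgroup G) ⊓ Subgroup.centralizer ((S : Subgroup G) : Set G)) ≤ (frattini ↥(S : Subgroup G)).map (S : Subgroup G).subtype ∨ ∃ g ∈ Subgroup.normalizer ((S : Subgroup G) : Set G), ∃ z ∈ Cfsg.omegaOne 2 ((S : Subgroup G) ⊓ Subgroup.centralizer ((S : Subgroup G) : Set G)), g * z * g⁻¹ ≠ z := by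
  classical
  by_contra hcon
  push_neg at hcon
  obtain ⟨hR, hΦ, hN⟩ := hcon
  -- a generator outside the Frattini subgroup
  have hex : ∃ z : G, z ∈ (S : Subgroup G) ∧ z ∈ Subgroup.centralizer ((S : Subgroup G) : Set G) ∧ z ^ 2 = 1 ∧
      z ∉ (frattini ↥(S : Subgroup G)).map (S : Subgroup G).subtype := by
    by_contra hall
    push_neg at hall
    apply hΦ
    rw [Cfsg.omegaOne, Subgroup.closure_le]
    rintro z ⟨⟨hz1, hz2⟩, hz3⟩
    exact hall z hz1 hz2 hz3
  obtain ⟨z, hzS, hzc, hz2, hzΦ⟩ := hex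
  have hzΩ : z ∈ Cfsg.omegaOne 2 ((S : Subgroup G) ⊓ Subgroup.centralizer ((S : Subgroup G) : Set G)) :=
    Subgroup.subset_closure ⟨⟨hzS, hzc⟩, hz2⟩
  set z' : ↥(S : Subgroup G) := ⟨z, hzS⟩ with hz'
  have hz'Φ : z' ∉ frattini ↥(S : Subgroup G) := fun h => hzΦ ⟨z', h, rfl⟩
  -- a maximal subgroup avoiding `z`
  obtain ⟨M, hM, hzM⟩ : ∃ M : Subgroup ↥(S : Subgroup G), IsCoatom M ∧ z' ∉ M := by
    by_contra hall
    push_neg at hall
    apply hz'Φ
    rw [frattini, Order.radical, Subgroup.mem_iInf]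
    intro M
    rw [Subgroup.mem_iInf]
    intro hM
    exact hall M hM
  haveI hnil : Group.IsNilpotent ↥(S : Subgroup G) := S.isPGroup'.isNilpotent
  have hMn : M.Normal := by
    have h : Group.IsNilpotent ↥(S : Subgroup G) ↔ ∀ H : Subgroup ↥(S : Subgroup G), IsCoatom H → H.Normal :=
      (Group.isNilpotent_of_finite_tfae (G := ↥(S : Subgroup G))).out 0 2
    exact h.mp hnil M hM
  have hz'2 : z' ^ 2 = 1 := Subtype.ext hz2
  have hsup : M ⊔ Subgroup.zpowers z' = ⊤ := by
    apply hM.2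
    refine lt_of_le_of_ne le_sup_left ?_
    intro h
    apply hzM
    rw [h]
    exact (le_sup_right : Subgroup.zpowers z' ≤ M ⊔ _) (Subgroup.mem_zpowers z')
  have hind : M.index = 2 := by
    rw [Subgroup.index_eq_two_iff_exists_notMem_and]
    refine ⟨z', hzM, fun b => ?_⟩
    by_cases hb : b ∈ M
    · right; exact hb
    left
    have hb' : b ∈ M ⊔ Subgroup.zpowers z' := by rw [hsup]; trivial
    rw [sup_comm] at hb'
    obtain ⟨m, hm, w, hw, rfl⟩ := Cfsg.Agent.Lib.PReduced.exists_mul_of_mem_sup' (by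
      rw [Subgroup.normalizer_eq_top_iff.mpr hMn]; exact le_top) hb'
    obtain ⟨k, rfl⟩ := hw
    rcases Int.even_or_odd' k with ⟨j, rfl | rfl⟩
    · exfalso
      apply hb
      have : z' ^ (2 * j) = 1 := by rw [zpow_mul]; simp [hz'2]
      show m * z' ^ (2 * j) ∈ M
      rw [this, mul_one]
      exact hm
    · have : z' ^ (2 * j + 1) * z' = 1 := by
        rw [← zpow_add_one, show 2 * j + 1 + 1 = 2 * (j + 1) by ring, zpow_mul]
        simp [hz'2]
      show m * z' ^ (2 * j + 1) * z' ∈ M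
      rw [mul_assoc, this, mul_one]
      exact hm
  -- the homomorphism to `±1`
  let ϕ : ↥(S : Subgroup G) →* ℤˣ := MonoidHom.mk' (fun y => if y ∈ M then 1 else -1) (fun a b => by
    haveI : M.Normal := hMn
    have := Subgroup.mul_mem_iff_of_index_two hind (a := a) (b := b)
    by_cases ha : a ∈ M <;> by_cases hb : b ∈ M <;> simp [ha, hb, this])
  have hϕ : ϕ z' = -1 := by
    show (if z' ∈ M then (1 : ℤˣ) else -1) = -1
    rw [if_neg hzM]
  have hodd : Odd (S : Subgroup G).index := by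
    rw [← Nat.not_even_iff_odd, even_iff_two_dvd]
    exact S.not_dvd_index
  have hne := Cfsg.Agent.Lib.Transfer2.transfer_ne_one (S : Subgroup G) S.isPGroup' hodd ϕ hzS hzc hz2 hϕ
    (fun g hg => hN g hg z hzΩ)
  exact Cfsg.Agent.Lib.Transfer2.pResidual_ne_top_of_hom _ hne hR

end Cfsg.Agent.S2872
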