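import Mathlib
import Cfsg.Prelude
import Cfsg.Agent.Lib.PCore
import Cfsg.Statements.S2873
-- import your own Cfsg.Agent.* helpers here

set_option autoImplicit false
open Cfsg

namespace Cfsg.Agent.S2873


open Cfsg

section Core

theorem card_map_mul {A B : Type*} [Group A] [Group B] [Finite A] (f : A →* B) (K : Subgroup A) :
    Nat.card (K.map f) * Nat.card ↥(K ⊓ f.ker) = Nat.card K := by
  let g : K →* B := f.comp K.subtype
  have h1 : g.range = K.map f := by
    rw [MonoidHom.range_comp, Subgroup.range_subtype]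
  have h2 : Nat.card g.ker = Nat.card ↥(K ⊓ f.ker) := by
    have h3 : g.ker = (K ⊓ f.ker).subgroupOf K := by
      ext x
      simp [g, Subgroup.mem_subgroupOf, MonoidHom.mem_ker]
    rw [h3]
    exact Nat.card_congr (Subgroup.subgroupOfEquivOfLe inf_le_left).toEquiv
  have h4 := Subgroup.card_mul_index g.ker
  rw [Subgroup.index_ker, h1, h2] at h4
  rw [mul_comm]
  exact h4

variable {G : Type*} [Group G] [Finite G]

/-- the elementary abelian base step -/
theorem base_step (N : Subgroup G) [hNn : N.Normal] (hN2 : ∀ z ∈ N, z * z = 1)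
    (hNc : ∀ u ∈ N, ∀ v ∈ N, u * v = v * u)
    (a y : G) (ha : a * a = 1) (hy : Odd (orderOf y)) (hay : a * y * a⁻¹ = y⁻¹)
    (hNy : ∀ z ∈ N, z * y = y * z → z = 1) :
    Nat.card ↥(N ⊓ Subgroup.centralizer ({a} : Set G)) ^ 2 = Nat.card N ∧
      ∀ n ∈ N, (a * n) * (a * n) = 1 → ∃ w ∈ N, a * n = w * a * w⁻¹ := by
  classical
  have hainv : a⁻¹ = a := inv_eq_of_mul_eq_one_left ha
  have hinv : ∀ z ∈ N, z⁻¹ = z := fun z hz => inv_eq_of_mul_eq_one_left (hN2 z hz)
  have hconj : ∀ g : G, ∀ z ∈ N, g * z * g⁻¹ ∈ N := fun g z hz => hNn.conj_mem z hz g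
  set C : Subgroup G := N ⊓ Subgroup.centralizer ({a} : Set G) with hC
  have hmemC : ∀ z : G, z ∈ C ↔ z ∈ N ∧ z * a = a * z := by
    intro z
    rw [hC, Subgroup.mem_inf, Subgroup.mem_centralizer_singleton_iff]
  -- b = y a y⁻¹ and the trivial intersection
  set b : G := y * a * y⁻¹ with hb
  have hab : a * b = (y⁻¹) * y⁻¹ := by
    have h1 : a * y * a = y⁻¹ := by
      have := hay
      rwa [hainv] at this
    calc a * b = (a * y * a) * y⁻¹ := by rw [hb]; group
      _ = y⁻¹ * y⁻¹ := by rw [h1]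
  -- the conjugate of C under y
  let Cb : Subgroup G := C.map (MulAut.conj y).toMonoidHom
  have hCb_card : Nat.card Cb = Nat.card C := Subgroup.card_map_of_injective (MulAut.conj y).injective
  have hCbN : Cb ≤ N := by
    rintro _ ⟨z, hz, rfl⟩
    exact hconj y z ((hmemC z).mp hz).1
  have hCbb : ∀ z ∈ Cb, z * b = b * z := by
    rintro _ ⟨z, hz, rfl⟩
    have h1 := ((hmemC z).mp hz).2
    show y * z * y⁻¹ * (y * a * y⁻¹) = y * a * y⁻¹ * (y * z * y⁻¹)
    calc y * z * y⁻¹ * (y * a * y⁻¹) = y * (z * a) * y⁻¹ := by group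
      _ = y * (a * z) * y⁻¹ := by rw [h1]
      _ = y * a * y⁻¹ * (y * z * y⁻¹) := by group
  have hinter : ∀ z, z ∈ C → z ∈ Cb → z = 1 := by
    intro z hz hz'
    have h1 := ((hmemC z).mp hz)
    have h2 := hCbb z hz'
    apply hNy z h1.1
    -- z commutes with y⁻¹ * y⁻¹
    have h3 : z * (y⁻¹ * y⁻¹) = (y⁻¹ * y⁻¹) * z := by
      rw [← hab]
      calc z * (a * b) = (z * a) * b := by group
        _ = (a * z) * b := by rw [h1.2]
        _ = a * (z * b) := by group
        _ = a * (b * z) := by rw [h2]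
        _ = (a * b) * z := by group
    have h4 : Commute z (y⁻¹ ^ 2) := by
      rw [pow_two]; exact h3
    obtain ⟨k, hk⟩ := hy
    -- y = (y⁻¹ ^ 2) ^ (some power)
    have h5 : y = (y⁻¹ ^ 2) ^ k := by
      have h6 : y ^ (2 * k + 1) = 1 := by
        rw [← hk]; exact pow_orderOf_eq_one y
      have h7 : y ^ (2 * k) * y = 1 := by rw [← pow_succ]; exact h6
      have h8 : y = (y ^ (2 * k))⁻¹ := eq_inv_of_mul_eq_one_right h7
      calc y = (y ^ (2 * k))⁻¹ := h8
        _ = (y⁻¹ ^ 2) ^ k := by rw [← pow_mul, inv_pow]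
    have h9 : Commute z y := by
      rw [h5]
      exact h4.pow_right k
    exact h9
  -- upper bound
  have hle : Nat.card C * Nat.card Cb ≤ Nat.card N := by
    let F : C × Cb → N := fun p => ⟨p.1.1 * p.2.1, N.mul_mem ((hmemC _).mp p.1.2).1 (hCbN p.2.2)⟩
    have hF : Function.Injective F := by
      rintro ⟨p1, p2⟩ ⟨q1, q2⟩ hpq
      have h1 : (p1 : G) * p2 = q1 * q2 := congrArg Subtype.val hpq
      have h2 : (q1 : G)⁻¹ * p1 = q2 * (p2 : G)⁻¹ := by
        calc (q1 : G)⁻¹ * p1 = (q1 : G)⁻¹ * ((p1 : G) * p2) * (p2 : G)⁻¹ := by group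
          _ = (q1 : G)⁻¹ * ((q1 : G) * q2) * (p2 : G)⁻¹ := by rw [h1]
          _ = q2 * (p2 : G)⁻¹ := by group
      have h3 : (q1 : G)⁻¹ * p1 = 1 := by
        apply hinter
        · exact C.mul_mem (C.inv_mem q1.2) p1.2
        · rw [h2]
          exact Cb.mul_mem q2.2 (Cb.inv_mem p2.2)
      have h4 : (p1 : G) = q1 := by
        have := congrArg (fun t => (q1 : G) * t) h3
        simpa using this
      have h5 : (p2 : G) = q2 := by
        rw [h4] at h1
        exact mul_left_cancel h1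
      exact Prod.ext (Subtype.ext h4) (Subtype.ext h5)
    have := Nat.card_le_card_of_injective F hF
    rwa [Nat.card_prod] at this
  rw [hCb_card] at hle
  -- the map v ↦ v * a v a⁻¹
  let f : N →* N := MonoidHom.mk' (fun v => ⟨v.1 * (a * v.1 * a⁻¹), N.mul_mem v.2 (hconj a v.1 v.2)⟩)
    (by
      intro u v
      apply Subtype.ext
      show (u.1 * v.1) * (a * (u.1 * v.1) * a⁻¹) = (u.1 * (a * u.1 * a⁻¹)) * (v.1 * (a * v.1 * a⁻¹))
      have h1 := hNc v.1 v.2 _ (hconj a u.1 u.2)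
      calc (u.1 * v.1) * (a * (u.1 * v.1) * a⁻¹) = u.1 * (v.1 * (a * u.1 * a⁻¹)) * (a * v.1 * a⁻¹) := by group
        _ = u.1 * ((a * u.1 * a⁻¹) * v.1) * (a * v.1 * a⁻¹) := by rw [h1]
        _ = (u.1 * (a * u.1 * a⁻¹)) * (v.1 * (a * v.1 * a⁻¹)) := by group)
  have hf : ∀ v : N, (f v : G) = v.1 * (a * v.1 * a⁻¹) := fun v => rfl
  have hker : f.ker = C.subgroupOf N := by
    ext v
    rw [MonoidHom.mem_ker, Subgroup.mem_subgroupOf, hmemC]
    constructor
    · intro h
      have h1 : (v.1) * (a * v.1 * a⁻¹) = 1 := by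
        rw [← hf, h]; rfl
      have h2 : a * v.1 * a⁻¹ = v.1 := by
        have := eq_inv_of_mul_eq_one_right h1
        rw [hinv v.1 v.2] at this
        exact this
      refine ⟨v.2, ?_⟩
      calc v.1 * a = (a * v.1 * a⁻¹) * a := by rw [h2]
        _ = a * v.1 := by group
    · rintro ⟨-, h⟩
      apply Subtype.ext
      show v.1 * (a * v.1 * a⁻¹) = 1
      rw [← h]
      simp [hN2 v.1 v.2]
  have hrange : f.range ≤ C.subgroupOf N := by
    rintro _ ⟨v, rfl⟩
    rw [Subgroup.mem_subgroupOf, hmemC]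
    refine ⟨(f v).2, ?_⟩
    rw [hf]
    have h1 := hNc v.1 v.2 _ (hconj a v.1 v.2)
    calc v.1 * (a * v.1 * a⁻¹) * a = (a * v.1 * a⁻¹) * v.1 * a := by rw [h1]
      _ = a * (v.1 * a⁻¹ * v.1 * a) := by group
      _ = a * (v.1 * (a * v.1 * a⁻¹)) := by
          rw [hainv]
          group
  have hCN : Nat.card (C.subgroupOf N) = Nat.card C :=
    Nat.card_congr (Subgroup.subgroupOfEquivOfLe (inf_le_left : C ≤ N)).toEquiv
  have hcard : Nat.card f.ker * Nat.card f.range = Nat.card N := by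
    have := Subgroup.card_mul_index f.ker
    rwa [Subgroup.index_ker] at this
  rw [hker, hCN] at hcard
  have hrc : Nat.card f.range ≤ Nat.card C := by
    rw [← hCN]
    exact Subgroup.card_le_of_le hrange
  have hCpos : 0 < Nat.card C := Nat.card_pos
  have hreq : Nat.card f.range = Nat.card C := by
    apply le_antisymm hrc
    rw [← hcard] at hle
    exact Nat.le_of_mul_le_mul_left hle hCpos
  have hrange_eq : f.range = C.subgroupOf N :=
    Subgroup.eq_of_le_of_card_ge hrange (by rw [hCN, hreq])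
  refine ⟨?_, ?_⟩
  · rw [← hcard, hreq, pow_two]
  · intro n hn hsq
    have h1 : n * a = a * n := by
      have h2 : a * n * a = n⁻¹ := by
        have := eq_inv_of_mul_eq_one_left (show (a * n * a) * n = 1 by
          rw [← hsq]; group)
        exact this
      rw [hinv n hn] at h2
      calc n * a = (a * n * a) * a := by rw [h2]
        _ = a * n * (a * a) := by group
        _ = a * n := by rw [ha]; group
    have hnC : (⟨n, hn⟩ : N) ∈ C.subgroupOf N := by
      rw [Subgroup.mem_subgroupOf, hmemC]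
      exact ⟨hn, h1⟩
    rw [← hrange_eq] at hnC
    obtain ⟨w, hw⟩ := hnC
    have hw' : w.1 * (a * w.1 * a⁻¹) = n := congrArg Subtype.val hw
    refine ⟨w.1, w.2, ?_⟩
    calc a * n = n * a := h1.symm
      _ = (w.1 * (a * w.1 * a⁻¹)) * a := by rw [hw']
      _ = w.1 * a * w.1 := by group
      _ = w.1 * a * w.1⁻¹ := by rw [hinv w.1 w.2]

/-- coprime lifting of fixed points -/
theorem lift_y (Q N : Subgroup G) [hNn : N.Normal] (hN2 : ∀ z ∈ N, z * z = 1)
    (hNc : ∀ u ∈ N, ∀ v ∈ N, u * v = v * u) (hNQ : N ≤ Q) (y : G)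
    (hQy : ∀ z ∈ Q, z * y = y * z → z = 1) {x : G} (hx : x ∈ Q)
    (hxy : y * x * y⁻¹ * x⁻¹ ∈ N) : x ∈ N := by
  classical
  have hconj : ∀ g : G, ∀ z ∈ N, g * z * g⁻¹ ∈ N := fun g z hz => hNn.conj_mem z hz g
  have hinv : ∀ z ∈ N, z⁻¹ = z := fun z hz => inv_eq_of_mul_eq_one_left (hN2 z hz)
  let τ : N → N := fun n => ⟨n.1 * (y * n.1 * y⁻¹), N.mul_mem n.2 (hconj y n.1 n.2)⟩
  have hτ : Function.Injective τ := by
    intro n m hnm
    have h1 : n.1 * (y * n.1 * y⁻¹) = m.1 * (y * m.1 * y⁻¹) := congrArg Subtype.val hnm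
    set z : G := n.1 * m.1⁻¹ with hz
    have hzN : z ∈ N := N.mul_mem n.2 (N.inv_mem m.2)
    have h2 : y * z * y⁻¹ = z := by
      have h3 : y * z * y⁻¹ = (y * n.1 * y⁻¹) * (y * m.1 * y⁻¹)⁻¹ := by
        rw [hz]; group
      have h4 : (m.1)⁻¹ * n.1 = (y * m.1 * y⁻¹) * (y * n.1 * y⁻¹)⁻¹ := by
        calc (m.1)⁻¹ * n.1 = (m.1)⁻¹ * (n.1 * (y * n.1 * y⁻¹)) * (y * n.1 * y⁻¹)⁻¹ := by group
          _ = (m.1)⁻¹ * (m.1 * (y * m.1 * y⁻¹)) * (y * n.1 * y⁻¹)⁻¹ := by rw [h1]
          _ = (y * m.1 * y⁻¹) * (y * n.1 * y⁻¹)⁻¹ := by group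
      have h5 : z = (y * m.1 * y⁻¹) * (y * n.1 * y⁻¹)⁻¹ := by
        rw [← h4, hz]
        exact hNc _ n.2 _ (N.inv_mem m.2)
      have h6 : (y * m.1 * y⁻¹) * (y * n.1 * y⁻¹)⁻¹ ∈ N := by
        rw [← h5]; exact hzN
      rw [h3, h5, ← hinv _ h6]
      group
    have h7 : z * y = y * z := by
      calc z * y = (y * z * y⁻¹) * y := by rw [h2]
        _ = y * z := by group
    have h8 := hQy z (hNQ hzN) h7
    apply Subtype.ext
    rw [hz] at h8
    exact mul_inv_eq_one.mp h8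
  have hτs : Function.Surjective τ := Finite.injective_iff_surjective.mp hτ
  have hc : x⁻¹ * (y * x * y⁻¹) ∈ N := by
    have := hconj x⁻¹ _ hxy
    have h2 : x⁻¹ * (y * x * y⁻¹ * x⁻¹) * x⁻¹⁻¹ = x⁻¹ * (y * x * y⁻¹) := by group
    rwa [h2] at this
  obtain ⟨n, hn⟩ := hτs ⟨_, hc⟩
  have hn' : n.1 * (y * n.1 * y⁻¹) = x⁻¹ * (y * x * y⁻¹) := congrArg Subtype.val hn
  set z : G := x * n.1 with hz
  have hzy : z * y = y * z := by
    have h1 : y * x * y⁻¹ = x * (n.1 * (y * n.1 * y⁻¹)) := by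
      rw [hn']; group
    have h2 : (y * n.1 * y⁻¹) * (y * n.1 * y⁻¹) = 1 := hN2 _ (hconj y n.1 n.2)
    have h3 : y * z * y⁻¹ = z := by
      calc y * z * y⁻¹ = (y * x * y⁻¹) * (y * n.1 * y⁻¹) := by rw [hz]; group
        _ = x * (n.1 * (y * n.1 * y⁻¹)) * (y * n.1 * y⁻¹) := by rw [h1]
        _ = x * n.1 * ((y * n.1 * y⁻¹) * (y * n.1 * y⁻¹)) := by group
        _ = z := by rw [h2, mul_one]
    calc z * y = (y * z * y⁻¹) * y := by rw [h3]
      _ = y * z := by group
  have h1 := hQy z (Q.mul_mem hx (hNQ n.2)) hzy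
  have h2 : x = (n.1)⁻¹ := eq_inv_of_mul_eq_one_left h1
  rw [h2]
  exact N.inv_mem n.2

theorem exists_N (Q : Subgroup G) [hQn : Q.Normal] (hQ : IsPGroup 2 Q) (hQ1 : Q ≠ ⊥) :
    ∃ N : Subgroup G, N.Normal ∧ N ≤ Q ∧ N ≠ ⊥ ∧ (∀ z ∈ N, z * z = 1) ∧ (∀ u ∈ N, ∀ v ∈ N, u * v = v * u) := by
  classical
  haveI : Fact (Nat.Prime 2) := ⟨Nat.prime_two⟩
  let N : Subgroup G :=
    { carrier := {z | z ∈ Q ∧ (∀ w ∈ Q, z * w = w * z) ∧ z * z = 1}
      one_mem' := ⟨Q.one_mem, by simp, by simp⟩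
      mul_mem' := by
        rintro u v ⟨hu, hu2, hu3⟩ ⟨hv, hv2, hv3⟩
        refine ⟨Q.mul_mem hu hv, ?_, ?_⟩
        · intro w hw
          calc u * v * w = u * (v * w) := by group
            _ = u * (w * v) := by rw [hv2 w hw]
            _ = (u * w) * v := by group
            _ = (w * u) * v := by rw [hu2 w hw]
            _ = w * (u * v) := by group
        · calc u * v * (u * v) = u * (v * u) * v := by group
            _ = u * (u * v) * v := by rw [hu2 v hv]
            _ = (u * u) * (v * v) := by group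
            _ = 1 := by rw [hu3, hv3, one_mul]
      inv_mem' := by
        rintro u ⟨hu, hu2, hu3⟩
        have : u⁻¹ = u := inv_eq_of_mul_eq_one_left hu3
        rw [this]
        exact ⟨hu, hu2, hu3⟩ }
  have hN1 : N.Normal := by
    constructor
    rintro z ⟨hz, hz2, hz3⟩ g
    refine ⟨hQn.conj_mem z hz g, ?_, ?_⟩
    · intro w hw
      have h1 := hz2 (g⁻¹ * w * g) (by
        have := hQn.conj_mem w hw g⁻¹
        simpa using this)
      calc g * z * g⁻¹ * w = g * (z * (g⁻¹ * w * g)) * g⁻¹ := by group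
        _ = g * ((g⁻¹ * w * g) * z) * g⁻¹ := by rw [h1]
        _ = w * (g * z * g⁻¹) := by group
    · calc g * z * g⁻¹ * (g * z * g⁻¹) = g * (z * z) * g⁻¹ := by group
        _ = 1 := by rw [hz3]; group
  refine ⟨N, hN1, fun z hz => hz.1, ?_, fun z hz => hz.2.2, fun u hu v hv => hu.2.1 v hv.1⟩
  intro hbot
  haveI : Nontrivial Q := (Subgroup.nontrivial_iff_ne_bot Q).mpr hQ1
  haveI := hQ.center_nontrivial
  have hZp : IsPGroup 2 (Subgroup.center Q) := hQ.to_subgroup _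
  obtain ⟨n, hn0, hn⟩ := hZp.nontrivial_iff_card.mp inferInstance
  have hd : 2 ∣ Nat.card (Subgroup.center Q) := by
    rw [hn]; exact dvd_pow_self 2 hn0.ne'
  obtain ⟨t, ht⟩ := exists_prime_orderOf_dvd_card' 2 hd
  have ht1 : ((t : Q) : G) ∈ N := by
    refine ⟨(t : Q).2, ?_, ?_⟩
    · intro w hw
      have := (Subgroup.mem_center_iff.mp t.2) ⟨w, hw⟩
      exact (congrArg Subtype.val this).symm
    · have h2 : t ^ 2 = 1 := by rw [← ht]; exact pow_orderOf_eq_one t
      have h3 := congrArg (fun s : Subgroup.center Q => ((s : Q) : G)) h2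
      simpa [pow_two] using h3
  rw [hbot] at ht1
  have h4 : ((t : Q) : G) = 1 := by simpa using ht1
  have h5 : t = 1 := Subtype.ext (Subtype.ext h4)
  rw [h5, orderOf_one] at ht
  omega

theorem core_ind.{u} : ∀ (n : ℕ) (G : Type u) [Group G] [Finite G] (Q : Subgroup G) [Q.Normal]
    (_ : IsPGroup 2 Q) (a y : G) (_ : a * a = 1) (_ : Odd (orderOf y)) (_ : a * y * a⁻¹ = y⁻¹)
    (_ : ∀ z ∈ Q, z * y = y * z → z = 1), Nat.card Q = n →
    Nat.card ↥(Q ⊓ Subgroup.centralizer ({a} : Set G)) ^ 2 = Nat.card Q ∧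
      ∀ x ∈ Q, (a * x) * (a * x) = 1 → ∃ u ∈ Q, a * x = u * a * u⁻¹ := by
  intro n
  induction n using Nat.strong_induction_on with
  | _ n ih =>
  intro G _ _ Q hQn hQ a y ha hy hay hQy hn
  by_cases hQ1 : Q = ⊥
  · subst hQ1
    refine ⟨?_, ?_⟩
    · simp
    · intro x hx _
      refine ⟨1, one_mem _, ?_⟩
      have : x = 1 := by simpa using hx
      simp [this]
  obtain ⟨N, hNn, hNQ, hN1, hN2, hNc⟩ := exists_N Q hQ hQ1
  haveI := hNn
  obtain ⟨hI, hII⟩ := base_step N hN2 hNc a y ha hy hay (fun z hz => hQy z (hNQ hz))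
  let π : G →* G ⧸ N := QuotientGroup.mk' N
  have hπ : Function.Surjective π := QuotientGroup.mk'_surjective N
  have hker : π.ker = N := QuotientGroup.ker_mk' N
  have hπ1 : ∀ z, π z = 1 ↔ z ∈ N := fun z => by
    rw [← MonoidHom.mem_ker, hker]
  let Qb : Subgroup (G ⧸ N) := Q.map π
  haveI hQbn : Qb.Normal := hQn.map π hπ
  have hQbp : IsPGroup 2 Qb := hQ.map π
  have hcard : Nat.card Qb * Nat.card N = Nat.card Q := by
    have := card_map_mul π Q
    rwa [hker, inf_eq_right.mpr hNQ] at this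
  have hNcard : 1 < Nat.card N := by
    haveI : Nontrivial N := (Subgroup.nontrivial_iff_ne_bot N).mpr hN1
    exact Finite.one_lt_card
  have hQbpos : 0 < Nat.card Qb := Nat.card_pos
  have hlt : Nat.card Qb < n := by
    rw [← hn, ← hcard]
    exact lt_mul_of_one_lt_right hQbpos hNcard
  have ha' : π a * π a = 1 := by rw [← map_mul, ha, map_one]
  have hy' : Odd (orderOf (π y)) := Odd.of_dvd_nat hy (orderOf_map_dvd π y)
  have hay' : π a * π y * (π a)⁻¹ = (π y)⁻¹ := by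
    rw [← map_inv, ← map_inv, ← map_mul, ← map_mul, hay]
  have hQy' : ∀ z ∈ Qb, z * π y = π y * z → z = 1 := by
    rintro _ ⟨x, hx, rfl⟩ hc
    have hxy : y * x * y⁻¹ * x⁻¹ ∈ N := by
      rw [← hπ1]
      simp only [map_mul, map_inv]
      rw [← hc]
      group
    have := lift_y Q N hN2 hNc hNQ y hQy hx hxy
    exact (hπ1 x).mpr this
  obtain ⟨hIb, hIIb⟩ := ih _ hlt (G ⧸ N) Qb hQbp (π a) (π y) ha' hy' hay' hQy' rfl
  refine ⟨?_, ?_⟩
  · -- the count
    set K : Subgroup G := Q ⊓ Subgroup.centralizer ({a} : Set G) with hK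
    have hmap : K.map π = Qb ⊓ Subgroup.centralizer ({π a} : Set (G ⧸ N)) := by
      ext zb
      constructor
      · rintro ⟨x, ⟨hxQ, hxC⟩, rfl⟩
        refine ⟨⟨x, hxQ, rfl⟩, ?_⟩
        have hxC' : x ∈ Subgroup.centralizer ({a} : Set G) := hxC
        rw [Subgroup.mem_centralizer_singleton_iff] at hxC'
        show π x ∈ Subgroup.centralizer ({π a} : Set (G ⧸ N))
        rw [Subgroup.mem_centralizer_singleton_iff, ← map_mul, hxC', map_mul]
      · rintro ⟨⟨x, hx, rfl⟩, hc'⟩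
        have hc : π x ∈ Subgroup.centralizer ({π a} : Set (G ⧸ N)) := hc'
        rw [Subgroup.mem_centralizer_singleton_iff] at hc
        set n₀ : G := a⁻¹ * (x * a * x⁻¹) with hn₀
        have hn₀N : n₀ ∈ N := by
          rw [← hπ1, hn₀]
          simp only [map_mul, map_inv]
          rw [hc]
          group
        have hsq : (a * n₀) * (a * n₀) = 1 := by
          have : a * n₀ = x * a * x⁻¹ := by rw [hn₀]; group
          rw [this]
          calc x * a * x⁻¹ * (x * a * x⁻¹) = x * (a * a) * x⁻¹ := by group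
            _ = 1 := by rw [ha]; group
        obtain ⟨w, hw, hw'⟩ := hII n₀ hn₀N hsq
        have hxa : x * a * x⁻¹ = w * a * w⁻¹ := by
          rw [← hw', hn₀]; group
        refine ⟨w⁻¹ * x, ⟨Q.mul_mem (Q.inv_mem (hNQ hw)) hx, ?_⟩, ?_⟩
        · show w⁻¹ * x ∈ Subgroup.centralizer ({a} : Set G)
          rw [Subgroup.mem_centralizer_singleton_iff]
          calc w⁻¹ * x * a = w⁻¹ * (x * a * x⁻¹) * x := by group
            _ = w⁻¹ * (w * a * w⁻¹) * x := by rw [hxa]
            _ = a * (w⁻¹ * x) := by group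
        · simp only [map_mul, map_inv]
          rw [(hπ1 w).mpr hw]
          simp
    have hKc := card_map_mul π K
    have hinf : K ⊓ π.ker = N ⊓ Subgroup.centralizer ({a} : Set G) := by
      rw [hker, hK]
      ext z
      simp only [Subgroup.mem_inf]
      constructor
      · rintro ⟨⟨-, h2⟩, h3⟩
        exact ⟨h3, h2⟩
      · rintro ⟨h3, h2⟩
        exact ⟨⟨hNQ h3, h2⟩, h3⟩
    rw [hinf, hmap] at hKc
    rw [← hKc, mul_pow, hIb, hI, hcard]
  · intro x hx hsq
    have h1 : (π a * π x) * (π a * π x) = 1 := by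
      rw [← map_mul, ← map_mul, hsq, map_one]
    obtain ⟨ub, ⟨u, hu, rfl⟩, hub⟩ := hIIb (π x) ⟨x, hx, rfl⟩ h1
    set n₀ : G := a⁻¹ * (u⁻¹ * (a * x) * u) with hn₀
    have hn₀N : n₀ ∈ N := by
      rw [← hπ1, hn₀]
      simp only [map_mul, map_inv]
      rw [hub]
      group
    have han : a * n₀ = u⁻¹ * (a * x) * u := by rw [hn₀]; group
    have hsq' : (a * n₀) * (a * n₀) = 1 := by
      rw [han]
      calc u⁻¹ * (a * x) * u * (u⁻¹ * (a * x) * u) = u⁻¹ * ((a * x) * (a * x)) * u := by group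
        _ = 1 := by rw [hsq]; group
    obtain ⟨w, hw, hw'⟩ := hII n₀ hn₀N hsq'
    refine ⟨u * w, Q.mul_mem hu (hNQ hw), ?_⟩
    calc a * x = u * (u⁻¹ * (a * x) * u) * u⁻¹ := by group
      _ = u * (w * a * w⁻¹) * u⁻¹ := by rw [← han, hw']
      _ = u * w * a * (u * w)⁻¹ := by group

end Core


/-- Let G be a finite group and r an odd prime such that G ⧸ O₂(G) is dihedral of order 2r, and let R be a Sylow r-subgroup of G with C_{O₂(G)}(R) = 1. Then N_G(R) is dihedral of order 2r; for any involution a of N_G(R), every involution of G outside O₂(G) is conjugate to a; and |C_{O₂(G)}(a)|² = |O₂(G)|. -/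
theorem result {G : Type*} [Group G] [Finite G] {r : ℕ} [Fact r.Prime] (hr : r ≠ 2) [hN : (Cfsg.pCore 2 G).Normal] (hquot : Nonempty (G ⧸ Cfsg.pCore 2 G ≃* DihedralGroup r)) (R : Sylow r G) (hC : Cfsg.pCore 2 G ⊓ Subgroup.centralizer ((R : Subgroup G) : Set G) = ⊥) : Nonempty (↥(Subgroup.normalizer ((R : Subgroup G) : Set G)) ≃* DihedralGroup r) ∧ ∀ a : G, a ∈ Subgroup.normalizer ((R : Subgroup G) : Set G) → orderOf a = 2 → (∀ b : G, orderOf b = 2 → b ∉ Cfsg.pCore 2 G → ∃ g : G, g * a * g⁻¹ = b) ∧ Nat.card ↥(Cfsg.pCore 2 G ⊓ Subgroup.centralizer ({a} : Set G)) ^ 2 = Nat.card ↥(Cfsg.pCore 2 G) := by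
  classical
  haveI : Fact (Nat.Prime 2) := ⟨Nat.prime_two⟩
  have hrp : r.Prime := Fact.out
  set Q := Cfsg.pCore 2 G with hQdef
  have hQp : IsPGroup 2 Q := Cfsg.Agent.Lib.PCore.isPGroup_pCore 2 G
  obtain ⟨e⟩ := hquot
  haveI : NeZero r := ⟨hrp.ne_zero⟩
  let φ : G →* DihedralGroup r := e.toMonoidHom.comp (QuotientGroup.mk' Q)
  have hφs : Function.Surjective φ := e.surjective.comp (QuotientGroup.mk'_surjective Q)
  have hφk : ∀ x, φ x = 1 ↔ x ∈ Q := by
    intro x
    show e (x : G ⧸ Q) = 1 ↔ _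
    rw [EmbeddingLike.map_eq_one_iff, QuotientGroup.eq_one_iff]
  have hker : φ.ker = Q := by
    ext x
    rw [MonoidHom.mem_ker, hφk]
  have hRp : IsPGroup r (R : Subgroup G) := R.isPGroup'
  have hdisj : Disjoint Q (R : Subgroup G) :=
    IsPGroup.disjoint_of_ne 2 r (Ne.symm hr) Q _ hQp hRp
  have hRQ : ∀ x, x ∈ Q → x ∈ (R : Subgroup G) → x = 1 := fun x h1 h2 =>
    Subgroup.disjoint_def.mp hdisj h1 h2
  -- dihedral facts
  have hrot : ∀ d : DihedralGroup r, ∀ k : ℕ, d ^ (r ^ k) = 1 → ∃ i, d = DihedralGroup.r i := by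
    intro d k hd
    rcases d with i | i
    · exact ⟨i, rfl⟩
    · exfalso
      have h1 := orderOf_dvd_of_pow_eq_one hd
      rw [DihedralGroup.orderOf_sr] at h1
      have h2 := Nat.Prime.dvd_of_dvd_pow Nat.prime_two h1
      exact hr ((Nat.prime_dvd_prime_iff_eq Nat.prime_two hrp).mp h2).symm
  have hinv2 : ∀ d : DihedralGroup r, orderOf d = 2 → ∃ i, d = DihedralGroup.sr i := by
    intro d hd
    rcases d with i | i
    · exfalso
      rw [DihedralGroup.orderOf_r] at hd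
      have h1 : (r / Nat.gcd r i.val) ∣ r := Nat.div_dvd_of_dvd (Nat.gcd_dvd_left _ _)
      rw [hd] at h1
      exact hr ((Nat.prime_dvd_prime_iff_eq Nat.prime_two hrp).mp h1).symm
    · exact ⟨i, rfl⟩
  let Rot : Subgroup (DihedralGroup r) := Subgroup.zpowers (DihedralGroup.r 1)
  have hRotmem : ∀ i : ZMod r, DihedralGroup.r i ∈ Rot := by
    intro i
    refine ⟨(i.val : ℤ), ?_⟩
    show DihedralGroup.r (1 : ZMod r) ^ (i.val : ℤ) = _
    rw [zpow_natCast, DihedralGroup.r_one_pow, ZMod.natCast_zmod_val]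
  have hRotcard : Nat.card Rot = r := by
    show Nat.card (Subgroup.zpowers _) = r
    rw [Nat.card_zpowers, DihedralGroup.orderOf_r_one]
  have hRotn : Rot.Normal := by
    constructor
    intro n hn g
    obtain ⟨k, rfl⟩ := Subgroup.mem_zpowers_iff.mp hn
    rw [DihedralGroup.r_one_zpow]
    rcases g with j | j
    · simp only [DihedralGroup.inv_r, DihedralGroup.r_mul_r]
      exact hRotmem _
    · simp only [DihedralGroup.inv_sr, DihedralGroup.sr_mul_r, DihedralGroup.sr_mul_sr]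
      exact hRotmem _
  have hRotall : ∀ d ∈ Rot, ∃ i, d = DihedralGroup.r i := by
    intro d hd
    obtain ⟨k, rfl⟩ := Subgroup.mem_zpowers_iff.mp hd
    exact ⟨_, DihedralGroup.r_one_zpow k⟩
  -- order of R
  have hcardG : Nat.card G = 2 * r * Nat.card Q := by
    rw [Subgroup.card_eq_card_quotient_mul_card_subgroup Q, Nat.card_congr e.toEquiv, DihedralGroup.nat_card]
  have hrdvd : r ∣ Nat.card (R : Subgroup G) := by
    have h1 : r ^ 1 ∣ Nat.card G := by
      rw [pow_one, hcardG]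
      exact Dvd.dvd.mul_right (Dvd.intro_left 2 rfl) _
    have := R.pow_dvd_card_of_pow_dvd_card h1
    simpa using this
  have hRle : (R : Subgroup G).map φ ≤ Rot := by
    rintro _ ⟨x, hx, rfl⟩
    obtain ⟨k, hk⟩ := hRp ⟨x, hx⟩
    have h1 : x ^ (r ^ k) = 1 := by simpa using congrArg Subtype.val hk
    have h2 : φ x ^ (r ^ k) = 1 := by rw [← map_pow, h1, map_one]
    obtain ⟨i, hi⟩ := hrot _ k h2
    rw [hi]
    exact hRotmem i
  have hRinf : (R : Subgroup G) ⊓ φ.ker = ⊥ := by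
    rw [hker, inf_comm]
    exact hdisj.eq_bot
  have hcardmap : Nat.card ((R : Subgroup G).map φ) = Nat.card (R : Subgroup G) := by
    have := card_map_mul φ (R : Subgroup G)
    rw [hRinf] at this
    simpa using this
  have hRcard : Nat.card (R : Subgroup G) = r := by
    have h1 : Nat.card ((R : Subgroup G).map φ) ∣ Nat.card Rot := Subgroup.card_dvd_of_le hRle
    rw [hcardmap, hRotcard] at h1
    exact Nat.dvd_antisymm h1 hrdvd
  have hRmap : (R : Subgroup G).map φ = Rot :=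
    Subgroup.eq_of_le_of_card_ge hRle (by rw [hcardmap, hRotcard, hRcard])
  -- Frattini
  let G₀ : Subgroup G := Rot.comap φ
  haveI hG₀n : G₀.Normal := hRotn.comap φ
  have hRG₀ : (R : Subgroup G) ≤ G₀ := by
    intro x hx
    exact hRle ⟨x, hx, rfl⟩
  have hfr : Subgroup.normalizer ((R : Subgroup G) : Set G) ⊔ G₀ = ⊤ :=
    Sylow.normalizer_sup_eq_top' R hRG₀
  have hRN : (R : Subgroup G) ≤ Subgroup.normalizer ((R : Subgroup G) : Set G) := Subgroup.le_normalizer
  have hsurj : ∀ d, ∃ g ∈ Subgroup.normalizer ((R : Subgroup G) : Set G), φ g = d := by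
    intro d
    obtain ⟨g₀, rfl⟩ := hφs d
    have hg : g₀ ∈ Subgroup.normalizer ((R : Subgroup G) : Set G) ⊔ G₀ := by
      rw [hfr]; trivial
    obtain ⟨n, hn, g₁, hg₁, rfl⟩ := Subgroup.mem_sup_of_normal_right.mp hg
    have h1 : φ g₁ ∈ Rot := hg₁
    rw [← hRmap] at h1
    obtain ⟨x, hx, hxg⟩ := h1
    refine ⟨n * x, Subgroup.mul_mem _ hn (hRN hx), ?_⟩
    rw [map_mul, map_mul, hxg]
  have hinj : ∀ g ∈ Subgroup.normalizer ((R : Subgroup G) : Set G), φ g = 1 → g = 1 := by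
    intro g hg hφg
    have hgQ : g ∈ Q := (hφk g).mp hφg
    have h1 : g ∈ Q ⊓ Subgroup.centralizer ((R : Subgroup G) : Set G) := by
      refine Subgroup.mem_inf.mpr ⟨hgQ, ?_⟩
      rw [Subgroup.mem_centralizer_iff]
      intro x hx
      have h2 : g * x * g⁻¹ * x⁻¹ ∈ (R : Subgroup G) :=
        Subgroup.mul_mem _ ((Subgroup.mem_normalizer_iff.mp hg x).mp hx) (Subgroup.inv_mem _ hx)
      have h3 : g * x * g⁻¹ * x⁻¹ ∈ Q := by
        have h4 : x * g⁻¹ * x⁻¹ ∈ Q := hN.conj_mem _ (Q.inv_mem hgQ) x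
        have h5 : g * (x * g⁻¹ * x⁻¹) ∈ Q := Q.mul_mem hgQ h4
        have h6 : g * (x * g⁻¹ * x⁻¹) = g * x * g⁻¹ * x⁻¹ := by group
        rwa [h6] at h5
      have h7 := hRQ _ h3 h2
      have h8 : g * x * g⁻¹ = x := by
        have := eq_of_mul_inv_eq_one h7
        exact this
      calc x * g = (g * x * g⁻¹) * g := by rw [h8]
        _ = g * x := by group
    rw [hC] at h1
    simpa using h1
  refine ⟨?_, ?_⟩
  · let ψ : ↥(Subgroup.normalizer ((R : Subgroup G) : Set G)) →* DihedralGroup r :=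
      φ.comp (Subgroup.normalizer ((R : Subgroup G) : Set G)).subtype
    refine ⟨MulEquiv.ofBijective ψ ⟨?_, ?_⟩⟩
    · rw [injective_iff_map_eq_one]
      intro g hg
      exact Subtype.ext (hinj g.1 g.2 hg)
    · intro d
      obtain ⟨g, hg, hgd⟩ := hsurj d
      exact ⟨⟨g, hg⟩, hgd⟩
  intro a haN hao
  have haa : a * a = 1 := by
    rw [← pow_two, ← hao]; exact pow_orderOf_eq_one a
  -- a generator of R
  have hRne : ∃ y ∈ (R : Subgroup G), y ≠ 1 := by
    by_contra hno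
    push Not at hno
    have hbot : (R : Subgroup G) = ⊥ := by
      rw [eq_bot_iff]
      intro x hx
      simpa using hno x hx
    rw [hbot] at hRcard
    simp at hRcard
    exact hrp.one_lt.ne hRcard
  obtain ⟨y, hyR, hy1⟩ := hRne
  have hyo : orderOf y = r := by
    have h1 : orderOf y ∣ Nat.card (R : Subgroup G) := Subgroup.orderOf_dvd_natCard _ hyR
    rw [hRcard] at h1
    rcases (Nat.dvd_prime hrp).mp h1 with h | h
    · exact absurd (orderOf_eq_one_iff.mp h) hy1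
    · exact h
  have hzp : Subgroup.zpowers y = (R : Subgroup G) :=
    Subgroup.eq_of_le_of_card_ge (by rwa [Subgroup.zpowers_le]) (by rw [Nat.card_zpowers, hyo, hRcard])
  have hQy : ∀ z ∈ Q, z * y = y * z → z = 1 := by
    intro z hz hzy
    have h1 : z ∈ Q ⊓ Subgroup.centralizer ((R : Subgroup G) : Set G) := by
      refine Subgroup.mem_inf.mpr ⟨hz, ?_⟩
      rw [Subgroup.mem_centralizer_iff]
      intro x hx
      rw [SetLike.mem_coe, ← hzp] at hx
      obtain ⟨k, rfl⟩ := Subgroup.mem_zpowers_iff.mp hx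
      have h2 : Commute z y := hzy
      exact (h2.zpow_right k).symm
    rw [hC] at h1
    simpa using h1
  have hφa1 : φ a ≠ 1 := by
    intro h
    have := hinj a haN h
    rw [this, orderOf_one] at hao
    omega
  have hφa : orderOf (φ a) = 2 := by
    apply orderOf_eq_prime _ hφa1
    rw [pow_two, ← map_mul, haa, map_one]
  obtain ⟨i, hi⟩ := hinv2 _ hφa
  have hay : a * y * a⁻¹ = y⁻¹ := by
    have h1 : φ y ^ (r ^ 1) = 1 := by
      have h0 : y ^ r = 1 := by
        have := pow_orderOf_eq_one y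
        rwa [hyo] at this
      rw [pow_one, ← map_pow, h0, map_one]
    obtain ⟨j, hj⟩ := hrot _ 1 h1
    have h2 : a * y * a⁻¹ * y ∈ (R : Subgroup G) :=
      Subgroup.mul_mem _ ((Subgroup.mem_normalizer_iff.mp haN y).mp hyR) hyR
    have h3 : φ (a * y * a⁻¹ * y) = 1 := by
      simp only [map_mul, map_inv, hi, hj, DihedralGroup.inv_sr, DihedralGroup.sr_mul_r,
        DihedralGroup.sr_mul_sr, DihedralGroup.r_mul_r]
      rw [← DihedralGroup.r_zero]
      congr 1
      ring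
    have h4 := hRQ _ ((hφk _).mp h3) h2
    exact eq_inv_of_mul_eq_one_left h4
  have hodd : Odd (orderOf y) := by
    rw [hyo]
    exact hrp.odd_of_ne_two hr
  obtain ⟨hI, hII⟩ := core_ind _ G Q hQp a y haa hodd hay hQy rfl
  refine ⟨?_, hI⟩
  intro b hbo hbQ
  have hφb1 : φ b ≠ 1 := fun h => hbQ ((hφk b).mp h)
  have hbb : b * b = 1 := by
    rw [← pow_two, ← hbo]; exact pow_orderOf_eq_one b
  have hφb : orderOf (φ b) = 2 := by
    apply orderOf_eq_prime _ hφb1
    rw [pow_two, ← map_mul, hbb, map_one]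
  obtain ⟨i', hi'⟩ := hinv2 _ hφb
  have h2ne : (2 : ZMod r) ≠ 0 := by
    intro h
    have h1 : ((2 : ℕ) : ZMod r) = 0 := by exact_mod_cast h
    rw [ZMod.natCast_eq_zero_iff] at h1
    exact hr ((Nat.prime_dvd_prime_iff_eq hrp Nat.prime_two).mp h1)
  obtain ⟨g₁, hg₁⟩ := hφs (DihedralGroup.r ((i' - i) * 2⁻¹))
  have hconj : φ (g₁ * b * g₁⁻¹) = φ a := by
    simp only [map_mul, map_inv, hg₁, hi', hi, DihedralGroup.inv_r, DihedralGroup.r_mul_sr, DihedralGroup.sr_mul_r]
    congr 1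
    field_simp
    ring
  set x : G := a⁻¹ * (g₁ * b * g₁⁻¹) with hx
  have hxQ : x ∈ Q := by
    rw [← hφk, hx, map_mul, map_inv, hconj]
    simp
  have hax : a * x = g₁ * b * g₁⁻¹ := by rw [hx]; group
  have hsq : (a * x) * (a * x) = 1 := by
    rw [hax]
    calc g₁ * b * g₁⁻¹ * (g₁ * b * g₁⁻¹) = g₁ * (b * b) * g₁⁻¹ := by group
      _ = 1 := by rw [hbb]; group
  obtain ⟨u, hu, huu⟩ := hII x hxQ hsq
  refine ⟨g₁⁻¹ * u, ?_⟩
  calc g₁⁻¹ * u * a * (g₁⁻¹ * u)⁻¹ = g₁⁻¹ * (u * a * u⁻¹) * g₁ := by group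
    _ = g₁⁻¹ * (g₁ * b * g₁⁻¹) * g₁ := by rw [← huu, hax]
    _ = b := by group

end Cfsg.Agent.S2873
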