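import Cfsg.Statements.S2874
import Mathlib

set_option autoImplicit false
set_option linter.style.haveILetI false
open scoped MatrixGroups
open Cfsg

namespace Cfsg.Agent.S2874

section a4

set_option maxRecDepth 100000

/-- The alternating group of degree four. -/
abbrev A4 := alternatingGroup (Fin 4)

/-- An element of order three. -/
def a0 : A4 := ⟨c[0,1,2], Equiv.Perm.mem_alternatingGroup.2 (by decide)⟩

/-- An involution. -/
def b0 : A4 := ⟨Equiv.swap 0 1 * Equiv.swap 2 3, Equiv.Perm.mem_alternatingGroup.2 (by decide)⟩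

theorem a0_pow : a0 ^ 3 = 1 := by decide
theorem a0_ne : a0 ≠ 1 := by decide
theorem b0_sq : b0 * b0 = 1 := by decide
theorem b0_ne : b0 ≠ 1 := by decide
theorem comm0 : b0 * (a0 * b0 * a0⁻¹) = (a0 * b0 * a0⁻¹) * b0 := by decide
theorem prod0 : b0 * (a0 * b0 * a0⁻¹) * (a0 * (a0 * b0 * a0⁻¹) * a0⁻¹) = 1 := by decide
theorem gen0 : ∀ g : A4, ∃ i j l : Fin 3, g = a0 ^ (i : ℕ) * b0 ^ (j : ℕ) * a0 ^ (l : ℕ) := by decide

end a4

section core

variable {R : Type*} [CommRing R]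

theorem core' (i A B C D : R) (hi : 3 * i = 1)
    (v11 : (A-D)*(A-D) + (C-B)*(B+C-D) = 1)
    (v12 : (A-D)*(C-B) + (C-B)*(A-B+D) = 0)
    (v21 : (B+C-D)*(A-D) + (A-B+D)*(B+C-D) = 0)
    (v22 : (B+C-D)*(C-B) + (A-B+D)*(A-B+D) = 1)
    (c11 : (A-D)*((B+C-D)+(A-B+D)) + (C-B)*(-(A-D)-(C-B)+(B+C-D)+(A-B+D)) =
      ((B+C-D)+(A-B+D))*(A-D) + (-(B+C-D))*(B+C-D))
    (c12 : (A-D)*(-(B+C-D)) + (C-B)*((A-D)-(B+C-D)) =
      ((B+C-D)+(A-B+D))*(C-B) + (-(B+C-D))*(A-B+D))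
    (c21 : (B+C-D)*((B+C-D)+(A-B+D)) + (A-B+D)*(-(A-D)-(C-B)+(B+C-D)+(A-B+D)) =
      (-(A-D)-(C-B)+(B+C-D)+(A-B+D))*(A-D) + ((A-D)-(B+C-D))*(B+C-D))
    (d11 : (A-D)*((B+C-D)+(A-B+D)) + (C-B)*(-(A-D)-(C-B)+(B+C-D)+(A-B+D)) = (A-B+D)-(C-B))
    (d12 : (A-D)*(-(B+C-D)) + (C-B)*((A-D)-(B+C-D)) = (A-D)+(C-B)-(B+C-D)-(A-B+D))
    (d21 : (B+C-D)*((B+C-D)+(A-B+D)) + (A-B+D)*(-(A-D)-(C-B)+(B+C-D)+(A-B+D)) = -(C-B))
    (d22 : (B+C-D)*(-(B+C-D)) + (A-B+D)*((A-D)-(B+C-D)) = (A-D)+(C-B)) :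
    A = 1 ∧ B = 0 ∧ 2 * C = 0 ∧ 2 * D = 0 := by
  have h3N : 3 * (C^2 - C*D + D^2) = 0 := by
    linear_combination c21 - c12 - c11
  have hN : C^2 - C*D + D^2 = 0 := by
    linear_combination i * h3N - (C^2 - C*D + D^2) * hi
  have h1 : 3 * (A^2 - B^2 + (C^2 - C*D + D^2) - 1) = 0 := by
    linear_combination v11 + 2 * v22 + v21 - v12
  have h2 : 3 * (2*A*B - B^2) = 0 := by
    linear_combination -v11 + v22 + 2 * v21 - 2 * v12
  have h3 : 3 * (A^2 - B^2 - A) = 0 := by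
    linear_combination d11 + 2 * d22 + d21 - d12
  have h4 : 3 * (2*A*B - B^2 + (C^2 - C*D + D^2) - B) = 0 := by
    linear_combination -d11 + d22 + 2 * d21 - 2 * d12
  have h1' : A^2 - B^2 + (C^2 - C*D + D^2) - 1 = 0 := by
    linear_combination i * h1 - (A^2 - B^2 + (C^2 - C*D + D^2) - 1) * hi
  have h2' : 2*A*B - B^2 = 0 := by
    linear_combination i * h2 - (2*A*B - B^2) * hi
  have h3' : A^2 - B^2 - A = 0 := by
    linear_combination i * h3 - (A^2 - B^2 - A) * hi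
  have h4' : 2*A*B - B^2 + (C^2 - C*D + D^2) - B = 0 := by
    linear_combination i * h4 - (2*A*B - B^2 + (C^2 - C*D + D^2) - B) * hi
  have hA : A = 1 := by
    linear_combination h1' - h3' - hN
  have hB : B = 0 := by
    linear_combination h2' - h4' + hN
  subst hA hB
  have hD : 2 * D = 0 := by
    linear_combination d12 + hN
  have hC : 2 * C = 0 := by
    linear_combination d11 + hD
  exact ⟨rfl, rfl, hC, hD⟩

theorem core (i x y z t : R) (hi : 3 * i = 1)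
    (v11 : x*x + y*z = 1) (v12 : x*y + y*t = 0) (v21 : z*x + t*z = 0) (v22 : z*y + t*t = 1)
    (c11 : x*(z+t) + y*(-x-y+z+t) = (z+t)*x + (-z)*z)
    (c12 : x*(-z) + y*(x-z) = (z+t)*y + (-z)*t)
    (c21 : z*(z+t) + t*(-x-y+z+t) = (-x-y+z+t)*x + (x-z)*z)
    (d11 : x*(z+t) + y*(-x-y+z+t) = t-y)
    (d12 : x*(-z) + y*(x-z) = x+y-z-t)
    (d21 : z*(z+t) + t*(-x-y+z+t) = -y)
    (d22 : z*(-z) + t*(x-z) = x+y) :
    ∃ C D : R, 2 * C = 0 ∧ 2 * D = 0 ∧ x = 1 - D ∧ y = C ∧ z = C - D ∧ t = 1 + D := by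
  obtain ⟨A, B, C, D, hx, hy, hz, ht⟩ : ∃ A B C D : R, x = A - D ∧ y = C - B ∧ z = B + C - D ∧ t = A - B + D := by
    refine ⟨i*(x-y+z+2*t), i*(-x-2*y+2*z+t), i*(-x+y+2*z+t), i*(-2*x-y+z+2*t), ?_, ?_, ?_, ?_⟩
    · linear_combination (-x) * hi
    · linear_combination (-y) * hi
    · linear_combination (-z) * hi
    · linear_combination (-t) * hi
  subst hx hy hz ht
  obtain ⟨rfl, rfl, hC, hD⟩ := core' i A B C D hi v11 v12 v21 v22 c11 c12 c21 d11 d12 d21 d22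
  exact ⟨C, D, hC, hD, rfl, by ring, by ring, by ring⟩

theorem orbit (h : R) (hh : h + h = 0) (C D C' D' : R) (hC : C = 0 ∨ C = h) (hD : D = 0 ∨ D = h)
    (hC' : C' = 0 ∨ C' = h) (hD' : D' = 0 ∨ D' = h) (hne : ¬ (C = 0 ∧ D = 0)) (hne' : ¬ (C' = 0 ∧ D' = 0)) :
    (C' = C ∧ D' = D) ∨ (C' = D - C ∧ D' = -C) ∨ (C' = -D ∧ D' = C - D) := by
  have neg : -h = h := by linear_combination -hh
  rcases hC with rfl | rfl <;> rcases hD with rfl | rfl <;> rcases hC' with rfl | rfl <;>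
    rcases hD' with rfl | rfl <;> simp_all

end core

section ring

variable {k : ℕ}

theorem two_pow_zero : ((2 : ZMod (2 ^ k)) ^ k) = 0 := by
  have := ZMod.natCast_self (2 ^ k)
  rwa [Nat.cast_pow, Nat.cast_ofNat] at this

theorem parity (x : ZMod (2 ^ k)) : (∃ y, x = 2 * y) ∨ (∃ y, x = 1 + 2 * y) := by
  haveI : NeZero (2 ^ k) := ⟨by positivity⟩
  have e : x = ((x.val : ℕ) : ZMod (2 ^ k)) := (ZMod.natCast_zmod_val x).symm
  rcases Nat.even_or_odd' x.val with ⟨m, hm | hm⟩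
  · left
    refine ⟨(m : ZMod (2 ^ k)), ?_⟩
    rw [e, hm]
    push_cast
    ring
  · right
    refine ⟨(m : ZMod (2 ^ k)), ?_⟩
    rw [e, hm]
    push_cast
    ring

theorem isUnit_one_add_two (y : ZMod (2 ^ k)) : IsUnit (1 + 2 * y : ZMod (2 ^ k)) := by
  have hn : IsNilpotent (2 * y : ZMod (2 ^ k)) := ⟨k, by rw [mul_pow, two_pow_zero, zero_mul]⟩
  exact hn.isUnit_one_add

theorem not_isUnit_two_mul (hk : 1 ≤ k) (y : ZMod (2 ^ k)) : ¬ IsUnit (2 * y : ZMod (2 ^ k)) := by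
  intro hu
  haveI : Fact (1 < 2 ^ k) := ⟨Nat.one_lt_two_pow (by omega)⟩
  have := hu.pow k
  rw [mul_pow, two_pow_zero, zero_mul] at this
  exact not_isUnit_zero this

theorem two_torsion (j : ℕ) (c : ZMod (2 ^ (j + 1))) (h : 2 * c = 0) : c = 0 ∨ c = 2 ^ j := by
  haveI : NeZero (2 ^ (j + 1)) := ⟨by positivity⟩
  have e := ZMod.natCast_zmod_val c
  have hlt := ZMod.val_lt c
  have h2 : ((2 * c.val : ℕ) : ZMod (2 ^ (j + 1))) = 0 := by
    push_cast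
    rw [e]
    exact h
  rw [ZMod.natCast_eq_zero_iff] at h2
  obtain ⟨m, hm⟩ := h2
  have h3 : c.val = 2 ^ j * m := by
    have : 2 * c.val = 2 * (2 ^ j * m) := by rw [hm]; ring
    exact Nat.eq_of_mul_eq_mul_left (by norm_num) this
  have h4 : m < 2 := by
    rw [h3, pow_succ] at hlt
    exact Nat.lt_of_mul_lt_mul_left hlt
  rw [← e, h3]
  have : m = 0 ∨ m = 1 := by omega
  rcases this with rfl | rfl
  · left
    simp
  · right
    simp

/-- The standard element of order three. -/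
def rho0 (k : ℕ) : GL (Fin 2) (ZMod (2 ^ k)) where
  val := !![0, -1; 1, -1]
  inv := !![-1, 1; -1, 0]
  val_inv := by
    rw [Matrix.mul_fin_two, Matrix.one_fin_two]
    simp
  inv_val := by
    rw [Matrix.mul_fin_two, Matrix.one_fin_two]
    simp

theorem pow_two_pow (A : Matrix (Fin 2) (Fin 2) (ZMod (2 ^ k))) (j : ℕ) :
    ∃ B : Matrix (Fin 2) (Fin 2) (ZMod (2 ^ k)),
      (1 + (2 : ZMod (2 ^ k)) • A) ^ (2 ^ j) = 1 + ((2 : ZMod (2 ^ k)) ^ (j + 1)) • B := by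
  induction j with
  | zero => exact ⟨A, by simp⟩
  | succ j ih =>
    obtain ⟨B, hB⟩ := ih
    refine ⟨B + ((2 : ZMod (2 ^ k)) ^ j) • (B * B), ?_⟩
    rw [pow_succ 2 j, pow_mul, hB, pow_two]
    set c : ZMod (2 ^ k) := 2 ^ (j + 1) with hc
    have e : (1 + c • B) * (1 + c • B) = 1 + (c + c) • B + (c * c) • (B * B) := by
      rw [add_mul, mul_add, mul_add, one_mul, mul_one, one_mul, smul_mul_smul_comm, add_smul]
      abel
    have e2 : (1 : Matrix (Fin 2) (Fin 2) (ZMod (2 ^ k))) +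
        ((2 : ZMod (2 ^ k)) ^ (j + 1 + 1)) • (B + ((2 : ZMod (2 ^ k)) ^ j) • (B * B)) =
        1 + (c + c) • B + (c * c) • (B * B) := by
      have e3 : (2 : ZMod (2 ^ k)) ^ (j + 1 + 1) = c + c := by rw [hc]; ring
      have e4 : (2 : ZMod (2 ^ k)) ^ (j + 1 + 1) * 2 ^ j = c * c := by rw [hc]; ring
      rw [smul_add, smul_smul, e4, e3]
      exact (add_assoc _ _ _).symm
    rw [e, e2]

theorem eq_one_of_pow (hk : 1 ≤ k) (r : GL (Fin 2) (ZMod (2 ^ k))) (h3 : r ^ 3 = 1)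
    (A : Matrix (Fin 2) (Fin 2) (ZMod (2 ^ k))) (hA : (r : Matrix (Fin 2) (Fin 2) (ZMod (2 ^ k))) = 1 + (2 : ZMod (2 ^ k)) • A) :
    r = 1 := by
  obtain ⟨B, hB⟩ := pow_two_pow A k
  have h2 : r ^ (2 ^ k) = 1 := by
    apply Units.ext
    rw [Units.val_pow_eq_pow_val, hA, hB, pow_succ, two_pow_zero]
    simp
  have h4 : r ^ Nat.gcd 3 (2 ^ k) = 1 := pow_gcd_eq_one.2 ⟨h3, h2⟩
  have h5 : Nat.gcd 3 (2 ^ k) = 1 := Nat.Coprime.pow_right k (by norm_num)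
  rw [h5, pow_one] at h4
  exact h4

theorem exists_cyclic (hk : 1 ≤ k) (r : GL (Fin 2) (ZMod (2 ^ k))) (h3 : r ^ 3 = 1) (hne : r ≠ 1) (a b c d : ZMod (2 ^ k))
    (hM : (r : Matrix (Fin 2) (Fin 2) (ZMod (2 ^ k))) = !![a, b; c, d]) (hdet : IsUnit (a * d - b * c)) :
    ∃ e₀ e₁ : ZMod (2 ^ k), IsUnit (e₀ * (c * e₀ + d * e₁) - e₁ * (a * e₀ + b * e₁)) := by
  rcases parity c with ⟨c', hc⟩ | ⟨c', hc⟩
  · rcases parity b with ⟨b', hb⟩ | ⟨b', hb⟩
    · rcases parity (c + d - a - b) with ⟨m, hm⟩ | ⟨m, hm⟩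
      · exfalso
        have hd : d = a + 2 * (m - c' + b') := by linear_combination hm - hc + hb
        rcases parity a with ⟨a', ha⟩ | ⟨a', ha⟩
        · apply not_isUnit_two_mul hk (a' * d - b' * c)
          convert hdet using 1
          rw [ha, hb]
          ring
        · apply hne
          apply eq_one_of_pow hk r h3 !![a', b'; c', a' + (m - c' + b')]
          rw [hM, hd, ha, hc, hb, Matrix.one_fin_two, Matrix.smul_of]
          ext i j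
          fin_cases i <;> fin_cases j <;> simp <;> ring
      · refine ⟨1, 1, ?_⟩
        have : (1 : ZMod (2 ^ k)) * (c * 1 + d * 1) - 1 * (a * 1 + b * 1) = 1 + 2 * m := by
          linear_combination hm
        rw [this]
        exact isUnit_one_add_two m
    · refine ⟨0, 1, ?_⟩
      have : (0 : ZMod (2 ^ k)) * (c * 0 + d * 1) - 1 * (a * 0 + b * 1) = -(1 + 2 * b') := by
        rw [hb]
        ring
      rw [this]
      exact (isUnit_one_add_two b').neg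
  · refine ⟨1, 0, ?_⟩
    have : (1 : ZMod (2 ^ k)) * (c * 1 + d * 0) - 0 * (a * 1 + b * 0) = 1 + 2 * c' := by
      rw [hc]
      ring
    rw [this]
    exact isUnit_one_add_two c'

theorem conj_to_rho0 (hk : 1 ≤ k) (r : GL (Fin 2) (ZMod (2 ^ k))) (h3 : r ^ 3 = 1) (hne : r ≠ 1) :
    ∃ P : GL (Fin 2) (ZMod (2 ^ k)), P * r * P⁻¹ = rho0 k := by
  set a := (r : Matrix (Fin 2) (Fin 2) (ZMod (2 ^ k))) 0 0 with ha
  set b := (r : Matrix (Fin 2) (Fin 2) (ZMod (2 ^ k))) 0 1 with hb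
  set c := (r : Matrix (Fin 2) (Fin 2) (ZMod (2 ^ k))) 1 0 with hc
  set d := (r : Matrix (Fin 2) (Fin 2) (ZMod (2 ^ k))) 1 1 with hd
  have hM : (r : Matrix (Fin 2) (Fin 2) (ZMod (2 ^ k))) = !![a, b; c, d] := (Matrix.eta_fin_two _)
  have hdet : IsUnit (a * d - b * c) := by
    have := (Matrix.isUnit_iff_isUnit_det _).1 r.isUnit
    rwa [hM, Matrix.det_fin_two_of] at this
  obtain ⟨e₀, e₁, hΔ⟩ := exists_cyclic hk r h3 hne a b c d hM hdet
  set Q : Matrix (Fin 2) (Fin 2) (ZMod (2 ^ k)) := !![e₀, a * e₀ + b * e₁; e₁, c * e₀ + d * e₁] with hQ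
  have hQdet : IsUnit Q.det := by
    rw [hQ, Matrix.det_fin_two_of]
    convert hΔ using 1
    ring
  let Q' : GL (Fin 2) (ZMod (2 ^ k)) := ⟨Q, Q⁻¹, Matrix.mul_nonsing_inv Q hQdet, Matrix.nonsing_inv_mul Q hQdet⟩
  set δ := a * d - b * c with hδ
  set τ := a + d with hτ
  set C : Matrix (Fin 2) (Fin 2) (ZMod (2 ^ k)) := !![0, -δ; 1, τ] with hC
  have hMQ : (r : Matrix (Fin 2) (Fin 2) (ZMod (2 ^ k))) * Q = Q * C := by
    rw [hM, hQ, hC, Matrix.mul_fin_two, Matrix.mul_fin_two]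
    ext i j
    fin_cases i <;> fin_cases j <;> simp [hδ, hτ] <;> ring
  have hC' : ((Q'⁻¹ * r * Q' : GL (Fin 2) (ZMod (2 ^ k))) : Matrix (Fin 2) (Fin 2) (ZMod (2 ^ k))) = C := by
    have e1 : Q' * (Q'⁻¹ * r * Q') = r * Q' := by group
    have e2 : Q * ((Q'⁻¹ * r * Q' : GL (Fin 2) (ZMod (2 ^ k))) : Matrix (Fin 2) (Fin 2) (ZMod (2 ^ k))) =
        (r : Matrix (Fin 2) (Fin 2) (ZMod (2 ^ k))) * Q := congrArg Units.val e1
    have hQu : IsUnit Q := Q'.isUnit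
    exact hQu.mul_left_cancel (e2.trans hMQ)
  have hpow : (Q'⁻¹ * r * Q') ^ 3 = 1 := by
    have := conj_pow (a := Q'⁻¹) (b := r) (i := 3)
    rw [inv_inv] at this
    rw [this, h3, mul_one, inv_mul_cancel]
  have hC3 : C * C * C = 1 := by
    have := congrArg Units.val hpow
    rw [pow_succ, pow_two, Units.val_mul, Units.val_mul, hC'] at this
    exact this
  rw [hC, Matrix.mul_fin_two, Matrix.mul_fin_two, Matrix.one_fin_two] at hC3
  have f1 := congrFun (congrFun hC3 0) 0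
  have f2 := congrFun (congrFun hC3 1) 0
  simp at f1 f2
  have hδτ : δ = τ ^ 2 := by linear_combination -f2
  have hτ3 : τ ^ 3 = -1 := by
    rw [hδτ] at f1
    linear_combination -f1
  have hτodd : ∃ y, τ = 1 + 2 * y := by
    rcases parity τ with ⟨y, hy⟩ | hy
    · exfalso
      apply not_isUnit_two_mul hk (-δ * y)
      have : (2 * (-δ * y)) = 1 := by
        rw [hy] at f1
        linear_combination f1
      rw [this]
      exact isUnit_one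
    · exact hy
  obtain ⟨y, hy⟩ := hτodd
  have hu : IsUnit (τ ^ 2 - τ + 1) := by
    have : τ ^ 2 - τ + 1 = 1 + 2 * (y + 2 * y ^ 2) := by rw [hy]; ring
    rw [this]
    exact isUnit_one_add_two _
  have hτ1 : τ = -1 := by
    have h0 : (τ + 1) * (τ ^ 2 - τ + 1) = 0 := by linear_combination hτ3
    have := (hu.mul_left_eq_zero).1 h0
    linear_combination this
  have hδ1 : δ = 1 := by rw [hδτ, hτ1]; ring
  refine ⟨Q'⁻¹, ?_⟩
  rw [inv_inv]
  apply Units.ext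
  rw [hC']
  change C = !![0, -1; 1, -1]
  rw [hC, hδ1, hτ1]

end ring

section main

theorem mat_eq {R : Type*} {a b c d a' b' c' d' : R} (h : !![a, b; c, d] = !![a', b'; c', d']) :
    a = a' ∧ b = b' ∧ c = c' ∧ d = d' :=
  ⟨congrFun (congrFun h 0) 0, congrFun (congrFun h 0) 1, congrFun (congrFun h 1) 0, congrFun (congrFun h 1) 1⟩

variable {k : ℕ}

theorem conj_val (v : GL (Fin 2) (ZMod (2 ^ k))) (x y z t : ZMod (2 ^ k))
    (hv : (v : Matrix (Fin 2) (Fin 2) (ZMod (2 ^ k))) = !![x, y; z, t]) :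
    ((rho0 k * v * (rho0 k)⁻¹ : GL (Fin 2) (ZMod (2 ^ k))) : Matrix (Fin 2) (Fin 2) (ZMod (2 ^ k))) =
      !![z + t, -z; -x - y + z + t, x - z] := by
  change (!![0, -1; 1, -1] : Matrix (Fin 2) (Fin 2) (ZMod (2 ^ k))) * (v : Matrix (Fin 2) (Fin 2) (ZMod (2 ^ k))) * !![-1, 1; -1, 0] = _
  rw [hv, Matrix.mul_fin_two, Matrix.mul_fin_two]
  ext i j
  fin_cases i <;> fin_cases j <;> simp <;> ring

theorem w0_eq : b0 * (a0 * b0 * a0⁻¹) = a0 * (a0 * b0 * a0⁻¹) * a0⁻¹ := by decide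

theorem form (j : ℕ) (F : A4 →* GL (Fin 2) (ZMod (2 ^ (j + 1)))) (hF : Function.Injective F)
    (ha : F a0 = rho0 (j + 1)) :
    ∃ C D : ZMod (2 ^ (j + 1)), (C = 0 ∨ C = 2 ^ j) ∧ (D = 0 ∨ D = 2 ^ j) ∧ ¬ (C = 0 ∧ D = 0) ∧
      ((F b0 : GL (Fin 2) (ZMod (2 ^ (j + 1)))) : Matrix (Fin 2) (Fin 2) (ZMod (2 ^ (j + 1)))) = !![1 - D, C; C - D, 1 + D] := by
  set R := ZMod (2 ^ (j + 1)) with hR
  set v := F b0 with hv
  set x := (v : Matrix (Fin 2) (Fin 2) R) 0 0 with hx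
  set y := (v : Matrix (Fin 2) (Fin 2) R) 0 1 with hy
  set z := (v : Matrix (Fin 2) (Fin 2) R) 1 0 with hz
  set t := (v : Matrix (Fin 2) (Fin 2) R) 1 1 with ht
  have hV : (v : Matrix (Fin 2) (Fin 2) R) = !![x, y; z, t] := Matrix.eta_fin_two _
  have hW0 : F (a0 * b0 * a0⁻¹) = rho0 (j + 1) * v * (rho0 (j + 1))⁻¹ := by
    rw [map_mul, map_mul, map_inv, ha]
  have hU0 : F (a0 * (a0 * b0 * a0⁻¹) * a0⁻¹) = rho0 (j + 1) * (rho0 (j + 1) * v * (rho0 (j + 1))⁻¹) * (rho0 (j + 1))⁻¹ := by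
    rw [map_mul, map_mul, map_inv, ha, hW0]
  have hWv := conj_val v x y z t hV
  have hUv := conj_val _ _ _ _ _ hWv
  have hUv' : ((rho0 (j + 1) * (rho0 (j + 1) * v * (rho0 (j + 1))⁻¹) * (rho0 (j + 1))⁻¹ : GL (Fin 2) R) : Matrix (Fin 2) (Fin 2) R) =
      !![t - y, x + y - z - t; -y, x + y] := by
    rw [hUv]
    ext i j
    fin_cases i <;> fin_cases j <;> simp <;> ring
  have E1 : (!![x, y; z, t] : Matrix (Fin 2) (Fin 2) R) * !![x, y; z, t] = 1 := by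
    rw [← hV]
    have := congrArg Units.val (show v * v = 1 by rw [hv, ← map_mul, b0_sq, map_one])
    exact this
  have E2 : (!![x, y; z, t] : Matrix (Fin 2) (Fin 2) R) * !![z + t, -z; -x - y + z + t, x - z] =
      !![z + t, -z; -x - y + z + t, x - z] * !![x, y; z, t] := by
    rw [← hV, ← hWv]
    have := congrArg Units.val (show v * (rho0 (j + 1) * v * (rho0 (j + 1))⁻¹) = (rho0 (j + 1) * v * (rho0 (j + 1))⁻¹) * v by
      rw [← hW0, hv, ← map_mul, ← map_mul, comm0])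
    exact this
  have E3 : (!![x, y; z, t] : Matrix (Fin 2) (Fin 2) R) * !![z + t, -z; -x - y + z + t, x - z] =
      !![t - y, x + y - z - t; -y, x + y] := by
    rw [← hV, ← hWv, ← hUv']
    have := congrArg Units.val (show v * (rho0 (j + 1) * v * (rho0 (j + 1))⁻¹) =
        rho0 (j + 1) * (rho0 (j + 1) * v * (rho0 (j + 1))⁻¹) * (rho0 (j + 1))⁻¹ by
      rw [← hU0, ← hW0, hv, ← map_mul, w0_eq])
    exact this
  rw [Matrix.mul_fin_two, Matrix.one_fin_two] at E1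
  rw [Matrix.mul_fin_two, Matrix.mul_fin_two] at E2
  rw [Matrix.mul_fin_two] at E3
  obtain ⟨v11, v12, v21, v22⟩ := mat_eq E1
  obtain ⟨c11, c12, c21, -⟩ := mat_eq E2
  obtain ⟨d11, d12, d21, d22⟩ := mat_eq E3
  obtain ⟨i, hi⟩ : ∃ i : R, 3 * i = 1 := by
    have h3 : IsUnit (3 : R) := by
      have := isUnit_one_add_two (k := j + 1) 1
      convert this using 1
      norm_num
    exact h3.exists_right_inv
  obtain ⟨C, D, hC, hD, e1, e2, e3, e4⟩ := core i x y z t hi v11 v12 v21 v22 c11 c12 c21 d11 d12 d21 d22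
  refine ⟨C, D, two_torsion j C hC, two_torsion j D hD, ?_, ?_⟩
  · rintro ⟨rfl, rfl⟩
    apply b0_ne
    apply hF
    rw [map_one]
    apply Units.ext
    change (v : Matrix (Fin 2) (Fin 2) R) = 1
    rw [hV, e1, e2, e3, e4, Matrix.one_fin_two]
    simp
  · rw [hV, e1, e2, e3, e4]

theorem key (j : ℕ) (F F' : A4 →* GL (Fin 2) (ZMod (2 ^ (j + 1)))) (hF : Function.Injective F)
    (hF' : Function.Injective F') (ha : F a0 = rho0 (j + 1)) (ha' : F' a0 = rho0 (j + 1)) :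
    F'.range ≤ F.range := by
  obtain ⟨C, D, hC, hD, hne, hv⟩ := form j F hF ha
  obtain ⟨C', D', hC', hD', hne', hv'⟩ := form j F' hF' ha'
  have hh : ((2 : ZMod (2 ^ (j + 1))) ^ j) + 2 ^ j = 0 := by
    have := two_pow_zero (k := j + 1)
    rw [← two_mul, mul_comm, ← pow_succ]
    exact this
  have hmem : F' b0 ∈ F.range := by
    have hW0 : F (a0 * b0 * a0⁻¹) = rho0 (j + 1) * F b0 * (rho0 (j + 1))⁻¹ := by
      rw [map_mul, map_mul, map_inv, ha]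
    have hU0 : F (a0 * (a0 * b0 * a0⁻¹) * a0⁻¹) = rho0 (j + 1) * (rho0 (j + 1) * F b0 * (rho0 (j + 1))⁻¹) * (rho0 (j + 1))⁻¹ := by
      rw [map_mul, map_mul, map_inv, ha, hW0]
    have hWv := conj_val (F b0) _ _ _ _ hv
    have hUv := conj_val _ _ _ _ _ hWv
    rcases orbit _ hh C D C' D' hC hD hC' hD' hne hne' with ⟨rfl, rfl⟩ | ⟨rfl, rfl⟩ | ⟨rfl, rfl⟩
    · have : F' b0 = F b0 := Units.ext (hv'.trans hv.symm)
      rw [this]
      exact ⟨b0, rfl⟩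
    · have : F' b0 = F (a0 * b0 * a0⁻¹) := by
        rw [hW0]
        apply Units.ext
        rw [hv', hWv]
        ext i j
        fin_cases i <;> fin_cases j <;> simp <;> ring
      rw [this]
      exact ⟨_, rfl⟩
    · have : F' b0 = F (a0 * (a0 * b0 * a0⁻¹) * a0⁻¹) := by
        rw [hU0]
        apply Units.ext
        rw [hv', hUv]
        ext i j
        fin_cases i <;> fin_cases j <;> simp <;> ring
      rw [this]
      exact ⟨_, rfl⟩
  have hmem0 : rho0 (j + 1) ∈ F.range := ⟨a0, ha⟩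
  rintro _ ⟨g, rfl⟩
  obtain ⟨i, j', l, rfl⟩ := gen0 g
  simp only [map_mul, map_pow, ha']
  exact mul_mem (mul_mem (pow_mem hmem0 _) (pow_mem hmem _)) (pow_mem hmem0 _)

theorem normal_form (j : ℕ) (H : Subgroup (GL (Fin 2) (ZMod (2 ^ (j + 1)))))
    (h : Nonempty (↥H ≃* ↥(alternatingGroup (Fin 4)))) :
    ∃ (F : A4 →* GL (Fin 2) (ZMod (2 ^ (j + 1)))) (P : GL (Fin 2) (ZMod (2 ^ (j + 1)))), Function.Injective F ∧
      F a0 = rho0 (j + 1) ∧ F.range = H.map (MulAut.conj P).toMonoidHom := by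
  obtain ⟨e⟩ := h
  let f : A4 →* GL (Fin 2) (ZMod (2 ^ (j + 1))) := H.subtype.comp e.symm.toMonoidHom
  have hf : Function.Injective f := by
    intro x y hxy
    apply e.symm.injective
    exact Subtype.ext hxy
  have hr : f.range = H := by
    ext x
    constructor
    · rintro ⟨a, rfl⟩
      exact (e.symm a).2
    · intro hx
      exact ⟨e ⟨x, hx⟩, by simp [f]⟩
  have h3 : (f a0) ^ 3 = 1 := by rw [← map_pow, a0_pow, map_one]
  have hne : f a0 ≠ 1 := by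
    intro e0
    apply a0_ne
    apply hf
    rw [e0, map_one]
  obtain ⟨P, hP⟩ := conj_to_rho0 (by omega) (f a0) h3 hne
  refine ⟨(MulAut.conj P).toMonoidHom.comp f, P, ?_, ?_, ?_⟩
  · intro x y hxy
    exact hf ((MulAut.conj P).injective hxy)
  · exact hP
  · rw [MonoidHom.range_comp, hr]

end main

/-- For k ≥ 2, any two subgroups of GL₂(ℤ/2ᵏℤ) (the automorphism group of the homocyclic group ℤ/2ᵏ × ℤ/2ᵏ) that are isomorphic to the alternating group of degree 4 are conjugate. -/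
theorem result (k : ℕ) (hk : 2 ≤ k) (H₁ H₂ : Subgroup (GL (Fin 2) (ZMod (2 ^ k)))) (h₁ : Nonempty (↥H₁ ≃* ↥(alternatingGroup (Fin 4)))) (h₂ : Nonempty (↥H₂ ≃* ↥(alternatingGroup (Fin 4)))) : ∃ g : GL (Fin 2) (ZMod (2 ^ k)), H₂ = H₁.map (MulAut.conj g).toMonoidHom := by
  obtain ⟨j, rfl⟩ : ∃ j, k = j + 1 := ⟨k - 1, by omega⟩
  obtain ⟨F₁, P₁, hF₁, ha₁, hr₁⟩ := normal_form j H₁ h₁
  obtain ⟨F₂, P₂, hF₂, ha₂, hr₂⟩ := normal_form j H₂ h₂
  have hr : F₁.range = F₂.range := le_antisymm (key j F₂ F₁ hF₂ hF₁ ha₂ ha₁) (key j F₁ F₂ hF₁ hF₂ ha₁ ha₂)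
  rw [hr₁, hr₂] at hr
  refine ⟨P₂⁻¹ * P₁, ?_⟩
  ext x
  constructor
  · intro hx
    have : P₂ * x * P₂⁻¹ ∈ H₁.map (MulAut.conj P₁).toMonoidHom := by
      rw [hr]
      exact ⟨x, hx, rfl⟩
    obtain ⟨y, hy, e⟩ := this
    refine ⟨y, hy, ?_⟩
    have e' : P₁ * y * P₁⁻¹ = P₂ * x * P₂⁻¹ := e
    change (P₂⁻¹ * P₁) * y * (P₂⁻¹ * P₁)⁻¹ = x
    calc (P₂⁻¹ * P₁) * y * (P₂⁻¹ * P₁)⁻¹ = P₂⁻¹ * (P₁ * y * P₁⁻¹) * P₂ := by group
      _ = x := by rw [e']; group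
  · rintro ⟨y, hy, rfl⟩
    have : P₁ * y * P₁⁻¹ ∈ H₂.map (MulAut.conj P₂).toMonoidHom := by
      rw [← hr]
      exact ⟨y, hy, rfl⟩
    obtain ⟨z, hz, e⟩ := this
    have e' : P₂ * z * P₂⁻¹ = P₁ * y * P₁⁻¹ := e
    have : (MulAut.conj (P₂⁻¹ * P₁)).toMonoidHom y = z := by
      change (P₂⁻¹ * P₁) * y * (P₂⁻¹ * P₁)⁻¹ = z
      calc (P₂⁻¹ * P₁) * y * (P₂⁻¹ * P₁)⁻¹ = P₂⁻¹ * (P₁ * y * P₁⁻¹) * P₂ := by group
        _ = z := by rw [← e']; group
    rw [this]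
    exact hz

end Cfsg.Agent.S2874
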