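import Cfsg.Statements.S2879
import Mathlib
import Cfsg.Agent.Lib.SL3Rec
import Cfsg.Agent.Lib.QuasiDihedral
import Cfsg.Agent.Lib.AutTwoGroup
import Cfsg.Agent.Lib.SolvCore
import Cfsg.Agent.Lib.FitCore
import Cfsg.Agent.Lib.ThompsonBasic

set_option autoImplicit false
open Cfsg

namespace Cfsg.Agent.S2879

open Cfsg Subgroup Cfsg.Agent.Lib.SL23 Cfsg.Agent.Lib.SL3Rec

/-- What we use of dihedral and semidihedral groups. -/
structure TS {P : Type*} [Group P] (c : P) : Prop where
  ind : ∀ t t' : P, t ∉ zpowers c → t' ∉ zpowers c → t * t' ∈ zpowers c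
  sq4 : ∀ t, t ∉ zpowers c → t ^ 4 = 1
  act : ∀ t, t ∉ zpowers c → ∀ u ∈ zpowers c, u ^ 4 = 1 → t * u * t⁻¹ = u⁻¹
  uniq : ∀ t, t ∉ zpowers c → orderOf t = 4 → ∀ u ∈ zpowers c, orderOf u = 4 → t * t = u * u
  nc : ∀ t, t ∉ zpowers c → ∃ w, w * t ≠ t * w

theorem TS.map {P P' : Type*} [Group P] [Group P'] (e : P ≃* P') {c : P} (h : TS c) : TS (e c) := by
  have hm : ∀ s, e s ∈ zpowers (e c) ↔ s ∈ zpowers c := by
    intro s
    constructor
    · rintro ⟨k, hk⟩
      refine ⟨k, e.injective ?_⟩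
      simpa using hk
    · rintro ⟨k, rfl⟩
      exact ⟨k, by simp⟩
  refine ⟨?_, ?_, ?_, ?_, ?_⟩
  · intro t t' ht ht'
    obtain ⟨s, rfl⟩ := e.surjective t
    obtain ⟨s', rfl⟩ := e.surjective t'
    rw [← map_mul, hm]
    exact h.ind _ _ (fun h' => ht ((hm _).2 h')) (fun h' => ht' ((hm _).2 h'))
  · intro t ht
    obtain ⟨s, rfl⟩ := e.surjective t
    rw [← map_pow, h.sq4 _ (fun h' => ht ((hm _).2 h')), map_one]
  · intro t ht u hu hu4
    obtain ⟨s, rfl⟩ := e.surjective t
    obtain ⟨v, rfl⟩ := e.surjective u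
    have hv4 : v ^ 4 = 1 := e.injective (by simpa using hu4)
    rw [← map_inv, ← map_inv, ← map_mul, ← map_mul, h.act _ (fun h' => ht ((hm _).2 h')) _ ((hm _).1 hu) hv4]
  · intro t ht ho u hu hou
    obtain ⟨s, rfl⟩ := e.surjective t
    obtain ⟨v, rfl⟩ := e.surjective u
    rw [e.orderOf_eq] at ho hou
    rw [← map_mul, ← map_mul, h.uniq _ (fun h' => ht ((hm _).2 h')) ho _ ((hm _).1 hu) hou]
  · intro t ht
    obtain ⟨s, rfl⟩ := e.surjective t
    obtain ⟨w, hw⟩ := h.nc _ (fun h' => ht ((hm _).2 h'))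
    refine ⟨e w, fun hc => hw (e.injective ?_)⟩
    simpa using hc

theorem TS_dihedral (n : ℕ) (hn : 4 ≤ n) : TS (DihedralGroup.r (1 : ZMod n) : DihedralGroup n) := by
  haveI : NeZero n := ⟨by omega⟩
  haveI : Finite (DihedralGroup n) := inferInstance
  have hr : ∀ j : ZMod n, (DihedralGroup.r j : DihedralGroup n) ∈ zpowers (DihedralGroup.r (1 : ZMod n) : DihedralGroup n) := by
    intro j
    refine ⟨(j.val : ℤ), ?_⟩
    show (DihedralGroup.r (1 : ZMod n) : DihedralGroup n) ^ (j.val : ℤ) = _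
    rw [zpow_natCast, DihedralGroup.r_one_pow, ZMod.natCast_zmod_val]
  have hsr : ∀ t : DihedralGroup n, t ∉ zpowers (DihedralGroup.r (1 : ZMod n) : DihedralGroup n) → ∃ i, t = DihedralGroup.sr i := by
    intro t ht
    cases t with
    | r j => exact absurd (hr j) ht
    | sr i => exact ⟨i, rfl⟩
  have hmem : ∀ u ∈ zpowers (DihedralGroup.r (1 : ZMod n) : DihedralGroup n), ∃ j, u = DihedralGroup.r j := by
    intro u hu
    obtain ⟨m, rfl⟩ := (mem_powers_iff_mem_zpowers).2 hu
    exact ⟨(m : ZMod n), DihedralGroup.r_one_pow m⟩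
  refine ⟨?_, ?_, ?_, ?_, ?_⟩
  · intro t t' ht ht'
    obtain ⟨i, rfl⟩ := hsr t ht
    obtain ⟨j, rfl⟩ := hsr t' ht'
    rw [DihedralGroup.sr_mul_sr]
    exact hr _
  · intro t ht
    obtain ⟨i, rfl⟩ := hsr t ht
    have h2 : (DihedralGroup.sr i : DihedralGroup n) * DihedralGroup.sr i = 1 := DihedralGroup.sr_mul_self i
    rw [show (4 : ℕ) = 2 + 2 from rfl, pow_add, pow_two, h2, one_mul]
  · intro t ht u hu _
    obtain ⟨i, rfl⟩ := hsr t ht
    obtain ⟨j, rfl⟩ := hmem u hu
    have h2 : (DihedralGroup.sr i : DihedralGroup n)⁻¹ = DihedralGroup.sr i :=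
      inv_eq_of_mul_eq_one_left (DihedralGroup.sr_mul_self i)
    rw [h2, DihedralGroup.sr_mul_r, DihedralGroup.sr_mul_sr, DihedralGroup.inv_r]
    congr 1
    ring
  · intro t ht ho
    obtain ⟨i, rfl⟩ := hsr t ht
    rw [DihedralGroup.orderOf_sr] at ho
    omega
  · intro t ht
    obtain ⟨i, rfl⟩ := hsr t ht
    refine ⟨DihedralGroup.r 1, fun h => ?_⟩
    rw [DihedralGroup.r_mul_sr, DihedralGroup.sr_mul_r, DihedralGroup.sr.injEq] at h
    have h2 : (2 : ZMod n) = 0 := by
      have h3 : i - 1 - (i - 1) = (i + 1) - (i - 1) := by rw [← h]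
      have h4 : (i + 1) - (i - 1) = (2 : ZMod n) := by ring
      rw [h4, sub_self] at h3
      exact h3.symm
    have h3 : ((2 : ℕ) : ZMod n) = 0 := by exact_mod_cast h2
    rw [ZMod.natCast_eq_zero_iff] at h3
    have := Nat.le_of_dvd (by norm_num) h3
    omega

open Cfsg.Agent.Lib.QuasiDihedral in
theorem TS_qd {S : Type*} [Group S] {M : ℤ} {x y : S} (h : QD M x y) : TS x := by
  have hMe := h.M_even
  have hMp := h.M_pos
  have hform : ∀ t, t ∉ zpowers x → ∃ i : ℤ, t = x ^ i * y := by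
    intro t ht
    obtain ⟨i, hi | hi⟩ := h.exists_form t
    · exact absurd ⟨i, hi.symm⟩ ht
    · exact ⟨i, hi⟩
  have hform2 : ∀ u ∈ zpowers x, ∃ k : ℤ, u = x ^ k := by
    rintro u ⟨k, rfl⟩
    exact ⟨k, rfl⟩
  have hsq : ∀ i : ℤ, (x ^ i * y) * (x ^ i * y) = x ^ (i * (2 * M)) := h.form_sq
  have h4M : x ^ (4 * M) = 1 := (h.zpow_eq_one_iff _).2 dvd_rfl
  refine ⟨?_, ?_, ?_, ?_, ?_⟩
  · intro t t' ht ht'
    obtain ⟨i, rfl⟩ := hform t ht
    obtain ⟨j, rfl⟩ := hform t' ht'
    rw [h.form_mul_form]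
    exact zpow_mem (mem_zpowers x) _
  · intro t ht
    obtain ⟨i, rfl⟩ := hform t ht
    rw [show (4 : ℕ) = 2 + 2 from rfl, pow_add, pow_two, hsq, ← zpow_add, h.zpow_eq_one_iff]
    exact ⟨i, by ring⟩
  · intro t ht u hu hu4
    obtain ⟨i, rfl⟩ := hform t ht
    obtain ⟨k, rfl⟩ := hform2 u hu
    have h1 : x ^ (4 * k) = 1 := by
      have : (x ^ k) ^ 4 = x ^ (4 * k) := by
        rw [← zpow_natCast, ← zpow_mul]
        congr 1
        push_cast
        ring
      rw [← this]
      exact hu4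
    rw [h.zpow_eq_one_iff] at h1
    obtain ⟨l, hl⟩ := h1
    have hkl : k = M * l := by
      have h4 : (4 : ℤ) * (k - M * l) = 0 := by linarith [hl]
      linarith [mul_eq_zero.1 h4 |>.resolve_left (by norm_num)]
    obtain ⟨M', hM'⟩ := hMe
    have hcon : x ^ i * y * x ^ k * (x ^ i * y)⁻¹ = x ^ i * (y * x ^ k * y) * (x ^ i)⁻¹ := by
      have hy : y⁻¹ = y := h.y_inv
      rw [mul_inv_rev, hy]
      group
    rw [hcon, h.y_conj_zpow]
    have hco : Commute (x ^ i) (x ^ (k * (2 * M - 1))) := (Commute.refl x).zpow_zpow _ _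
    rw [hco.eq, mul_inv_cancel_right, eq_inv_iff_mul_eq_one, ← zpow_add, h.zpow_eq_one_iff]
    refine ⟨M' * l, ?_⟩
    rw [hkl, hM']
    ring
  · intro t ht ho u hu hou
    obtain ⟨i, rfl⟩ := hform t ht
    obtain ⟨k, rfl⟩ := hform2 u hu
    have hk4 : x ^ (4 * k) = 1 := by
      have h1 : (x ^ k) ^ 4 = 1 := by rw [← hou]; exact pow_orderOf_eq_one _
      have : (x ^ k) ^ 4 = x ^ (4 * k) := by
        rw [← zpow_natCast, ← zpow_mul]
        congr 1
        push_cast
        ring
      rw [← this]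
      exact h1
    rw [h.zpow_eq_one_iff] at hk4
    obtain ⟨l, hl⟩ := hk4
    have hkl : k = M * l := by
      have h4 : (4 : ℤ) * (k - M * l) = 0 := by linarith [hl]
      linarith [mul_eq_zero.1 h4 |>.resolve_left (by norm_num)]
    have hu2 : (x ^ k) * (x ^ k) ≠ 1 := by
      intro h2
      have h3 : orderOf (x ^ k) ∣ 2 := orderOf_dvd_of_pow_eq_one (by rw [pow_two]; exact h2)
      rw [hou] at h3
      omega
    have ht2 : (x ^ i * y) * (x ^ i * y) ≠ 1 := by
      intro h2
      have h3 : orderOf (x ^ i * y) ∣ 2 := orderOf_dvd_of_pow_eq_one (by rw [pow_two]; exact h2)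
      rw [ho] at h3
      omega
    rw [hsq] at ht2 ⊢
    rw [← zpow_add] at hu2 ⊢
    have hl' : Odd l := by
      rw [← Int.not_even_iff_odd]
      rintro ⟨l', hl'⟩
      apply hu2
      rw [h.zpow_eq_one_iff, hkl, hl']
      exact ⟨l', by ring⟩
    have hi' : Odd i := by
      rw [← Int.not_even_iff_odd]
      rintro ⟨i', hi'⟩
      apply ht2
      rw [h.zpow_eq_one_iff, hi']
      exact ⟨i', by ring⟩
    obtain ⟨a, ha⟩ := hi'
    obtain ⟨b, hb⟩ := hl'
    rw [h.zpow_eq_zpow_iff, hkl, ha, hb]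
    exact ⟨a - b, by ring⟩
  · intro t ht
    obtain ⟨i, rfl⟩ := hform t ht
    refine ⟨x, fun hc => ?_⟩
    have h1 : x * (x ^ i * y) = x ^ (i + 1) * y := by
      rw [zpow_add_one, ← mul_assoc]
      congr 1
      exact ((Commute.refl x).zpow_right i).eq
    have h2 := h.form_mul_zpow i 1
    rw [zpow_one, one_mul] at h2
    rw [h1, h2, h.form_eq_form_iff] at hc
    obtain ⟨d, hd⟩ := hc
    obtain ⟨M', hM'⟩ := hMe
    have hM2 : 2 ≤ M := by omega
    have h3 : 2 - 2 * M = 4 * M * d := by linarith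
    by_cases h5 : 0 ≤ d
    · nlinarith
    · push Not at h5
      have h6 : d ≤ -1 := by omega
      nlinarith

theorem two_elems {X : Type*} [Group X] (h : Nat.card X = 2) (a b : X) (ha : a ≠ 1) (hb : b ≠ 1) : a = b := by
  obtain ⟨y, -, hy⟩ := (Nat.card_eq_two_iff' (1 : X)).1 h
  rw [hy a ha, hy b hb]

theorem main_abs {G : Type*} [Group G] [Finite G] (hsol : Group.IsSolvable G) (hO : pPrimeCore 2 G = ⊥)
    (T : Sylow 2 G) (c : ↥(T : Subgroup G)) (hTS : TS c) (hne : (T : Subgroup G) ≠ ⊤)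
    (hZ : ((T : Subgroup G) ⊓ centralizer ((T : Subgroup G) : Set G)).Normal) :
    ∃ U : Subgroup G, U.Normal ∧ Nonempty (↥U ≃* Matrix.SpecialLinearGroup (Fin 2) (ZMod 3)) := by
  classical
  haveI hF2 : Fact (Nat.Prime 2) := ⟨Nat.prime_two⟩
  set F := pCore 2 G with hFdef
  haveI hFn : F.Normal := Cfsg.Agent.Lib.FitCore.pCore_normal 2
  have hFp : IsPGroup 2 F := Cfsg.Agent.Lib.FitCore.pCore_isPGroup 2
  have hFT : F ≤ (T : Subgroup G) := Cfsg.Agent.Lib.FitCore.pCore_le_sylow 2 T
  have hC : centralizer (F : Set G) ≤ F := Cfsg.Agent.Lib.SolvCore.centralizer_pCore_le hsol hO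
  -- the element of odd prime order
  have hidx : (T : Subgroup G).index ≠ 1 := fun h => hne (Subgroup.index_eq_one.1 h)
  set r := (T : Subgroup G).index.minFac with hr
  have hrp : r.Prime := Nat.minFac_prime hidx
  haveI : Fact r.Prime := ⟨hrp⟩
  have hrd : r ∣ Nat.card G := (Nat.minFac_dvd _).trans (Subgroup.index_dvd_card _)
  have hr2 : r ≠ 2 := by
    intro h
    have h0 := Nat.minFac_dvd (T : Subgroup G).index
    rw [← hr, h] at h0
    exact T.not_dvd_index h0
  obtain ⟨x, hx⟩ := exists_prime_orderOf_dvd_card' r hrd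
  have hxF : x ∉ F := by
    intro h
    obtain ⟨k, hk⟩ := hFp ⟨x, h⟩
    have h1 : x ^ 2 ^ k = 1 := congrArg Subtype.val hk
    have h2 : r ∣ 2 ^ k := by
      rw [← hx]
      exact orderOf_dvd_of_pow_eq_one h1
    exact hr2 ((Nat.prime_dvd_prime_iff_eq hrp Nat.prime_two).1 (hrp.dvd_of_dvd_pow h2))
  have hxr : x ^ r = 1 := by rw [← hx]; exact pow_orderOf_eq_one x
  have hxC : ∃ u : F, x * u.1 * x⁻¹ ≠ u.1 := by
    by_contra hcon
    push Not at hcon
    apply hxF
    apply hC
    rw [mem_centralizer_iff]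
    intro u hu
    have h1 := hcon ⟨u, hu⟩
    calc u * x = (x * u * x⁻¹) * x := by rw [h1]
      _ = x * u := by group
  let γ : MulAut F := MulAut.conjNormal x
  have hγr : γ ^ r = 1 := by rw [← map_pow, hxr, map_one]
  have hγ1 : γ ≠ 1 := by
    intro h
    obtain ⟨u, hu⟩ := hxC
    apply hu
    have h1 := congrArg (fun f : MulAut F => ((f u : F) : G)) h
    exact h1
  have hnotP : ¬ IsPGroup 2 (MulAut F) := by
    intro h
    obtain ⟨k, h1⟩ := h γ
    have h2 := orderOf_dvd_of_pow_eq_one h1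
    have h3 := orderOf_dvd_of_pow_eq_one hγr
    have hco : Nat.Coprime r (2 ^ k) := Nat.Coprime.pow_right _ ((Nat.coprime_primes hrp Nat.prime_two).2 hr2)
    have h4 : orderOf γ = 1 := Nat.eq_one_of_dvd_coprimes hco h3 h2
    exact hγ1 (orderOf_eq_one_iff.1 h4)
  -- `F` is not cyclic
  have hncyc : ¬ IsCyclic F := by
    intro hcyc
    apply hnotP
    obtain ⟨k, hk⟩ := IsPGroup.iff_card.1 hFp
    have h1 := IsCyclic.card_mulAut (G := F)
    rw [hk] at h1
    rcases Nat.eq_zero_or_pos k with rfl | hkpos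
    · exact IsPGroup.of_card (n := 0) (by rw [h1]; simp)
    · exact IsPGroup.of_card (n := k - 1) (by rw [h1, Nat.totient_prime_pow Nat.prime_two hkpos]; simp)
  -- an element of `F` outside the cyclic subgroup
  let toT : F →* ↥(T : Subgroup G) := Subgroup.inclusion hFT
  have htoT : Function.Injective toT := Subgroup.inclusion_injective hFT
  let H₀ : Subgroup F := (zpowers c).comap toT
  have hH₀cyc : IsCyclic H₀ := by
    let f : H₀ →* zpowers c := (toT.comp H₀.subtype).codRestrict (zpowers c) (fun u => u.2)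
    have hf : Function.Injective f := by
      intro u v huv
      apply Subtype.ext
      apply htoT
      exact congrArg Subtype.val huv
    exact isCyclic_of_injective f hf
  have hexy : ∃ y : F, toT y ∉ zpowers c := by
    by_contra hcon
    push Not at hcon
    apply hncyc
    let f : F →* zpowers c := toT.codRestrict (zpowers c) hcon
    have hf : Function.Injective f := by
      intro u v huv
      apply htoT
      exact congrArg Subtype.val huv
    exact isCyclic_of_injective f hf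
  obtain ⟨y, hy⟩ := hexy
  have hidx2 : H₀.index = 2 := by
    rw [Subgroup.index_eq_two_iff]
    refine ⟨y, fun b => ?_⟩
    by_cases hb : toT b ∈ zpowers c
    · refine Or.inr ⟨hb, fun h => hy ?_⟩
      have h1 : toT (b * y) ∈ zpowers c := h
      rw [map_mul] at h1
      exact (Subgroup.mul_mem_cancel_left _ hb).1 h1
    · refine Or.inl ⟨?_, hb⟩
      show toT (b * y) ∈ zpowers c
      rw [map_mul]
      exact hTS.ind _ _ hb hy
  obtain ⟨c₀', hc₀'⟩ := IsCyclic.exists_generator (α := H₀)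
  set c₀ : F := c₀'.1 with hc₀
  have hordc₀ : orderOf c₀ = Nat.card H₀ := by
    rw [hc₀, Subgroup.orderOf_coe]
    exact orderOf_eq_card_of_forall_mem_zpowers hc₀'
  have hzc₀ : ∀ u : F, u ∈ zpowers c₀ ↔ toT u ∈ zpowers c := by
    intro u
    constructor
    · rintro ⟨k, rfl⟩
      show toT (c₀ ^ k) ∈ _
      rw [map_zpow]
      exact zpow_mem c₀'.2 k
    · intro hu
      obtain ⟨k, hk⟩ := hc₀' ⟨u, hu⟩
      refine ⟨k, ?_⟩
      have := congrArg Subtype.val hk
      simpa using this
  have hcardF : Nat.card H₀ * 2 = Nat.card F := by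
    rw [← hidx2, Subgroup.card_mul_index]
  obtain ⟨k, hk⟩ := IsPGroup.iff_card.1 hFp
  obtain ⟨m, rfl⟩ : ∃ m, k = m + 1 := by
    rcases Nat.eq_zero_or_pos k with rfl | h
    · rw [pow_zero] at hk
      omega
    · exact ⟨k - 1, by omega⟩
  have hcardH : Nat.card H₀ = 2 ^ m := by
    rw [hk, pow_succ] at hcardF
    omega
  have hm1 : 1 ≤ m := by
    by_contra hcon
    have : m = 0 := by omega
    subst this
    apply hncyc
    haveI : Fact (Nat.Prime (Nat.card F)) := ⟨by rw [hk]; norm_num⟩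
    exact isCyclic_of_prime_card rfl
  have hordc₀' : orderOf c₀ = 2 ^ m := hordc₀.trans hcardH
  -- another element of the same order
  obtain ⟨y₁, hy₁, hoy₁⟩ : ∃ y₁ : F, y₁ ∉ zpowers c₀ ∧ orderOf y₁ = 2 ^ m := by
    by_contra hcon
    push Not at hcon
    exact hnotP (Cfsg.Agent.Lib.AutTwoGroup.isPGroup_two_mulAut c₀ m hm1 hk hordc₀' hcon)
  have hy₁c : toT y₁ ∉ zpowers c := fun h => hy₁ ((hzc₀ _).2 h)
  have hy₁4 : y₁ ^ 4 = 1 := by
    apply htoT
    rw [map_pow, map_one]
    exact hTS.sq4 _ hy₁c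
  have hm2 : m ≤ 2 := by
    have h1 : 2 ^ m ∣ 2 ^ 2 := by
      rw [← hoy₁]
      exact orderOf_dvd_of_pow_eq_one hy₁4
    exact (Nat.pow_dvd_pow_iff_le_right (by norm_num)).1 h1
  rcases (show m = 1 ∨ m = 2 by omega) with rfl | rfl
  · -- `F` is a four-group: impossible
    exfalso
    have hZF : (T : Subgroup G) ⊓ centralizer ((T : Subgroup G) : Set G) ≤ F :=
      Cfsg.Agent.Lib.FitCore.le_pCore 2 _ hZ (T.isPGroup'.to_le inf_le_left)
    let Z' : Subgroup F := ((T : Subgroup G) ⊓ centralizer ((T : Subgroup G) : Set G)).subgroupOf F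
    have hZ'mem : ∀ u : F, u ∈ Z' ↔ u.1 ∈ (T : Subgroup G) ⊓ centralizer ((T : Subgroup G) : Set G) := fun u => Iff.rfl
    have hZ'ne1 : Z' ≠ ⊤ := by
      intro h
      have h1 : y₁ ∈ Z' := by rw [h]; exact mem_top _
      obtain ⟨w, hw⟩ := hTS.nc _ hy₁c
      apply hw
      apply Subtype.ext
      exact (Subgroup.mem_centralizer_iff.1 h1.2 w.1 w.2)
    -- the centre is nontrivial
    haveI hTn : Nontrivial ↥(T : Subgroup G) := by
      refine ⟨⟨toT y₁, 1, fun h => hy₁c ?_⟩⟩
      rw [h]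
      exact one_mem _
    haveI hcn := IsPGroup.center_nontrivial T.isPGroup'
    obtain ⟨ζ, hζ1⟩ := exists_ne (1 : Subgroup.center ↥(T : Subgroup G))
    let z : G := ζ.1.1
    have hz1 : z ≠ 1 := by
      intro h
      apply hζ1
      apply Subtype.ext
      apply Subtype.ext
      exact h
    have hzZ : z ∈ (T : Subgroup G) ⊓ centralizer ((T : Subgroup G) : Set G) := by
      refine ⟨ζ.1.2, mem_centralizer_iff.2 ?_⟩
      intro w hw
      have h1 := Subgroup.mem_center_iff.1 ζ.2 ⟨w, hw⟩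
      exact congrArg Subtype.val h1
    have hzF : z ∈ F := hZF hzZ
    let z' : Z' := ⟨⟨z, hzF⟩, hzZ⟩
    have hz'1 : z' ≠ 1 := by
      intro h
      apply hz1
      have := congrArg (fun q : Z' => (q.1.1 : G)) h
      exact this
    have hcardZ' : Nat.card Z' = 2 := by
      have h1 : Nat.card Z' ∣ 2 ^ 2 := by
        have := Subgroup.card_subgroup_dvd_card Z'
        rw [hk] at this
        have h3 : (2 : ℕ) ^ (1 + 1) = 2 ^ 2 := rfl
        rwa [h3] at this
      obtain ⟨a, ha, hae⟩ := (Nat.dvd_prime_pow Nat.prime_two).1 h1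
      rcases (show a = 0 ∨ a = 1 ∨ a = 2 by omega) with rfl | rfl | rfl
      · exfalso
        rw [pow_zero] at hae
        haveI : Subsingleton Z' := (Nat.card_eq_one_iff_unique.1 hae).1
        exact hz'1 (Subsingleton.elim _ _)
      · simpa using hae
      · exfalso
        apply hZ'ne1
        apply Subgroup.eq_top_of_card_eq
        rw [hae, hk]
    have hidxZ' : Z'.index = 2 := by
      have h1 := Subgroup.card_mul_index Z'
      rw [hcardZ', hk] at h1
      have h3 : (2 : ℕ) ^ (1 + 1) = 2 * 2 := rfl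
      rw [h3] at h1
      omega
    have hconjZ : ∀ a ∈ (T : Subgroup G) ⊓ centralizer ((T : Subgroup G) : Set G), x * a * x⁻¹ ∈ (T : Subgroup G) ⊓ centralizer ((T : Subgroup G) : Set G) :=
      fun a ha => hZ.conj_mem a ha x
    have hzfix : x * z * x⁻¹ = z := by
      have h1 : (⟨⟨x * z * x⁻¹, hZF (hconjZ z hzZ)⟩, hconjZ z hzZ⟩ : Z') = z' := by
        apply two_elems hcardZ'
        · intro h
          apply hz1
          have h2 : x * z * x⁻¹ = 1 := congrArg (fun q : Z' => (q.1.1 : G)) h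
          have h3 : z = x⁻¹ * (x * z * x⁻¹) * x := by group
          rw [h3, h2]
          group
        · exact hz'1
      exact congrArg (fun q : Z' => (q.1.1 : G)) h1
    have hzz : z * z = 1 := by
      have h1 : z' ^ 2 = 1 := by
        have := pow_card_eq_one' (x := z')
        rwa [hcardZ'] at this
      have h2 := congrArg (fun q : Z' => (q.1.1 : G)) h1
      have h3 : z ^ 2 = 1 := h2
      rwa [pow_two] at h3
    obtain ⟨u, hu⟩ := hxC
    apply hu
    by_cases huZ : u ∈ Z'
    · by_cases hu1 : (⟨u, huZ⟩ : Z') = 1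
      · have h1 : u.1 = 1 := congrArg (fun q : Z' => (q.1.1 : G)) hu1
        rw [h1]
        group
      · have h1 := two_elems hcardZ' _ _ hu1 hz'1
        have h2 : u.1 = z := congrArg (fun q : Z' => (q.1.1 : G)) h1
        rw [h2, hzfix]
    · let v : F := ⟨x * u.1 * x⁻¹, hFn.conj_mem _ u.2 x⟩
      have hvZ : v ∉ Z' := by
        intro h
        apply huZ
        have h1 : x⁻¹ * v.1 * x⁻¹⁻¹ ∈ (T : Subgroup G) ⊓ centralizer ((T : Subgroup G) : Set G) := hZ.conj_mem _ h x⁻¹
        have h2 : x⁻¹ * v.1 * x⁻¹⁻¹ = u.1 := by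
          show x⁻¹ * (x * u.1 * x⁻¹) * x⁻¹⁻¹ = u.1
          group
        rw [h2] at h1
        exact h1
      have h1 : u⁻¹ * v ∈ Z' := by
        rw [Subgroup.mul_mem_iff_of_index_two hidxZ']
        exact iff_of_false (fun h => huZ (by simpa using h)) hvZ
      by_cases h2 : (⟨u⁻¹ * v, h1⟩ : Z') = 1
      · have h3 : (u⁻¹ * v).1 = 1 := congrArg (fun q : Z' => (q.1.1 : G)) h2
        have h4 : u⁻¹ * v = 1 := Subtype.ext h3
        have h5 : v = u := by
          have h6 : u * (u⁻¹ * v) = v := mul_inv_cancel_left u v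
          rw [h4, mul_one] at h6
          exact h6.symm
        exact congrArg Subtype.val h5
      · have h3 := two_elems hcardZ' _ _ h2 hz'1
        have h4 : (u⁻¹ * v).1 = z := congrArg (fun q : Z' => (q.1.1 : G)) h3
        have h5 : x * u.1 * x⁻¹ = u.1 * z := by
          have h6 : u.1⁻¹ * (x * u.1 * x⁻¹) = z := h4
          rw [← h6]
          group
        -- `x ^ 2` commutes with `u`
        have h6 : x ^ 2 * u.1 = u.1 * x ^ 2 := by
          have h7 : x ^ 2 * u.1 * (x ^ 2)⁻¹ = u.1 := by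
            calc x ^ 2 * u.1 * (x ^ 2)⁻¹ = x * (x * u.1 * x⁻¹) * x⁻¹ := by
                  rw [pow_two]
                  group
              _ = x * (u.1 * z) * x⁻¹ := by rw [h5]
              _ = (x * u.1 * x⁻¹) * (x * z * x⁻¹) := by group
              _ = (u.1 * z) * z := by rw [h5, hzfix]
              _ = u.1 * (z * z) := by group
              _ = u.1 := by rw [hzz, mul_one]
          calc x ^ 2 * u.1 = (x ^ 2 * u.1 * (x ^ 2)⁻¹) * x ^ 2 := by group
            _ = _ := by rw [h7]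
        have hrodd : Odd r := hrp.odd_of_ne_two hr2
        obtain ⟨s, hs⟩ := hrodd
        have h7 : x = (x ^ 2) ^ (s + 1) := by
          have h8 : (x ^ 2) ^ (s + 1) = x ^ r * x := by
            rw [hs, ← pow_mul, ← pow_succ]
            congr 1
          rw [h8, hxr, one_mul]
        have h8 : Commute (x ^ 2) u.1 := h6
        have h9 : Commute x u.1 := by
          rw [h7]
          exact h8.pow_left _
        rw [h9.eq]
        group
  · -- `F` is quaternion of order 8
    have hcF : Nat.card F = 4 * 2 := hk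
    have hc₀in : toT c₀ ∈ zpowers c := (hzc₀ c₀).1 (mem_zpowers c₀)
    have hc₀4 : c₀ ^ 4 = 1 := by
      have := pow_orderOf_eq_one c₀
      rwa [hordc₀'] at this
    have hact : y₁ * c₀ * y₁⁻¹ = c₀⁻¹ := by
      apply htoT
      simp only [map_mul, map_inv]
      apply hTS.act _ hy₁c _ hc₀in
      rw [← map_pow, hc₀4, map_one]
    have huq : y₁ * y₁ = c₀ ^ 2 := by
      apply htoT
      rw [map_mul, map_pow, pow_two]
      apply hTS.uniq _ hy₁c _ _ hc₀in
      · rw [orderOf_injective toT htoT]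
        exact hordc₀'
      · rw [orderOf_injective toT htoT]
        exact hoy₁
    obtain ⟨e⟩ := Cfsg.Agent.Lib.Quaternion.nonempty_mulEquiv_quaternion 2 c₀ y₁ hordc₀' huq hact hy₁ hcF
    have hAc : Nat.card (MulAut F) ∣ 24 := by
      rw [Nat.card_congr (MulAut.congr e).toEquiv]
      exact Cfsg.Agent.Lib.Quaternion.card_mulAut_q8_dvd
    haveI : Finite (MulAut F) := inferInstance
    have hoγ : orderOf γ = r := orderOf_eq_prime hγr hγ1
    have hr3 : r = 3 := by
      have h1 : r ∣ 24 := by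
        rw [← hoγ]
        exact (orderOf_dvd_natCard γ).trans hAc
      have h2 : r ∣ 2 ^ 3 * 3 := h1
      rcases hrp.dvd_mul.1 h2 with h3 | h3
      · exact absurd ((Nat.prime_dvd_prime_iff_eq hrp Nat.prime_two).1 (hrp.dvd_of_dvd_pow h3)) hr2
      · exact (Nat.prime_dvd_prime_iff_eq hrp Nat.prime_three).1 h3
    have hx3 : x ^ 3 = 1 := by
      rw [← hr3]
      exact hxr
    have hox : orderOf x = 3 := hx.trans hr3
    have hzn : zpowers x ≤ normalizer (F : Set G) := by
      rw [Subgroup.normalizer_eq_top_iff.2 hFn]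
      exact le_top
    have hinf : F ⊓ zpowers x = ⊥ := by
      apply (Subgroup.disjoint_of_coprime_natCard ?_).eq_bot
      rw [hcF, Nat.card_zpowers, hox]
      norm_num
    have hcardU : Nat.card (F ⊔ zpowers x : Subgroup G) = 24 := by
      have h1 := Cfsg.Agent.Lib.ThompsonBasic.card_sup_mul_card_inf F (zpowers x) hzn
      rw [hinf, Subgroup.card_bot, mul_one, hcF, Nat.card_zpowers, hox] at h1
      exact h1
    -- the order of `G`
    let κ : G →* MulAut F := MulAut.conjNormal
    have hkerF : ∀ g ∈ κ.ker, g ∈ F := by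
      intro g hg
      apply hC
      rw [mem_centralizer_iff]
      intro u hu
      have h1 := congrArg (fun f : MulAut F => ((f ⟨u, hu⟩ : F) : G)) (MonoidHom.mem_ker.1 hg)
      have h2 : g * u * g⁻¹ = u := h1
      calc u * g = (g * u * g⁻¹) * g := by rw [h2]
        _ = g * u := by group
    have hkerc : ∀ g (hg : g ∈ κ.ker), e ⟨g, hkerF g hg⟩ = 1 ∨ e ⟨g, hkerF g hg⟩ = QuaternionGroup.a ((2 : ℕ) : ZMod (2 * 2)) := by
      intro g hg
      apply Cfsg.Agent.Lib.Quaternion.q_center 2 le_rfl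
      intro k
      obtain ⟨u, rfl⟩ := e.surjective k
      rw [← map_mul, ← map_mul]
      congr 1
      apply Subtype.ext
      have h1 := congrArg (fun f : MulAut F => ((f u : F) : G)) (MonoidHom.mem_ker.1 hg)
      have h2 : g * u.1 * g⁻¹ = u.1 := h1
      show g * u.1 = u.1 * g
      calc g * u.1 = (g * u.1 * g⁻¹) * g := by group
        _ = _ := by rw [h2]
    have hkercard : Nat.card κ.ker ∣ 2 := by
      have hle : Nat.card κ.ker ≤ 2 := by
        let f : κ.ker → Bool := fun g => decide (g.1 = 1)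
        have hf : Function.Injective f := by
          intro a b hab
          apply Subtype.ext
          by_cases ha : a.1 = 1
          · have hb : b.1 = 1 := by
              have : decide (a.1 = 1) = decide (b.1 = 1) := hab
              simpa [ha] using this
            rw [ha, hb]
          · have hb : b.1 ≠ 1 := by
              have : decide (a.1 = 1) = decide (b.1 = 1) := hab
              simpa [ha] using this
            have ha' := (hkerc a.1 a.2).resolve_left (fun h => ha (by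
              have := e.injective (h.trans (map_one e).symm)
              exact congrArg Subtype.val this))
            have hb' := (hkerc b.1 b.2).resolve_left (fun h => hb (by
              have := e.injective (h.trans (map_one e).symm)
              exact congrArg Subtype.val this))
            have h8 := e.injective (ha'.trans hb'.symm)
            have h9 : a.1 = b.1 := congrArg (fun q : F => (q : G)) h8
            exact h9
        have := Nat.card_le_card_of_injective f hf
        simpa using this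
      have hpos : 0 < Nat.card κ.ker := Nat.card_pos
      interval_cases (Nat.card κ.ker) <;> norm_num
    have hGdvd : Nat.card G ∣ 48 := by
      have h1 := Subgroup.card_mul_index κ.ker
      rw [Subgroup.index_ker] at h1
      rw [← h1]
      exact mul_dvd_mul hkercard ((Subgroup.card_subgroup_dvd_card _).trans hAc)
    have hUnorm : (F ⊔ zpowers x : Subgroup G).Normal := by
      have h1 := Subgroup.card_mul_index (F ⊔ zpowers x : Subgroup G)
      rw [hcardU] at h1
      have h2 : (F ⊔ zpowers x : Subgroup G).index ∣ 2 := by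
        rw [← h1] at hGdvd
        have h3 : 24 * (F ⊔ zpowers x : Subgroup G).index ∣ 24 * 2 := hGdvd
        exact Nat.dvd_of_mul_dvd_mul_left (by norm_num) h3
      rcases (Nat.dvd_prime Nat.prime_two).1 h2 with h3 | h3
      · rw [Subgroup.index_eq_one.1 h3]
        infer_instance
      · exact Subgroup.normal_of_index_eq_two h3
    refine ⟨F ⊔ zpowers x, hUnorm, ?_⟩
    haveI hNn : (F.subgroupOf (F ⊔ zpowers x)).Normal := hFn.subgroupOf _
    let eN : F.subgroupOf (F ⊔ zpowers x) ≃* QuaternionGroup 2 :=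
      (Subgroup.subgroupOfEquivOfLe le_sup_left).trans e
    have hxU : x ∈ (F ⊔ zpowers x : Subgroup G) := (le_sup_right : zpowers x ≤ F ⊔ zpowers x) (mem_zpowers x)
    apply rec_sl23 (F.subgroupOf (F ⊔ zpowers x)) eN (⟨x, hxU⟩ : ↥(F ⊔ zpowers x : Subgroup G))
    · apply Subtype.ext
      exact hx3
    · obtain ⟨u, hu⟩ := hxC
      refine ⟨⟨⟨u.1, (le_sup_left : F ≤ F ⊔ zpowers x) u.2⟩, u.2⟩, fun h => hu ?_⟩
      have h1 := congrArg (fun q : F.subgroupOf (F ⊔ zpowers x) => (q.1.1 : G)) h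
      exact h1
    · exact hcardU

/-- Let G be a finite solvable group with O(G) = 1 whose Sylow 2-subgroup T is dihedral of order at least 8 or semidihedral, with G ≠ T and Z(T) normal in G. Then G has a normal subgroup isomorphic to SL₂(3). -/
theorem result {G : Type*} [Group G] [Finite G] (hsol : IsSolvable G) (hO : Cfsg.oddCore G = ⊥) (T : Sylow 2 G) (hT : (∃ n : ℕ, 4 ≤ n ∧ Nonempty (↥(T : Subgroup G) ≃* DihedralGroup n)) ∨ Cfsg.IsQuasiDihedral ↥(T : Subgroup G)) (hne : (T : Subgroup G) ≠ ⊤) (hZ : ((T : Subgroup G) ⊓ Subgroup.centralizer ((T : Subgroup G) : Set G)).Normal) : ∃ U : Subgroup G, U.Normal ∧ Nonempty (↥U ≃* Matrix.SpecialLinearGroup (Fin 2) (ZMod 3)) := by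
  classical
  have hsol' : Group.IsSolvable G := hsol
  have hZ' := hZ
  rcases hT with ⟨n, hn, ⟨e⟩⟩ | hQ
  · exact main_abs hsol' hO T (e.symm (DihedralGroup.r 1)) (TS.map e.symm (TS_dihedral n hn)) hne hZ'
  · obtain ⟨n, x, y, h3, hc, hqd⟩ := Cfsg.Agent.Lib.QuasiDihedral.exists_qd hQ
    exact main_abs hsol' hO T x (TS_qd hqd) hne hZ'

end Cfsg.Agent.S2879
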