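import Cfsg.Statements.S2881
import Cfsg.Agent.Lib.ExtraPlus

set_option autoImplicit false
open Cfsg

namespace Cfsg.Agent.S2881

/-- Let E be an extraspecial 2-group of order 2^(2m+1) of plus type (containing an elementary abelian subgroup of order 2^(m+1)), and let ω be an automorphism of E of order 5 whose fixed points are exactly the centre of E. Then m is divisible by 4. -/
theorem result {E : Type*} [Group E] [Finite E] (m : ℕ) (hm : 1 ≤ m) (hE : Cfsg.IsExtraspecial 2 E) (hcard : Nat.card E = 2 ^ (2 * m + 1)) (hplus : ∃ A : Subgroup E, Cfsg.IsElementaryAbelian 2 A ∧ Nat.card A = 2 ^ (m + 1)) (ω : E ≃* E) (hω : orderOf ω = 5) (hfix : ∀ x : E, ω x = x ↔ x ∈ Subgroup.center E) : 4 ∣ m := by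
  classical
  haveI : Fintype E := Fintype.ofFinite _
  have hN := Cfsg.Agent.Lib.ExtraPlus.card_order_four m hE hcard hplus
  obtain ⟨z, hz⟩ := Cfsg.Agent.Lib.ExtraPlus.exists_data hE
  haveI : Fact (Nat.Prime 5) := ⟨by norm_num⟩
  -- the permutation induced on the elements of order four
  have hpres : ∀ x : E, orderOf (ω x) = orderOf x := fun x => MulEquiv.orderOf_eq ω x
  let π : Function.End {x : E // orderOf x = 4} := fun x => ⟨ω x.1, by rw [hpres]; exact x.2⟩
  have hπ : π ^ 5 ^ 1 = 1 := by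
    have h1 : ω ^ 5 = 1 := by rw [← hω]; exact pow_orderOf_eq_one ω
    have h2 : ∀ (k : ℕ) (x : {x : E // orderOf x = 4}), (((π ^ k) x : {x : E // orderOf x = 4}) : E) = (ω ^ k) x.1 := by
      intro k x
      induction k with
      | zero => rfl
      | succ k ih =>
        rw [pow_succ', pow_succ', MulAut.mul_apply]
        show ω (((π ^ k) x : {x : E // orderOf x = 4}) : E) = _
        rw [ih]
    funext x
    apply Subtype.ext
    rw [pow_one, h2, h1]
    rfl
  have hmod := Equiv.Perm.card_fixedPoints_modEq (f := π) (p := 5) (n := 1) hπ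
  have hfix0 : Fintype.card (Function.fixedPoints π) = 0 := by
    rw [Fintype.card_eq_zero_iff]
    refine ⟨fun x => ?_⟩
    have hx : π x.1 = x.1 := x.2
    have h1 : ω x.1.1 = x.1.1 := congrArg Subtype.val hx
    have h2 := (hfix x.1.1).1 h1
    have h3 : x.1.1 = 1 ∨ x.1.1 = z := hz.hcenter _ fun k => (Subgroup.mem_center_iff.1 h2 k).symm
    have h4 : x.1.1 ^ 2 = 1 := by
      rcases h3 with h3 | h3
      · rw [h3, one_pow]
      · rw [h3, sq, hz.hzz]
    have h5 := orderOf_dvd_of_pow_eq_one h4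
    rw [x.1.2] at h5
    omega
  rw [hfix0, ← Nat.card_eq_fintype_card, hN] at hmod
  have hd : 5 ∣ 2 ^ (2 * m) - 2 ^ m := (Nat.modEq_zero_iff_dvd).1 hmod
  have hfac : 2 ^ (2 * m) - 2 ^ m = 2 ^ m * (2 ^ m - 1) := by
    rw [two_mul, pow_add, Nat.mul_sub, mul_one]
  rw [hfac] at hd
  have h1 : 5 ∣ 2 ^ m - 1 := by
    rcases (Nat.Prime.dvd_mul (by norm_num)).1 hd with h | h
    · have := Nat.Prime.dvd_of_dvd_pow (by norm_num) h
      omega
    · exact h
  have h2 : 2 ^ m % 5 = 1 := by
    have : 1 ≤ 2 ^ m := Nat.one_le_two_pow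
    omega
  have h3 : m = 4 * (m / 4) + m % 4 := (Nat.div_add_mod m 4).symm
  rw [h3, pow_add, pow_mul, Nat.mul_mod, Nat.pow_mod] at h2
  norm_num at h2
  have h4 : m % 4 < 4 := Nat.mod_lt _ (by norm_num)
  have h5 : m % 4 = 0 := by
    interval_cases (m % 4)
    · rfl
    · norm_num at h2
    · norm_num at h2
    · norm_num at h2
  omega

end Cfsg.Agent.S2881
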