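import Cfsg.Statements.S2905
import Cfsg.Agent.Lib.Wielandt
import Cfsg.Agent.Lib.WeaklyClosed
import Cfsg.Agent.Lib.SchurZ2
import Cfsg.Agent.Lib.PResidual
import Cfsg.Agent.Lib.FitCore
import Cfsg.Prelude.Def_LocalEven

set_option autoImplicit false
open Cfsg

namespace Cfsg.Agent.S2905

open Cfsg.Agent.Lib Cfsg.Agent.Lib.PResidual Subgroup

section aux
variable {G : Type*} [Group G] [Finite G] {p : ℕ} [Fact p.Prime]

theorem sn_not_dvd (S : Sylow p G) {A : Subgroup G} (hA : A.IsSubnormal) :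
    ¬ p ∣ (S : Subgroup G).relIndex A := by
  induction hA with
  | top => rw [Subgroup.relIndex_top_right]; exact S.not_dvd_index
  | step A B hle hB hN ih =>
    intro h
    apply ih
    haveI := hN
    have h1 := FitCore.relIndex_dvd_index_of_normal_right ((S : Subgroup G).subgroupOf B) (A.subgroupOf B)
    rw [Subgroup.relIndex_subgroupOf hle] at h1
    exact h.trans h1

theorem exists_sylow_sn (S : Sylow p G) {A : Subgroup G} (hA : A.IsSubnormal) :
    ∃ T : Sylow p A, (T : Subgroup A).map A.subtype = (S : Subgroup G) ⊓ A := by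
  have hp : IsPGroup p ((S : Subgroup G).subgroupOf A) := S.isPGroup'.comap_of_injective _ A.subtype_injective
  refine ⟨hp.toSylow (sn_not_dvd S hA), ?_⟩
  exact Subgroup.subgroupOf_map_subtype _ _

/-- The `S`-closure of a subnormal subgroup. -/
theorem exists_closure (S : Subgroup G) {Y₁ : Subgroup G} (hY₁ : Y₁.IsSubnormal) :
    ∃ Y : Subgroup G, Y.IsSubnormal ∧ Y₁ ≤ Y ∧ S ≤ normalizer (Y : Set G) ∧
      ∀ K : Subgroup G, S ≤ normalizer (K : Set G) → Y₁ ≤ K → Y ≤ K := by
  refine ⟨sSup {Z | ∃ s ∈ S, Z = Y₁.map (MulAut.conj s).toMonoidHom}, ?_, ?_, ?_, ?_⟩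
  · apply Wielandt.sSup_isSubnormal
    rintro _ ⟨s, hs, rfl⟩
    exact Layer.isSubnormal_map_conj s hY₁
  · refine le_trans ?_ (le_sSup ⟨1, S.one_mem, rfl⟩)
    intro y hy
    exact ⟨y, hy, by simp⟩
  · have key : ∀ s ∈ S, ∀ a ∈ sSup {Z | ∃ s ∈ S, Z = Y₁.map (MulAut.conj s).toMonoidHom},
        s * a * s⁻¹ ∈ sSup {Z | ∃ s ∈ S, Z = Y₁.map (MulAut.conj s).toMonoidHom} := by
      intro s hs a ha
      have h1 : sSup {Z | ∃ s ∈ S, Z = Y₁.map (MulAut.conj s).toMonoidHom} ≤
          (sSup {Z | ∃ s ∈ S, Z = Y₁.map (MulAut.conj s).toMonoidHom}).comap (MulAut.conj s).toMonoidHom := by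
        apply sSup_le
        rintro _ ⟨t, ht, rfl⟩ _ ⟨y, hy, rfl⟩
        have hle : Y₁.map (MulAut.conj (s * t)).toMonoidHom ≤ sSup {Z | ∃ s ∈ S, Z = Y₁.map (MulAut.conj s).toMonoidHom} :=
          le_sSup ⟨s * t, S.mul_mem hs ht, rfl⟩
        have hmem : (s * t) * y * (s * t)⁻¹ ∈ Y₁.map (MulAut.conj (s * t)).toMonoidHom := ⟨y, hy, rfl⟩
        have h5 := hle hmem
        have h6 : (s * t) * y * (s * t)⁻¹ = s * (t * y * t⁻¹) * s⁻¹ := by group
        rw [h6] at h5
        exact h5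
      exact h1 ha
    intro s hs
    apply Commutators.mem_normalizer_of_conj_mem (key s hs)
    intro a ha
    have := key s⁻¹ (S.inv_mem hs) a ha
    simpa using this
  · intro K hK hYK
    apply sSup_le
    rintro _ ⟨s, hs, rfl⟩ _ ⟨y, hy, rfl⟩
    exact (mem_normalizer_iff.1 (hK hs) y).1 (hYK hy)

theorem key_sn (S : Sylow p G) (M : Subgroup G) (hMtop : M ≠ ⊤)
    (hmax : ∀ X : Subgroup G, (S : Subgroup G) ≤ X → X ≠ ⊤ → X ≤ M) :
    ∀ (n : ℕ) (X : Subgroup G), Nat.card G - Nat.card X = n → X.IsSubnormal → X ≤ M →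
      (S : Subgroup G) ≤ normalizer (X : Set G) → X ⊓ (S : Subgroup G) ≤ Cfsg.pCore p G := by
  intro n
  induction n using Nat.strong_induction_on with
  | _ n ih =>
    intro X hn hXs hXM hSX
    set R := X ⊓ (S : Subgroup G) with hR
    have hRp : IsPGroup p R := S.isPGroup'.to_le inf_le_right
    by_cases hN : normalizer (R : Set G) = ⊤
    · exact FitCore.le_pCore p R (normalizer_eq_top_iff.1 hN) hRp
    have hSR : (S : Subgroup G) ≤ normalizer (R : Set G) := by
      intro s hs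
      apply Commutators.mem_normalizer_of_conj_mem
      · rintro a ⟨ha1, ha2⟩
        exact ⟨(mem_normalizer_iff.1 (hSX hs) a).1 ha1, (S : Subgroup G).mul_mem ((S : Subgroup G).mul_mem hs ha2) ((S : Subgroup G).inv_mem hs)⟩
      · rintro a ⟨ha1, ha2⟩
        have h3 := (mem_normalizer_iff.1 (hSX ((S : Subgroup G).inv_mem hs)) a).1 ha1
        rw [inv_inv] at h3
        exact ⟨h3, (S : Subgroup G).mul_mem ((S : Subgroup G).mul_mem ((S : Subgroup G).inv_mem hs) ha2) hs⟩
    have hNM := hmax _ hSR hN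
    have hXne : X ≠ ⊤ := by
      rintro rfl
      exact hMtop (top_le_iff.1 hXM)
    obtain ⟨Y₁, hlt, hY₁s, hY₁n⟩ := (IsSubnormal.iff_eq_top_or_exists.1 hXs).resolve_left hXne
    obtain ⟨Y, hYs, hY₁Y, hSY, hYmin⟩ := exists_closure (S : Subgroup G) hY₁s
    have hXY : X < Y := hlt.trans_le hY₁Y
    have hYN : Y ≤ normalizer (X : Set G) :=
      hYmin _ (hSX.trans le_normalizer) ((normal_subgroupOf_iff_le_normalizer hlt.le).1 hY₁n)
    obtain ⟨T, hT⟩ := exists_sylow_sn S hXs
    have hYM : Y ≤ M := by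
      intro y hy
      obtain ⟨k, hk, hky⟩ := SchurZ2.frattini_of_normalizer T (hYN hy)
      rw [hT, inf_comm] at hky
      have h1 := hNM hky
      have h2 := M.mul_mem (M.inv_mem (hXM hk)) h1
      have h3 : k⁻¹ * (k * y) = y := by group
      rwa [h3] at h2
    have hlt' : Nat.card G - Nat.card Y < n := by
      have h1 : Nat.card X < Nat.card Y := WeaklyClosed.card_lt_of_lt hXY
      have h2 : Nat.card Y ≤ Nat.card G := Subgroup.card_le_card_group Y
      omega
    have := ih _ hlt' Y rfl hYs hYM hSY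
    exact (inf_le_inf_right _ hXY.le).trans this

theorem primes_le (S : Sylow p G) (M : Subgroup G)
    (hMtop : M ≠ ⊤) (hSM : (S : Subgroup G) ≤ M)
    (hmax : ∀ X : Subgroup G, (S : Subgroup G) ≤ X → X ≠ ⊤ → X ≤ M)
    (hc : Cfsg.IsPClosed p (Cfsg.pResidual p G)) : (Nat.card G).primeFactors.card ≤ 2 := by
  classical
  set K := Cfsg.pResidual p G with hK
  haveI hKn : K.Normal := pResidual_normal p G
  obtain ⟨T⟩ : Nonempty (Sylow p K) := inferInstance
  set T₀ := (T : Subgroup K).map K.subtype with hT₀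
  haveI hT₀n : T₀.Normal := map_sylow_normal hKn hc T
  have hT₀p : IsPGroup p T₀ := T.isPGroup'.map _
  have hT₀S : T₀ ≤ S := hT₀p.le_sylow_of_normal S
  let π := QuotientGroup.mk' T₀
  have hπs : Function.Surjective π := QuotientGroup.mk'_surjective T₀
  have hker : π.ker = T₀ := QuotientGroup.ker_mk' T₀
  set Kb := K.map π with hKb
  set Sb := (S : Subgroup G).map π with hSb
  set Mb := M.map π with hMb
  have hT₀K : T₀.subgroupOf K = T := Subgroup.comap_map_eq_self_of_injective K.subtype_injective _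
  have hcardK : Nat.card Kb = (T : Subgroup K).index := by
    rw [hKb, ← Subgroup.relIndex_ker, hker]
    show (T₀.subgroupOf K).index = _
    rw [hT₀K]
  have hnot : ¬ p ∣ Nat.card Kb := by
    rw [hcardK]; exact T.not_dvd_index
  have hSbp : IsPGroup p Sb := S.isPGroup'.map π
  have hpp : p.Prime := Fact.out
  have hcop : Nat.Coprime (Nat.card Kb) (Nat.card Sb) := by
    obtain ⟨k, hk⟩ := hSbp.exists_card_eq
    rw [hk]
    exact Nat.Coprime.pow_right _ ((hpp.coprime_iff_not_dvd).2 hnot).symm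
  have hKbn : Kb.Normal := hKn.map π hπs
  have hSbK : Sb ≤ normalizer (Kb : Set (G ⧸ T₀)) := by
    rw [normalizer_eq_top_iff.2 hKbn]; exact le_top
  have hsolv : Group.IsSolvable Kb ∨ Group.IsSolvable Sb := by
    right
    haveI := hSbp.isNilpotent
    infer_instance
  have hcomapM : Mb.comap π = M :=
    Subgroup.comap_map_eq_self (by rw [hker]; exact hT₀S.trans hSM)
  -- a prime dividing the order
  have hdiv : ∀ r : ℕ, r.Prime → r ∣ Nat.card G → r ≠ p → r ∣ Nat.card Kb := by
    intro r hr hrd hrp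
    have h1 := K.card_mul_index
    have h2 := (T : Subgroup K).card_mul_index
    obtain ⟨a, ha⟩ := T.isPGroup'.exists_card_eq
    have h3 : IsPGroup p (G ⧸ K) := isPGroup_quotient_pResidual
    obtain ⟨b, hb⟩ := h3.exists_card_eq
    have h4 : K.index = p ^ b := by
      rw [Subgroup.index_eq_card]; exact hb
    rw [hcardK]
    rw [← h1, h4, ← h2, ha] at hrd
    have hrp' : ¬ r ∣ p := fun h => hrp ((Nat.prime_dvd_prime_iff_eq hr hpp).1 h)
    rcases (Nat.Prime.dvd_mul hr).1 hrd with h5 | h5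
    · rcases (Nat.Prime.dvd_mul hr).1 h5 with h6 | h6
      · exact absurd (hr.dvd_of_dvd_pow h6) hrp'
      · exact h6
    · exact absurd (hr.dvd_of_dvd_pow h5) hrp'
  -- the invariant Sylow subgroups
  have hclaim : ∀ (q : ℕ) [Fact q.Prime] (Q₀ : Sylow q Kb),
      Sb ≤ normalizer (((Q₀ : Subgroup Kb).map Kb.subtype : Subgroup (G ⧸ T₀)) : Set (G ⧸ T₀)) →
      (Q₀ : Subgroup Kb).map Kb.subtype ≤ Mb ∨ Nat.card Kb = Nat.card Q₀ := by
    intro q _ Q₀ hQ₀
    set Q := (Q₀ : Subgroup Kb).map Kb.subtype with hQ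
    by_cases hY : Q ⊔ Sb = ⊤
    · right
      have h1 := SchurZ2.card_sup_mul_card_inf Q Sb hQ₀
      rw [hY, Subgroup.card_top] at h1
      have h2 : Nat.card (G ⧸ T₀) ∣ Nat.card Q * Nat.card Sb := by
        rw [← h1]; exact dvd_mul_right _ _
      have h3 : Nat.card Kb ∣ Nat.card Q * Nat.card Sb :=
        (Subgroup.card_subgroup_dvd_card Kb).trans h2
      have h4 : Nat.card Kb ∣ Nat.card Q := hcop.dvd_of_dvd_mul_right h3
      have h5 : Nat.card Q = Nat.card Q₀ := by
        rw [hQ]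
        exact Nat.card_congr (Subgroup.equivMapOfInjective _ _ Kb.subtype_injective).toEquiv.symm
      apply le_antisymm
      · rw [← h5]; exact Nat.le_of_dvd Nat.card_pos h4
      · exact Subgroup.card_le_card_group _
    · left
      have h1 : (Q ⊔ Sb).comap π ≤ M := by
        apply hmax
        · intro s hs
          exact (le_sup_right : Sb ≤ Q ⊔ Sb) ⟨s, hs, rfl⟩
        · intro h0
          apply hY
          have := Subgroup.map_comap_eq_self_of_surjective hπs (Q ⊔ Sb)
          rw [h0, Subgroup.map_top_of_surjective _ hπs] at this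
          exact this.symm
      intro x hx
      obtain ⟨g, rfl⟩ := hπs x
      have h2 : g ∈ (Q ⊔ Sb).comap π := (le_sup_left : Q ≤ Q ⊔ Sb) hx
      exact ⟨g, h1 h2, rfl⟩
  by_contra hcon
  push_neg at hcon
  -- two primes different from `p`
  have h3 : 1 < ((Nat.card G).primeFactors.erase p).card := by
    have := Finset.pred_card_le_card_erase (s := (Nat.card G).primeFactors) (a := p)
    omega
  obtain ⟨q₁, hq₁, q₂, hq₂, hne⟩ := Finset.one_lt_card.1 h3
  rw [Finset.mem_erase, Nat.mem_primeFactors] at hq₁ hq₂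
  have hd₁ := hdiv q₁ hq₁.2.1 hq₁.2.2.1 hq₁.1
  have hd₂ := hdiv q₂ hq₂.2.1 hq₂.2.2.1 hq₂.1
  -- `Kb ≤ Mb`
  have hle : Kb ≤ Mb := by
    by_contra hnle
    have hI : Mb.relIndex Kb ≠ 1 := fun h => hnle (Subgroup.relIndex_eq_one.1 h)
    obtain ⟨q, hq, hqd⟩ := Nat.exists_prime_and_dvd hI
    have hqK : q ∣ Nat.card Kb := hqd.trans (Subgroup.relIndex_dvd_card Mb Kb)
    haveI : Fact q.Prime := ⟨hq⟩
    obtain ⟨Q₀, hQ₀⟩ := SchurZ2.exists_invariant_sylow Sb Kb hSbK hcop hsolv q
    rcases hclaim q Q₀ hQ₀ with h1 | h1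
    · have h2 : Mb.relIndex Kb ∣ ((Q₀ : Subgroup Kb).map Kb.subtype).relIndex Kb :=
        Subgroup.relIndex_dvd_of_le_left Kb h1
      have h3 : ((Q₀ : Subgroup Kb).map Kb.subtype).subgroupOf Kb = Q₀ :=
        Subgroup.comap_map_eq_self_of_injective Kb.subtype_injective _
      have h4 : ((Q₀ : Subgroup Kb).map Kb.subtype).relIndex Kb = (Q₀ : Subgroup Kb).index := by
        show (((Q₀ : Subgroup Kb).map Kb.subtype).subgroupOf Kb).index = _
        rw [h3]
      rw [h4] at h2
      exact Q₀.not_dvd_index (hqd.trans h2)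
    · -- `Kb` is a `q`-group
      obtain ⟨a, ha⟩ := Q₀.isPGroup'.exists_card_eq
      rw [ha] at h1
      rw [h1] at hd₁ hd₂
      have e₁ := (Nat.prime_dvd_prime_iff_eq hq₁.2.1 hq).1 (hq₁.2.1.dvd_of_dvd_pow hd₁)
      have e₂ := (Nat.prime_dvd_prime_iff_eq hq₂.2.1 hq).1 (hq₂.2.1.dvd_of_dvd_pow hd₂)
      exact hne (e₁.trans e₂.symm)
  have hKM : K ≤ M := by
    rw [← hcomapM, ← Subgroup.map_le_iff_le_comap]
    exact hle
  apply hMtop
  have h5 := pResidual_sup_sylow (p := p) S
  rw [eq_top_iff, ← h5]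
  exact sup_le hKM hSM

end aux


/-- Let P be a finite p-minimal group (a Sylow p-subgroup S is not normal and lies in a unique maximal subgroup M of P) and let F be the normal core of M. Then: every subnormal subgroup N of P contained in M satisfies N ∩ S ≤ O_p(P); if O^p(P) has a normal Sylow p-subgroup then the order of P has at most two prime divisors; every normal subgroup N of P either contains O^p(P) or is contained in F; and O^p(P)F ⧸ F is a minimal normal subgroup of P ⧸ F. -/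
theorem result {P : Type*} [Group P] [Finite P] {p : ℕ} [Fact p.Prime] (hP : Cfsg.IsPMinimal p P) (S : Sylow p P) (M : Subgroup P) (hM : IsCoatom M) (hSM : (S : Subgroup P) ≤ M) [hF : M.normalCore.Normal] : (∀ N : Subgroup P, N.IsSubnormal → N ≤ M → N ⊓ (S : Subgroup P) ≤ Cfsg.pCore p P) ∧ ((∀ T : Sylow p ↥(Cfsg.pResidual p P), (T : Subgroup ↥(Cfsg.pResidual p P)).Normal) → (Nat.card P).primeFactors.card ≤ 2) ∧ (∀ N : Subgroup P, N.Normal → Cfsg.pResidual p P ≤ N ∨ N ≤ M.normalCore) ∧ (∀ N : Subgroup P, N.Normal → M.normalCore ≤ N → N ≤ Cfsg.pResidual p P ⊔ M.normalCore → N = M.normalCore ∨ N = Cfsg.pResidual p P ⊔ M.normalCore) ∧ M.normalCore < Cfsg.pResidual p P ⊔ M.normalCore := by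
  classical
  obtain ⟨hSn, M', ⟨hM'1, hM'2⟩, hu⟩ := hP S
  have hMu : ∀ X : Subgroup P, IsCoatom X → (S : Subgroup P) ≤ X → X = M := fun X h1 h2 =>
    (hu X ⟨h1, h2⟩).trans (hu M ⟨hM, hSM⟩).symm
  have hmax : ∀ X : Subgroup P, (S : Subgroup P) ≤ X → X ≠ ⊤ → X ≤ M := by
    intro X hX hne
    rcases eq_top_or_exists_le_coatom X with h | ⟨Y, hY, hXY⟩
    · exact absurd h hne
    · rw [← hMu Y hY (hX.trans hXY)]; exact hXY
  have hMtop : M ≠ ⊤ := hM.1
  have hFM : M.normalCore ≤ M := Subgroup.normalCore_le M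
  have hres := pResidual_sup_sylow (p := p) S
  have h3 : ∀ N : Subgroup P, N.Normal → Cfsg.pResidual p P ≤ N ∨ N ≤ M.normalCore := by
    intro N hN
    by_cases h : N ≤ M
    · right
      exact Subgroup.normal_le_normalCore.2 h
    · left
      apply pResidual_le_of_sup_eq_top S.isPGroup'
      by_contra hne
      exact h (le_sup_left.trans (hmax _ le_sup_right hne))
  refine ⟨?_, ?_, h3, ?_, ?_⟩
  · intro N hNs hNM
    obtain ⟨N', hN's, hNN', hSN', hmin⟩ := exists_closure (S : Subgroup P) hNs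
    have hN'M : N' ≤ M := by
      apply hmin M
      · exact hSM.trans Subgroup.le_normalizer
      · exact hNM
    have := key_sn S M hMtop hmax _ N' rfl hN's hN'M hSN'
    exact (inf_le_inf_right _ hNN').trans this
  · intro hc
    exact primes_le S M hMtop hSM hmax hc
  · intro N hN hFN hNle
    rcases h3 N hN with h | h
    · right
      exact le_antisymm hNle (sup_le h hFN)
    · left
      exact le_antisymm h hFN
  · apply lt_of_le_of_ne le_sup_right
    intro h0
    have h1 : Cfsg.pResidual p P ≤ M := by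
      calc Cfsg.pResidual p P ≤ Cfsg.pResidual p P ⊔ M.normalCore := le_sup_left
        _ = M.normalCore := h0.symm
        _ ≤ M := hFM
    apply hMtop
    rw [eq_top_iff, ← hres]
    exact sup_le h1 hSM

end Cfsg.Agent.S2905
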