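import Cfsg.Statements.S2911
import Cfsg.Agent.S2872
import Cfsg.Agent.Lib.H2Basic
import Cfsg.Agent.Lib.TraceFix

set_option autoImplicit false
open Cfsg

namespace Cfsg.Agent.S2911

abbrev WW := Multiplicative (ZMod 2) × DihedralGroup 4
def wZ : WW := (1, DihedralGroup.r 2)
def wA : WW := (Multiplicative.ofAdd 1, 1)
def wR : WW := (1, DihedralGroup.r 1)
def wS : WW := (1, DihedralGroup.sr 0)
set_option maxRecDepth 100000 in
theorem wCommFact : ∀ x y : WW, x * y * x⁻¹ * y⁻¹ = 1 ∨ x * y * x⁻¹ * y⁻¹ = wZ := by decide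
set_option maxRecDepth 100000 in
theorem wCenFact : ∀ w : WW, (∀ y : WW, w * y = y * w) → w = 1 ∨ w = wZ ∨ w = wA ∨ w = wA * wZ := by decide
theorem wZc : wZ = wR * wS * wR⁻¹ * wS⁻¹ := by decide
theorem wZ2 : wZ * wZ = 1 := by decide
theorem wZ1 : wZ ≠ 1 := by decide
theorem wZZ : wA * wZ * wZ = wA := by decide
theorem wA2 : wA * wA = 1 := by decide
theorem wNe : ¬ (Multiplicative.ofAdd (1 : ZMod 2)) = (1 : Multiplicative (ZMod 2)) := by decide


/-- A finite group whose Sylow 2-subgroups are isomorphic to the direct product of a group of order 2 and a dihedral group of order 8 has a subgroup of index two. -/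
theorem result {G : Type*} [Group G] [Finite G] (S : Sylow 2 G) (hS : Nonempty (↥(S : Subgroup G) ≃* Multiplicative (ZMod 2) × DihedralGroup 4)) : ∃ H : Subgroup G, H.index = 2 := by
  classical
  obtain ⟨e⟩ := hS
  have hp2 : Fact (Nat.Prime 2) := ⟨Nat.prime_two⟩
  rcases Cfsg.Agent.S2872.result S with h1 | h2 | ⟨g, hg, z, hz, hne⟩
  · -- `O²(G) ≠ G`
    haveI hRn : (Cfsg.pResidual 2 G).Normal := Cfsg.Agent.Lib.PResidual.pResidual_normal 2 G
    have hQ : IsPGroup 2 (G ⧸ Cfsg.pResidual 2 G) := Cfsg.Agent.Lib.PResidual.isPGroup_quotient_pResidual (p := 2) (G := G)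
    obtain ⟨n, hn⟩ := IsPGroup.iff_card.mp hQ
    have hn0 : n ≠ 0 := by
      rintro rfl
      rw [pow_zero] at hn
      have h3 : Subgroup.index (Cfsg.pResidual 2 G) = 1 := hn
      exact h1 (Subgroup.index_eq_one.mp h3)
    obtain ⟨m, rfl⟩ := Nat.exists_eq_succ_of_ne_zero hn0
    have hdvd : 2 ^ m ∣ Nat.card (G ⧸ Cfsg.pResidual 2 G) := by
      rw [hn]; exact pow_dvd_pow 2 (Nat.le_succ m)
    obtain ⟨K, hK⟩ := Sylow.exists_subgroup_card_pow_prime 2 hdvd
    refine ⟨K.comap (QuotientGroup.mk' (Cfsg.pResidual 2 G)), ?_⟩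
    rw [Subgroup.index_comap_of_surjective _ (QuotientGroup.mk'_surjective _)]
    have h3 := K.card_mul_index
    rw [hK, hn, pow_succ] at h3
    exact Nat.eq_of_mul_eq_mul_left (by positivity) h3
  · -- `Ω₁(Z(S)) ≤ Φ(S)` is impossible
    exfalso
    let y : ↥(S : Subgroup G) := e.symm wA
    have ha2 : wA * wA = 1 := wA2
    have hacentral : ∀ w, wA * w = w * wA := by
      intro w
      refine Prod.ext ?_ ?_
      · exact mul_comm _ _
      · simp [wA]
    have hyC : (y : G) ∈ Subgroup.centralizer ((S : Subgroup G) : Set G) := by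
      refine Subgroup.mem_centralizer_iff.mpr fun s hs => ?_
      have h3 : e ⟨s, hs⟩ * wA = wA * e ⟨s, hs⟩ := (hacentral _).symm
      have h4 : (⟨s, hs⟩ : ↥(S : Subgroup G)) * y = y * ⟨s, hs⟩ := by
        apply e.injective
        simp only [map_mul, y, MulEquiv.apply_symm_apply]
        exact h3
      exact congrArg Subtype.val h4
    have hy2 : (y : G) ^ 2 = 1 := by
      have h3 : y * y = 1 := by
        apply e.injective
        simp only [map_mul, y, MulEquiv.apply_symm_apply, map_one]
        exact ha2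
      have := congrArg Subtype.val h3
      rw [sq]
      exact this
    have hyΩ : (y : G) ∈ Cfsg.omegaOne 2 ((S : Subgroup G) ⊓ Subgroup.centralizer ((S : Subgroup G) : Set G)) :=
      Subgroup.subset_closure ⟨⟨y.2, hyC⟩, hy2⟩
    obtain ⟨y', hy', hyy⟩ := h2 hyΩ
    have hyy' : y' = y := Subtype.ext hyy
    subst hyy'
    let π : ↥(S : Subgroup G) →* Multiplicative (ZMod 2) := (MonoidHom.fst _ _).comp e.toMonoidHom
    have hπs : Function.Surjective π := by
      intro w
      exact ⟨e.symm (w, 1), by simp [π]⟩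
    have hind : π.ker.index = 2 := by
      rw [Subgroup.index_ker, MonoidHom.range_eq_top.mpr hπs, Subgroup.card_top, Nat.card_eq_fintype_card]
      rfl
    have hco : IsCoatom π.ker := Cfsg.Agent.Lib.H2Basic.isCoatom_of_index_two hind
    have h3 := frattini_le_coatom hco hy'
    rw [MonoidHom.mem_ker] at h3
    have h4 : π y = Multiplicative.ofAdd 1 := by simp [π, y, wA]
    rw [h4] at h3
    exact absurd h3 wNe
  · exfalso
    -- the explicit structure of `C₂ × D₈`
    have hcomm := wCommFact
    have hcen := wCenFact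
    have hwZc := wZc
    have hwZ2 := wZ2
    have hwZ1 := wZ1
    have hzaza := wZZ
    -- the automorphism induced by `g`
    let f : ↥(S : Subgroup G) ≃* ↥(S : Subgroup G) := Subgroup.normalizerMonoidHom _ ⟨g, hg⟩
    have hf : ∀ s : ↥(S : Subgroup G), ((f s : ↥(S : Subgroup G)) : G) = g * s * g⁻¹ := fun s => rfl
    let β : WW ≃* WW := (e.symm.trans f).trans e
    have hβ : ∀ w : WW, β w = e (f (e.symm w)) := fun w => rfl
    have hβwZ : β wZ = wZ := by
      have h3 : β wZ = β wR * β wS * (β wR)⁻¹ * (β wS)⁻¹ := by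
        conv_lhs => rw [hwZc]
        rw [map_mul, map_mul, map_mul, map_inv, map_inv]
      rcases hcomm (β wR) (β wS) with h4 | h4
      · exfalso
        rw [h4] at h3
        apply hwZ1
        apply β.injective
        rw [h3, map_one]
      · rw [h3, h4]
    -- `z`, as an element of `W`
    have hzmem : z ∈ (S : Subgroup G) ⊓ Subgroup.centralizer ((S : Subgroup G) : Set G) :=
      Cfsg.Agent.Lib.TraceFix.omegaOne_center_le _ hz
    let z' : ↥(S : Subgroup G) := ⟨z, hzmem.1⟩
    let w := e z'
    have hwc : ∀ y : WW, w * y = y * w := by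
      intro y
      have h3 : z' * e.symm y = e.symm y * z' := by
        apply Subtype.ext
        exact (Subgroup.mem_centralizer_iff.mp hzmem.2 _ (e.symm y).2).symm
      have := congrArg e h3
      simpa [w] using this
    have hβw : β w = e (f z') := by
      rw [hβ]; simp [w]
    have hβc : ∀ y : WW, β w * y = y * β w := by
      intro y
      apply β.symm.injective
      simp only [map_mul, MulEquiv.symm_apply_apply]
      exact hwc _
    have hβne : β w ≠ w := by
      intro h3
      apply hne
      rw [hβw] at h3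
      have h4 : f z' = z' := e.injective h3
      have := congrArg Subtype.val h4
      rw [hf] at this
      exact this
    have hcases : β w = w * wZ := by
      have hw1 : w ≠ 1 := by
        intro h3
        apply hβne
        rw [h3, map_one]
      have hwz : w ≠ wZ := by
        intro h3
        apply hβne
        rw [h3, hβwZ]
      have hβ1 : β w ≠ 1 := by
        intro h3
        apply hw1
        apply β.injective
        rw [h3, map_one]
      have hβz : β w ≠ wZ := by
        intro h3
        apply hwz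
        apply β.injective
        rw [h3, hβwZ]
      rcases hcen w hwc with h3 | h3 | h3 | h3
      · exact absurd h3 hw1
      · exact absurd h3 hwz
      · rcases hcen (β w) hβc with h4 | h4 | h4 | h4
        · exact absurd h4 hβ1
        · exact absurd h4 hβz
        · exact absurd (h4.trans h3.symm) hβne
        · rw [h4, h3]
      · rcases hcen (β w) hβc with h4 | h4 | h4 | h4
        · exact absurd h4 hβ1
        · exact absurd h4 hβz
        · rw [h4, h3, hzaza]
        · exact absurd (h4.trans h3.symm) hβne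
    -- back to `G`
    set zh : G := ((e.symm wZ : ↥(S : Subgroup G)) : G) with hzhat
    have h1 : g * z * g⁻¹ = z * zh := by
      have h3 : e (f z') = e (z' * e.symm wZ) := by
        rw [map_mul, MulEquiv.apply_symm_apply, ← hβw]
        exact hcases
      have h4 := congrArg Subtype.val (e.injective h3)
      rw [hf] at h4
      exact h4
    have h2 : g * zh * g⁻¹ = zh := by
      have h3 : f (e.symm wZ) = e.symm wZ := by
        apply e.injective
        rw [MulEquiv.apply_symm_apply]
        exact hβwZ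
      have h4 := congrArg Subtype.val h3
      rw [hf] at h4
      exact h4
    have h3 : zh * zh = 1 := by
      have h4 : e.symm wZ * e.symm wZ = 1 := by
        rw [← map_mul, hwZ2, map_one]
      exact congrArg Subtype.val h4
    have h4 : g ^ 2 * z * (g ^ 2)⁻¹ = z := by
      calc g ^ 2 * z * (g ^ 2)⁻¹ = g * (g * z * g⁻¹) * g⁻¹ := by
            rw [sq, mul_inv_rev]; simp only [mul_assoc]
        _ = g * (z * zh) * g⁻¹ := by rw [h1]
        _ = (g * z * g⁻¹) * (g * zh * g⁻¹) := by group
        _ = z := by rw [h1, h2, mul_assoc, h3, mul_one]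
    have h5 : g ^ 2 * zh * (g ^ 2)⁻¹ = zh := by
      calc g ^ 2 * zh * (g ^ 2)⁻¹ = g * (g * zh * g⁻¹) * g⁻¹ := by
            rw [sq, mul_inv_rev]; simp only [mul_assoc]
        _ = zh := by rw [h2, h2]
    have hpow : ∀ j : ℕ, g ^ (2 * j + 1) * z * (g ^ (2 * j + 1))⁻¹ = z * zh := by
      intro j
      induction j with
      | zero => simpa using h1
      | succ j ih =>
        have h6 : g ^ (2 * (j + 1) + 1) = g ^ 2 * g ^ (2 * j + 1) := by
          rw [← pow_add]; congr 1; ring
        calc g ^ (2 * (j + 1) + 1) * z * (g ^ (2 * (j + 1) + 1))⁻¹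
            = g ^ 2 * (g ^ (2 * j + 1) * z * (g ^ (2 * j + 1))⁻¹) * (g ^ 2)⁻¹ := by rw [h6]; group
          _ = (g ^ 2 * z * (g ^ 2)⁻¹) * (g ^ 2 * zh * (g ^ 2)⁻¹) := by rw [ih]; group
          _ = z * zh := by rw [h4, h5]
    obtain ⟨k, m, hm, hkm⟩ := Nat.exists_eq_two_pow_mul_odd (orderOf_pos g).ne'
    obtain ⟨j, rfl⟩ := hm
    set g₂ := g ^ (2 * j + 1) with hg₂
    have hg₂pow : g₂ ^ (2 ^ k) = 1 := by
      rw [hg₂, ← pow_mul, mul_comm, ← hkm, pow_orderOf_eq_one]
    obtain ⟨i, -, hi⟩ := (Nat.dvd_prime_pow Nat.prime_two).mp (orderOf_dvd_of_pow_eq_one hg₂pow)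
    have hZp : IsPGroup 2 (Subgroup.zpowers g₂) := IsPGroup.of_card (n := i) (by rw [Nat.card_zpowers, hi])
    have hZN : Subgroup.zpowers g₂ ≤ Subgroup.normalizer ((S : Subgroup G) : Set G) := by
      rw [Subgroup.zpowers_le]
      exact pow_mem hg _
    have hsup : IsPGroup 2 (((S : Subgroup G) ⊔ Subgroup.zpowers g₂ : Subgroup G) : Subgroup G) :=
      IsPGroup.to_sup_of_normal_left' S.isPGroup' hZp hZN
    have heq := S.is_maximal' hsup le_sup_left
    have hg₂S : g₂ ∈ (S : Subgroup G) := by
      rw [← heq]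
      exact (le_sup_right : Subgroup.zpowers g₂ ≤ _) (Subgroup.mem_zpowers g₂)
    have h7 : g₂ * z = z * g₂ := Subgroup.mem_centralizer_iff.mp hzmem.2 g₂ hg₂S
    have h8 := hpow j
    rw [← hg₂, h7, mul_inv_cancel_right] at h8
    have h9 : zh = 1 := by
      have := mul_left_cancel (a := z) (b := 1) (c := zh) (by rw [mul_one]; exact h8)
      exact this.symm
    have h10 : e.symm wZ = 1 := Subtype.ext h9
    apply hwZ1
    apply e.symm.injective
    rw [h10, map_one]

end Cfsg.Agent.S2911
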