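import Cfsg.Statements.S2925
import Cfsg.Agent.S2905
import Cfsg.Agent.Lib.Comps
import Cfsg.Agent.Lib.Layer
import Cfsg.Agent.Lib.AmalgamChar

set_option autoImplicit false
open Cfsg

namespace Cfsg.Agent.S2925

open scoped commutatorElement
open Cfsg.Agent.Lib Subgroup


/-- Let K be a component of the finite group X and T a Sylow 2-subgroup of X. If some abelian normal subgroup Y of T does not normalize K, then K ⧸ Z(K) has abelian Sylow 2-subgroups. -/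
theorem result {X : Type*} [Group X] [Finite X] (K : Subgroup X) (hK : Cfsg.IsComponent K) (T : Sylow 2 X) (Y : Subgroup X) (hYT : Y ≤ (T : Subgroup X)) (hYn : (Y.subgroupOf (T : Subgroup X)).Normal) (hYab : IsMulCommutative ↥Y) (hnot : ¬ Y ≤ Subgroup.normalizer (K : Set X)) (P : Sylow 2 (↥K ⧸ Subgroup.center ↥K)) : IsMulCommutative ↥(P : Subgroup (↥K ⧸ Subgroup.center ↥K)) := by
  classical
  obtain ⟨y, hyY, hyN⟩ := SetLike.not_le_iff_exists.1 hnot
  have hyT := hYT hyY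
  have hK' : Cfsg.IsComponent (K.map (MulAut.conj y).toMonoidHom) := Layer.isComponent_map (MulAut.conj y) hK
  have hcomm : ⁅K, K.map (MulAut.conj y).toMonoidHom⁆ = ⊥ := by
    rcases Comps.comp_comm_comp hK hK' with h | h
    · exact absurd (AmalgamChar.mem_normalizer_of_map_eq h.symm) hyN
    · exact h
  have hKC : ∀ a ∈ K, ∀ b ∈ K.map (MulAut.conj y).toMonoidHom, b * a = a * b := by
    intro a ha b hb
    exact mem_centralizer_iff.1 (Subgroup.commutator_eq_bot_iff_le_centralizer.1 hcomm ha) b hb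
  have hσ : ∀ t ∈ K, y * t⁻¹ * y⁻¹ ∈ K.map (MulAut.conj y).toMonoidHom := fun t ht => ⟨t⁻¹, K.inv_mem ht, rfl⟩
  have ha : ∀ t ∈ (T : Subgroup X), t * y * t⁻¹ * y⁻¹ ∈ Y := by
    intro t ht
    have h1 := hYn.conj_mem ⟨y, hyT⟩ hyY ⟨t, ht⟩
    have h2 : t * y * t⁻¹ ∈ Y := h1
    exact Y.mul_mem h2 (Y.inv_mem hyY)
  have hz : ∀ t ∈ (T : Subgroup X) ⊓ K, ∀ t' ∈ (T : Subgroup X) ⊓ K,
      t⁻¹ * t'⁻¹ * t * t' ∈ K.map (MulAut.conj y).toMonoidHom := by
    intro t ht t' ht'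
    have h1 := hYab.is_comm.comm ⟨_, ha t ht.1⟩ ⟨_, ha t' ht'.1⟩
    have h2 : (t * y * t⁻¹ * y⁻¹) * (t' * y * t'⁻¹ * y⁻¹) = (t' * y * t'⁻¹ * y⁻¹) * (t * y * t⁻¹ * y⁻¹) :=
      congrArg Subtype.val h1
    set s := y * t⁻¹ * y⁻¹ with hs
    set s' := y * t'⁻¹ * y⁻¹ with hs'
    have e1 : t * y * t⁻¹ * y⁻¹ = t * s := by rw [hs]; group
    have e2 : t' * y * t'⁻¹ * y⁻¹ = t' * s' := by rw [hs']; group
    rw [e1, e2] at h2
    have c1 : s * t' = t' * s := hKC t' ht'.2 s (hσ t ht.2)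
    have c2 : s' * t = t * s' := hKC t ht.2 s' (hσ t' ht'.2)
    have h3 : t * t' * (s * s') = t' * t * (s' * s) := by
      calc t * t' * (s * s') = t * (t' * s) * s' := by group
        _ = t * (s * t') * s' := by rw [c1]
        _ = t * s * (t' * s') := by group
        _ = t' * s' * (t * s) := h2
        _ = t' * (s' * t) * s := by group
        _ = t' * (t * s') * s := by rw [c2]
        _ = t' * t * (s' * s) := by group
    have h4 : t⁻¹ * t'⁻¹ * t * t' = s' * s * s'⁻¹ * s⁻¹ := by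
      have h5 : (t' * t)⁻¹ * (t * t') = (s' * s) * (s * s')⁻¹ := by
        rw [eq_mul_inv_iff_mul_eq]
        calc (t' * t)⁻¹ * (t * t') * (s * s') = (t' * t)⁻¹ * (t * t' * (s * s')) := by group
          _ = (t' * t)⁻¹ * (t' * t * (s' * s)) := by rw [h3]
          _ = s' * s := by group
      calc t⁻¹ * t'⁻¹ * t * t' = (t' * t)⁻¹ * (t * t') := by group
        _ = (s' * s) * (s * s')⁻¹ := h5
        _ = s' * s * s'⁻¹ * s⁻¹ := by group
    rw [h4]
    have hs1 := hσ t ht.2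
    have hs2 := hσ t' ht'.2
    exact mul_mem (mul_mem (mul_mem hs2 hs1) (inv_mem hs2)) (inv_mem hs1)
  obtain ⟨T₀, hT₀⟩ := Cfsg.Agent.S2905.exists_sylow_sn T hK.1
  let π : ↥K →* ↥K ⧸ center ↥K := QuotientGroup.mk' _
  have hπ : Function.Surjective π := QuotientGroup.mk'_surjective _
  let Q₀ : Sylow 2 (↥K ⧸ center ↥K) := T₀.mapSurjective hπ
  have hQ₀ : ∀ a ∈ (Q₀ : Subgroup (↥K ⧸ center ↥K)), ∀ b ∈ (Q₀ : Subgroup (↥K ⧸ center ↥K)), a * b = b * a := by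
    rintro _ ⟨u, hu, rfl⟩ _ ⟨v, hv, rfl⟩
    have hu' : (u : X) ∈ (T : Subgroup X) ⊓ K := by
      rw [← hT₀]
      exact ⟨u, hu, rfl⟩
    have hv' : (v : X) ∈ (T : Subgroup X) ⊓ K := by
      rw [← hT₀]
      exact ⟨v, hv, rfl⟩
    have h1 := hz _ (inv_mem hu') _ (inv_mem hv')
    simp only [inv_inv] at h1
    have h2 : ⁅u, v⁆ ∈ center ↥K := by
      rw [Subgroup.mem_center_iff]
      intro k
      apply Subtype.ext
      have h3 := hKC k k.2 _ h1
      rw [commutatorElement_def]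
      push_cast
      exact h3.symm
    have h4 : π ⁅u, v⁆ = 1 := (QuotientGroup.eq_one_iff _).2 h2
    rw [map_commutatorElement, commutatorElement_eq_one_iff_mul_comm] at h4
    exact h4
  obtain ⟨g, hg⟩ := MulAction.exists_smul_eq (↥K ⧸ center ↥K) Q₀ P
  have hP : (P : Subgroup (↥K ⧸ center ↥K)) = (Q₀ : Subgroup (↥K ⧸ center ↥K)).map (MulAut.conj g).toMonoidHom := by
    rw [← hg]; rfl
  refine ⟨⟨fun a b => ?_⟩⟩
  apply Subtype.ext
  obtain ⟨a, ha'⟩ := a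
  obtain ⟨b, hb'⟩ := b
  rw [hP] at ha' hb'
  obtain ⟨a₀, ha₀, rfl⟩ := ha'
  obtain ⟨b₀, hb₀, rfl⟩ := hb'
  show (MulAut.conj g).toMonoidHom a₀ * (MulAut.conj g).toMonoidHom b₀ = (MulAut.conj g).toMonoidHom b₀ * (MulAut.conj g).toMonoidHom a₀
  rw [← map_mul, ← map_mul, hQ₀ a₀ ha₀ b₀ hb₀]

end Cfsg.Agent.S2925
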