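import Mathlib
import Cfsg.Agent.Lib.Isolated
import Cfsg.Statements.S2968
-- import your own Cfsg.Agent.* helpers here

set_option autoImplicit false
open Cfsg

namespace Cfsg.Agent.S2968

/-- Let G be a finite group, p a prime, P a Sylow p-subgroup of G and x ∈ P an element of p-power order which is isolated in G (the only conjugate of x commuting with x is x itself). Then x lies in the centre of P, and the subgroup generated by x is both strongly closed and weakly closed in P with respect to G. -/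
theorem result {G : Type*} [Group G] [Finite G] {p : ℕ} [Fact p.Prime] (P : Sylow p G) (x : G) (hxP : x ∈ (P : Subgroup G)) (hx : ∃ k : ℕ, orderOf x = p ^ k) (hiso : Cfsg.IsIsolated x) : x ∈ (P : Subgroup G) ⊓ Subgroup.centralizer ((P : Subgroup G) : Set G) ∧ Cfsg.IsStronglyClosed (Subgroup.zpowers x) (P : Subgroup G) ∧ Cfsg.IsWeaklyClosed (Subgroup.zpowers x) (P : Subgroup G) := by
  classical
  have hPp : IsPGroup p (P : Subgroup G) := P.isPGroup'
  have hcen : ∀ g ∈ (P : Subgroup G), g * x = x * g := fun g hg =>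
    Cfsg.Agent.Lib.Isolated.commute_of_mem_pgroup hiso hPp hxP hg
  have hzP : Subgroup.zpowers x ≤ (P : Subgroup G) := by
    rw [Subgroup.zpowers_le]; exact hxP
  refine ⟨Subgroup.mem_inf.2 ⟨hxP, ?_⟩, ⟨hzP, ?_⟩, hzP, ?_⟩
  · rw [Subgroup.mem_centralizer_iff]
    intro g hg
    exact hcen g hg
  · intro y hy g hg
    obtain ⟨k, rfl⟩ := Subgroup.mem_zpowers_iff.1 hy
    set y := x ^ k with hydef
    set C : Subgroup G := Subgroup.centralizer ({y} : Set G) with hC
    have hxC : x ∈ C := by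
      rw [hC, Subgroup.mem_centralizer_singleton_iff, hydef]
      exact ((Commute.refl x).zpow_right k).eq
    have hx'C : g⁻¹ * x * g⁻¹⁻¹ ∈ C := by
      rw [hC, Subgroup.mem_centralizer_singleton_iff]
      have h1 := hcen _ hg
      rw [inv_inv]
      calc g⁻¹ * x * g * y = g⁻¹ * (x * (g * y * g⁻¹)) * g := by group
        _ = g⁻¹ * ((g * y * g⁻¹) * x) * g := by rw [h1]
        _ = _ := by group
    obtain ⟨c, hc, hcc⟩ := Cfsg.Agent.Lib.Isolated.exists_conj_in_subgroup hx hiso C hxC g⁻¹ hx'C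
    have hcy : c * y * c⁻¹ = y := by
      have := Subgroup.mem_centralizer_singleton_iff.1 hc
      rw [this]; group
    -- `d = g c⁻¹` centralizes `x`
    have hd : (c * g⁻¹) * x * (c * g⁻¹)⁻¹ = x := by
      have e : (c * g⁻¹) * x * (c * g⁻¹)⁻¹ = c * (g⁻¹ * x * g⁻¹⁻¹) * c⁻¹ := by group
      rw [e, hcc]
    have hdy : (c * g⁻¹) * y * (c * g⁻¹)⁻¹ = y := by
      rw [hydef]
      have h3 : Commute (c * g⁻¹) x := by
        show (c * g⁻¹) * x = x * (c * g⁻¹)
        calc (c * g⁻¹) * x = (c * g⁻¹) * x * (c * g⁻¹)⁻¹ * (c * g⁻¹) := by group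
          _ = _ := by rw [hd]
      have h4 : Commute (c * g⁻¹) (x ^ k) := h3.zpow_right k
      rw [h4.eq]; group
    have hfin : g * y * g⁻¹ = y := by
      have e1 : g * y * g⁻¹ = (c * g⁻¹)⁻¹ * (c * y * c⁻¹) * (c * g⁻¹) := by group
      rw [e1, hcy]
      have e2 : (c * g⁻¹)⁻¹ * y * (c * g⁻¹) = (c * g⁻¹)⁻¹ * ((c * g⁻¹) * y * (c * g⁻¹)⁻¹) * (c * g⁻¹) := by
        rw [hdy]
      rw [e2]; group
    rw [hfin]
    exact Subgroup.zpow_mem_zpowers x k
  · intro g hg
    have h1 : g * x * g⁻¹ ∈ (P : Subgroup G) :=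
      hg ⟨x, Subgroup.mem_zpowers x, by simp [MulAut.conj_apply]⟩
    have h2 := Cfsg.Agent.Lib.Isolated.conj_eq_of_mem_pgroup hiso hPp hxP g h1
    rw [MonoidHom.map_zpowers]
    simp only [MulEquiv.coe_toMonoidHom, MulAut.conj_apply]
    rw [h2]

end Cfsg.Agent.S2968
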