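import Mathlib
import Cfsg.Agent.Lib.Isolated
import Cfsg.Statements.S2970
-- import your own Cfsg.Agent.* helpers here

set_option autoImplicit false
open Cfsg

namespace Cfsg.Agent.S2970

/-- Let G be a finite group, p a prime and x ∈ G an element of p-power order which is isolated in G. Then the image of x in any quotient G ⧸ N is isolated in G ⧸ N; and if x ≠ 1 and the Sylow p-subgroups of G are cyclic, then G has a normal p-complement. -/
theorem result {G : Type*} [Group G] [Finite G] {p : ℕ} [Fact p.Prime] (x : G) (hx : ∃ k : ℕ, orderOf x = p ^ k) (hiso : Cfsg.IsIsolated x) : (∀ (N : Subgroup G) [N.Normal], Cfsg.IsIsolated (QuotientGroup.mk x : G ⧸ N)) ∧ (x ≠ 1 → (∀ P : Sylow p G, IsCyclic ↥(P : Subgroup G)) → Cfsg.HasNormalPComplement p G) := by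
  classical
  constructor
  · intro N _ gq hcomm
    obtain ⟨g, rfl⟩ := QuotientGroup.mk_surjective gq
    -- preimage of the centralizer of the image of `y`
    set y := g * x * g⁻¹ with hy
    set C : Subgroup G := (Subgroup.centralizer ({(QuotientGroup.mk y : G ⧸ N)} : Set (G ⧸ N))).comap (QuotientGroup.mk' N) with hC
    have hxC : x ∈ C := by
      show (QuotientGroup.mk' N x) ∈ Subgroup.centralizer _
      rw [Subgroup.mem_centralizer_singleton_iff]
      have h : (QuotientGroup.mk (g * x * g⁻¹) : G ⧸ N) = QuotientGroup.mk g * QuotientGroup.mk x * (QuotientGroup.mk g)⁻¹ := by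
        simp
      show (QuotientGroup.mk x : G ⧸ N) * QuotientGroup.mk y = QuotientGroup.mk y * QuotientGroup.mk x
      rw [hy, h]
      exact hcomm.eq
    have hyC : y ∈ C := by
      show (QuotientGroup.mk' N y) ∈ Subgroup.centralizer _
      rw [Subgroup.mem_centralizer_singleton_iff]
      rfl
    obtain ⟨c, hc, hcc⟩ := Cfsg.Agent.Lib.Isolated.exists_conj_in_subgroup hx hiso C hxC g hyC
    have hc' : (QuotientGroup.mk c : G ⧸ N) * QuotientGroup.mk y = QuotientGroup.mk y * QuotientGroup.mk c := by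
      have : (QuotientGroup.mk' N c) ∈ Subgroup.centralizer ({(QuotientGroup.mk y : G ⧸ N)} : Set (G ⧸ N)) := hc
      rw [Subgroup.mem_centralizer_singleton_iff] at this
      exact this
    have h1 : (QuotientGroup.mk (c * y * c⁻¹) : G ⧸ N) = QuotientGroup.mk x := by rw [hcc]
    have h2 : (QuotientGroup.mk (c * y * c⁻¹) : G ⧸ N) = QuotientGroup.mk y := by
      have e : (QuotientGroup.mk (c * y * c⁻¹) : G ⧸ N) = QuotientGroup.mk c * QuotientGroup.mk y * (QuotientGroup.mk c)⁻¹ := by
        simp
      rw [e, hc']; simp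
    have h3 : (QuotientGroup.mk y : G ⧸ N) = QuotientGroup.mk x := h2.symm.trans h1
    have e : (QuotientGroup.mk g : G ⧸ N) * QuotientGroup.mk x * (QuotientGroup.mk g)⁻¹ = QuotientGroup.mk y := by
      rw [hy]; simp
    rw [e, h3]
  · intro hx1 hcyc
    obtain ⟨k, hk⟩ := hx
    have hzp : IsPGroup p (Subgroup.zpowers x) := by
      rw [IsPGroup.iff_card, Nat.card_zpowers, hk]
      exact ⟨k, rfl⟩
    obtain ⟨P, hP⟩ := hzp.exists_le_sylow
    have hxP : x ∈ (P : Subgroup G) := hP (Subgroup.mem_zpowers x)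
    have hPp : IsPGroup p (P : Subgroup G) := P.isPGroup'
    haveI := hcyc P
    obtain ⟨u₀, hu₀⟩ := IsCyclic.exists_generator (α := ↥(P : Subgroup G))
    set u : G := (u₀ : G) with hu
    have huP : u ∈ (P : Subgroup G) := u₀.2
    have hgen : ∀ w ∈ (P : Subgroup G), ∃ r : ℤ, w = u ^ r := by
      intro w hw
      obtain ⟨r, hr⟩ := Subgroup.mem_zpowers_iff.1 (hu₀ ⟨w, hw⟩)
      refine ⟨r, ?_⟩
      have := congrArg Subtype.val hr
      simpa using this.symm
    have hPcomm : ∀ a ∈ (P : Subgroup G), ∀ b ∈ (P : Subgroup G), a * b = b * a := by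
      intro a ha b hb
      obtain ⟨r, rfl⟩ := hgen a ha
      obtain ⟨s, rfl⟩ := hgen b hb
      exact ((Commute.refl u).zpow_zpow r s).eq
    obtain ⟨n, hn⟩ := IsPGroup.iff_orderOf.1 hPp u₀
    have hun : orderOf u = p ^ n := by rw [← hn]; exact Subgroup.orderOf_coe u₀
    -- key: normalizer centralizes `P`
    have hNC : Subgroup.normalizer (((P : Subgroup G)) : Set G) ≤ Subgroup.centralizer (((P : Subgroup G)) : Set G) := by
      intro g hg
      have hconj : ∀ w ∈ (P : Subgroup G), g * w * g⁻¹ ∈ (P : Subgroup G) := fun w hw =>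
        (Subgroup.mem_normalizer_iff.1 hg w).1 hw
      obtain ⟨r, hr⟩ := hgen _ (hconj u huP)
      have hgx : g * x * g⁻¹ = x := Cfsg.Agent.Lib.Isolated.conj_eq_of_mem_pgroup hiso hPp hxP g (hconj x hxP)
      obtain ⟨j, hj⟩ := hgen x hxP
      -- `g` acts as a power map
      have hpow : ∀ i : ℕ, g ^ i * u * (g ^ i)⁻¹ = u ^ (r ^ i) := by
        intro i
        induction i with
        | zero => simp
        | succ i ih =>
          have e : g ^ (i + 1) * u * (g ^ (i + 1))⁻¹ = g * (g ^ i * u * (g ^ i)⁻¹) * g⁻¹ := by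
            rw [pow_succ' g i]; group
          rw [e, ih]
          have e2 : g * u ^ (r ^ i) * g⁻¹ = (g * u * g⁻¹) ^ (r ^ i) := by
            rw [conj_zpow]
          rw [e2, hr, ← zpow_mul, pow_succ']
      -- `p ∣ r - 1`
      have hpZ : (p : ℤ) ∣ r - 1 := by
        have h1 : u ^ (r * j) = u ^ j := by
          have h2 : g * x * g⁻¹ = (g * u * g⁻¹) ^ j := by
            rw [hj, conj_zpow]
          rw [hr, ← zpow_mul, hgx, hj] at h2
          exact h2.symm
        have h3 : u ^ (j * (r - 1)) = 1 := by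
          have : j * (r - 1) = r * j - j := by ring
          rw [this, zpow_sub, h1, mul_inv_cancel]
        have h4 : ((p ^ n : ℕ) : ℤ) ∣ j * (r - 1) := by
          rw [← hun]; exact orderOf_dvd_iff_zpow_eq_one.2 h3
        by_contra hnd
        have hpI : Irreducible (p : ℤ) := (Nat.prime_iff_prime_int.1 (Fact.out : p.Prime)).irreducible
        have hco : IsCoprime (p : ℤ) (r - 1) := (Irreducible.coprime_iff_not_dvd hpI).2 hnd
        have hco2 : IsCoprime ((p ^ n : ℕ) : ℤ) (r - 1) := by
          push_cast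
          exact hco.pow_left
        have h5 : ((p ^ n : ℕ) : ℤ) ∣ j := hco2.dvd_of_dvd_mul_right h4
        apply hx1
        rw [hj, ← hun] at *
        exact orderOf_dvd_iff_zpow_eq_one.1 h5
      -- `g ^ p ^ n` centralizes `u`
      have hcomm1 : Commute (g ^ (p ^ n)) u := by
        have h1 := hpow (p ^ n)
        have h2 := dvd_sub_pow_of_dvd_sub (R := ℤ) (p := p) hpZ n
        have h3 : ((p ^ n : ℕ) : ℤ) ∣ r ^ (p ^ n) - 1 := by
          have h4 : ((p : ℤ) ^ n) ∣ (p : ℤ) ^ (n + 1) := pow_dvd_pow _ (Nat.le_succ n)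
          push_cast
          have h5 := h4.trans h2
          simpa using h5
        have h4 : u ^ (r ^ (p ^ n) - 1) = 1 := by
          have h3' : ((orderOf u : ℕ) : ℤ) ∣ r ^ (p ^ n) - 1 := by rw [hun]; exact h3
          exact orderOf_dvd_iff_zpow_eq_one.1 h3'
        have h5 : u ^ (r ^ (p ^ n)) = u := by
          rw [zpow_sub, zpow_one] at h4
          exact mul_inv_eq_one.1 h4
        rw [h5] at h1
        show g ^ (p ^ n) * u = u * g ^ (p ^ n)
        calc g ^ (p ^ n) * u = g ^ (p ^ n) * u * (g ^ (p ^ n))⁻¹ * g ^ (p ^ n) := by group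
          _ = u * g ^ (p ^ n) := by rw [h1]
      -- the `p`-part of `g` lies in `P`
      obtain ⟨a, m, hm, hom⟩ := Nat.exists_eq_pow_mul_and_not_dvd (orderOf_pos g).ne' p (Fact.out : p.Prime).ne_one
      have hgm : g ^ m ∈ (P : Subgroup G) := by
        have hop : (g ^ m) ^ (p ^ a) = 1 := by
          rw [← pow_mul, mul_comm, ← hom, pow_orderOf_eq_one]
        have hz : IsPGroup p (Subgroup.zpowers (g ^ m)) := by
          rw [IsPGroup.iff_card, Nat.card_zpowers]
          obtain ⟨b, -, hb⟩ := (Nat.dvd_prime_pow (Fact.out : p.Prime)).1 (orderOf_dvd_of_pow_eq_one hop)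
          exact ⟨b, hb⟩
        have hle : Subgroup.zpowers (g ^ m) ≤ Subgroup.normalizer (((P : Subgroup G)) : Set G) := by
          rw [Subgroup.zpowers_le]
          exact Subgroup.pow_mem _ hg m
        have hs := IsPGroup.to_sup_of_normal_right' hz hPp hle
        have heq := P.is_maximal' hs le_sup_right
        rw [← heq]
        exact Subgroup.mem_sup_left (Subgroup.mem_zpowers _)
      have hcomm2 : Commute (g ^ m) u := hPcomm _ hgm _ huP
      -- Bezout
      have hcop : IsCoprime ((p ^ n : ℕ) : ℤ) (m : ℤ) := by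
        rw [Nat.isCoprime_iff_coprime]
        exact Nat.Coprime.pow_left n (((Fact.out : p.Prime).coprime_iff_not_dvd).2 hm)
      obtain ⟨s, t, hst⟩ := hcop
      have hcomm3 : Commute g u := by
        have e : g = (g ^ (p ^ n)) ^ s * (g ^ m) ^ t := by
          rw [← zpow_natCast g (p ^ n), ← zpow_natCast g m, ← zpow_mul, ← zpow_mul, ← zpow_add]
          have : ((p ^ n : ℕ) : ℤ) * s + (m : ℤ) * t = 1 := by rw [← hst]; ring
          rw [this, zpow_one]
        rw [e]
        exact (hcomm1.zpow_left s).mul_left (hcomm2.zpow_left t)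
      rw [Subgroup.mem_centralizer_iff]
      intro w hw
      obtain ⟨s, rfl⟩ := hgen w hw
      exact ((hcomm3.zpow_right s).eq).symm
    have hcompl := MonoidHom.ker_transferSylow_isComplement' P hNC
    exact ⟨P, _, inferInstance, hcompl⟩

end Cfsg.Agent.S2970
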