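import Cfsg.Statements.S2971
import Mathlib
import Cfsg.Agent.Lib.H6OddNormal
import Cfsg.Agent.Lib.SolvCore
import Cfsg.Agent.S2970

set_option autoImplicit false
open Cfsg

namespace Cfsg.Agent.S2971

/-- Let G be a finite group and p an odd prime such that G has p-rank at most 1 (no elementary abelian subgroup of order p²). If x ∈ G is an isolated element of order p, then x is central modulo the largest normal subgroup of G of order prime to p. -/
theorem result {G : Type*} [Group G] [Finite G] {p : ℕ} [Fact p.Prime] (hp : p ≠ 2) (hrk : Cfsg.PRankLE p 1 G) (x : G) (hx : orderOf x = p) (hiso : Cfsg.IsIsolated x) : Cfsg.InZStar p x := by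
  classical
  have hpp : p.Prime := Fact.out
  have hcycP : ∀ P : Sylow p G, IsCyclic ↥(P : Subgroup G) := by
    intro P
    by_contra hnc
    obtain ⟨U, -, hUc, hUe, hUcard⟩ := Cfsg.Agent.Lib.H6OddNormal.exists_normal_elem_odd hp P.isPGroup' hnc
    have h1 := hrk (U.map (P : Subgroup G).subtype)
      ⟨⟨by
        rintro ⟨_, a, ha, rfl⟩ ⟨_, b, hb, rfl⟩
        apply Subtype.ext
        have := hUc a ha b hb
        show (a : G) * (b : G) = (b : G) * (a : G)
        exact congrArg Subtype.val this⟩⟩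
      (by
        rintro _ ⟨a, ha, rfl⟩
        have := hUe a ha
        exact congrArg Subtype.val this)
    have h2 : Nat.card (U.map (P : Subgroup G).subtype) = Nat.card U :=
      Nat.card_congr (U.equivMapOfInjective (P : Subgroup G).subtype (Subgroup.subtype_injective _)).symm.toEquiv
    rw [h2, hUcard, pow_one] at h1
    have h3 : p < p ^ 2 := by nlinarith [hpp.two_le]
    omega
  have hx1 : x ≠ 1 := by
    rintro rfl
    rw [orderOf_one] at hx
    exact hpp.one_lt.ne hx
  obtain ⟨P, K, hKn, hc⟩ := (Cfsg.Agent.S2970.result (p := p) x ⟨1, by rw [pow_one]; exact hx⟩ hiso).2 hx1 hcycP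
  haveI := hKn
  have hKd : ¬ p ∣ Nat.card K := by
    rw [← hc.index_eq_card]
    exact P.not_dvd_index
  intro g
  apply Cfsg.Agent.Lib.SolvCore.le_pPrimeCore K hKn hKd
  haveI hPc := hcycP P
  have hPcomm : ∀ a ∈ (P : Subgroup G), ∀ b ∈ (P : Subgroup G), a * b = b * a := by
    intro a ha b hb
    have := (IsCyclic.isMulCommutative (α := ↥(P : Subgroup G))).is_comm.comm ⟨a, ha⟩ ⟨b, hb⟩
    exact congrArg Subtype.val this
  have hdec : ∀ y : G, ∃ k ∈ K, ∃ r ∈ (P : Subgroup G), y = k * r := by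
    intro y
    obtain ⟨⟨k, r⟩, hkr⟩ := (hc.existsUnique y).exists
    exact ⟨k.1, k.2, r.1, r.2, hkr.symm⟩
  let π := QuotientGroup.mk' K
  have h1 : ∀ y : G, ∃ r ∈ (P : Subgroup G), π y = π r := by
    intro y
    obtain ⟨k, hk, r, hr, rfl⟩ := hdec y
    refine ⟨r, hr, ?_⟩
    have hk1 : π k = 1 := (QuotientGroup.eq_one_iff k).mpr hk
    rw [map_mul, hk1, one_mul]
  have h2 : π g * π x = π x * π g := by
    obtain ⟨r, hr, hgr⟩ := h1 g
    obtain ⟨s, hs, hxs⟩ := h1 x
    rw [hgr, hxs, ← map_mul, ← map_mul, hPcomm r hr s hs]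
  have h3 : π (g * x * g⁻¹ * x⁻¹) = 1 := by
    simp only [map_mul, map_inv]
    rw [h2]
    group
  exact (QuotientGroup.eq_one_iff _).mp h3

end Cfsg.Agent.S2971
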