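import Cfsg.Statements.S2975
import Mathlib
import Cfsg.Agent.Lib.IsoMin
import Cfsg.Agent.Lib.CoprimeSylow

set_option autoImplicit false
open Cfsg

namespace Cfsg.Agent.S2975

open Cfsg Cfsg.Agent.Lib.IsoMin Cfsg.Agent.Lib.FitCore Cfsg.Agent.Lib.SolvCore Cfsg.Agent.Lib.CoprimeSylow

theorem fixed_sylow {N : Type*} [Group N] [Finite N] {p q : ℕ} [Fact p.Prime] [Fact q.Prime] (A L : Subgroup N)
    (hA : IsPGroup p A) (h : ∀ a ∈ A, ∀ l ∈ L, a * l * a⁻¹ ∈ L) (hdvd : ¬ p ∣ Nat.card (Sylow q L)) :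
    ∃ R : Sylow q L, ∀ a ∈ A, ∀ y ∈ (R : Subgroup L), ∀ hy : a * y.1 * a⁻¹ ∈ L,
      (⟨a * y.1 * a⁻¹, hy⟩ : L) ∈ (R : Subgroup L) := by
  letI := conjOn A L h
  obtain ⟨R, hR⟩ := hA.nonempty_fixed_point_of_prime_not_dvd_card (Sylow q L) hdvd
  refine ⟨R, fun a ha x hx hx' => ?_⟩
  have h1 : (⟨a, ha⟩ : A) • R = R := hR ⟨a, ha⟩
  have h2 : (⟨a, ha⟩ : A) • x ∈ (((⟨a, ha⟩ : A) • R : Sylow q L) : Subgroup L) := by
    rw [Sylow.pointwise_smul_def]
    exact Subgroup.smul_mem_pointwise_smul _ _ _ hx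
  rw [h1] at h2
  exact h2

theorem main_q {G : Type*} [Group G] [Finite G] {p q : ℕ} [Fact p.Prime] [Fact q.Prime] {x : G} (h : Ctx x p)
    (hqp : q ≠ p) (Q : Subgroup G) (hQ : IsPGroup q Q) (hxQ : x ∈ Subgroup.normalizer (Q : Set G))
    (hmax : ∀ R : Subgroup G, IsPGroup q ↥R → x ∈ Subgroup.normalizer (R : Set G) → Q ≤ R → R = Q)
    (hQb : Q ≠ ⊥) : ∃ S : Sylow q G, (S : Subgroup G) = Q := by
  classical
  have hpp : p.Prime := Fact.out
  have hqq : q.Prime := Fact.out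
  set N : Subgroup G := Subgroup.normalizer (Q : Set G) with hN
  have hcop : ¬ p ∣ Nat.card Q := by
    obtain ⟨k, hk⟩ := IsPGroup.iff_card.1 hQ
    rw [hk]
    intro hd
    have := (Nat.prime_dvd_prime_iff_eq hpp hqq).1 (hpp.dvd_of_dvd_pow hd)
    exact hqp this.symm
  have hNne : N ≠ ⊤ := by
    intro hN'
    haveI hQn : Q.Normal := Subgroup.normalizer_eq_top_iff.1 hN'
    exact hQb (eq_bot_of_normal_not_dvd h.core_bot Q hQn hcop)
  have hz := h.hmin N hxQ hNne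
  set xh : N := ⟨x, hxQ⟩ with hxh
  set W : Subgroup N := pPrimeCore p N with hW
  haveI hWn : W.Normal := pPrimeCore_normal p N
  have hWd : ¬ p ∣ Nat.card W := not_dvd_card_pPrimeCore p Fact.out
  obtain ⟨T⟩ : Nonempty (Sylow q N) := inferInstance
  set R : Subgroup N := W ⊔ (T : Subgroup N) with hR
  have hTR : (T : Subgroup N) ≤ R := le_sup_right
  have hWR : W ≤ R := le_sup_left
  have hxn : xh ∈ Subgroup.normalizer (R : Set N) := by
    apply Subgroup.mem_normalizer_fintype (S := (R : Set N))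
    have hle : R ≤ R.comap (MulAut.conj xh).toMonoidHom := by
      refine sup_le ?_ ?_
      · intro w hw
        exact hWR (hWn.conj_mem w hw xh)
      · intro t ht
        have h1 : t * xh * t⁻¹ * xh⁻¹ ∈ W := hz t
        have h2 : xh * t * xh⁻¹ * t⁻¹ ∈ W := by
          have e : xh * t * xh⁻¹ * t⁻¹ = (t * xh * t⁻¹ * xh⁻¹)⁻¹ := by group
          rw [e]
          exact W.inv_mem h1
        have e : (MulAut.conj xh).toMonoidHom t = (xh * t * xh⁻¹ * t⁻¹) * t := by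
          simp [MulAut.conj_apply]
        show (MulAut.conj xh).toMonoidHom t ∈ R
        rw [e]
        exact R.mul_mem (hWR h2) (hTR ht)
    intro n hn
    have := hle hn
    simpa [MulAut.conj_apply] using this
  have hxR : ∀ a ∈ Subgroup.zpowers xh, ∀ l ∈ R, a * l * a⁻¹ ∈ R := by
    intro a ha l hl
    have ha' : a ∈ Subgroup.normalizer (R : Set N) := (Subgroup.zpowers_le.2 hxn) ha
    exact (Subgroup.mem_normalizer_iff.1 ha' l).1 hl
  have hA : IsPGroup p (Subgroup.zpowers xh) := by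
    rw [IsPGroup.iff_card, Nat.card_zpowers, hxh, Subgroup.orderOf_mk, h.hx]
    exact ⟨1, (pow_one p).symm⟩
  have hdvd : ¬ p ∣ Nat.card (Sylow q R) := by
    intro hd
    set T₁ : Sylow q R := T.subtype hTR with hT₁
    have h1 := T₁.card_dvd_index
    have h2 : (T₁ : Subgroup R).index = (T : Subgroup N).relIndex W := by
      rw [hT₁, Sylow.coe_subtype]
      exact relIndex_sup_of_normal (T : Subgroup N) W
    rw [h2] at h1
    have h3 : (T : Subgroup N).relIndex W ∣ Nat.card W := Subgroup.index_dvd_card _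
    exact hWd (hd.trans (h1.trans h3))
  obtain ⟨R₀, hR₀⟩ := fixed_sylow (q := q) (Subgroup.zpowers xh) R hA hxR hdvd
  set R₂ : Subgroup G := ((R₀ : Subgroup R).map R.subtype).map N.subtype with hR₂
  have hR₂q : IsPGroup q R₂ := (R₀.isPGroup'.map _).map _
  have hxR₂ : x ∈ Subgroup.normalizer (R₂ : Set G) := by
    apply Subgroup.mem_normalizer_fintype (S := (R₂ : Set G))
    rintro _ ⟨_, ⟨y, hy, rfl⟩, rfl⟩
    have hmem : xh * y.1 * xh⁻¹ ∈ R := hxR xh (Subgroup.mem_zpowers xh) y.1 y.2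
    have h2 := hR₀ xh (Subgroup.mem_zpowers xh) y hy hmem
    exact ⟨_, ⟨_, h2, rfl⟩, rfl⟩
  haveI hQhn : (Q.subgroupOf N).Normal := Subgroup.normal_in_normalizer
  have hQhq : IsPGroup q (Q.subgroupOf N) := hQ.comap_subtype
  have hQT : Q.subgroupOf N ≤ (T : Subgroup N) :=
    (le_pCore q _ hQhn hQhq).trans (pCore_le_sylow q T)
  haveI hQtn : ((Q.subgroupOf N).subgroupOf R).Normal := Subgroup.Normal.subgroupOf hQhn R
  have hQtq : IsPGroup q ((Q.subgroupOf N).subgroupOf R) := hQhq.comap_subtype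
  have hQt : (Q.subgroupOf N).subgroupOf R ≤ (R₀ : Subgroup R) :=
    (le_pCore q _ hQtn hQtq).trans (pCore_le_sylow q R₀)
  have hQR₂ : Q ≤ R₂ := by
    intro y hy
    have hyN : y ∈ N := Subgroup.le_normalizer hy
    have h1 : (⟨y, hyN⟩ : N) ∈ Q.subgroupOf N := hy
    have h2 : (⟨y, hyN⟩ : N) ∈ R := hTR (hQT h1)
    have h3 : (⟨⟨y, hyN⟩, h2⟩ : R) ∈ (R₀ : Subgroup R) := hQt h1
    exact ⟨_, ⟨_, h3, rfl⟩, rfl⟩
  have hEq : R₂ = Q := hmax R₂ hR₂q hxR₂ hQR₂
  have hcard₁ : Nat.card R₂ = Nat.card (R₀ : Subgroup R) := by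
    rw [hR₂, Subgroup.card_map_of_injective (f := N.subtype) (Subgroup.subtype_injective N),
      Subgroup.card_map_of_injective (f := R.subtype) (Subgroup.subtype_injective R)]
  have hcard₂ : Nat.card (R₀ : Subgroup R) = Nat.card (T : Subgroup N) := by
    set T₁ : Sylow q R := T.subtype hTR with hT₁
    have h1 : Nat.card (T₁ : Subgroup R) = Nat.card (T : Subgroup N) := by
      rw [hT₁, Sylow.coe_subtype]
      exact Cfsg.Agent.Lib.ThompsonBasic.card_subgroupOf_of_le hTR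
    rw [← h1, Sylow.card_eq_multiplicity, Sylow.card_eq_multiplicity]
  have hcardQ : Nat.card Q = Nat.card (T : Subgroup N) := by
    rw [← hcard₂, ← hcard₁, hEq]
  obtain ⟨S, hS⟩ := hQ.exists_le_sylow
  refine ⟨S, ?_⟩
  by_contra hne
  obtain ⟨t, htS, htQ, htN⟩ := Cfsg.Agent.Lib.H5Basic.exists_mem_normalizer_of_lt S.isPGroup' hS (Ne.symm hne)
  set P : Subgroup G := Q ⊔ Subgroup.zpowers t with hP
  have hPS : P ≤ S := sup_le hS (Subgroup.zpowers_le.2 htS)
  have hPN : P ≤ N := sup_le Subgroup.le_normalizer (Subgroup.zpowers_le.2 htN)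
  have hPq : IsPGroup q P := S.isPGroup'.to_le hPS
  have hPh : IsPGroup q (P.subgroupOf N) := hPq.comap_subtype
  obtain ⟨T', hT'⟩ := hPh.exists_le_sylow
  have h5 : Nat.card P ≤ Nat.card (T' : Subgroup N) := by
    rw [← Cfsg.Agent.Lib.ThompsonBasic.card_subgroupOf_of_le hPN]
    exact Subgroup.card_le_of_le hT'
  have h6 : Nat.card (T' : Subgroup N) = Nat.card (T : Subgroup N) := by
    rw [Sylow.card_eq_multiplicity, Sylow.card_eq_multiplicity]
  have h7 : Q = P := Subgroup.eq_of_le_of_card_ge le_sup_left (by omega)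
  apply htQ
  rw [h7]
  exact (le_sup_right : Subgroup.zpowers t ≤ P) (Subgroup.mem_zpowers t)

theorem main_p {G : Type*} [Group G] [Finite G] {p : ℕ} [Fact p.Prime] {x : G} (hx : orderOf x = p)
    (Q : Subgroup G) (hQ : IsPGroup p Q) (hxQ : x ∈ Subgroup.normalizer (Q : Set G))
    (hmax : ∀ R : Subgroup G, IsPGroup p ↥R → x ∈ Subgroup.normalizer (R : Set G) → Q ≤ R → R = Q) :
    ∃ S : Sylow p G, (S : Subgroup G) = Q := by
  have hzp : IsPGroup p (Subgroup.zpowers x) := by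
    rw [IsPGroup.iff_card, Nat.card_zpowers, hx]
    exact ⟨1, (pow_one p).symm⟩
  have h1 := IsPGroup.to_sup_of_normal_left' hQ hzp (Subgroup.zpowers_le.2 hxQ)
  have hxmem : x ∈ Q ⊔ Subgroup.zpowers x := (le_sup_right : Subgroup.zpowers x ≤ _) (Subgroup.mem_zpowers x)
  have h2 : Q ⊔ Subgroup.zpowers x = Q := hmax _ h1 (Subgroup.le_normalizer hxmem) le_sup_left
  have hxQ' : x ∈ Q := h2 ▸ hxmem
  obtain ⟨S, hS⟩ := hQ.exists_le_sylow
  exact ⟨S, hmax S S.isPGroup' (Subgroup.le_normalizer (hS hxQ')) hS⟩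

theorem part_b {G : Type*} [Group G] [Finite G] {p q : ℕ} [Fact p.Prime] [Fact q.Prime] {x : G} (hx : orderOf x = p)
    (hiso : IsIsolated x) (S₁ S₂ : Sylow q G)
    (h₁ : x ∈ Subgroup.normalizer ((S₁ : Subgroup G) : Set G))
    (h₂ : x ∈ Subgroup.normalizer ((S₂ : Subgroup G) : Set G)) :
    ∃ c ∈ Subgroup.centralizer ({x} : Set G), (S₁ : Subgroup G).map (MulAut.conj c).toMonoidHom = (S₂ : Subgroup G) := by
  classical
  obtain ⟨g, hg⟩ := MulAction.exists_smul_eq G S₁ S₂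
  have hgs : ∀ s ∈ (S₁ : Subgroup G), g * s * g⁻¹ ∈ (S₂ : Subgroup G) := fun s hs => by
    rw [← hg]
    exact Cfsg.Agent.Lib.H5Basic.conj_mem_smul_sylow S₁ g s hs
  have hgs' : ∀ s ∈ (S₂ : Subgroup G), g⁻¹ * s * g⁻¹⁻¹ ∈ (S₁ : Subgroup G) := fun s hs => by
    have e : g⁻¹ • S₂ = S₁ := by rw [← hg, inv_smul_smul]
    rw [← e]
    exact Cfsg.Agent.Lib.H5Basic.conj_mem_smul_sylow S₂ g⁻¹ s hs
  set C := Subgroup.normalizer ((S₁ : Subgroup G) : Set G) with hC
  have hy : g⁻¹ * x * g⁻¹⁻¹ ∈ C := by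
    apply Subgroup.mem_normalizer_fintype (S := ((S₁ : Subgroup G) : Set G))
    intro n hn
    have h3 : x * (g * n * g⁻¹) * x⁻¹ ∈ (S₂ : Subgroup G) :=
      (Subgroup.mem_normalizer_iff.1 h₂ _).1 (hgs n hn)
    have h4 := hgs' _ h3
    have e : g⁻¹ * x * g⁻¹⁻¹ * n * (g⁻¹ * x * g⁻¹⁻¹)⁻¹ = g⁻¹ * (x * (g * n * g⁻¹) * x⁻¹) * g⁻¹⁻¹ := by group
    rw [e]
    exact h4
  obtain ⟨c, hc, hcc⟩ := Cfsg.Agent.Lib.Isolated.exists_conj_in_subgroup (p := p) ⟨1, by rw [pow_one]; exact hx⟩ hiso C h₁ g⁻¹ hy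
  refine ⟨g * c⁻¹, ?_, ?_⟩
  · rw [Subgroup.mem_centralizer_singleton_iff]
    have e1 : x = (g * c⁻¹)⁻¹ * x * (g * c⁻¹) := by
      conv_lhs => rw [← hcc]
      group
    calc g * c⁻¹ * x = g * c⁻¹ * ((g * c⁻¹)⁻¹ * x * (g * c⁻¹)) := by rw [← e1]
      _ = x * (g * c⁻¹) := by group
  · have hcard : Nat.card (S₂ : Subgroup G) ≤ Nat.card ((S₁ : Subgroup G).map (MulAut.conj (g * c⁻¹)).toMonoidHom) := by
      rw [Subgroup.card_map_of_injective (f := (MulAut.conj (g * c⁻¹)).toMonoidHom) (MulAut.conj (g * c⁻¹)).injective,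
        Sylow.card_eq_multiplicity, Sylow.card_eq_multiplicity]
    refine Subgroup.eq_of_le_of_card_ge ?_ hcard
    rintro _ ⟨s, hs, rfl⟩
    have h5 : c⁻¹ * s * c⁻¹⁻¹ ∈ (S₁ : Subgroup G) :=
      (Subgroup.mem_normalizer_iff.1 (C.inv_mem hc) s).1 hs
    have h6 := hgs _ h5
    have e : (MulAut.conj (g * c⁻¹)).toMonoidHom s = g * (c⁻¹ * s * c⁻¹⁻¹) * g⁻¹ := by
      show (g * c⁻¹) * s * (g * c⁻¹)⁻¹ = _
      group
    rw [e]
    exact h6

/-- Let G be a finite group, p a prime and x ∈ G an isolated element of order p (the only conjugate of x commuting with x is x) which is not central modulo the largest normal subgroup of order prime to p, while x is central modulo the largest normal subgroup of order prime to p in every proper subgroup containing x, and the image of x is so in every quotient of G by a nontrivial normal subgroup (a minimal counterexample to the Z*_p statement). Then for every prime q, every q-subgroup of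 G that is normalized by x and maximal among the q-subgroups normalized by x is either trivial or a Sylow q-subgroup of G; and C_G(x) permutes the x-invariant Sylow q-subgroups of G transitively by conjugation. -/
theorem result {G : Type*} [Group G] [Finite G] {p : ℕ} [Fact p.Prime] (x : G) (hx : orderOf x = p) (hiso : Cfsg.IsIsolated x) (hnz : ¬ Cfsg.InZStar p x) (hmin : ∀ (H : Subgroup G) (hxH : x ∈ H), H ≠ ⊤ → Cfsg.InZStar p (⟨x, hxH⟩ : ↥H)) (hquot : ∀ (N : Subgroup G) [N.Normal], N ≠ ⊥ → Cfsg.InZStar p (QuotientGroup.mk x : G ⧸ N)) (q : ℕ) [Fact q.Prime] : (∀ Q : Subgroup G, IsPGroup q ↥Q → x ∈ Subgroup.normalizer (Q : Set G) → (∀ R : Subgroup G, IsPGroup q ↥R → x ∈ Subgroup.normalizer (R : Set G) → Q ≤ R → R = Q) → Q = ⊥ ∨ ∃ S : Sylow q G, (S : Subgroup G) = Q) ∧ (∀ S₁ S₂ : Sylow q G, x ∈ Subgroup.normalizer ((S₁ : Subgroup G) : Set G) → x ∈ Subgroup.normalizer ((S₂ : Subgroup G) : Set G) → ∃ c ∈ Subgroup.centralizer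 ({x} : Set G), (S₁ : Subgroup G).map (MulAut.conj c).toMonoidHom = (S₂ : Subgroup G)) := by
  classical
  have h : Ctx x p := ⟨hx, hiso, hnz, hmin, hquot⟩
  refine ⟨fun Q hQ hxQ hQmax => ?_, fun S₁ S₂ h₁ h₂ => part_b hx hiso S₁ S₂ h₁ h₂⟩
  by_cases hqp : q = p
  · subst hqp
    exact Or.inr (main_p hx Q hQ hxQ hQmax)
  · by_cases hQb : Q = ⊥
    · exact Or.inl hQb
    · exact Or.inr (main_q h hqp Q hQ hxQ hQmax hQb)

end Cfsg.Agent.S2975
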