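import Cfsg.Statements.S3554
-- import your own Cfsg.Agent.* helpers here

set_option autoImplicit false
open Cfsg

namespace Cfsg.Agent.S3554

/-- Let G act faithfully and transitively on a finite set and suppose G has a non-trivial cyclic normal subgroup. Then some element of G of prime order fixes no point. -/
theorem result {G Ω : Type*} [Group G] [Finite G] [MulAction G Ω] [FaithfulSMul G Ω] [Finite Ω]
    (htrans : MulAction.IsPretransitive G Ω) (C : Subgroup G) (hC : C.Normal) (hC1 : C ≠ ⊥) (hcyc : IsCyclic ↥C) :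
    ∃ g : G, (orderOf g).Prime ∧ ∀ ω : Ω, g • ω ≠ ω := by
  classical
  -- an element of prime order in `C`
  obtain ⟨⟨x, hxC⟩, hx1'⟩ := (Subgroup.ne_bot_iff_exists_ne_one (H := C)).mp hC1
  have hx1 : x ≠ 1 := fun h => hx1' (Subtype.ext h)
  have hord : orderOf x ≠ 1 := fun h => hx1 (orderOf_eq_one_iff.mp h)
  obtain ⟨p, hp, t, ht⟩ := Nat.exists_prime_and_dvd hord
  have hg : orderOf (x ^ t) = p := by
    have := orderOf_pow_orderOf_div (x := x) (n := p) (orderOf_pos x).ne' ⟨t, ht⟩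
    rwa [show orderOf x / p = t by rw [ht]; exact Nat.mul_div_cancel_left _ hp.pos] at this
  refine ⟨x ^ t, by rw [hg]; exact hp, ?_⟩
  set g := x ^ t with hgdef
  have hgC : g ∈ C := C.pow_mem hxC t
  obtain ⟨c, hc⟩ := hcyc.exists_zpow_surjective
  -- conjugation is a power map on `g`
  have hpow : ∀ y : G, ∃ k : ℤ, y * g * y⁻¹ = g ^ k := by
    intro y
    obtain ⟨a, ha⟩ := hc ⟨g, hgC⟩
    obtain ⟨k, hk⟩ := hc ⟨y * c.1 * y⁻¹, hC.conj_mem _ c.2 y⟩
    have ha' : c.1 ^ a = g := congrArg Subtype.val ha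
    have hk' : c.1 ^ k = y * c.1 * y⁻¹ := congrArg Subtype.val hk
    refine ⟨k, ?_⟩
    calc y * g * y⁻¹ = (y * c.1 * y⁻¹) ^ a := by rw [← ha', conj_zpow]
      _ = (c.1 ^ k) ^ a := by rw [hk']
      _ = (c.1 ^ a) ^ k := by rw [← zpow_mul, ← zpow_mul, mul_comm]
      _ = g ^ k := by rw [ha']
  intro ω hω
  have hgzp : ∀ k : ℤ, g ^ k • ω = ω := by
    intro k
    have hmem : g ∈ MulAction.stabilizer G ω := hω
    exact (MulAction.stabilizer G ω).zpow_mem hmem k
  have hall : ∀ ω' : Ω, g • ω' = ω' := by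
    intro ω'
    obtain ⟨y, rfl⟩ := MulAction.exists_smul_eq G ω ω'
    obtain ⟨k, hk⟩ := hpow y⁻¹
    have h1 : g * y = y * (y⁻¹ * g * y⁻¹⁻¹) := by group
    rw [← mul_smul, h1, mul_smul, hk, hgzp]
  have hg1 : g = 1 := by
    apply FaithfulSMul.eq_of_smul_eq_smul (α := Ω)
    intro ω'
    rw [hall, one_smul]
  rw [hg1, orderOf_one] at hg
  exact hp.one_lt.ne hg

end Cfsg.Agent.S3554
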