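import Cfsg.Statements.S3555
import Cfsg.Agent.Lib.SylowCount

set_option autoImplicit false
set_option linter.all false
open Cfsg

namespace Cfsg.Agent.S3555


open Cfsg Cfsg.Agent.Lib MulAction
open scoped Pointwise

/-- Every non-identity element has at most one fixed point. -/
theorem fix_le_one {G Ω : Type*} [Group G] [Fintype G] [MulAction G Ω] [FaithfulSMul G Ω] [Fintype Ω] [DecidableEq Ω]
    [DecidableEq G] (htrans : IsPretransitive G Ω) (hinv : ∀ g : G, (∀ ω : Ω, g • ω ≠ ω) → orderOf g = 2) :
    ∀ g : G, g ≠ 1 → (Finset.univ.filter (fun ω : Ω => g • ω = ω)).card ≤ 1 := by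
  classical
  let fx : G → Finset Ω := fun g => Finset.univ.filter (fun ω : Ω => g • ω = ω)
  have hfx : ∀ g ω, ω ∈ fx g ↔ g • ω = ω := by intro g ω; simp [fx]
  set n : ℕ := Fintype.card Ω with hn
  -- Burnside: the sum of fixed points
  have hburn : ∑ g : G, (fx g).card = Fintype.card G := by
    by_cases hΩ : IsEmpty Ω
    · exfalso
      have := hinv 1 (fun ω => (hΩ.false ω).elim)
      rw [orderOf_one] at this
      omega
    · rw [not_isEmpty_iff] at hΩ
      obtain ⟨α⟩ := hΩ
      have h1 : ∑ g : G, (fx g).card = ∑ ω : Ω, (Finset.univ.filter (fun g : G => g • ω = ω)).card := by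
        simp only [fx, Finset.card_filter]
        rw [Finset.sum_comm]
      rw [h1]
      have h2 : ∀ ω : Ω, (Finset.univ.filter (fun g : G => g • ω = ω)).card =
          (Finset.univ.filter (fun g : G => g • α = α)).card := by
        intro ω
        obtain ⟨c, rfl⟩ := htrans.exists_smul_eq α ω
        apply Finset.card_bij (fun g _ => c⁻¹ * g * c)
        · intro g hg
          have hg' : g • c • α = c • α := (Finset.mem_filter.mp hg).2
          refine Finset.mem_filter.mpr ⟨Finset.mem_univ _, ?_⟩
          rw [mul_smul, mul_smul, hg', inv_smul_smul]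
        · intro g _ k _ h
          have : c⁻¹ * g * c = c⁻¹ * k * c := h
          exact mul_left_cancel (mul_right_cancel this)
        · intro k hk
          have hk' : k • α = α := (Finset.mem_filter.mp hk).2
          refine ⟨c * k * c⁻¹, Finset.mem_filter.mpr ⟨Finset.mem_univ _, ?_⟩, by group⟩
          rw [mul_smul, mul_smul, inv_smul_smul, hk']
      simp only [h2, Finset.sum_const, Finset.card_univ, smul_eq_mul]
      -- orbit-stabilizer
      have h3 : Fintype.card Ω * (Finset.univ.filter (fun g : G => g • α = α)).card = Fintype.card G := by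
        have h4 : (Finset.univ.filter (fun g : G => g • α = α)).card = Nat.card (stabilizer G α) := by
          rw [Nat.card_eq_fintype_card, Fintype.card_subtype]
          rfl
        rw [h4]
        have h5 := SylowCount.card_orbit_mul_card_stabilizer (H := G) α
        have h6 : orbit G α = Set.univ := orbit_eq_univ G α
        rw [h6, Nat.card_coe_set_eq, Set.ncard_univ] at h5
        simpa only [Nat.card_eq_fintype_card] using h5
      exact h3
  -- swaps versus fixings
  have hswap : ∀ a b : Ω, (Finset.univ.filter (fun g : G => g • a = b ∧ g • b = a)).card ≤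
      (Finset.univ.filter (fun g : G => g • a = a ∧ g • b = b)).card := by
    intro a b
    by_cases hne : (Finset.univ.filter (fun g : G => g • a = b ∧ g • b = a)).Nonempty
    · obtain ⟨g₀, hg₀⟩ := hne
      have h0 := (Finset.mem_filter.mp hg₀).2
      apply Finset.card_le_card_of_injOn (fun g => g₀⁻¹ * g)
      · intro g hg
        have hg' := (Finset.mem_filter.mp hg).2
        refine Finset.mem_filter.mpr ⟨Finset.mem_univ _, ?_, ?_⟩
        · rw [mul_smul, hg'.1, inv_smul_eq_iff, h0.1]
        · rw [mul_smul, hg'.2, inv_smul_eq_iff, h0.2]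
      · intro g _ k _ h
        exact mul_left_cancel h
    · rw [Finset.not_nonempty_iff_eq_empty.mp hne]
      simp
  let L : G → Finset (Ω × Ω) := fun g => Finset.univ.filter (fun p : Ω × Ω => p.1 ≠ p.2 ∧ g • p.1 = p.2 ∧ g • p.2 = p.1)
  let R : G → Finset (Ω × Ω) := fun g => Finset.univ.filter (fun p : Ω × Ω => p.1 ≠ p.2 ∧ g • p.1 = p.1 ∧ g • p.2 = p.2)
  have hLR : ∑ g : G, (L g).card ≤ ∑ g : G, (R g).card := by
    have e1 : ∑ g : G, (L g).card = ∑ p : Ω × Ω, (Finset.univ.filter (fun g : G => p.1 ≠ p.2 ∧ g • p.1 = p.2 ∧ g • p.2 = p.1)).card := by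
      simp only [L, Finset.card_filter]
      rw [Finset.sum_comm]
    have e2 : ∑ g : G, (R g).card = ∑ p : Ω × Ω, (Finset.univ.filter (fun g : G => p.1 ≠ p.2 ∧ g • p.1 = p.1 ∧ g • p.2 = p.2)).card := by
      simp only [R, Finset.card_filter]
      rw [Finset.sum_comm]
    rw [e1, e2]
    apply Finset.sum_le_sum
    rintro ⟨a, b⟩ -
    by_cases hab : a = b
    · subst hab
      simp
    · simp only [ne_eq, hab, not_false_eq_true, true_and]
      exact hswap a b
  have hR : ∀ g, (R g).card = (fx g).card * (fx g).card - (fx g).card := by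
    intro g
    rw [← Finset.offDiag_card]
    congr 1
    ext ⟨a, b⟩
    simp only [R, Finset.mem_filter, Finset.mem_univ, true_and, Finset.mem_offDiag, hfx]
    tauto
  let D : Finset G := Finset.univ.filter (fun g => fx g = ∅)
  have hD : ∀ g, g ∈ D ↔ ∀ ω : Ω, g • ω ≠ ω := by
    intro g
    simp only [D, Finset.mem_filter, Finset.mem_univ, true_and]
    constructor
    · intro h ω hω
      have : ω ∈ fx g := (hfx g ω).mpr hω
      rw [h] at this
      simp at this
    · intro h
      apply Finset.eq_empty_of_forall_notMem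
      intro ω hω
      exact h ω ((hfx g ω).mp hω)
  have hLD : ∀ g ∈ D, n ≤ (L g).card := by
    intro g hg
    have hg1 := (hD g).mp hg
    have h2 : orderOf g = 2 := hinv g hg1
    have hgg : g ^ 2 = 1 := by rw [← h2]; exact pow_orderOf_eq_one g
    have hgg' : ∀ a : Ω, g • g • a = a := by
      intro a
      rw [← mul_smul, ← pow_two, hgg, one_smul]
    rw [hn, ← Finset.card_univ]
    apply Finset.card_le_card_of_injOn (fun a => (a, g • a))
    · intro a _
      refine Finset.mem_filter.mpr ⟨Finset.mem_univ _, (fun h => hg1 a h.symm), rfl, hgg' a⟩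
    · intro a _ b _ h
      exact (Prod.ext_iff.mp h).1
  have hDsum : n * D.card ≤ ∑ g : G, (L g).card := by
    calc n * D.card = ∑ g ∈ D, n := by rw [Finset.sum_const, smul_eq_mul, mul_comm]
      _ ≤ ∑ g ∈ D, (L g).card := Finset.sum_le_sum hLD
      _ ≤ ∑ g : G, (L g).card := Finset.sum_le_sum_of_subset (Finset.subset_univ _)
  let F : G → ℤ := fun g => ((fx g).card : ℤ)
  have hFsum : ∑ g : G, F g = (Fintype.card G : ℤ) := by
    simp only [F]
    rw [← Nat.cast_sum, hburn]
  have hRint : ∀ g, ((R g).card : ℤ) = F g * (F g - 1) := by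
    intro g
    rw [hR g, Nat.cast_sub (Nat.le_mul_self _)]
    simp only [F, Nat.cast_mul]
    ring
  have h1 : (n : ℤ) * D.card ≤ ∑ g : G, F g * (F g - 1) := by
    have h2 : ((n * D.card : ℕ) : ℤ) ≤ ((∑ g : G, (R g).card : ℕ) : ℤ) := by
      exact_mod_cast hDsum.trans hLR
    rw [Nat.cast_sum] at h2
    simp only [hRint] at h2
    simpa using h2
  let T : G → ℤ := fun g => (F g - 1) * ((n : ℤ) - F g)
  have hT : ∑ g : G, T g = - ∑ g : G, F g * (F g - 1) := by
    have e : ∀ g, T g = (n : ℤ) * (F g - 1) - F g * (F g - 1) := by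
      intro g
      simp only [T]
      ring
    simp only [e]
    rw [Finset.sum_sub_distrib, ← Finset.mul_sum, Finset.sum_sub_distrib, hFsum]
    simp
  have hsplit := Finset.sum_filter_add_sum_filter_not (Finset.univ : Finset G) (fun g => g ∈ D) T
  have hTD : ∑ g ∈ Finset.univ.filter (fun g => g ∈ D), T g = - ((n : ℤ) * D.card) := by
    have h2 : ∀ g ∈ Finset.univ.filter (fun g => g ∈ D), T g = - (n : ℤ) := by
      intro g hg
      have h3 : g ∈ D := (Finset.mem_filter.mp hg).2
      have h4 : fx g = ∅ := (Finset.mem_filter.mp h3).2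
      simp only [T, F, h4, Finset.card_empty, Nat.cast_zero]
      ring
    have h6 : Finset.univ.filter (fun g => g ∈ D) = D := by
      ext g
      simp
    rw [Finset.sum_congr rfl h2, Finset.sum_const, h6]
    simp [mul_comm]
  have hFle : ∀ g, F g ≤ n := by
    intro g
    simp only [F]
    exact_mod_cast Finset.card_le_univ _
  have hnonneg : ∀ g ∈ Finset.univ.filter (fun g => ¬ g ∈ D), 0 ≤ T g := by
    intro g hg
    have h3 : g ∉ D := (Finset.mem_filter.mp hg).2
    have h4 : (fx g).Nonempty := by
      rw [Finset.nonempty_iff_ne_empty]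
      intro h5
      exact h3 (Finset.mem_filter.mpr ⟨Finset.mem_univ _, h5⟩)
    have h5 : 1 ≤ F g := by
      simp only [F]
      exact_mod_cast h4.card_pos
    exact mul_nonneg (by linarith) (by linarith [hFle g])
  have hzero : ∑ g ∈ Finset.univ.filter (fun g => ¬ g ∈ D), T g ≤ 0 := by
    rw [hTD, hT] at hsplit
    linarith
  have hzero' : ∑ g ∈ Finset.univ.filter (fun g => ¬ g ∈ D), T g = 0 :=
    le_antisymm hzero (Finset.sum_nonneg hnonneg)
  have hall := (Finset.sum_eq_zero_iff_of_nonneg hnonneg).mp hzero'
  intro g hg1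
  by_cases hgD : g ∈ D
  · have h4 : fx g = ∅ := (Finset.mem_filter.mp hgD).2
    show (fx g).card ≤ 1
    rw [h4]
    simp
  · have h3 := hall g (Finset.mem_filter.mpr ⟨Finset.mem_univ _, hgD⟩)
    rcases mul_eq_zero.mp h3 with h4 | h4
    · have h5 : F g = 1 := by linarith
      show (fx g).card ≤ 1
      have h6 : ((fx g).card : ℤ) = 1 := h5
      have h7 : (fx g).card = 1 := by exact_mod_cast h6
      omega
    · exfalso
      have h5 : ((fx g).card : ℤ) = n := by
        have : (n : ℤ) = F g := by linarith
        exact this.symm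
      have h6 : (fx g).card = n := by exact_mod_cast h5
      have h7 : fx g = Finset.univ := by
        rw [← Finset.card_eq_iff_eq_univ]
        exact h6
      apply hg1
      apply FaithfulSMul.eq_of_smul_eq_smul (α := Ω)
      intro ω
      rw [one_smul]
      exact (hfx g ω).mp (by rw [h7]; exact Finset.mem_univ _)


/-- Let G act faithfully and transitively on a finite set and suppose every element of G fixing no point is an involution. Then either G is an elementary abelian 2-group, or G is a Frobenius group whose Frobenius kernel is an elementary abelian 2-group: G has a Frobenius complement H, and the elements lying in no conjugate of H, together with the identity, pairwise commute and square to the identity. -/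
theorem result {G Ω : Type*} [Group G] [Finite G] [MulAction G Ω] [FaithfulSMul G Ω] [Finite Ω]
    (htrans : MulAction.IsPretransitive G Ω) (hinv : ∀ g : G, (∀ ω : Ω, g • ω ≠ ω) → orderOf g = 2) :
    (IsMulCommutative G ∧ ∀ g : G, g ^ 2 = 1) ∨
    (∃ H : Subgroup G, Cfsg.IsFrobeniusComplement H ∧
      (∀ x ∈ Cfsg.frobeniusKernel H, x ^ 2 = 1) ∧
      ∀ x ∈ Cfsg.frobeniusKernel H, ∀ y ∈ Cfsg.frobeniusKernel H, x * y = y * x) := by
  classical
  haveI := Fintype.ofFinite G
  haveI := Fintype.ofFinite Ω
  have hfix := fix_le_one htrans hinv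
  have huniq : ∀ g : G, g ≠ 1 → ∀ a b : Ω, g • a = a → g • b = b → a = b := by
    intro g hg a b ha hb
    have := hfix g hg
    exact Finset.card_le_one.mp this a (by simp [ha]) b (by simp [hb])
  have hne : Nonempty Ω := by
    by_contra h
    rw [not_nonempty_iff] at h
    have := hinv 1 (fun ω => (h.false ω).elim)
    rw [orderOf_one] at this
    omega
  obtain ⟨α⟩ := hne
  set H : Subgroup G := stabilizer G α with hH
  have hmemH : ∀ g, g ∈ H ↔ g • α = α := fun g => mem_stabilizer_iff
  have hconj : ∀ c x : G, x ∈ MulAut.conj c • H ↔ x • (c • α) = c • α := by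
    intro c x
    rw [Subgroup.mem_pointwise_smul_iff_inv_smul_mem, hmemH]
    have e : (MulAut.conj c)⁻¹ • x = c⁻¹ * x * c := by
      simp [MulAut.smul_def, MulAut.conj_symm_apply]
    rw [e, mul_smul, mul_smul, inv_smul_eq_iff]
  have hderang : ∀ x : G, x ∈ Cfsg.frobeniusKernel H → x = 1 ∨ ∀ ω : Ω, x • ω ≠ ω := by
    intro x hx
    rcases hx with hx | hx
    · exact Or.inl hx
    · right
      intro ω hω
      obtain ⟨c, rfl⟩ := htrans.exists_smul_eq α ω
      exact hx c ((hconj c x).mpr hω)
  have hsq_d : ∀ x : G, (∀ ω : Ω, x • ω ≠ ω) → x ^ 2 = 1 := by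
    intro x hx
    rw [← hinv x hx]
    exact pow_orderOf_eq_one x
  by_cases hbot : H = ⊥
  · left
    have hsq : ∀ g : G, g ^ 2 = 1 := by
      intro g
      by_cases hg : g = 1
      · simp [hg]
      · apply hsq_d
        intro ω hω
        obtain ⟨c, rfl⟩ := htrans.exists_smul_eq α ω
        have h2 : g ∈ MulAut.conj c • H := (hconj c g).mpr hω
        rw [hbot, Subgroup.smul_bot, Subgroup.mem_bot] at h2
        exact hg h2
    refine ⟨⟨⟨fun a b => ?_⟩⟩, hsq⟩
    have h1 := hsq (a * b)
    have h2 := hsq a
    have h3 := hsq b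
    rw [pow_two] at h1 h2 h3
    calc a * b = a * b * (a * b) * (b * a) := by
          rw [mul_assoc (a * b) (a * b), show a * b * (b * a) = a * (b * b) * a by group, h3, mul_one, h2, mul_one]
      _ = b * a := by rw [h1, one_mul]
  · right
    refine ⟨H, ⟨hbot, ?_, ?_⟩, ?_, ?_⟩
    · intro htop
      apply hbot
      rw [Subgroup.eq_bot_iff_forall]
      intro g _
      apply FaithfulSMul.eq_of_smul_eq_smul (α := Ω)
      intro ω
      obtain ⟨c, rfl⟩ := htrans.exists_smul_eq α ω
      have h1 : c ∈ H := by rw [htop]; exact Subgroup.mem_top c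
      have h2 : g ∈ H := by rw [htop]; exact Subgroup.mem_top g
      rw [(hmemH c).mp h1, (hmemH g).mp h2, one_smul]
    · intro g hg
      rw [Subgroup.eq_bot_iff_forall]
      intro y hy
      by_contra hy1
      have h1 : y • α = α := (hmemH y).mp hy.1
      have h2 : y • (g • α) = g • α := (hconj g y).mp hy.2
      have h3 := huniq y hy1 _ _ h1 h2
      exact hg ((hmemH g).mpr h3.symm)
    · intro x hx
      rcases hderang x hx with h | h
      · simp [h]
      · exact hsq_d x h
    · intro x hx y hy
      rcases hderang x hx with hx1 | hx1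
      · simp [hx1]
      rcases hderang y hy with hy1 | hy1
      · simp [hy1]
      have hx2 : x * x = 1 := by rw [← pow_two]; exact hsq_d x hx1
      have hy2 : y * y = 1 := by rw [← pow_two]; exact hsq_d y hy1
      have hxi : x⁻¹ = x := inv_eq_of_mul_eq_one_left hx2
      have hyi : y⁻¹ = y := inv_eq_of_mul_eq_one_left hy2
      by_cases hr : x * y = 1
      · have : y * x = 1 := by
          have h5 : x = y := by
            calc x = x * (y * y) := by rw [hy2, mul_one]
              _ = (x * y) * y := by rw [mul_assoc]
              _ = y := by rw [hr, one_mul]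
          rw [← h5]
          exact hx2
        rw [hr, this]
      by_cases hd : ∀ ω : Ω, (x * y) • ω ≠ ω
      · have h1 := hsq_d _ hd
        rw [pow_two] at h1
        calc x * y = x * y * (x * y) * (y * x) := by
              rw [mul_assoc (x * y) (x * y), show x * y * (y * x) = x * (y * y) * x by group, hy2, mul_one, hx2, mul_one]
          _ = y * x := by rw [h1, one_mul]
      · exfalso
        push Not at hd
        obtain ⟨β, hβ⟩ := hd
        have h1 : (x * y) • (x • β) = x • β := by
          -- x * y * x = (y * x)... r⁻¹ fixes β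
          have h2 : (y * x) • β = β := by
            have h3 : (y * x) * (x * y) = 1 := by
              rw [show y * x * (x * y) = y * (x * x) * y by group, hx2, mul_one, hy2]
            calc (y * x) • β = (y * x) • ((x * y) • β) := by rw [hβ]
              _ = ((y * x) * (x * y)) • β := by rw [← mul_smul]
              _ = β := by rw [h3, one_smul]
          calc (x * y) • x • β = x • ((y * x) • β) := by
                rw [mul_smul, mul_smul]
            _ = x • β := by rw [h2]
        exact hx1 β (huniq _ hr _ _ hβ h1).symm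

end Cfsg.Agent.S3555
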