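import Mathlib
import Cfsg.Statements.S3634
import Cfsg.Agent.Lib.H6Prime3
-- import your own Cfsg.Agent.* helpers here

set_option autoImplicit false
open Cfsg

namespace Cfsg.Agent.S3634

/-- Let G be a finite group with normal subgroups K ≤ M, and let p, q, r be distinct primes with p dividing the order of K, q dividing the order of M/K and r dividing the order of G/M. Then p, q, r are not pairwise non-adjacent in the prime graph of G: G has an element of order pq, pr or qr. -/
theorem result {G : Type*} [Group G] [Finite G] (K M : Subgroup G) [K.Normal] [M.Normal] (hKM : K ≤ M)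
    (p q r : ℕ) (hp : p.Prime) (hq : q.Prime) (hr : r.Prime) (hpq : p ≠ q) (hpr : p ≠ r) (hqr : q ≠ r)
    (hpK : p ∣ Nat.card ↥K) (hqM : q ∣ Nat.card ↥M / Nat.card ↥K) (hrG : r ∣ Nat.card G / Nat.card ↥M) :
    (∃ x : G, orderOf x = p * q) ∨ (∃ x : G, orderOf x = p * r) ∨ (∃ x : G, orderOf x = q * r) := by
  classical
  by_contra hcon
  push_neg at hcon
  obtain ⟨no1, no2, no3⟩ := hcon
  haveI : Fact p.Prime := ⟨hp⟩
  haveI : Fact q.Prime := ⟨hq⟩
  haveI : Fact r.Prime := ⟨hr⟩
  let P₀ : Sylow p K := default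
  let P : Subgroup G := (P₀ : Subgroup K).map K.subtype
  have hPp : IsPGroup p P := P₀.isPGroup'.map _
  have hP0 : P ≠ ⊥ := by
    intro h
    exact P₀.ne_bot_of_dvd_card hpK ((Subgroup.map_eq_bot_iff_of_injective _ K.subtype_injective).mp h)
  set A := Subgroup.normalizer (P : Set G) with hA
  have hAK : A ⊔ K = ⊤ := Sylow.normalizer_sup_eq_top P₀
  have hAM : A ⊔ M = ⊤ := top_le_iff.mp (hAK ▸ sup_le_sup_left hKM A)
  have hindex : M.relIndex A = M.index := by
    rw [← Subgroup.relIndex_sup_right, hAM, Subgroup.relIndex_top_right]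
  have hrM : r ∣ M.index := by
    have h1 := Subgroup.card_mul_index M
    have h2 : Nat.card G / Nat.card M = M.index := by
      rw [← h1]
      exact Nat.mul_div_cancel_left _ Nat.card_pos
    rwa [h2] at hrG
  have hqA : q ∣ Nat.card (M.subgroupOf A) := by
    have h1 : M = K ⊔ (M ⊓ A) := by
      apply le_antisymm
      · intro x hx
        have hx' : x ∈ A ⊔ K := hAK ▸ Subgroup.mem_top x
        rw [Subgroup.mem_sup_of_normal_right] at hx'
        obtain ⟨a, ha, k, hk, rfl⟩ := hx'
        have : a ∈ M := by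
          have h3 : a = a * k * k⁻¹ := by group
          rw [h3]
          exact M.mul_mem hx (M.inv_mem (hKM hk))
        exact Subgroup.mul_mem_sup (show a ∈ M ⊓ A from ⟨this, ha⟩) hk |> fun h => by
          rwa [sup_comm] at h
      · exact sup_le hKM inf_le_left
    have h2 : K.relIndex M = K.relIndex (M ⊓ A) := by
      conv_lhs => rw [h1]
      exact Subgroup.relIndex_sup_left _ _
    have h3 : Nat.card M / Nat.card K = K.relIndex M := by
      have h4 := Subgroup.card_mul_index (K.subgroupOf M)
      have h5 : Nat.card (K.subgroupOf M) = Nat.card K := Nat.card_congr (Subgroup.subgroupOfEquivOfLe hKM).toEquiv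
      rw [h5] at h4
      rw [Subgroup.relIndex, ← h4]
      exact Nat.mul_div_cancel_left _ Nat.card_pos
    have h6 : Nat.card (M.subgroupOf A) = Nat.card ↥(M ⊓ A) := by
      rw [← Subgroup.inf_subgroupOf_right]
      exact Nat.card_congr (Subgroup.subgroupOfEquivOfLe inf_le_right).toEquiv
    rw [h6]
    rw [h3, h2] at hqM
    exact hqM.trans (Subgroup.relIndex_dvd_card _ _)
  -- work in the normalizer
  let M_E : Subgroup A := M.subgroupOf A
  haveI hME : M_E.Normal := inferInstance
  let Q₀ : Sylow q M_E := default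
  let Q : Subgroup A := (Q₀ : Subgroup M_E).map M_E.subtype
  have hQq : IsPGroup q Q := Q₀.isPGroup'.map _
  have hQ0 : Q ≠ ⊥ := by
    intro h
    exact Q₀.ne_bot_of_dvd_card hqA ((Subgroup.map_eq_bot_iff_of_injective _ M_E.subtype_injective).mp h)
  have hFr : Subgroup.normalizer (Q : Set A) ⊔ M_E = ⊤ := Sylow.normalizer_sup_eq_top Q₀
  have hrB : r ∣ Nat.card (Subgroup.normalizer (Q : Set A)) := by
    have h1 : M_E.relIndex (Subgroup.normalizer (Q : Set A)) = M.index := by
      rw [← Subgroup.relIndex_sup_right, hFr, Subgroup.relIndex_top_right]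
      exact hindex
    rw [← h1] at hrM
    exact hrM.trans (Subgroup.relIndex_dvd_card _ _)
  obtain ⟨y₀, hy₀⟩ := exists_prime_orderOf_dvd_card' (G := Subgroup.normalizer (Q : Set A)) r hrB
  haveI hPE : (P.subgroupOf A).Normal := Subgroup.normal_in_normalizer
  have hPEp : IsPGroup p (P.subgroupOf A) := by
    intro x
    obtain ⟨k, hk⟩ := hPp ⟨x.1.1, x.2⟩
    refine ⟨k, Subtype.ext (Subtype.ext ?_)⟩
    have := congrArg Subtype.val hk
    simpa using this
  have hPE0 : P.subgroupOf A ≠ ⊥ := by
    intro h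
    apply hP0
    rw [eq_bot_iff]
    intro x hx
    have hxA : x ∈ A := Subgroup.le_normalizer hx
    have : (⟨x, hxA⟩ : A) ∈ P.subgroupOf A := hx
    rw [h, Subgroup.mem_bot] at this
    exact congrArg Subtype.val this
  refine Cfsg.Agent.Lib.H6Prime3.core (E := A) hp hq hr hpq hpr hqr (P.subgroupOf A) hPEp hPE0 Q hQq hQ0 (y₀ : A)
    (by rw [Subgroup.orderOf_coe, hy₀]) y₀.2 ?_ ?_ ?_
  · intro x hx
    apply no1 (x : G)
    rw [Subgroup.orderOf_coe, hx, mul_comm]
  · intro x hx
    apply no2 (x : G)
    rw [Subgroup.orderOf_coe, hx, mul_comm]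
  · intro x hx
    apply no3 (x : G)
    rw [Subgroup.orderOf_coe, hx]

end Cfsg.Agent.S3634
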