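import Mathlib
import Cfsg.Statements.S3633
import Cfsg.Agent.S3634
import Cfsg.Agent.Lib.PResidual
import Cfsg.Agent.Lib.IndexP
-- import your own Cfsg.Agent.* helpers here

set_option autoImplicit false
open Cfsg

namespace Cfsg.Agent.S3633

/-- A nontrivial solvable normal subgroup `M` has a `G`-normal subgroup `N < M` with `M/N` a nontrivial `ℓ`-group. -/
private lemma exists_layer {G : Type*} [Group G] [Finite G] (M : Subgroup G) [hMn : M.Normal] (hM : M ≠ ⊥)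
    (hs : Group.IsSolvable M) :
    ∃ (ℓ : ℕ) (N : Subgroup G), ℓ.Prime ∧ N.Normal ∧ N ≤ M ∧ N ≠ M ∧ (∃ k, k ≠ 0 ∧ Nat.card M = Nat.card N * ℓ ^ k) := by
  classical
  haveI : Nontrivial M := (Subgroup.nontrivial_iff_ne_bot M).mpr hM
  -- find a prime and a normal subgroup of prime index
  have hlt := Group.IsSolvable.commutator_lt_top_of_nontrivial M
  haveI : (commutator M).Normal := inferInstance
  have hne1 : Nat.card (M ⧸ commutator M) ≠ 1 := by
    intro h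
    have h2 : (commutator M).index = 1 := h
    exact hlt.ne (Subgroup.index_eq_one.mp h2)
  have hℓ := Nat.minFac_prime hne1
  set ℓ := (Nat.card (M ⧸ commutator M)).minFac with hℓdef
  have hℓd : ℓ ∣ Nat.card (M ⧸ commutator M) := Nat.minFac_dvd _
  haveI : Fact ℓ.Prime := ⟨hℓ⟩
  let S : Sylow ℓ M := default
  have hSnot : ¬ (S : Subgroup M) ≤ commutator M := by
    intro hle
    have h1 : Nat.card S ∣ Nat.card (commutator M) := Subgroup.card_dvd_of_le hle
    have h2 := Subgroup.card_mul_index (commutator M)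
    have h3 := S.card_eq_multiplicity
    have h4 : ℓ ^ (Nat.card M).factorization ℓ ∣ Nat.card (commutator M) := h3 ▸ h1
    have h5 : ℓ ∣ (commutator M).index := hℓd
    have h6 : ℓ ^ ((Nat.card M).factorization ℓ + 1) ∣ Nat.card M := by
      have := mul_dvd_mul h4 h5
      rw [← pow_succ, h2] at this
      exact this
    have h7 := (Nat.Prime.pow_dvd_iff_le_factorization hℓ Nat.card_pos.ne').mp h6
    omega
  obtain ⟨N₁, hN₁n, hN₁⟩ := Cfsg.Agent.Lib.IndexP.exists_index_of_not_le_commutator (S : Subgroup M) S.isPGroup' hSnot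
  haveI := Cfsg.Agent.Lib.PResidual.pResidual_normal ℓ M
  have hq1 : IsPGroup ℓ (M ⧸ N₁) := IsPGroup.of_card (n := 1) (by
    rw [pow_one]; exact hN₁)
  have hle : Cfsg.pResidual ℓ M ≤ N₁ := Cfsg.Agent.Lib.PResidual.pResidual_le_of_isPGroup_quotient hq1
  have hNtop : Cfsg.pResidual ℓ M ≠ ⊤ := by
    intro h
    have : N₁ = ⊤ := top_le_iff.mp (h ▸ hle)
    rw [this, Subgroup.index_top] at hN₁
    exact hℓ.ne_one hN₁.symm
  have hq2 : IsPGroup ℓ (M ⧸ Cfsg.pResidual ℓ M) := Cfsg.Agent.Lib.PResidual.isPGroup_quotient_pResidual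
  obtain ⟨k, hk⟩ := IsPGroup.iff_card.mp hq2
  have hk0 : k ≠ 0 := by
    intro h0
    rw [h0, pow_zero] at hk
    have h2 : (Cfsg.pResidual ℓ M).index = 1 := hk
    exact hNtop (Subgroup.index_eq_one.mp h2)
  have hchar : (Cfsg.pResidual ℓ M).Characteristic := Cfsg.Agent.Lib.PResidual.pResidual_characteristic
  have hcardN : Nat.card ((Cfsg.pResidual ℓ M).map M.subtype) = Nat.card (Cfsg.pResidual ℓ M) :=
    Nat.card_congr (Subgroup.equivMapOfInjective _ _ M.subtype_injective).symm.toEquiv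
  have hcard : Nat.card M = Nat.card ((Cfsg.pResidual ℓ M).map M.subtype) * ℓ ^ k := by
    rw [hcardN, ← hk]
    exact (Subgroup.card_mul_index _).symm
  refine ⟨ℓ, (Cfsg.pResidual ℓ M).map M.subtype, hℓ, ⟨?_⟩, Subgroup.map_subtype_le _, ?_, k, hk0, hcard⟩
  · rintro _ ⟨x, hx, rfl⟩ g
    let σ : M ≃* M := MulAut.conjNormal g
    have h1 := hchar.fixed σ
    have h2 : x ∈ (Cfsg.pResidual ℓ M).comap σ.toMonoidHom := by rw [h1]; exact hx
    exact ⟨σ x, h2, by simp [σ]⟩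
  · intro h
    rw [h] at hcard
    have h3 : ℓ ^ k = 1 := by
      have h4 : Nat.card M * 1 = Nat.card M * ℓ ^ k := by rw [mul_one]; exact hcard
      exact (Nat.eq_of_mul_eq_mul_left Nat.card_pos h4).symm
    have h5 := Nat.one_lt_pow hk0 hℓ.one_lt
    omega

private lemma main_part {G : Type*} [Group G] [Finite G] (ρ : Finset ℕ) (hρ : 3 ≤ ρ.card)
    (hc : ((∀ r ∈ ρ, r.Prime ∧ r ∣ Nat.card G) ∧ (∀ r ∈ ρ, ∀ s ∈ ρ, r ≠ s → ¬ ∃ x : G, orderOf x = r * s)))
    (K : Subgroup G) [K.Normal] (hK : Group.IsSolvable ↥K) :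
    ∀ r ∈ ρ, ∀ s ∈ ρ, r ∣ Nat.card ↥K → s ∣ Nat.card ↥K → r = s := by
  classical
  intro r hr s hs hrK hsK
  by_contra hrs
  let F : Set (Subgroup G) := {M | M.Normal ∧ M ≤ K ∧ ∃ a ∈ ρ, ∃ b ∈ ρ, a ≠ b ∧ a ∣ Nat.card M ∧ b ∣ Nat.card M}
  have hFne : F.Nonempty := ⟨K, inferInstance, le_rfl, r, hr, s, hs, hrs, hrK, hsK⟩
  obtain ⟨M, hMF, hmin⟩ := WellFounded.has_min (wellFounded_lt (α := Subgroup G)) F hFne
  obtain ⟨hMn, hMK, a, ha, b, hb, hab, haM, hbM⟩ := hMF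
  haveI := hMn
  have hM0 : M ≠ ⊥ := by
    rintro rfl
    have : a ∣ 1 := by simpa using haM
    exact (hc.1 a ha).1.one_lt.ne' (Nat.dvd_one.mp this)
  have hMs : Group.IsSolvable M := Group.isSolvable_of_isSolvable_injective (Subgroup.inclusion_injective hMK)
  obtain ⟨ℓ, N, hℓ, hNn, hNM, hNne, k, hk0, hcard⟩ := exists_layer M hM0 hMs
  have hNlt : N < M := lt_of_le_of_ne hNM hNne
  have hNF : ∀ u ∈ ρ, ∀ v ∈ ρ, u ≠ v → u ∣ Nat.card N → v ∣ Nat.card N → False := by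
    intro u hu v hv huv hu' hv'
    exact hmin N ⟨hNn, hNM.trans hMK, u, hu, v, hv, huv, hu', hv'⟩ hNlt
  have hdiv : ∀ u, u.Prime → u ≠ ℓ → u ∣ Nat.card M → u ∣ Nat.card N := by
    intro u hu huℓ hd
    rw [hcard] at hd
    rcases (Nat.Prime.dvd_mul hu).mp hd with h | h
    · exact h
    · exact absurd ((Nat.prime_dvd_prime_iff_eq hu hℓ).mp (hu.dvd_of_dvd_pow h)) huℓ
  -- `ℓ` lies in `ρ` and a second prime divides `N`
  have hℓρ : ℓ ∈ ρ := by
    by_contra hnot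
    exact hNF a ha b hb hab (hdiv a (hc.1 a ha).1 (fun h => hnot (h ▸ ha)) haM)
      (hdiv b (hc.1 b hb).1 (fun h => hnot (h ▸ hb)) hbM)
  obtain ⟨p₁, hp₁, hp₁ℓ, hp₁M⟩ : ∃ p₁ ∈ ρ, p₁ ≠ ℓ ∧ p₁ ∣ Nat.card M := by
    by_cases h : a = ℓ
    · exact ⟨b, hb, fun h2 => hab (h.trans h2.symm), hbM⟩
    · exact ⟨a, ha, h, haM⟩
  have hp₁N := hdiv p₁ (hc.1 p₁ hp₁).1 hp₁ℓ hp₁M
  -- the third prime
  obtain ⟨t, ht, htp, htℓ⟩ : ∃ t ∈ ρ, t ≠ p₁ ∧ t ≠ ℓ := by
    by_contra hcon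
    push_neg at hcon
    have h1 : ρ ⊆ {p₁, ℓ} := by
      intro t ht
      by_cases h : t = p₁
      · simp [h]
      · simp [hcon t ht h]
    have h2 := Finset.card_le_card h1
    have h3 : ({p₁, ℓ} : Finset ℕ).card ≤ 2 := Finset.card_le_two
    omega
  have htM : ¬ t ∣ Nat.card M := by
    intro h
    exact hNF t ht p₁ hp₁ htp (hdiv t (hc.1 t ht).1 htℓ h) hp₁N
  have hNcard : Nat.card M / Nat.card N = ℓ ^ k := by
    rw [hcard]
    exact Nat.mul_div_cancel_left _ Nat.card_pos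
  have htG : t ∣ Nat.card G / Nat.card M := by
    have h1 := Subgroup.card_mul_index M
    have h2 : Nat.card G / Nat.card M = M.index := by
      rw [← h1]
      exact Nat.mul_div_cancel_left _ Nat.card_pos
    rw [h2]
    have h3 : t ∣ Nat.card M * M.index := h1 ▸ (hc.1 t ht).2
    exact ((Nat.Prime.dvd_mul (hc.1 t ht).1).mp h3).resolve_left htM
  haveI := hNn
  have hres := Cfsg.Agent.S3634.result N M hNM p₁ ℓ t (hc.1 p₁ hp₁).1 hℓ (hc.1 t ht).1 hp₁ℓ htp.symm htℓ.symm hp₁N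
    (by rw [hNcard]; exact dvd_pow_self ℓ hk0) htG
  rcases hres with h | h | h
  · exact hc.2 p₁ hp₁ ℓ hℓρ hp₁ℓ h
  · exact hc.2 p₁ hp₁ t ht htp.symm h
  · exact hc.2 ℓ hℓρ t ht htℓ.symm h

/-- Let G be a finite group and ρ a set of at least three prime divisors of the order of G that are pairwise non-adjacent in the prime graph (no element of order rs for distinct r, s ∈ ρ). Then at most one prime of ρ divides the order of any given solvable normal subgroup of G; in particular G is not solvable. -/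
theorem result {G : Type*} [Group G] [Finite G] (ρ : Finset ℕ) (hρ : 3 ≤ ρ.card) (hc : ((∀ r ∈ ρ, r.Prime ∧ r ∣ Nat.card G) ∧ (∀ r ∈ ρ, ∀ s ∈ ρ, r ≠ s → ¬ ∃ x : G, orderOf x = r * s)))
    (K : Subgroup G) [K.Normal] (hK : Group.IsSolvable ↥K) :
    (∀ r ∈ ρ, ∀ s ∈ ρ, r ∣ Nat.card ↥K → s ∣ Nat.card ↥K → r = s) ∧ ¬ Group.IsSolvable G := by
  refine ⟨main_part ρ hρ hc K hK, fun hG => ?_⟩
  classical
  obtain ⟨r, hr, s, hs, hrs⟩ := Finset.one_lt_card.mp (by omega : 1 < ρ.card)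
  refine hrs (main_part ρ hρ hc ⊤ ?_ r hr s hs ?_ ?_)
  · exact Group.isSolvable_of_isSolvable_injective (f := (⊤ : Subgroup G).subtype) (⊤ : Subgroup G).subtype_injective
  · rw [Subgroup.card_top]; exact (hc.1 r hr).2
  · rw [Subgroup.card_top]; exact (hc.1 s hs).2

end Cfsg.Agent.S3633
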