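import Mathlib
import Cfsg.Statements.S3807
import Cfsg.Agent.S0127
import Cfsg.Agent.Lib.NormalE
import Cfsg.Agent.Lib.SchurZ2
-- import your own Cfsg.Agent.* helpers here

set_option autoImplicit false
open Cfsg

namespace Cfsg.Agent.S3807
open scoped commutatorElement

/-- The number of subgroups of order `p` in a group of order `p²` and exponent `p`. -/
theorem card_sub_p {T : Type*} [Group T] [Finite T] {p : ℕ} (hpp : p.Prime) (hT : Nat.card T = p ^ 2)
    (hexp : ∀ x : T, x ^ p = 1) : Nat.card {U : Subgroup T // Nat.card U = p} = p + 1 := by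
  classical
  haveI := Fintype.ofFinite T
  haveI : Fact p.Prime := ⟨hpp⟩
  have hord : ∀ x : T, x ≠ 1 → orderOf x = p := fun x hx => orderOf_eq_prime (hexp x) hx
  let f : {x : T // x ≠ 1} → {U : Subgroup T // Nat.card U = p} := fun x =>
    ⟨Subgroup.zpowers x.1, by rw [Nat.card_zpowers, hord x.1 x.2]⟩
  have hfib : ∀ U : {U : Subgroup T // Nat.card U = p}, Nat.card {x : {x : T // x ≠ 1} // f x = U} = p - 1 := by
    intro U
    let e : {x : {x : T // x ≠ 1} // f x = U} ≃ {u : U.1 // u ≠ 1} :=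
      { toFun := fun x => ⟨⟨x.1.1, by
            have h1 : Subgroup.zpowers x.1.1 = U.1 := congrArg Subtype.val x.2
            rw [← h1]
            exact Subgroup.mem_zpowers _⟩, fun h => x.1.2 (congrArg Subtype.val h)⟩
        invFun := fun u => ⟨⟨u.1.1, fun h => u.2 (Subtype.ext h)⟩, by
            apply Subtype.ext
            apply Subgroup.eq_of_le_of_card_ge
            · rw [Subgroup.zpowers_le]; exact u.1.2
            · change Nat.card U.1 ≤ Nat.card (Subgroup.zpowers u.1.1)
              rw [U.2, Nat.card_zpowers, hord u.1.1 (fun h => u.2 (Subtype.ext h))]⟩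
        left_inv := fun x => rfl
        right_inv := fun u => rfl }
    rw [Nat.card_congr e]
    haveI : Fintype U.1 := Fintype.ofFinite _
    rw [Nat.card_eq_fintype_card, Fintype.card_subtype]
    have h2 : (Finset.univ.filter (fun u : U.1 => u ≠ 1)) = Finset.univ.erase 1 := by
      ext u
      simp
    rw [h2, Finset.card_erase_of_mem (Finset.mem_univ _), Finset.card_univ, ← Nat.card_eq_fintype_card, U.2]
  haveI : Fintype {U : Subgroup T // Nat.card U = p} := Fintype.ofFinite _
  have hsum : Nat.card {x : T // x ≠ 1} = Nat.card {U : Subgroup T // Nat.card U = p} * (p - 1) := by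
    rw [← Nat.card_congr (Equiv.sigmaFiberEquiv f), Nat.card_sigma]
    simp only [hfib]
    rw [Finset.sum_const, Finset.card_univ, ← Nat.card_eq_fintype_card, smul_eq_mul]
  have hcard1 : Nat.card {x : T // x ≠ 1} = p ^ 2 - 1 := by
    rw [Nat.card_eq_fintype_card, Fintype.card_subtype]
    have h2 : (Finset.univ.filter (fun u : T => u ≠ 1)) = Finset.univ.erase 1 := by
      ext u
      simp
    rw [h2, Finset.card_erase_of_mem (Finset.mem_univ _), Finset.card_univ, ← Nat.card_eq_fintype_card, hT]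
  rw [hcard1] at hsum
  have hp1 : 0 < p - 1 := by have := hpp.two_le; omega
  have h3 : p ^ 2 - 1 = (p + 1) * (p - 1) := by
    obtain ⟨q, rfl⟩ : ∃ q, p = q + 1 := ⟨p - 1, by have := hpp.pos; omega⟩
    simp only [Nat.add_sub_cancel]
    have : (q + 1) ^ 2 = (q + 1 + 1) * q + 1 := by ring
    omega
  rw [h3] at hsum
  exact (Nat.eq_of_mul_eq_mul_right hp1 hsum).symm


/-- The abelian subgroups of index `p` correspond to the subgroups of order `p` of the central quotient. -/
noncomputable def hbij {S : Type*} [Group S] [Finite S] {p : ℕ} (hpp : p.Prime)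
    (hcenter : ∀ B : Subgroup S, IsMulCommutative ↥B → B.index = p → Subgroup.center S ≤ B)
    (hT : Nat.card (S ⧸ Subgroup.center S) = p ^ 2) :
    {B : Subgroup S // IsMulCommutative ↥B ∧ B.index = p} ≃ {U : Subgroup (S ⧸ Subgroup.center S) // Nat.card U = p} := by
  classical
  let Z : Subgroup S := Subgroup.center S
  let q : S →* S ⧸ Z := QuotientGroup.mk' Z
  have hZpos : 0 < Nat.card Z := Nat.card_pos
  have hScard : Nat.card S = Nat.card Z * p ^ 2 := by
    rw [← hT]
    have h1 := Z.card_mul_index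
    rw [Subgroup.index_eq_card] at h1
    exact h1.symm
  have hcomap : ∀ U : Subgroup (S ⧸ Z), Nat.card (U.comap q) = Nat.card U * Nat.card Z :=
    fun U => Cfsg.Agent.Lib.NormalE.card_comap_mk U
  refine
    { toFun := fun B => ⟨B.1.map q, ?_⟩
      invFun := fun U => ⟨U.1.comap q, ?_, ?_⟩
      left_inv := ?_
      right_inv := ?_ }
  · have hZB := hcenter B.1 B.2.1 B.2.2
    have h1 : (B.1.map q).comap q = B.1 := Subgroup.comap_map_eq_self (by
      rw [QuotientGroup.ker_mk']; exact hZB)
    have h2 := hcomap (B.1.map q)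
    rw [h1] at h2
    have h3 := B.1.card_mul_index
    rw [B.2.2, h2, hScard] at h3
    have h4 : Nat.card Z * (Nat.card (B.1.map q) * p) = Nat.card Z * (p * p) := by
      rw [← pow_two, ← h3]; ring
    have h5 := Nat.eq_of_mul_eq_mul_left hZpos h4
    exact Nat.eq_of_mul_eq_mul_right hpp.pos h5
  · -- abelian
    obtain ⟨u, hu⟩ : ∃ u : U.1, u ≠ 1 := by
      haveI : Nontrivial U.1 := Finite.one_lt_card_iff_nontrivial.mp (by rw [U.2]; exact hpp.one_lt)
      exact exists_ne 1
    obtain ⟨x, hx⟩ := QuotientGroup.mk_surjective u.1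
    have hxU : q x ∈ U.1 := by
      change (QuotientGroup.mk x : S ⧸ Z) ∈ U.1
      rw [hx]; exact u.2
    have hqx1 : q x ≠ 1 := by
      intro h
      apply hu
      apply Subtype.ext
      change u.1 = 1
      rw [← hx]
      exact h
    have hUz : U.1 = Subgroup.zpowers (q x) := by
      symm
      haveI : Fact p.Prime := ⟨hpp⟩
      have hdvd : orderOf (q x) ∣ p := by
        rw [← U.2, ← Subgroup.orderOf_mk (q x) hxU]
        exact orderOf_dvd_natCard _
      have hord : orderOf (q x) = p := by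
        rcases (Nat.dvd_prime hpp).mp hdvd with h | h
        · exact absurd (orderOf_eq_one_iff.mp h) hqx1
        · exact h
      apply Subgroup.eq_of_le_of_card_ge
      · rw [Subgroup.zpowers_le]; exact hxU
      · rw [U.2, Nat.card_zpowers, hord]
    have hdec : ∀ b ∈ U.1.comap q, ∃ i : ℤ, ∃ c ∈ Z, b = x ^ i * c := by
      intro b hb
      have hb' : q b ∈ U.1 := hb
      rw [hUz] at hb'
      obtain ⟨i, hi⟩ := Subgroup.mem_zpowers_iff.mp hb'
      refine ⟨i, (x ^ i)⁻¹ * b, ?_, by group⟩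
      have h1 : q ((x ^ i)⁻¹ * b) = 1 := by
        rw [map_mul, map_inv, map_zpow, hi, inv_mul_cancel]
      exact (QuotientGroup.eq_one_iff _).mp h1
    refine ⟨⟨fun a b => Subtype.ext ?_⟩⟩
    obtain ⟨i, c, hc, hae⟩ := hdec a.1 a.2
    obtain ⟨j, d, hd, hbe⟩ := hdec b.1 b.2
    change a.1 * b.1 = b.1 * a.1
    rw [hae, hbe]
    have c1 : Commute (x ^ i) (x ^ j) := (Commute.refl x).zpow_zpow i j
    have hcc : ∀ g, c * g = g * c := fun g => (Subgroup.mem_center_iff.mp hc g).symm
    have hdc : ∀ g, d * g = g * d := fun g => (Subgroup.mem_center_iff.mp hd g).symm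
    calc x ^ i * c * (x ^ j * d) = x ^ i * (c * x ^ j) * d := by group
      _ = x ^ i * (x ^ j * c) * d := by rw [hcc]
      _ = (x ^ i * x ^ j) * (c * d) := by group
      _ = (x ^ j * x ^ i) * (d * c) := by rw [c1.eq, hcc d]
      _ = x ^ j * (x ^ i * d) * c := by group
      _ = x ^ j * (d * x ^ i) * c := by rw [hdc (x ^ i)]
      _ = _ := by group
  · -- index
    have h2 := hcomap U.1
    have h3 := (U.1.comap q).card_mul_index
    rw [h2, U.2, hScard] at h3
    have h4 : Nat.card Z * (p * (U.1.comap q).index) = Nat.card Z * (p * p) := by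
      rw [← pow_two, ← h3]; ring
    have h5 := Nat.eq_of_mul_eq_mul_left hZpos h4
    exact Nat.eq_of_mul_eq_mul_left hpp.pos h5
  · intro B
    apply Subtype.ext
    exact Subgroup.comap_map_eq_self (by
      rw [QuotientGroup.ker_mk']; exact hcenter B.1 B.2.1 B.2.2)
  · intro U
    apply Subtype.ext
    exact Subgroup.map_comap_eq_self_of_surjective (QuotientGroup.mk'_surjective Z) U.1

/-- Let S be a non-abelian finite p-group with an abelian subgroup A of index p. Then [S : Z(S)] = p·#[S,S], and either [S,S] has order p, S/Z(S) is elementary abelian of order p², and S has exactly p + 1 abelian subgroups of index p; or [S,S] has order at least p² and A is the only abelian subgroup of index p in S. -/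
theorem result {S : Type*} [Group S] [Finite S] (p : ℕ) [Fact p.Prime] (hS : IsPGroup p S) (hna : ¬ IsMulCommutative S)
    (A : Subgroup S) (hA : IsMulCommutative ↥A) (hAi : A.index = p) :
    (Subgroup.center S).index = p * Nat.card (commutator S) ∧
      ((Nat.card (commutator S) = p ∧ Cfsg.IsElementaryAbelian p (⊤ : Subgroup (S ⧸ Subgroup.center S)) ∧
          Nat.card (S ⧸ Subgroup.center S) = p ^ 2 ∧
          Nat.card {B : Subgroup S // IsMulCommutative ↥B ∧ B.index = p} = p + 1) ∨
        (p ^ 2 ≤ Nat.card (commutator S) ∧ ∀ B : Subgroup S, IsMulCommutative ↥B → B.index = p → B = A)) := by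
  classical
  have hpp : p.Prime := Fact.out
  obtain ⟨n, hn⟩ := IsPGroup.iff_card.mp hS
  have hn0 : n ≠ 0 := by
    rintro rfl
    rw [pow_zero] at hn
    have h1 : A.index ∣ Nat.card S := Subgroup.index_dvd_card A
    rw [hn, hAi] at h1
    exact hpp.one_lt.ne' (Nat.dvd_one.mp h1)
  have hmf : (Nat.card S).minFac = p := by rw [hn]; exact hpp.pow_minFac hn0
  have hnormal : ∀ B : Subgroup S, B.index = p → B.Normal := fun B hB =>
    Subgroup.normal_of_index_eq_minFac_card (by rw [hB, hmf])
  haveI hAn : A.Normal := hnormal A hAi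
  have hAc : ∀ a ∈ A, ∀ b ∈ A, a * b = b * a := by
    intro a ha b hb
    exact congrArg Subtype.val (hA.is_comm.comm ⟨a, ha⟩ ⟨b, hb⟩)
  have hnc : ¬ ∀ a b : S, a * b = b * a := fun h => hna ⟨⟨h⟩⟩
  -- subgroups of index `p`
  have hidxtop : ∀ (B D : Subgroup S), B.index = p → B ≤ D → ¬ D ≤ B → D = ⊤ :=
    fun B D hB hBD h => Cfsg.Agent.S0127.top_of_index_prime hpp B D hB hBD h
  -- an abelian subgroup of index `p` contains the centre
  have hcenter : ∀ B : Subgroup S, IsMulCommutative ↥B → B.index = p → Subgroup.center S ≤ B := by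
    intro B hB hBi z hz
    by_contra hzB
    apply hnc
    have hBn := hnormal B hBi
    haveI := hBn
    have htop : B ⊔ Subgroup.zpowers z = ⊤ := hidxtop B _ hBi le_sup_left (fun h => hzB (h (by
      exact (le_sup_right : Subgroup.zpowers z ≤ B ⊔ Subgroup.zpowers z) (Subgroup.mem_zpowers z))))
    have hBc : ∀ a ∈ B, ∀ b ∈ B, a * b = b * a := by
      intro a ha b hb
      exact congrArg Subtype.val (hB.is_comm.comm ⟨a, ha⟩ ⟨b, hb⟩)
    have hdec : ∀ x : S, ∃ a ∈ B, ∃ i : ℤ, a * z ^ i = x := by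
      intro x
      have hx : x ∈ B ⊔ Subgroup.zpowers z := by rw [htop]; trivial
      obtain ⟨a, ha, b, hb, rfl⟩ := Subgroup.mem_sup_of_normal_left.mp hx
      obtain ⟨i, rfl⟩ := Subgroup.mem_zpowers_iff.mp hb
      exact ⟨a, ha, i, rfl⟩
    intro x y
    obtain ⟨a, ha, i, rfl⟩ := hdec x
    obtain ⟨b, hb, j, rfl⟩ := hdec y
    have hzc : ∀ u : S, Commute (z ^ i) u ∧ Commute (z ^ j) u := by
      intro u
      have h1 : Commute u z := Subgroup.mem_center_iff.mp hz u
      exact ⟨(h1.zpow_right i).symm, (h1.zpow_right j).symm⟩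
    have c1 : z ^ i * b = b * z ^ i := (hzc b).1.eq
    have c2 : z ^ j * a = a * z ^ j := (hzc a).2.eq
    calc a * z ^ i * (b * z ^ j) = a * (z ^ i * b) * z ^ j := by group
      _ = a * (b * z ^ i) * z ^ j := by rw [c1]
      _ = (a * b) * (z ^ i * z ^ j) := by group
      _ = (b * a) * (z ^ j * z ^ i) := by rw [hBc a ha b hb, ((hzc (z ^ j)).1).eq]
      _ = b * (a * z ^ j) * z ^ i := by group
      _ = b * (z ^ j * a) * z ^ i := by rw [c2]
      _ = b * z ^ j * (a * z ^ i) := by group
  have hZA := hcenter A hA hAi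
  -- an element outside `A`
  have hAtop : A ≠ ⊤ := by
    intro h
    rw [h, Subgroup.index_top] at hAi
    exact hpp.ne_one hAi.symm
  obtain ⟨g, hg⟩ : ∃ g, g ∉ A := by
    by_contra h
    push_neg at h
    exact hAtop ((Subgroup.eq_top_iff' A).mpr h)
  have hsup : A ⊔ Subgroup.zpowers g = ⊤ := hidxtop A _ hAi le_sup_left (fun h => hg (h (by
    exact (le_sup_right : Subgroup.zpowers g ≤ A ⊔ Subgroup.zpowers g) (Subgroup.mem_zpowers g))))
  have hdec : ∀ x : S, ∃ a ∈ A, ∃ i : ℤ, a * g ^ i = x := by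
    intro x
    have hx : x ∈ A ⊔ Subgroup.zpowers g := by rw [hsup]; trivial
    obtain ⟨a, ha, b, hb, rfl⟩ := Subgroup.mem_sup_of_normal_left.mp hx
    obtain ⟨i, rfl⟩ := Subgroup.mem_zpowers_iff.mp hb
    exact ⟨a, ha, i, rfl⟩
  -- the commutator map
  have hφmem : ∀ a : A, g * a.1 * g⁻¹ * a.1⁻¹ ∈ A := fun a =>
    A.mul_mem (hAn.conj_mem a.1 a.2 g) (A.inv_mem a.2)
  let φ : ↥A →* ↥A :=
    { toFun := fun a => ⟨g * a.1 * g⁻¹ * a.1⁻¹, hφmem a⟩
      map_one' := by
        apply Subtype.ext
        simp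
      map_mul' := fun a b => by
        apply Subtype.ext
        change g * (a.1 * b.1) * g⁻¹ * (a.1 * b.1)⁻¹ = (g * a.1 * g⁻¹ * a.1⁻¹) * (g * b.1 * g⁻¹ * b.1⁻¹)
        have h1 := hAc _ (hφmem b) _ (A.inv_mem a.2)
        calc g * (a.1 * b.1) * g⁻¹ * (a.1 * b.1)⁻¹
            = (g * a.1 * g⁻¹) * ((g * b.1 * g⁻¹ * b.1⁻¹) * a.1⁻¹) := by group
          _ = (g * a.1 * g⁻¹) * (a.1⁻¹ * (g * b.1 * g⁻¹ * b.1⁻¹)) := by rw [h1]
          _ = _ := by group }
  let D : Subgroup S := φ.range.map A.subtype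
  have hDmem : ∀ x, x ∈ D ↔ ∃ a ∈ A, g * a * g⁻¹ * a⁻¹ = x := by
    intro x
    constructor
    · rintro ⟨_, ⟨a, rfl⟩, rfl⟩
      exact ⟨a.1, a.2, rfl⟩
    · rintro ⟨a, ha, rfl⟩
      exact ⟨_, ⟨⟨a, ha⟩, rfl⟩, rfl⟩
  have hDA : D ≤ A := Subgroup.map_subtype_le _
  have hDn : D.Normal := by
    constructor
    intro x hx u
    obtain ⟨a, ha, rfl⟩ := (hDmem x).mp hx
    obtain ⟨b, hb, i, rfl⟩ := hdec u
    rw [hDmem]
    refine ⟨(b * g ^ i) * a * (b * g ^ i)⁻¹, hAn.conj_mem a ha _, ?_⟩
    -- conjugation by `b * g ^ i`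
    have hcg : Commute g (g ^ i) := (Commute.refl g).zpow_right i
    have h1 : g * ((b * g ^ i) * a * (b * g ^ i)⁻¹) * g⁻¹ * ((b * g ^ i) * a * (b * g ^ i)⁻¹)⁻¹ =
        (g * b * g⁻¹) * (g * (g ^ i * a * (g ^ i)⁻¹) * g⁻¹) * (g * b * g⁻¹)⁻¹ * (b * (g ^ i * a * (g ^ i)⁻¹) * b⁻¹)⁻¹ := by group
    have hai : g ^ i * a * (g ^ i)⁻¹ ∈ A := hAn.conj_mem a ha _
    have hgb : g * b * g⁻¹ ∈ A := hAn.conj_mem b hb g
    have hgai : g * (g ^ i * a * (g ^ i)⁻¹) * g⁻¹ ∈ A := hAn.conj_mem _ hai g
    have h2 : (g * b * g⁻¹) * (g * (g ^ i * a * (g ^ i)⁻¹) * g⁻¹) * (g * b * g⁻¹)⁻¹ = g * (g ^ i * a * (g ^ i)⁻¹) * g⁻¹ := by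
      rw [hAc _ hgb _ hgai]
      group
    have h3 : b * (g ^ i * a * (g ^ i)⁻¹) * b⁻¹ = g ^ i * a * (g ^ i)⁻¹ := by
      rw [hAc _ hb _ hai]
      group
    rw [h1, h2, h3]
    rw [show g * (g ^ i * a * (g ^ i)⁻¹) * g⁻¹ = g ^ i * (g * a * g⁻¹) * (g ^ i)⁻¹ by
      have : g * g ^ i = g ^ i * g := hcg.eq
      calc g * (g ^ i * a * (g ^ i)⁻¹) * g⁻¹ = (g * g ^ i) * a * (g * g ^ i)⁻¹ := by group
        _ = (g ^ i * g) * a * (g ^ i * g)⁻¹ := by rw [this]
        _ = _ := by group]
    have hAfin : (b * g ^ i) * (g * a * g⁻¹ * a⁻¹) * (b * g ^ i)⁻¹ = g ^ i * (g * a * g⁻¹ * a⁻¹) * (g ^ i)⁻¹ := by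
      have hmem : g ^ i * (g * a * g⁻¹ * a⁻¹) * (g ^ i)⁻¹ ∈ A :=
        hAn.conj_mem _ (A.mul_mem (hAn.conj_mem a ha g) (A.inv_mem ha)) _
      calc (b * g ^ i) * (g * a * g⁻¹ * a⁻¹) * (b * g ^ i)⁻¹ = b * (g ^ i * (g * a * g⁻¹ * a⁻¹) * (g ^ i)⁻¹) * b⁻¹ := by group
        _ = _ := by rw [hAc _ hb _ hmem]; group
    rw [hAfin]
    group
  -- the derived subgroup
  have hcomm : commutator S = D := by
    apply le_antisymm
    · apply Subgroup.Normal.quotient_commutative_iff_commutator_le (N := D) |>.mp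
      haveI := hDn
      refine ⟨⟨fun u v => ?_⟩⟩
      obtain ⟨x, rfl⟩ := QuotientGroup.mk_surjective u
      obtain ⟨y, rfl⟩ := QuotientGroup.mk_surjective v
      obtain ⟨a, ha, i, rfl⟩ := hdec x
      obtain ⟨b, hb, j, rfl⟩ := hdec y
      let q : S →* S ⧸ D := QuotientGroup.mk' D
      have hgc : ∀ c ∈ A, Commute (q g) (q c) := by
        intro c hc
        have h1 : q (g * c * g⁻¹ * c⁻¹) = 1 := by
          apply (QuotientGroup.eq_one_iff _).mpr
          exact (hDmem _).mpr ⟨c, hc, rfl⟩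
        rw [map_mul, map_mul, map_mul, map_inv, map_inv] at h1
        have h3 := mul_inv_eq_one.mp h1
        exact mul_inv_eq_iff_eq_mul.mp h3
      have hab : Commute (q a) (q b) := by
        change q a * q b = q b * q a
        rw [← map_mul, ← map_mul, hAc a ha b hb]
      change q (a * g ^ i) * q (b * g ^ j) = q (b * g ^ j) * q (a * g ^ i)
      simp only [map_mul, map_zpow]
      have c1 : Commute (q a) (q g ^ j) := ((hgc a ha).symm).zpow_right j
      have c2 : Commute (q g ^ i) (q b) := (hgc b hb).zpow_left i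
      have c3 : Commute (q g ^ i) (q g ^ j) := (Commute.refl _).zpow_zpow i j
      have c4 : Commute (q a * q g ^ i) (q b * q g ^ j) :=
        Commute.mul_left (Commute.mul_right hab c1) (Commute.mul_right c2 c3)
      exact c4.eq
    · intro x hx
      obtain ⟨a, ha, rfl⟩ := (hDmem x).mp hx
      exact Subgroup.commutator_mem_commutator (Subgroup.mem_top g) (Subgroup.mem_top a)
  -- the kernel
  have hker : ∀ a : ↥A, a ∈ φ.ker ↔ a.1 ∈ Subgroup.center S := by
    intro a
    constructor
    · intro ha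
      have h1 : g * a.1 * g⁻¹ * a.1⁻¹ = 1 := congrArg Subtype.val ha
      have h2 : g * a.1 = a.1 * g := by
        have := mul_inv_eq_one.mp h1
        exact mul_inv_eq_iff_eq_mul.mp this
      refine Subgroup.mem_center_iff.mpr ?_
      intro x
      obtain ⟨b, hb, i, rfl⟩ := hdec x
      have c1 : Commute (g ^ i) a.1 := (show Commute g a.1 from h2).zpow_left i
      calc b * g ^ i * a.1 = b * a.1 * g ^ i := by rw [mul_assoc, c1.eq, mul_assoc]
        _ = a.1 * b * g ^ i := by rw [hAc b hb a.1 a.2]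
        _ = a.1 * (b * g ^ i) := by group
    · intro ha
      apply Subtype.ext
      change g * a.1 * g⁻¹ * a.1⁻¹ = 1
      rw [Subgroup.mem_center_iff.mp ha g]
      group
  have hkercard : Nat.card φ.ker = Nat.card (Subgroup.center S) := by
    have h1 : (φ.ker).map A.subtype = Subgroup.center S := by
      ext x
      constructor
      · rintro ⟨a, ha, rfl⟩
        exact (hker a).mp ha
      · intro hx
        exact ⟨⟨x, hZA hx⟩, (hker _).mpr hx, rfl⟩
    rw [← h1]
    exact (Subgroup.card_map_of_injective A.subtype_injective).symm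
  have hDcard : Nat.card D = Nat.card φ.range := Subgroup.card_map_of_injective A.subtype_injective
  have hAcard : Nat.card A = Nat.card (Subgroup.center S) * Nat.card (commutator S) := by
    rw [hcomm, hDcard, ← hkercard, ← Subgroup.index_ker]
    exact (Subgroup.card_mul_index _).symm
  have hScard : Nat.card S = Nat.card A * p := by
    have := A.card_mul_index
    rw [hAi] at this
    exact this.symm
  have hZpos : 0 < Nat.card (Subgroup.center S) := Nat.card_pos
  have hZidx : (Subgroup.center S).index = p * Nat.card (commutator S) := by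
    have h1 := (Subgroup.center S).card_mul_index
    rw [hScard, hAcard] at h1
    have h2 : Nat.card (Subgroup.center S) * (Subgroup.center S).index = Nat.card (Subgroup.center S) * (p * Nat.card (commutator S)) := by
      rw [h1]; ring
    exact Nat.eq_of_mul_eq_mul_left hZpos h2
  refine ⟨hZidx, ?_⟩
  -- dichotomy
  have hDp : IsPGroup p (commutator S) := hS.to_subgroup _
  obtain ⟨m, hm⟩ := IsPGroup.iff_card.mp hDp
  have hm0 : m ≠ 0 := by
    rintro rfl
    rw [pow_zero] at hm
    apply hnc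
    intro a b
    have hbot : commutator S = ⊥ := Subgroup.eq_bot_of_card_eq _ hm
    have h1 : ⁅a, b⁆ ∈ commutator S := Subgroup.commutator_mem_commutator (Subgroup.mem_top a) (Subgroup.mem_top b)
    rw [hbot] at h1
    have h2 : a * b * a⁻¹ * b⁻¹ = 1 := h1
    have h3 := mul_inv_eq_one.mp h2
    exact mul_inv_eq_iff_eq_mul.mp h3
  by_cases hm1 : m = 1
  · left
    subst hm1
    rw [pow_one] at hm
    have hT : Nat.card (S ⧸ Subgroup.center S) = p ^ 2 := by
      rw [← Subgroup.index_eq_card, hZidx, hm, pow_two]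
    have hcyc : ¬ IsCyclic (S ⧸ Subgroup.center S) := by
      intro hc
      apply hnc
      intro a b
      exact (MonoidHom.isMulCommutative_of_isCyclic_of_ker_le_center (QuotientGroup.mk' (Subgroup.center S)) (by simp)).is_comm.comm a b
    have hTexp : ∀ x : S ⧸ Subgroup.center S, x ^ p = 1 := by
      intro x
      have h1 : orderOf x ∣ p ^ 2 := by
        rw [← hT]
        exact orderOf_dvd_natCard x
      obtain ⟨k, hk, hke⟩ := (Nat.dvd_prime_pow hpp).mp h1
      have hk2 : k ≠ 2 := by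
        rintro rfl
        apply hcyc
        exact isCyclic_of_orderOf_eq_card x (by rw [hke, hT])
      have hk1 : k ≤ 1 := by omega
      apply orderOf_dvd_iff_pow_eq_one.mp
      rw [hke]
      calc p ^ k ∣ p ^ 1 := pow_dvd_pow p hk1
        _ = p := pow_one p
    letI hTc := IsPGroup.commGroupOfCardEqPrimeSq hT
    refine ⟨hm, ⟨⟨⟨fun a b => Subtype.ext (mul_comm a.1 b.1)⟩⟩, fun a _ => hTexp a⟩, hT, ?_⟩
    -- counting
    rw [← card_sub_p hpp hT hTexp]
    exact Nat.card_congr (hbij hpp hcenter hT)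
  · right
    have hm2 : 2 ≤ m := by omega
    refine ⟨?_, ?_⟩
    · rw [hm]
      exact Nat.pow_le_pow_right hpp.pos hm2
    · intro B hB hBi
      by_contra hBA
      have hBc : ∀ a ∈ B, ∀ b ∈ B, a * b = b * a := by
        intro a ha b hb
        exact congrArg Subtype.val (hB.is_comm.comm ⟨a, ha⟩ ⟨b, hb⟩)
      have hBcard : Nat.card B = Nat.card A := by
        have h1 := B.card_mul_index
        rw [hBi, hScard] at h1
        exact Nat.eq_of_mul_eq_mul_right hpp.pos h1
      have hnle : ¬ B ≤ A := by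
        intro h
        exact hBA (Subgroup.eq_of_le_of_card_ge h (le_of_eq hBcard.symm))
      have htop : A ⊔ B = ⊤ := hidxtop A _ hAi le_sup_left (fun h => hnle (le_sup_right.trans h))
      have hinf : A ⊓ B ≤ Subgroup.center S := by
        intro x hx
        refine Subgroup.mem_center_iff.mpr ?_
        intro y
        have hy : y ∈ A ⊔ B := by rw [htop]; trivial
        obtain ⟨a, ha, b, hb, rfl⟩ := Subgroup.mem_sup_of_normal_left.mp hy
        calc a * b * x = a * (b * x) := by group
          _ = a * (x * b) := by rw [hBc b hb x hx.2]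
          _ = (a * x) * b := by group
          _ = (x * a) * b := by rw [hAc a ha x hx.1]
          _ = x * (a * b) := by group
      have hc := Cfsg.Agent.Lib.SchurZ2.card_sup_mul_card_inf A B (by
        rw [Subgroup.normalizer_eq_top_iff.mpr hAn]; exact le_top)
      rw [htop, Subgroup.card_top, hScard, hBcard] at hc
      have hApos : 0 < Nat.card A := Nat.card_pos
      have h1 : p * Nat.card (A ⊓ B : Subgroup S) = Nat.card A := by
        have h2 : Nat.card A * (p * Nat.card (A ⊓ B : Subgroup S)) = Nat.card A * Nat.card A := by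
          rw [← hc]; ring
        exact Nat.eq_of_mul_eq_mul_left hApos h2
      have h2 := Subgroup.card_le_of_le hinf
      rw [hAcard, hm] at h1
      obtain ⟨m', rfl⟩ : ∃ m', m = m' + 2 := ⟨m - 2, by omega⟩
      have h3 : p * Nat.card (A ⊓ B : Subgroup S) = p * (Nat.card (Subgroup.center S) * p ^ (m' + 1)) := by
        rw [h1]; ring
      have h4 := Nat.eq_of_mul_eq_mul_left hpp.pos h3
      have h5 : 1 < p ^ (m' + 1) := Nat.one_lt_pow (by omega) hpp.one_lt
      rw [h4] at h2
      nlinarith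

end Cfsg.Agent.S3807
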