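import Mathlib
import Cfsg.Statements.S3808
import Cfsg.Agent.Lib.H6ExtraIdx
-- import your own Cfsg.Agent.* helpers here

set_option autoImplicit false
open Cfsg

namespace Cfsg.Agent.S3808

/-- Let S be a finite p-group with an extraspecial subgroup Q of index p. Then either Z(S) = Z(Q), or S = Q·Z(S) and Z(S) has order p². -/
theorem result {S : Type*} [Group S] [Finite S] (p : ℕ) [Fact p.Prime] (hS : IsPGroup p S) (Q : Subgroup S) (hQ : Cfsg.IsExtraspecial p ↥Q) (hQi : Q.index = p) :
    Subgroup.center S = (Subgroup.center ↥Q).map Q.subtype ∨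
      (Q ⊔ Subgroup.center S = ⊤ ∧ Nat.card (Subgroup.center S) = p ^ 2) := by
  classical
  have hpp : p.Prime := Fact.out
  obtain ⟨hQn, z, hzo, hzc, hzQ, hZz, hcom, -, -⟩ := Cfsg.Agent.Lib.H6ExtraIdx.basics hS Q hQ hQi
  haveI := hQn
  by_cases hle : Subgroup.center S ≤ Q
  · left
    rw [hZz]
    apply le_antisymm
    · intro x hx
      apply hcom x (hle hx)
      intro y _
      exact (Subgroup.mem_center_iff.mp hx y).symm
    · rw [Subgroup.zpowers_le]
      exact hzc
  · right
    have htop : Q ⊔ Subgroup.center S = ⊤ :=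
      Cfsg.Agent.S0127.top_of_index_prime hpp Q _ hQi le_sup_left (fun h => hle (le_sup_right.trans h))
    refine ⟨htop, ?_⟩
    have hN : Subgroup.center S ≤ Subgroup.normalizer (Q : Set S) := by
      rw [Subgroup.normalizer_eq_top_iff.mpr hQn]
      exact le_top
    have hc := Cfsg.Agent.Lib.SchurZ2.card_sup_mul_card_inf Q (Subgroup.center S) hN
    have hinf : Q ⊓ Subgroup.center S = Subgroup.zpowers z := by
      apply le_antisymm
      · intro x hx
        apply hcom x hx.1
        intro y _
        exact (Subgroup.mem_center_iff.mp hx.2 y).symm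
      · rw [Subgroup.zpowers_le]
        exact ⟨hzQ, hzc⟩
    rw [htop, Subgroup.card_top, hinf, Nat.card_zpowers, hzo] at hc
    have h1 := Q.card_mul_index
    rw [hQi] at h1
    rw [← h1] at hc
    have hQpos : 0 < Nat.card Q := Nat.card_pos
    have h2 : Nat.card Q * (p * p) = Nat.card Q * Nat.card (Subgroup.center S) := by
      rw [← hc]; ring
    rw [pow_two]
    exact (Nat.eq_of_mul_eq_mul_left hQpos h2).symm

end Cfsg.Agent.S3808
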