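import Mathlib
import Cfsg.Statements.S3809
import Cfsg.Agent.Lib.H6ExtraIdx
-- import your own Cfsg.Agent.* helpers here

set_option autoImplicit false
open Cfsg

namespace Cfsg.Agent.S3809
open scoped commutatorElement

/-- Let S be a finite p-group with an extraspecial subgroup of index p. Then S has order p^(2+2n) for some n ≥ 1, derived length at most 3, and exponent dividing p³. -/
theorem result {S : Type*} [Group S] [Finite S] (p : ℕ) [Fact p.Prime] (hS : IsPGroup p S) (Q : Subgroup S) (hQ : Cfsg.IsExtraspecial p ↥Q) (hQi : Q.index = p) :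
    (∃ n : ℕ, 1 ≤ n ∧ Nat.card S = p ^ (2 + 2 * n)) ∧ derivedSeries S 3 = ⊥ ∧ ∀ x : S, x ^ (p ^ 3) = 1 := by
  classical
  have hpp : p.Prime := Fact.out
  obtain ⟨hQn, z, hzo, hzc, hzQ, hZz, hcom, hpow, hcomm⟩ := Cfsg.Agent.Lib.H6ExtraIdx.basics hS Q hQ hQi
  haveI := hQn
  obtain ⟨n, hn1, hn⟩ := Cfsg.Agent.S0095.result hQ
  refine ⟨⟨n, hn1, ?_⟩, ?_, ?_⟩
  · have h1 := Q.card_mul_index
    rw [hQi, hn] at h1
    rw [← h1]
    ring
  · -- the derived series
    have hD1 : derivedSeries S 1 ≤ Q := by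
      rw [derivedSeries_one]
      apply Subgroup.Normal.quotient_commutative_iff_commutator_le.mp
      have hc : Nat.card (S ⧸ Q) = p := by rw [← Subgroup.index_eq_card, hQi]
      haveI : IsCyclic (S ⧸ Q) := isCyclic_of_prime_card hc
      letI := IsCyclic.commGroup (α := S ⧸ Q)
      exact ⟨⟨fun a b => mul_comm a b⟩⟩
    have hD2 : derivedSeries S 2 ≤ Subgroup.zpowers z := by
      have h1 : derivedSeries S 2 = ⁅derivedSeries S 1, derivedSeries S 1⁆ := rfl
      rw [h1]
      refine (Subgroup.commutator_mono hD1 hD1).trans ?_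
      rw [Subgroup.commutator_le]
      intro a ha b hb
      exact hcomm a ha b hb
    have h3 : derivedSeries S 3 = ⁅derivedSeries S 2, derivedSeries S 2⁆ := rfl
    rw [h3, eq_bot_iff]
    refine (Subgroup.commutator_mono hD2 hD2).trans ?_
    rw [Subgroup.commutator_le]
    intro a ha b hb
    obtain ⟨i, rfl⟩ := Subgroup.mem_zpowers_iff.mp ha
    obtain ⟨j, rfl⟩ := Subgroup.mem_zpowers_iff.mp hb
    have : Commute (z ^ i) (z ^ j) := (Commute.refl z).zpow_zpow i j
    rw [commutatorElement_eq_one_iff_commute.mpr this]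
    exact Subgroup.one_mem _
  · intro x
    have h1 : x ^ p ∈ Q := by
      have := Subgroup.pow_index_mem Q x
      rwa [hQi] at this
    have h2 := hpow _ h1
    obtain ⟨i, hi⟩ := Subgroup.mem_zpowers_iff.mp h2
    have h3 : z ^ p = 1 := orderOf_dvd_iff_pow_eq_one.mp (dvd_of_eq hzo)
    have h4 : (z ^ i) ^ p = 1 := by
      rw [← zpow_natCast, zpow_comm, zpow_natCast, h3, one_zpow]
    calc x ^ p ^ 3 = ((x ^ p) ^ p) ^ p := by rw [← pow_mul, ← pow_mul]; ring_nf
      _ = (z ^ i) ^ p := by rw [hi]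
      _ = 1 := h4

end Cfsg.Agent.S3809
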