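import Mathlib
import Cfsg.Statements.S3810
import Cfsg.Agent.Lib.H6ExtraIdx
-- import your own Cfsg.Agent.* helpers here

set_option autoImplicit false
open Cfsg

namespace Cfsg.Agent.S3810

/-- Let S be a finite p-group with an extraspecial subgroup of index p. Then S has an abelian subgroup of index p if and only if S has order p⁴. -/
theorem result {S : Type*} [Group S] [Finite S] (p : ℕ) [Fact p.Prime] (hS : IsPGroup p S) (Q : Subgroup S) (hQ : Cfsg.IsExtraspecial p ↥Q) (hQi : Q.index = p) :
    (∃ A : Subgroup S, IsMulCommutative ↥A ∧ A.index = p) ↔ Nat.card S = p ^ 4 := by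
  classical
  have hpp : p.Prime := Fact.out
  obtain ⟨hQn, z, hzo, hzc, hzQ, hZz, hcom, hpow, hcomm⟩ := Cfsg.Agent.Lib.H6ExtraIdx.basics hS Q hQ hQi
  haveI := hQn
  obtain ⟨n, hn1, hn⟩ := Cfsg.Agent.S0095.result hQ
  have hScard : Nat.card S = Nat.card Q * p := by
    have h1 := Q.card_mul_index
    rw [hQi] at h1
    exact h1.symm
  constructor
  · rintro ⟨A, hAc, hAi⟩
    have hAcard : Nat.card A = Nat.card Q := by
      have h1 := A.card_mul_index
      rw [hAi, hScard] at h1
      exact Nat.eq_of_mul_eq_mul_right hpp.pos h1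
    have hAcomm : ∀ a ∈ A, ∀ b ∈ A, a * b = b * a := by
      intro a ha b hb
      exact congrArg Subtype.val (hAc.is_comm.comm ⟨a, ha⟩ ⟨b, hb⟩)
    have hQna : ¬ ∀ a ∈ Q, ∀ b ∈ Q, a * b = b * a := by
      intro h
      have h1 : Q ≤ Subgroup.zpowers z := fun x hx => hcom x hx (h x hx)
      have h2 := Subgroup.card_le_of_le h1
      rw [Nat.card_zpowers, hzo, hn] at h2
      have h3 : p ^ (2 * n + 1) ≤ p ^ 1 := by rwa [pow_one]
      have := (Nat.pow_le_pow_iff_right hpp.one_lt).mp h3
      omega
    have hAQ : ¬ A ≤ Q := by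
      intro h
      have : A = Q := Subgroup.eq_of_le_of_card_ge h (le_of_eq hAcard.symm)
      subst this
      exact hQna hAcomm
    have htop : A ⊔ Q = ⊤ :=
      Cfsg.Agent.S0127.top_of_index_prime hpp Q _ hQi le_sup_right (fun h => hAQ (le_sup_left.trans h))
    haveI hAn : A.Normal := by
      obtain ⟨m, hm⟩ := IsPGroup.iff_card.mp hS
      have hm0 : m ≠ 0 := by
        rintro rfl
        rw [pow_zero] at hm
        have h1 : A.index ∣ Nat.card S := Subgroup.index_dvd_card A
        rw [hm, hAi] at h1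
        exact hpp.one_lt.ne' (Nat.dvd_one.mp h1)
      have hmf : (Nat.card S).minFac = p := by rw [hm]; exact hpp.pow_minFac hm0
      exact Subgroup.normal_of_index_eq_minFac_card (by rw [hAi, hmf])
    have hN : Q ≤ Subgroup.normalizer (A : Set S) := by
      rw [Subgroup.normalizer_eq_top_iff.mpr hAn]
      exact le_top
    let B : Subgroup S := A ⊓ Q
    have hc := Cfsg.Agent.Lib.SchurZ2.card_sup_mul_card_inf A Q hN
    rw [htop, Subgroup.card_top, hScard, hAcard] at hc
    have hQpos : 0 < Nat.card Q := Nat.card_pos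
    have hB : Nat.card Q = p * Nat.card B := by
      have h2 : Nat.card Q * (p * Nat.card B) = Nat.card Q * Nat.card Q := by
        rw [← hc]
        change _ = Nat.card Q * p * Nat.card B
        ring
      exact (Nat.eq_of_mul_eq_mul_left hQpos h2).symm
    have hBcard : Nat.card B = p ^ (2 * n) := by
      rw [hn, pow_succ, mul_comm] at hB
      exact (Nat.eq_of_mul_eq_mul_left hpp.pos hB).symm
    -- an element of `Q` outside `B`
    have hex : ∃ x ∈ Q, x ∉ B := by
      by_contra hno
      push_neg at hno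
      have h1 : Q ≤ B := hno
      have h2 := Subgroup.card_le_of_le h1
      rw [hB] at h2
      have := Nat.card_pos (α := B)
      have h3 := hpp.two_le
      nlinarith
    obtain ⟨x, hxQ, hxB⟩ := hex
    have hBQ : B ≤ Q := inf_le_right
    have hcomZ : ∀ c ∈ Subgroup.zpowers z, ∀ g : S, c * g = g * c := by
      intro c hc g
      obtain ⟨i, rfl⟩ := Subgroup.mem_zpowers_iff.mp hc
      have : Commute g z := Subgroup.mem_center_iff.mp hzc g
      exact (this.zpow_right i).symm.eq
    -- the commutator map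
    let φ : ↥B →* ↥(Subgroup.zpowers z) :=
      { toFun := fun b => ⟨x * b.1 * x⁻¹ * b.1⁻¹, hcomm x hxQ b.1 (hBQ b.2)⟩
        map_one' := by
          apply Subtype.ext
          simp
        map_mul' := fun a b => by
          apply Subtype.ext
          change x * (a.1 * b.1) * x⁻¹ * (a.1 * b.1)⁻¹ = (x * a.1 * x⁻¹ * a.1⁻¹) * (x * b.1 * x⁻¹ * b.1⁻¹)
          have h1 := hcomZ _ (hcomm x hxQ b.1 (hBQ b.2)) a.1⁻¹
          calc x * (a.1 * b.1) * x⁻¹ * (a.1 * b.1)⁻¹
              = (x * a.1 * x⁻¹) * ((x * b.1 * x⁻¹ * b.1⁻¹) * a.1⁻¹) := by group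
            _ = (x * a.1 * x⁻¹) * (a.1⁻¹ * (x * b.1 * x⁻¹ * b.1⁻¹)) := by rw [h1]
            _ = _ := by group }
    have hker : (φ.ker).map B.subtype ≤ Subgroup.zpowers z := by
      rintro _ ⟨b, hb, rfl⟩
      have hb1 : x * b.1 * x⁻¹ * b.1⁻¹ = 1 := congrArg Subtype.val hb
      have hbx : x * b.1 = b.1 * x := by
        have := mul_inv_eq_one.mp hb1
        exact mul_inv_eq_iff_eq_mul.mp this
      apply hcom b.1 (hBQ b.2)
      -- `b` is central in `Q`
      let T : Subgroup S := Q ⊓ Subgroup.centralizer ({b.1} : Set S)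
      have hTmem : ∀ y, y ∈ T ↔ y ∈ Q ∧ y * b.1 = b.1 * y := by
        intro y
        constructor
        · intro hy
          exact ⟨hy.1, (Subgroup.mem_centralizer_iff.mp hy.2 b.1 rfl).symm⟩
        · intro hy
          refine ⟨hy.1, Subgroup.mem_centralizer_iff.mpr ?_⟩
          intro w hw
          have hw' : w = b.1 := hw
          rw [hw']
          exact hy.2.symm
      have hBT : B ≤ T := by
        intro y hy
        exact (hTmem y).mpr ⟨hBQ hy, hAcomm y hy.1 b.1 b.2.1⟩
      have hxT : x ∈ T := (hTmem x).mpr ⟨hxQ, hbx⟩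
      have hTQ : T = Q := by
        apply Subgroup.eq_of_le_of_card_ge inf_le_left
        have h1 : Nat.card B ∣ Nat.card T := Subgroup.card_dvd_of_le hBT
        have h2 : Nat.card T ∣ Nat.card Q := Subgroup.card_dvd_of_le inf_le_left
        obtain ⟨c, hc'⟩ := h1
        obtain ⟨e, he⟩ := h2
        rw [hB, hc'] at he
        have hBpos : 0 < Nat.card B := Nat.card_pos
        have h3 : p = c * e := by
          have : Nat.card B * p = Nat.card B * (c * e) := by
            rw [mul_comm (Nat.card B) p, he]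
            ring
          exact Nat.eq_of_mul_eq_mul_left hBpos this
        rcases (Nat.dvd_prime hpp).mp (Dvd.intro e h3.symm) with hc1 | hc1
        · exfalso
          rw [hc1, mul_one] at hc'
          have : T = B := (Subgroup.eq_of_le_of_card_ge hBT (le_of_eq hc')).symm
          rw [this] at hxT
          exact hxB hxT
        · rw [hB, hc', hc1, mul_comm]
      intro y hy
      have : y ∈ T := by rw [hTQ]; exact hy
      exact ((hTmem y).mp this).2.symm ▸ rfl
    have hkercard : Nat.card φ.ker ≤ p := by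
      have h1 : Nat.card ((φ.ker).map B.subtype) = Nat.card φ.ker := Subgroup.card_map_of_injective B.subtype_injective
      have h2 := Subgroup.card_le_of_le hker
      rw [h1, Nat.card_zpowers, hzo] at h2
      exact h2
    have hrange : Nat.card φ.range ≤ p := by
      have h1 := Subgroup.card_le_card_group φ.range
      rw [Nat.card_zpowers, hzo] at h1
      exact h1
    have hBle : Nat.card B ≤ p * p := by
      have h1 := Subgroup.card_mul_index φ.ker
      rw [Subgroup.index_ker] at h1
      rw [← h1]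
      exact Nat.mul_le_mul hkercard hrange
    rw [hBcard, ← pow_two] at hBle
    have hn2 : 2 * n ≤ 2 := (Nat.pow_le_pow_iff_right hpp.one_lt).mp hBle
    have hn' : n = 1 := by omega
    subst hn'
    rw [hScard, hn]
    ring
  · intro h4
    obtain ⟨A, hAc, hAcard⟩ := Cfsg.Agent.Lib.H6ExtraIdx.exists_abelian_cube hS 4 h4 le_rfl
    refine ⟨A, ⟨⟨fun a b => Subtype.ext (hAc a.1 a.2 b.1 b.2)⟩⟩, ?_⟩
    have h1 := A.card_mul_index
    rw [hAcard, h4] at h1
    have h2 : p ^ 3 * A.index = p ^ 3 * p := by rw [h1]; ring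
    exact Nat.eq_of_mul_eq_mul_left (pow_pos hpp.pos 3) h2

end Cfsg.Agent.S3810
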