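import Mathlib
import Cfsg.Statements.S3824
import Cfsg.Agent.Lib.CharBurnside
-- import your own Cfsg.Agent.* helpers here

set_option autoImplicit false
open Cfsg

namespace Cfsg.Agent.S3824

universe u

private lemma relIndex_normal_dvd {G : Type*} [Group G] [Finite G] (A N : Subgroup G) [hN : N.Normal] :
    A.relIndex N ∣ A.index := by
  have h1 : A.relIndex (A ⊔ N) ∣ A.index := Subgroup.relIndex_dvd_index_of_le le_sup_left
  have h2 : N.relIndex (A ⊔ N) = N.relIndex A := Subgroup.relIndex_sup_right A N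
  -- cardinalities
  have hc1 : Nat.card (A.subgroupOf (A ⊔ N)) * A.relIndex (A ⊔ N) = Nat.card ↥(A ⊔ N) := Subgroup.card_mul_index _
  have hc1' : Nat.card (A.subgroupOf (A ⊔ N)) = Nat.card A := Nat.card_congr (Subgroup.subgroupOfEquivOfLe le_sup_left).toEquiv
  have hc2 : Nat.card (N.subgroupOf (A ⊔ N)) * N.relIndex (A ⊔ N) = Nat.card ↥(A ⊔ N) := Subgroup.card_mul_index _
  have hc2' : Nat.card (N.subgroupOf (A ⊔ N)) = Nat.card N := Nat.card_congr (Subgroup.subgroupOfEquivOfLe le_sup_right).toEquiv
  have hc3 : Nat.card (N.subgroupOf A) * N.relIndex A = Nat.card A := Subgroup.card_mul_index _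
  have hc4 : Nat.card (A.subgroupOf N) * A.relIndex N = Nat.card N := Subgroup.card_mul_index _
  have hc5 : Nat.card (N.subgroupOf A) = Nat.card (A.subgroupOf N) := by
    rw [← Subgroup.inf_subgroupOf_right N A, ← Subgroup.inf_subgroupOf_right A N]
    rw [Nat.card_congr (Subgroup.subgroupOfEquivOfLe (inf_le_right : N ⊓ A ≤ A)).toEquiv,
      Nat.card_congr (Subgroup.subgroupOfEquivOfLe (inf_le_right : A ⊓ N ≤ N)).toEquiv, inf_comm]
  rw [hc1'] at hc1
  rw [hc2', h2] at hc2
  have h3 : A.relIndex (A ⊔ N) = A.relIndex N := by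
    have hpos : 0 < Nat.card (A.subgroupOf N) * N.relIndex A := by
      apply Nat.mul_pos Nat.card_pos
      exact Nat.pos_of_ne_zero (by
        intro h0
        rw [h0, mul_zero] at hc3
        exact Nat.card_pos.ne' hc3.symm)
    have e1 : (Nat.card (A.subgroupOf N) * N.relIndex A) * A.relIndex (A ⊔ N) = (Nat.card (A.subgroupOf N) * N.relIndex A) * A.relIndex N := by
      calc _ = (Nat.card (N.subgroupOf A) * N.relIndex A) * A.relIndex (A ⊔ N) := by rw [hc5]
        _ = Nat.card A * A.relIndex (A ⊔ N) := by rw [hc3]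
        _ = Nat.card N * N.relIndex A := by rw [hc1, hc2]
        _ = (Nat.card (A.subgroupOf N) * A.relIndex N) * N.relIndex A := by rw [hc4]
        _ = _ := by ring
    exact Nat.eq_of_mul_eq_mul_left hpos e1
  rw [← h3]
  exact h1

private theorem aux : ∀ (n : ℕ) (G : Type u) [Group G] [Finite G] (A : Subgroup G), Nat.card G = n →
    (∀ a ∈ A, ∀ b ∈ A, a * b = b * a) → (∃ k : ℕ, A.index = 2 ^ k) → Group.IsSolvable G := by
  intro n
  induction n using Nat.strong_induction_on with
  | _ n ih =>
  intro G _ _ A hn hA hidx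
  classical
  by_cases hnt : Nontrivial G
  swap
  · haveI : Subsingleton G := not_nontrivial_iff_subsingleton.mp hnt
    exact Group.isSolvable_of_comm (fun a b => Subsingleton.elim _ _)
  obtain ⟨k, hk⟩ := hidx
  by_cases hs : IsSimpleGroup G
  · cases nonempty_fintype G
    by_cases hA0 : A = ⊥
    · rw [hA0, Subgroup.index_bot] at hk
      exact Cfsg.Agent.Lib.CharBurnside.solvable_of_pPow 2 k Nat.prime_two hk
    obtain ⟨z, hz⟩ := Subgroup.ne_bot_iff_exists_ne_one.mp hA0
    have hz3 : (z : G) ≠ 1 := fun h => hz (Subtype.ext h)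
    have hle : A ≤ Subgroup.centralizer ({(z : G)} : Set G) := by
      intro x hx
      rw [Subgroup.mem_centralizer_iff]
      intro y hy
      rw [Set.mem_singleton_iff.mp hy]
      exact hA _ z.2 _ hx
    have hdvd : (Subgroup.centralizer ({(z : G)} : Set G)).index ∣ 2 ^ k := by
      rw [← hk]
      exact Subgroup.index_dvd_of_le hle
    obtain ⟨j, _, hj⟩ := (Nat.dvd_prime_pow Nat.prime_two).mp hdvd
    have hprime := Cfsg.Agent.Lib.CharBurnside.prime_card_of_class_prime_power 2 j Nat.prime_two (z : G) hz3 hj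
    haveI : Fact (Nat.card G).Prime := ⟨hprime⟩
    have : IsCyclic G := isCyclic_of_prime_card rfl
    exact Group.isSolvable_of_comm (fun a b =>
      (IsCyclic.isMulCommutative (α := G)).is_comm.comm a b)
  · have hN : ∃ N : Subgroup G, N.Normal ∧ N ≠ ⊥ ∧ N ≠ ⊤ := by
      by_contra hcon
      push Not at hcon
      apply hs
      refine ⟨fun N hN => ?_⟩
      by_cases hb : N = ⊥
      · exact Or.inl hb
      · exact Or.inr (hcon N hN hb)
    obtain ⟨N, hNn, hNb, hNt⟩ := hN
    haveI := hNn
    have hc1 : Nat.card N < n := by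
      rw [← hn]
      exact lt_of_le_of_ne (Subgroup.card_le_card_group N) (fun h => hNt (Subgroup.eq_top_of_card_eq N h))
    have hc2 : Nat.card (G ⧸ N) < n := by
      rw [← hn]
      have h1 := Subgroup.card_mul_index N
      have h2 : 1 < Nat.card N := by
        haveI : Nontrivial N := (Subgroup.nontrivial_iff_ne_bot N).mpr hNb
        exact Finite.one_lt_card
      have h3 : 0 < N.index := Nat.pos_of_ne_zero Subgroup.index_ne_zero_of_finite
      rw [← h1]
      change N.index < _
      nlinarith
    have hsN : Group.IsSolvable N := by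
      refine ih _ hc1 N (A.subgroupOf N) rfl ?_ ?_
      · intro a ha b hb
        exact Subtype.ext (hA _ ha _ hb)
      · have hd : (A.subgroupOf N).index ∣ A.index := relIndex_normal_dvd A N
        rw [hk] at hd
        obtain ⟨j, _, hj⟩ := (Nat.dvd_prime_pow Nat.prime_two).mp hd
        exact ⟨j, hj⟩
    have hsQ : Group.IsSolvable (G ⧸ N) := by
      refine ih _ hc2 (G ⧸ N) (A.map (QuotientGroup.mk' N)) rfl ?_ ?_
      · rintro _ ⟨a, ha, rfl⟩ _ ⟨b, hb, rfl⟩
        rw [← map_mul, ← map_mul, hA a ha b hb]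
      · have hd : (A.map (QuotientGroup.mk' N)).index ∣ A.index :=
          Subgroup.index_map_dvd A (QuotientGroup.mk'_surjective N)
        rw [hk] at hd
        obtain ⟨j, _, hj⟩ := (Nat.dvd_prime_pow Nat.prime_two).mp hd
        exact ⟨j, hj⟩
    exact Group.isSolvable_of_ker_le_range N.subtype (QuotientGroup.mk' N) (by
      rw [QuotientGroup.ker_mk', Subgroup.range_subtype])

/-- Every finite group having an abelian subgroup whose index is a power of 2 is solvable. -/
theorem result {G : Type*} [Group G] [Finite G]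
    (A : Subgroup G) (hA : IsMulCommutative A) (hidx : ∃ k : ℕ, A.index = 2 ^ k) : Group.IsSolvable G := by
  refine aux _ G A rfl ?_ hidx
  intro a ha b hb
  have := hA.is_comm.comm ⟨a, ha⟩ ⟨b, hb⟩
  exact congrArg Subtype.val this

end Cfsg.Agent.S3824
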