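import Cfsg.Statements.S3868
import Cfsg.Agent.Lib.MinPClosed
-- import your own Cfsg.Agent.* helpers here

set_option autoImplicit false
set_option linter.all false
open Cfsg

namespace Cfsg.Agent.S3868

/-- Structure of the non-simple minimal non-p-closed groups. Call a finite group p-closed when its Sylow p-subgroups are normal, and minimal non-p-closed when it is not p-closed but every proper subgroup and every proper quotient is. If such a group G is not simple, then there is a prime q ≠ p such that G has order p · q^e, where e is the multiplicative order of q modulo p, and G has a normal subgroup A of order q^e that is elementary abelian and is a minimal normal subgroup of G (so G is the semidirect product of A by a group of order p acting irreducibly). -/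
theorem result {G : Type*} [Group G] [Finite G] {p : ℕ} [Fact p.Prime]
    (hnc : ¬ Cfsg.IsPClosed p G) (hsub : ∀ H : Subgroup G, H ≠ ⊤ → Cfsg.IsPClosed p ↥H)
    (hquo : ∀ (N : Subgroup G) [N.Normal], N ≠ ⊥ → Cfsg.IsPClosed p (G ⧸ N)) (hns : ¬ IsSimpleGroup G) :
    ∃ q : ℕ, q.Prime ∧ q ≠ p ∧ Nat.card G = p * q ^ orderOf (q : ZMod p) ∧
      ∃ A : Subgroup G, A.Normal ∧ Nat.card ↥A = q ^ orderOf (q : ZMod p) ∧ Cfsg.IsElementaryAbelian q A ∧
        ∀ B : Subgroup G, B.Normal → B ≤ A → B = ⊥ ∨ B = A := by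
  classical
  open Cfsg.Agent.Lib.MinPClosed in
  (
  have hp : p.Prime := Fact.out
  obtain ⟨P, hP⟩ : ∃ P : Sylow p G, ¬ (P : Subgroup G).Normal := by
    by_contra h
    push Not at h
    exact hnc h
  have hkey : ∀ N : Subgroup G, N.Normal → N ≠ ⊥ → (P : Subgroup G) ⊔ N = ⊤ := by
    intro N hN hne
    by_contra hT
    let f := QuotientGroup.mk' N
    have hsurj : Function.Surjective f := QuotientGroup.mk'_surjective N
    let Pb : Sylow p (G ⧸ N) := P.mapSurjective hsurj
    have hPb : (Pb : Subgroup (G ⧸ N)).Normal := hquo N hne Pb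
    have hcoe : (Pb : Subgroup (G ⧸ N)) = (P : Subgroup G).map f := rfl
    haveI hTn : ((P : Subgroup G) ⊔ N).Normal := by
      have h1 : ((P : Subgroup G).map f).comap f = (P : Subgroup G) ⊔ N := by
        rw [Subgroup.comap_map_eq, QuotientGroup.ker_mk']
      rw [← h1, ← hcoe]
      exact Subgroup.Normal.comap hPb f
    exact hP (normal_of_closed _ P le_sup_left (hsub _ hT))
  have hOp : ∀ S : Subgroup G, S.Normal → IsPGroup p S → S = ⊥ := by
    intro S hS hSp
    by_contra hne
    have h1 := hkey S hS hne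
    have h2 : IsPGroup p ((P : Subgroup G) ⊔ S : Subgroup G) := P.2.to_sup_of_normal_right hSp
    have h3 : (P : Subgroup G) ⊔ S = P := P.3 h2 le_sup_left
    apply hP
    rw [← h3, h1]
    infer_instance
  obtain ⟨M, hMn, hMb, hMt⟩ : ∃ M : Subgroup G, M.Normal ∧ M ≠ ⊥ ∧ M ≠ ⊤ := by
    by_contra hno
    push Not at hno
    apply hns
    haveI : Nontrivial G := by
      by_contra hsub'
      rw [not_nontrivial_iff_subsingleton] at hsub'
      apply hP
      have h1 : (P : Subgroup G) = ⊤ := Subsingleton.elim _ _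
      rw [h1]
      infer_instance
    have hdic : ∀ H : Subgroup G, H.Normal → H = ⊥ ∨ H = ⊤ := by
      intro H hH
      by_cases h : H = ⊥
      · exact Or.inl h
      · exact Or.inr (hno H hH h)
    exact { eq_bot_or_eq_top_of_normal := hdic }
  obtain ⟨N, hN⟩ := Set.Finite.exists_minimal (Set.toFinite {N : Subgroup G | N.Normal ∧ N ≠ ⊥ ∧ N ≤ M})
    ⟨M, hMn, hMb, le_rfl⟩
  obtain ⟨hNn, hNb, hNM⟩ := hN.1
  haveI := hNn
  have hmin : ∀ B : Subgroup G, B.Normal → B ≤ N → B = ⊥ ∨ B = N := by
    intro B hB hBN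
    by_cases b : B = ⊥
    · exact Or.inl b
    · exact Or.inr (le_antisymm hBN (hN.2 ⟨hB, b, hBN.trans hNM⟩ hBN))
  have hNt : N ≠ ⊤ := fun h => hMt (top_le_iff.mp (h ▸ hNM))
  have hpN : ¬ p ∣ Nat.card N := by
    intro hd
    have hcl := hsub N hNt
    obtain ⟨S⟩ := (inferInstance : Nonempty (Sylow p N))
    haveI hSn := hcl S
    have h1 := Sylow.normalizer_sup_eq_top S
    have h2 : N ≤ Subgroup.normalizer (((S : Subgroup N).map N.subtype : Subgroup G) : Set G) := by
      intro n hn
      apply mem_normalizer_of_conj_le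
      rintro _ ⟨s, hs, rfl⟩
      exact ⟨⟨n, hn⟩ * s * (⟨n, hn⟩ : N)⁻¹, hSn.conj_mem s hs ⟨n, hn⟩, rfl⟩
    have h3 : Subgroup.normalizer (((S : Subgroup N).map N.subtype : Subgroup G) : Set G) = ⊤ := by
      rw [eq_top_iff, ← h1]
      exact sup_le le_rfl h2
    have h4 : ((S : Subgroup N).map N.subtype).Normal := Subgroup.normalizer_eq_top_iff.mp h3
    have h5 := hOp _ h4 (S.2.map _)
    apply S.ne_bot_of_dvd_card hd
    exact (Subgroup.map_eq_bot_iff_of_injective _ N.subtype_injective).mp h5
  have hPN : (P : Subgroup G) ⊔ N = ⊤ := hkey N hNn hNb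
  have hstep : ∀ (r : ℕ) [Fact r.Prime] (R : Subgroup G) (P₁ : Sylow p G), r ≠ p → IsPGroup r R → R ≤ N →
      (P₁ : Subgroup G) ≤ Subgroup.normalizer (R : Set G) → (P₁ : Subgroup G) ⊔ R ≠ ⊤ →
      (P₁ : Subgroup G) ≤ Subgroup.centralizer (R : Set G) := by
    intro r _ R P₁ hrp hRp hRN hP₁ hT
    have hcl := hsub _ hT
    have hle : (P₁ : Subgroup G) ≤ (P₁ : Subgroup G) ⊔ R := le_sup_left
    haveI hsn := hcl (P₁.subtype hle)
    intro a ha
    refine Subgroup.mem_centralizer_iff.mpr ?_
    intro b hb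
    have hcR : a * b * a⁻¹ * b⁻¹ ∈ R :=
      R.mul_mem ((Subgroup.mem_normalizer_iff.mp (hP₁ ha) b).mp hb) (R.inv_mem hb)
    have hcP : a * b * a⁻¹ * b⁻¹ ∈ (P₁ : Subgroup G) := by
      have h1 := hsn.conj_mem ⟨a⁻¹, hle (Subgroup.inv_mem _ ha)⟩ (by
        show a⁻¹ ∈ (P₁ : Subgroup G)
        exact Subgroup.inv_mem _ ha) ⟨b, Subgroup.mem_sup_right hb⟩
      have h2 : b * a⁻¹ * b⁻¹ ∈ (P₁ : Subgroup G) := h1
      have h3 := Subgroup.mul_mem _ ha h2
      simpa [mul_assoc] using h3
    have hdis : Disjoint (P₁ : Subgroup G) R := IsPGroup.disjoint_of_ne p r hrp.symm _ _ P₁.2 hRp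
    have hc1 := Subgroup.disjoint_def.mp hdis hcP hcR
    have h5 : a * b * a⁻¹ = b := mul_inv_eq_one.mp hc1
    calc b * a = a * b * a⁻¹ * a := by rw [h5]
      _ = a * b := by group
  rcases frattini_alt N hpN P hPN hstep with hc | ⟨q, hq, hNq⟩
  · exfalso
    apply hP
    have h3 : Subgroup.normalizer ((P : Subgroup G) : Set G) = ⊤ := by
      rw [eq_top_iff, ← hPN]
      refine sup_le Subgroup.le_normalizer ?_
      intro n hn
      apply mem_normalizer_of_conj_le
      intro s hs
      have h4 : n * s * n⁻¹ = s := by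
        have h5 := Subgroup.mem_centralizer_iff.mp (hc hs) n hn
        rw [h5]; group
      rw [h4]; exact hs
    exact Subgroup.normalizer_eq_top_iff.mp h3
  · haveI hqf : Fact q.Prime := ⟨hq⟩
    have hqp : q ≠ p := by
      rintro rfl
      exact hNb (hOp N hNn hNq)
    have hE : IsElementaryAbelian q N := min_normal_elem N hNb hNq hmin
    -- the centralizer of N in P is trivial
    let Cc : Subgroup G := (P : Subgroup G) ⊓ Subgroup.centralizer (N : Set G)
    have hCcn : Cc.Normal := by
      have h3 : Subgroup.normalizer (Cc : Set G) = ⊤ := by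
        rw [eq_top_iff, ← hPN]
        refine sup_le ?_ ?_
        · intro x hx
          apply mem_normalizer_of_conj_le
          rintro s ⟨hs1, hs2⟩
          refine ⟨Subgroup.mul_mem _ (Subgroup.mul_mem _ hx hs1) (Subgroup.inv_mem _ hx), ?_⟩
          refine Subgroup.mem_centralizer_iff.mpr ?_
          intro n hn
          have h5 := Subgroup.mem_centralizer_iff.mp hs2 (x⁻¹ * n * x) (by
            have := hNn.conj_mem n hn x⁻¹
            simpa using this)
          calc n * (x * s * x⁻¹) = x * ((x⁻¹ * n * x) * s) * x⁻¹ := by group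
            _ = x * (s * (x⁻¹ * n * x)) * x⁻¹ := by rw [h5]
            _ = x * s * x⁻¹ * n := by group
        · intro n hn
          apply mem_normalizer_of_conj_le
          rintro s hs
          have h4 : n * s * n⁻¹ = s := by
            have h5 := Subgroup.mem_centralizer_iff.mp hs.2 n hn
            rw [h5]; group
          rw [h4]; exact hs
      exact Subgroup.normalizer_eq_top_iff.mp h3
    have hCcb : Cc = ⊥ := hOp Cc hCcn (P.2.to_le inf_le_left)
    have hQ : ∀ Q : Subgroup G, Q ≤ P → Q ≠ P → Q ≤ Cc := by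
      intro Q hQP hne
      have hT : Q ⊔ N ≠ ⊤ := by
        intro htop
        apply hne
        refine le_antisymm hQP ?_
        intro x hx
        have hx' : x ∈ Q ⊔ N := by rw [htop]; trivial
        obtain ⟨a, ha, b, hb, rfl⟩ := Subgroup.mem_sup_of_normal_right.mp hx'
        have hbP : b ∈ (P : Subgroup G) := by
          have h1 := Subgroup.mul_mem _ (Subgroup.inv_mem _ (hQP ha)) hx
          simpa using h1
        obtain ⟨k, hk⟩ := P.2 ⟨b, hbP⟩
        have hb1 : b = 1 := eq_one_of_mem_of_not_dvd N hpN hb (congrArg Subtype.val hk)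
        rw [hb1, mul_one]
        exact ha
      have hcl := hsub _ hT
      have hQp : IsPGroup p (Q.subgroupOf (Q ⊔ N)) :=
        (P.2.to_le hQP).comap_of_injective (Q ⊔ N).subtype (Q ⊔ N).subtype_injective |> fun h => h
      obtain ⟨S, hS⟩ := hQp.exists_le_sylow
      haveI hSn := hcl S
      intro a ha
      refine ⟨hQP ha, Subgroup.mem_centralizer_iff.mpr ?_⟩
      intro n hn
      have ha' : a ∈ Q ⊔ N := Subgroup.mem_sup_left ha
      have hn' : n ∈ Q ⊔ N := Subgroup.mem_sup_right hn
      have haS : (⟨a, ha'⟩ : ↥(Q ⊔ N)) ∈ S := hS ha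
      have h1 := hSn.conj_mem _ (Subgroup.inv_mem _ haS) ⟨n, hn'⟩
      have h2 := Subgroup.mul_mem _ haS h1
      set c : G := a * (n * a⁻¹ * n⁻¹) with hcdef
      have hcN : c ∈ N := by
        have h3 : c = (a * n * a⁻¹) * n⁻¹ := by simp [hcdef, mul_assoc]
        rw [h3]
        exact N.mul_mem (hNn.conj_mem n hn a) (N.inv_mem hn)
      obtain ⟨k, hk⟩ := S.2 ⟨_, h2⟩
      have hc1 : c = 1 := by
        have h4 := congrArg (fun z : ↥(Q ⊔ N) => (z : G)) (congrArg Subtype.val hk)
        exact eq_one_of_mem_of_not_dvd N hpN hcN h4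
      have h5 : a * n * a⁻¹ * n⁻¹ = 1 := by
        rw [← hc1, hcdef]; simp [mul_assoc]
      have h6 : a * n * a⁻¹ = n := mul_inv_eq_one.mp h5
      calc n * a = a * n * a⁻¹ * a := by rw [h6]
        _ = a * n := by group
    -- P has order p
    have hPb : (P : Subgroup G) ≠ ⊥ := by
      intro h
      apply hP
      rw [h]
      infer_instance
    have hPcard : Nat.card (P : Subgroup G) = p := by
      obtain ⟨k, hk⟩ := IsPGroup.iff_card.mp P.2
      have hk0 : k ≠ 0 := by
        rintro rfl
        rw [pow_zero] at hk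
        exact hPb (Subgroup.eq_bot_of_card_eq _ hk)
      have hd : p ∣ Nat.card (P : Subgroup G) := by
        rw [hk]
        exact dvd_pow_self p hk0
      obtain ⟨y, hy⟩ := exists_prime_orderOf_dvd_card' (G := (P : Subgroup G)) p hd
      have hyG : orderOf (y : G) = p := (Subgroup.orderOf_coe y).trans hy
      have hy1 : (y : G) ≠ 1 := by
        intro h
        rw [h, orderOf_one] at hyG
        exact hp.one_lt.ne hyG
      have hzP : Subgroup.zpowers (y : G) ≤ P := by
        rw [Subgroup.zpowers_le]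
        exact y.2
      have hze : Subgroup.zpowers (y : G) = P := by
        by_contra hne
        have h1 := hQ _ hzP hne (Subgroup.mem_zpowers (y : G))
        rw [hCcb, Subgroup.mem_bot] at h1
        exact hy1 h1
      rw [← hze, Nat.card_zpowers, hyG]
    have hinf : (P : Subgroup G) ⊓ N = ⊥ := by
      rw [eq_bot_iff]
      rintro a ⟨ha1, ha2⟩
      obtain ⟨k, hk⟩ := P.2 ⟨a, ha1⟩
      exact eq_one_of_mem_of_not_dvd N hpN ha2 (congrArg Subtype.val hk)
    have hidx : N.index = p := by
      rw [index_eq_card_of_compl N P hinf hPN, hPcard]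
    have hna : ¬ IsMulCommutative G := by
      intro hcm
      apply hP
      refine ⟨fun a ha g => ?_⟩
      have h1 : g * a * g⁻¹ = a := by
        rw [hcm.is_comm.comm g a]; group
      rw [h1]; exact ha
    have hcN := card_eq_of_min hq hqp hna N hE hidx hmin
    refine ⟨q, hq, hqp, ?_, N, hNn, hcN, hE, hmin⟩
    rw [← N.card_mul_index, hcN, hidx, mul_comm]
  )

end Cfsg.Agent.S3868
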