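import Cfsg.Statements.S3869
import Cfsg.Agent.Lib.MinPClosed
-- import your own Cfsg.Agent.* helpers here

set_option autoImplicit false
set_option linter.all false
open Cfsg

namespace Cfsg.Agent.S3869

/-- Let p and q be distinct primes and G a finite non-abelian group with a normal elementary abelian q-subgroup A that is a minimal normal subgroup of G and has index p. Then A has order q^e with e the multiplicative order of q modulo p, and G is minimal non-p-closed: its Sylow p-subgroups are not normal, while in every proper subgroup and in every proper quotient of G the Sylow p-subgroups are normal. -/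
theorem result {G : Type*} [Group G] [Finite G] {p q : ℕ} [Fact p.Prime] (hq : q.Prime) (hpq : q ≠ p)
    (hna : ¬ IsMulCommutative G) (A : Subgroup G) [A.Normal] (hA : Cfsg.IsElementaryAbelian q A) (hidx : A.index = p)
    (hmin : ∀ B : Subgroup G, B.Normal → B ≤ A → B = ⊥ ∨ B = A) :
    Nat.card ↥A = q ^ orderOf (q : ZMod p) ∧ ¬ Cfsg.IsPClosed p G ∧ (∀ H : Subgroup G, H ≠ ⊤ → Cfsg.IsPClosed p ↥H) ∧
      ∀ (N : Subgroup G) [N.Normal], N ≠ ⊥ → Cfsg.IsPClosed p (G ⧸ N) := by
  classical
  open Cfsg.Agent.Lib.MinPClosed in
  (
  haveI hqf : Fact q.Prime := ⟨hq⟩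
  have hp : p.Prime := Fact.out
  have hcardG : Nat.card G = Nat.card A * p := by rw [← hidx]; exact A.card_mul_index.symm
  have hApg : IsPGroup q A := pgroup_A hq A hA
  obtain ⟨d, hd⟩ := IsPGroup.iff_card.mp hApg
  have hpA : ¬ p ∣ Nat.card A := by
    rw [hd]
    intro h
    have := hp.dvd_of_dvd_pow h
    exact hpq ((Nat.prime_dvd_prime_iff_eq hp hq).mp this).symm
  have hpG : p ∣ Nat.card G := Dvd.intro_left _ hcardG.symm
  refine ⟨card_eq_of_min hq hpq hna A hA hidx hmin, ?_, ?_, ?_⟩
  · intro h
    obtain ⟨P⟩ := (inferInstance : Nonempty (Sylow p G))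
    haveI := h P
    exact no_normal_pgroup hq hpq A hA hidx hna P P.2 (P.ne_bot_of_dvd_card hpG)
  · intro H hH
    by_cases hHA : H ≤ A
    · apply isPClosed_of_not_dvd
      intro h
      exact hpA (h.trans (Subgroup.card_dvd_of_le hHA))
    · have hsup : H ⊔ A = ⊤ := top_of_not_le hp hidx le_sup_right (fun h => hHA (le_sup_left.trans h))
      have hnorm : (H ⊓ A).Normal := by
        have h3 : Subgroup.normalizer ((H ⊓ A : Subgroup G) : Set G) = ⊤ := by
          rw [eq_top_iff, ← hsup]
          refine sup_le ?_ ?_
          · intro h hh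
            apply mem_normalizer_of_conj_le
            intro s hs
            exact ⟨H.mul_mem (H.mul_mem hh hs.1) (H.inv_mem hh), Subgroup.Normal.conj_mem inferInstance s hs.2 h⟩
          · intro a ha
            apply mem_normalizer_of_conj_le
            intro s hs
            have : a * s * a⁻¹ = s := by rw [comm_A A hA a ha s hs.2]; group
            rw [this]; exact hs
        exact Subgroup.normalizer_eq_top_iff.mp h3
      rcases hmin _ hnorm inf_le_right with h | h
      · have hc := index_eq_card_of_compl A H h hsup
        rw [hidx] at hc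
        apply isPClosed_of_isPGroup
        exact IsPGroup.of_card (n := 1) (by rw [← hc, pow_one])
      · exfalso
        have hAH : A ≤ H := by rw [← h]; exact inf_le_left
        exact hH (top_of_not_le hp hidx hAH hHA)
  · intro N hN hne
    have hnorm : (N ⊓ A).Normal := inferInstance
    rcases hmin _ hnorm inf_le_right with h | h
    · exfalso
      have hNA : ¬ N ≤ A := by
        intro hle
        apply hne
        rw [← inf_eq_left.mpr hle]; exact h
      have hsup : N ⊔ A = ⊤ := top_of_not_le hp hidx le_sup_right (fun h => hNA (le_sup_left.trans h))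
      have hc := index_eq_card_of_compl A N h hsup
      rw [hidx] at hc
      exact no_normal_pgroup hq hpq A hA hidx hna N (IsPGroup.of_card (n := 1) (by rw [← hc, pow_one])) hne
    · have hAN : A ≤ N := by rw [← h]; exact inf_le_left
      apply isPClosed_of_isPGroup
      have h1 : N.index ∣ p := hidx ▸ Subgroup.index_dvd_of_le hAN
      rcases (Nat.dvd_prime hp).mp h1 with h2 | h2
      · exact IsPGroup.of_card (n := 0) (by rw [pow_zero]; exact h2)
      · exact IsPGroup.of_card (n := 1) (by rw [pow_one]; exact h2)
  )

end Cfsg.Agent.S3869
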