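import Mathlib
import Cfsg.Statements.S3870
import Cfsg.Agent.Lib.H5Basic
import Cfsg.Agent.Lib.SylowCount
-- import your own Cfsg.Agent.* helpers here

set_option autoImplicit false
open Cfsg

namespace Cfsg.Agent.S3870

/-- Let G be a finite simple group whose Sylow p-subgroups are not normal but such that every proper subgroup of G has a normal Sylow p-subgroup. Then any two distinct Sylow p-subgroups of G intersect trivially, and for every Sylow p-subgroup P the normalizer of every non-identity subgroup of P lies in the normalizer of P. -/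
theorem result {G : Type*} [Group G] [Finite G] [IsSimpleGroup G] {p : ℕ} [Fact p.Prime]
    (hnc : ¬ Cfsg.IsPClosed p G) (hsub : ∀ H : Subgroup G, H ≠ ⊤ → Cfsg.IsPClosed p ↥H) :
    (∀ P Q : Sylow p G, P ≠ Q → (P : Subgroup G) ⊓ (Q : Subgroup G) = ⊥) ∧
      ∀ (P : Sylow p G) (R : Subgroup G), R ≤ P → R ≠ ⊥ →
        Subgroup.normalizer (R : Set G) ≤ Subgroup.normalizer ((P : Subgroup G) : Set G) := by
  classical
  have hcardeq : ∀ A B : Sylow p G, Nat.card (A : Subgroup G) = Nat.card (B : Subgroup G) := by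
    intro A B
    rw [A.card_eq_multiplicity, B.card_eq_multiplicity]
  have heqle : ∀ A B : Sylow p G, (A : Subgroup G) ≤ B → A = B := by
    intro A B h
    exact Sylow.ext (Subgroup.eq_of_le_of_card_ge h (hcardeq A B).ge)
  have hTI : ∀ P Q : Sylow p G, P ≠ Q → (P : Subgroup G) ⊓ (Q : Subgroup G) = ⊥ := by
    by_contra hcon
    push Not at hcon
    obtain ⟨P₀, Q₀, h₀, h₀'⟩ := hcon
    let S : Set (Sylow p G × Sylow p G) := {x | x.1 ≠ x.2 ∧ (x.1 : Subgroup G) ⊓ (x.2 : Subgroup G) ≠ ⊥}
    have hSne : S.Nonempty := ⟨(P₀, Q₀), h₀, h₀'⟩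
    obtain ⟨⟨P, Q⟩, ⟨hPQ, hD⟩, hmax⟩ := Set.exists_max_image S
      (fun x => Nat.card ((x.1 : Subgroup G) ⊓ (x.2 : Subgroup G) : Subgroup G)) (Set.toFinite S) hSne
    simp only at hPQ hD hmax
    set D : Subgroup G := (P : Subgroup G) ⊓ (Q : Subgroup G) with hDdef
    have hDP : D ≠ (P : Subgroup G) := by
      intro h
      apply hPQ
      apply heqle
      rw [← h]
      exact inf_le_right
    have hDQ : D ≠ (Q : Subgroup G) := by
      intro h
      apply hPQ
      apply (heqle Q P ?_).symm
      rw [← h]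
      exact inf_le_left
    obtain ⟨a, haP, haD, haN⟩ := Cfsg.Agent.Lib.H5Basic.exists_mem_normalizer_of_lt P.isPGroup' inf_le_left hDP
    obtain ⟨b, hbQ, hbD, hbN⟩ := Cfsg.Agent.Lib.H5Basic.exists_mem_normalizer_of_lt Q.isPGroup' inf_le_right hDQ
    let N : Subgroup G := Subgroup.normalizer (D : Set G)
    have hNtop : N ≠ ⊤ := by
      intro htop
      have hn : D.Normal := Subgroup.normalizer_eq_top_iff.mp htop
      rcases IsSimpleGroup.eq_bot_or_eq_top_of_normal D hn with h | h
      · exact hD h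
      · apply hnc
        intro P'
        have h1 : (P : Subgroup G) = ⊤ := by
          rw [eq_top_iff, ← h]
          exact inf_le_left
        have h2 : (P' : Subgroup G) = ⊤ := by
          rw [eq_top_iff, ← h1]
          have h3 : P' = P := by
            apply heqle
            rw [h1]
            exact le_top
          rw [h3]
        rw [h2]
        infer_instance
    have hcl := hsub N hNtop
    obtain ⟨S₀⟩ : Nonempty (Sylow p N) := inferInstance
    have huniq : ∀ T : Sylow p N, T = S₀ := by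
      intro T
      obtain ⟨g, rfl⟩ := MulAction.exists_smul_eq N S₀ T
      have h1 : g ∈ Subgroup.normalizer ((S₀ : Subgroup N) : Set N) := by
        have hn := hcl S₀
        rw [Subgroup.normalizer_eq_top_iff.mpr hn]
        trivial
      exact Sylow.smul_eq_iff_mem_normalizer.mpr h1
    have hincl : ∀ U : Sylow p G, ∀ x ∈ (U : Subgroup G), x ∈ N → x ∈ (S₀ : Subgroup N).map N.subtype := by
      intro U x hxU hxN
      have hp : IsPGroup p ((U : Subgroup G).subgroupOf N) :=
        U.isPGroup'.comap_subtype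
      obtain ⟨T, hT⟩ := hp.exists_le_sylow
      rw [huniq T] at hT
      exact ⟨⟨x, hxN⟩, hT hxU, rfl⟩
    have hS₀p : IsPGroup p ((S₀ : Subgroup N).map N.subtype) := S₀.isPGroup'.map N.subtype
    obtain ⟨T, hT⟩ := hS₀p.exists_le_sylow
    have hDN : D ≤ N := Subgroup.le_normalizer
    have key : ∀ U : Sylow p G, D ≤ (U : Subgroup G) → ∀ y ∈ (U : Subgroup G), y ∈ N → y ∉ D → T = U := by
      intro U hDU y hyU hyN hyD
      by_contra hne
      have hyT : y ∈ (T : Subgroup G) := hT (hincl U y hyU hyN)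
      have hne2 : (T : Subgroup G) ⊓ (U : Subgroup G) ≠ ⊥ := by
        intro h
        have : y ∈ (T : Subgroup G) ⊓ (U : Subgroup G) := ⟨hyT, hyU⟩
        rw [h, Subgroup.mem_bot] at this
        exact hyD (this ▸ D.one_mem)
      have hle := hmax (T, U) ⟨hne, hne2⟩
      simp only at hle
      have hDle : D ≤ (T : Subgroup G) ⊓ (U : Subgroup G) := by
        refine le_inf ?_ hDU
        intro z hz
        exact hT (hincl P z hz.1 (hDN hz))
      have heq : D = (T : Subgroup G) ⊓ (U : Subgroup G) := Subgroup.eq_of_le_of_card_ge hDle hle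
      exact hyD (heq ▸ ⟨hyT, hyU⟩)
    have h1 := key P inf_le_left a haP haN haD
    have h2 := key Q inf_le_right b hbQ hbN hbD
    exact hPQ (h1.symm.trans h2)
  refine ⟨hTI, ?_⟩
  intro P R hRP hR g hg
  refine (Sylow.smul_eq_iff_mem_normalizer).mp ?_
  by_contra hne
  apply hR
  have h1 := hTI (g • P) P hne
  rw [eq_bot_iff, ← h1]
  intro x hx
  refine ⟨?_, hRP hx⟩
  have h2 : g⁻¹ * x * g ∈ R := by
    rw [Subgroup.mem_normalizer_iff] at hg
    have h3 := hg (g⁻¹ * x * g)
    have h4 : g * (g⁻¹ * x * g) * g⁻¹ = x := by group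
    rw [h4] at h3
    exact h3.mpr hx
  exact (Cfsg.Agent.Lib.SylowCount.mem_smul_sylow g x P).mpr (hRP h2)

end Cfsg.Agent.S3870
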