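import Mathlib
import Cfsg.Statements.S4209
import Cfsg.Agent.Lib.H6Poly
import Cfsg.Agent.Lib.RegularPow
-- import your own Cfsg.Agent.* helpers here

set_option autoImplicit false
open Cfsg

namespace Cfsg.Agent.S4209

/-- A finite `p`-group of nilpotency class less than `p` (the term of index `p - 1` of the lower central series of the whole group, indexed from `0`, is trivial) is a regular `p`-group. -/
theorem result {G : Type*} [Group G] [Finite G] {p : ℕ} [Fact p.Prime] (hG : IsPGroup p G) (hcl : (⊤ : Subgroup G).lowerCentralSeries (p - 1) = ⊥) : Cfsg.IsRegularPGroup p G := by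
  classical
  apply Cfsg.Agent.Lib.RegularPow.regular_of_weak
  refine ⟨hG, fun a b => ?_⟩
  set X := Subgroup.closure ({a, b} : Set G) with hX
  have haX : a ∈ X := Subgroup.subset_closure (by simp)
  have hbX : b ∈ X := Subgroup.subset_closure (by simp)
  have hclX : (⊤ : Subgroup X).lowerCentralSeries (p - 1) = ⊥ := by
    have h1 : ((⊤ : Subgroup X).lowerCentralSeries (p - 1)).map X.subtype = X.lowerCentralSeries (p - 1) :=
      Subgroup.top_subtype_lowerCentralSeries X (p - 1)
    have h2 : X.lowerCentralSeries (p - 1) ≤ (⊤ : Subgroup G).lowerCentralSeries (p - 1) :=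
      Subgroup.lowerCentralSeries_mono (p - 1) le_top
    rw [hcl, le_bot_iff, ← h1] at h2
    exact (Subgroup.map_eq_bot_iff_of_injective _ X.subtype_injective).1 h2
  obtain ⟨c, hc, he⟩ := Cfsg.Agent.Lib.H6Poly.hall_petrescu (Fact.out : p.Prime) hclX ⟨a, haX⟩ ⟨b, hbX⟩
  refine ⟨(c : G), ?_, ?_⟩
  · have hle : (Cfsg.Agent.Lib.H6Poly.W p X).map X.subtype ≤ powerClosure p 1 ⁅X, X⁆ := by
      rw [Cfsg.Agent.Lib.H6Poly.W, MonoidHom.map_closure, Subgroup.closure_le]
      rintro _ ⟨_, ⟨z, hz, rfl⟩, rfl⟩
      apply Subgroup.subset_closure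
      refine ⟨(z : G), ?_, by simp⟩
      rw [← Subgroup.map_subtype_commutator]
      exact ⟨z, hz, rfl⟩
    exact hle ⟨c, hc, rfl⟩
  · have := congrArg Subtype.val he
    simpa using this

end Cfsg.Agent.S4209
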