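import Cfsg.Statements.S3872
import Cfsg.Agent.S4209
import Cfsg.Agent.Lib.UniqueSub
import Cfsg.Agent.Lib.H6Regular
import Cfsg.Agent.Lib.H6PGroup
import Cfsg.Agent.Lib.H6KP

set_option autoImplicit false
set_option linter.all false
open Cfsg

namespace Cfsg.Agent.S3872


open Cfsg Cfsg.Agent Cfsg.Agent.Lib Subgroup


/-- Say that a finite group is p-exponent closed when its elements of order dividing p form a subgroup. Let G be a finite p-group that is not p-exponent closed, but all of whose proper subgroups and proper quotients are. Then G is generated by two elements, has nilpotency class at least p, has exponent p², has cyclic center, and has order at least p^(p+1). -/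
theorem result {G : Type*} [Group G] [Finite G] {p : ℕ} [Fact p.Prime] (hG : IsPGroup p G)
    (hnc : ¬ (∃ H : Subgroup G, (H : Set G) = {g : G | g ^ p = 1})) (hsub : ∀ K : Subgroup G, K ≠ ⊤ → (∃ H : Subgroup ↥K, (H : Set ↥K) = {g : ↥K | g ^ p = 1}))
    (hquo : ∀ (N : Subgroup G) [N.Normal], N ≠ ⊥ → (∃ H : Subgroup (G ⧸ N), (H : Set (G ⧸ N)) = {g : (G ⧸ N) | g ^ p = 1})) :
    (∃ x y : G, Subgroup.closure ({x, y} : Set G) = ⊤) ∧ (⊤ : Subgroup G).lowerCentralSeries (p - 1) ≠ ⊥ ∧
      Monoid.exponent G = p ^ 2 ∧ IsCyclic ↥(Subgroup.center G) ∧ p ^ (p + 1) ≤ Nat.card G := by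
  classical
  have hpp : p.Prime := Fact.out
  obtain ⟨x, y, hx, hy, hxy⟩ : ∃ x y : G, x ^ p = 1 ∧ y ^ p = 1 ∧ (x * y) ^ p ≠ 1 := by
    by_contra h
    push_neg at h
    apply hnc
    refine ⟨{ carrier := {g | g ^ p = 1}
              one_mem' := one_pow _
              mul_mem' := fun {a b} ha hb => h a b ha hb
              inv_mem' := fun {a} ha => ?_ }, rfl⟩
    have ha' : a ^ p = 1 := ha
    show a⁻¹ ^ p = 1
    rw [inv_pow, ha', inv_one]
  have hgen : Subgroup.closure ({x, y} : Set G) = ⊤ := by
    by_contra hne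
    obtain ⟨H, hH⟩ := hsub _ hne
    have hxK : x ∈ Subgroup.closure ({x, y} : Set G) := Subgroup.subset_closure (by simp)
    have hyK : y ∈ Subgroup.closure ({x, y} : Set G) := Subgroup.subset_closure (by simp)
    have h1 : (⟨x, hxK⟩ : Subgroup.closure ({x, y} : Set G)) ∈ (H : Set _) := by
      rw [hH]; exact Subtype.ext hx
    have h2 : (⟨y, hyK⟩ : Subgroup.closure ({x, y} : Set G)) ∈ (H : Set _) := by
      rw [hH]; exact Subtype.ext hy
    have h3 : (⟨x, hxK⟩ * ⟨y, hyK⟩ : Subgroup.closure ({x, y} : Set G)) ∈ (H : Set _) := H.mul_mem h1 h2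
    rw [hH] at h3
    exact hxy (congrArg Subtype.val h3)
  have hquo' : ∀ z ∈ center G, z ≠ 1 → ∀ g : G, g ^ p ∈ zpowers z := by
    intro z hzc hz1 g
    haveI hnorm : (zpowers z).Normal := by
      have hle : zpowers z ≤ center G := (Subgroup.zpowers_le).mpr hzc
      refine ⟨fun n hn g => ?_⟩
      have h := Subgroup.mem_center_iff.mp (hle hn) g
      rw [h, mul_inv_cancel_right]
      exact hn
    have hne : zpowers z ≠ ⊥ := by
      intro h
      exact hz1 (Subgroup.zpowers_eq_bot.mp h)
    obtain ⟨H, hH⟩ := hquo (zpowers z) hne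
    have hmem : ∀ a : G, a ^ p = 1 → (a : G ⧸ zpowers z) ∈ H := by
      intro a ha
      have : (a : G ⧸ zpowers z) ∈ (H : Set _) := by
        rw [hH]
        show (a : G ⧸ zpowers z) ^ p = 1
        rw [← QuotientGroup.mk_pow, ha]
        rfl
      exact this
    have hle : Subgroup.closure ({x, y} : Set G) ≤ H.comap (QuotientGroup.mk' (zpowers z)) := by
      rw [Subgroup.closure_le]
      rintro a (rfl | rfl)
      · exact hmem _ hx
      · exact hmem _ hy
    rw [hgen] at hle
    have h1 : (g : G ⧸ zpowers z) ∈ (H : Set _) := hle (Subgroup.mem_top g)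
    rw [hH] at h1
    have h2 : ((g ^ p : G) : G ⧸ zpowers z) = 1 := by
      rw [QuotientGroup.mk_pow]
      exact h1
    exact (QuotientGroup.eq_one_iff _).mp h2
  have hne1 : x * y ≠ 1 := by
    intro h
    apply hxy
    rw [h, one_pow]
  haveI : Nontrivial G := ⟨⟨_, _, hne1⟩⟩
  haveI := hG.center_nontrivial
  obtain ⟨n, hn⟩ := IsPGroup.iff_card.mp hG
  have hZp : IsPGroup p (center G) := hG.to_subgroup _
  obtain ⟨zn, hzn⟩ := exists_prime_orderOf_dvd_card' (G := center G) p (by
    obtain ⟨k, hk⟩ := IsPGroup.iff_card.mp hZp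
    rw [hk]
    have hk0 : k ≠ 0 := by
      rintro rfl
      rw [pow_zero] at hk
      have := Finite.one_lt_card (α := center G)
      omega
    exact dvd_pow_self p hk0)
  have hz1 : (zn : G) ≠ 1 := by
    intro h
    have : zn = 1 := Subtype.ext h
    rw [this, orderOf_one] at hzn
    exact hpp.one_lt.ne hzn
  have hzp : (zn : G) ^ p = 1 := by
    have : zn ^ p = 1 := by rw [← hzn]; exact pow_orderOf_eq_one zn
    exact congrArg Subtype.val this
  have hg2 : ∀ g : G, g ^ p ^ 2 = 1 := by
    intro g
    obtain ⟨a, ha⟩ := Subgroup.mem_zpowers_iff.mp (hquo' _ zn.2 hz1 g)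
    have h1 : g ^ p ^ 2 = (g ^ p) ^ p := by rw [← pow_mul, pow_two]
    rw [h1, ← ha, ← zpow_natCast, ← zpow_mul, mul_comm, zpow_mul, zpow_natCast, hzp, one_zpow]
  have hexp : Monoid.exponent G = p ^ 2 := by
    have h1 : Monoid.exponent G ∣ p ^ 2 := Monoid.exponent_dvd_of_forall_pow_eq_one hg2
    obtain ⟨k, hk, hke⟩ := (Nat.dvd_prime_pow hpp).mp h1
    have hk2 : k = 2 := by
      by_contra hk2
      have hk1 : k ≤ 1 := by omega
      have h2 : Monoid.exponent G ∣ p := by
        rw [hke]
        calc p ^ k ∣ p ^ 1 := pow_dvd_pow p hk1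
          _ = p := pow_one p
      apply hxy
      obtain ⟨c, hc⟩ := h2
      rw [hc, pow_mul, Monoid.pow_exponent_eq_one, one_pow]
    rw [hke, hk2]
  -- the centre is cyclic
  have hcyc : IsCyclic (center G) := by
    apply UniqueSub.comm_cyclic hZp (fun a b => Subtype.ext (by
      exact (Subgroup.mem_center_iff.mp a.2 b).symm))
    intro a b ha hb
    have ha1 : (a : G) ≠ 1 := by
      intro h
      have : a = 1 := Subtype.ext h
      rw [this, orderOf_one] at ha
      exact hpp.one_lt.ne ha
    have hb1 : (b : G) ≠ 1 := by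
      intro h
      have : b = 1 := Subtype.ext h
      rw [this, orderOf_one] at hb
      exact hpp.one_lt.ne hb
    obtain ⟨u, hu⟩ := Subgroup.mem_zpowers_iff.mp (hquo' _ a.2 ha1 (x * y))
    obtain ⟨v, hv⟩ := Subgroup.mem_zpowers_iff.mp (hquo' _ b.2 hb1 (x * y))
    have h1 : a ^ u = b ^ v := by
      apply Subtype.ext
      simp only [SubgroupClass.coe_zpow]
      rw [hu, hv]
    have h2 : a ^ u ≠ 1 := by
      intro h
      apply hxy
      rw [← hu]
      exact congrArg Subtype.val h
    have h3 : zpowers (a ^ u) = zpowers a := by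
      apply Subgroup.eq_of_le_of_card_ge (Subgroup.zpowers_le.mpr (Subgroup.zpow_mem_zpowers a u))
      rw [Nat.card_zpowers, Nat.card_zpowers, ha]
      have h4 : orderOf (a ^ u) ∣ p := by
        rw [← ha]; exact orderOf_dvd_of_mem_zpowers (Subgroup.zpow_mem_zpowers a u) |>.trans (dvd_refl _)
      rcases (Nat.dvd_prime hpp).mp h4 with h5 | h5
      · exact absurd (orderOf_eq_one_iff.mp h5) h2
      · rw [h5]
    have h4 : zpowers (b ^ v) = zpowers b := by
      apply Subgroup.eq_of_le_of_card_ge (Subgroup.zpowers_le.mpr (Subgroup.zpow_mem_zpowers b v))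
      rw [Nat.card_zpowers, Nat.card_zpowers, hb]
      have h4 : orderOf (b ^ v) ∣ p := by
        rw [← hb]; exact orderOf_dvd_of_mem_zpowers (Subgroup.zpow_mem_zpowers b v) |>.trans (dvd_refl _)
      rcases (Nat.dvd_prime hpp).mp h4 with h5 | h5
      · exact absurd (orderOf_eq_one_iff.mp h5) (by rw [← h1]; exact h2)
      · rw [h5]
    rw [← h3, h1, h4]
    exact Subgroup.mem_zpowers b
  -- the class
  have hclass : (⊤ : Subgroup G).lowerCentralSeries (p - 1) ≠ ⊥ := by
    intro hL
    have hreg := S4209.result hG hL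
    have h1 := (H6Regular.key _ G rfl hreg 1 x y⁻¹).mp (by rw [pow_one, hx, inv_pow, hy, inv_one])
    rw [inv_inv, pow_one] at h1
    exact hxy h1
  -- the order
  have hp1 : 1 ≤ p - 1 := by have := hpp.two_le; omega
  have hnil : Group.IsNilpotent G := hG.isNilpotent
  obtain ⟨m, hm⟩ := Subgroup.nilpotent_iff_lowerCentralSeries.mp hnil
  have hne : ∀ i, i ≤ p - 1 → (⊤ : Subgroup G).lowerCentralSeries i ≠ ⊥ := by
    intro i hi h
    apply hclass
    rw [eq_bot_iff, ← h]
    exact Subgroup.lowerCentralSeries_antitone _ hi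
  have hstrict : ∀ i, i ≤ p - 1 →
      p * Nat.card ((⊤ : Subgroup G).lowerCentralSeries (i + 1)) ≤ Nat.card ((⊤ : Subgroup G).lowerCentralSeries i) := by
    intro i hi
    set L := (⊤ : Subgroup G).lowerCentralSeries with hL
    have hle : L (i + 1) ≤ L i := Subgroup.lowerCentralSeries_antitone _ (Nat.le_succ i)
    have hFne : (L (i + 1)).subgroupOf (L i) ≠ ⊤ := by
      intro h
      have h1 : L i ≤ L (i + 1) := Subgroup.subgroupOf_eq_top.mp h
      have h2 : L (i + 1) = L i := le_antisymm hle h1
      have h3 : ∀ j, L (i + j) = L i := by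
        intro j
        induction j with
        | zero => rfl
        | succ j IH =>
          have : L (i + (j + 1)) = ⁅L (i + j), (⊤ : Subgroup G)⁆ := rfl
          rw [this, IH]
          exact h2
      apply hne i hi
      have h4 : L (i + m) ≤ L m := Subgroup.lowerCentralSeries_antitone _ (Nat.le_add_left m i)
      rw [hm] at h4
      rw [← h3 m]
      exact le_bot_iff.mp h4
    have h5 := H6KP.mul_card_le_of_ne_top (hG.to_subgroup (L i)) _ hFne
    have h6 : Nat.card ((L (i + 1)).subgroupOf (L i)) = Nat.card (L (i + 1)) :=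
      Nat.card_congr (Subgroup.subgroupOfEquivOfLe hle).toEquiv
    rwa [h6] at h5
  have hbase : p ^ 2 * Nat.card ((⊤ : Subgroup G).lowerCentralSeries 1) ≤ Nat.card G := by
    rw [Subgroup.top_lowerCentralSeries_one]
    have h1 : (commutator G).index ∣ p ^ n := by rw [← hn]; exact (commutator G).index_dvd_card
    obtain ⟨j, -, hj⟩ := (Nat.dvd_prime_pow hpp).mp h1
    have hj2 : 2 ≤ j := by
      by_contra hj2
      have hj1 : j ≤ 1 := by omega
      have h2 : (frattini G).index ∣ (commutator G).index :=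
        Subgroup.index_dvd_of_le (H6Regular.commutator_le_frattini hG)
      rw [hj] at h2
      obtain ⟨r, hr, hr2⟩ := (Nat.dvd_prime_pow hpp).mp h2
      obtain ⟨S, hS, hcl⟩ := H6PGroup.exists_gens_of_frattini p r hr2
      have hS1 : S.card ≤ 1 := by omega
      obtain ⟨a, ha⟩ := Finset.card_le_one_iff_subset_singleton.mp hS1
      have h3 : zpowers a = ⊤ := by
        rw [eq_top_iff, ← hcl, Subgroup.closure_le]
        intro s hs
        have : s = a := Finset.mem_singleton.mp (ha hs)
        rw [this]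
        exact Subgroup.mem_zpowers a
      have hcomm : ∀ u v : G, u * v = v * u := by
        intro u v
        have hu : u ∈ zpowers a := by rw [h3]; trivial
        have hv : v ∈ zpowers a := by rw [h3]; trivial
        obtain ⟨s, rfl⟩ := Subgroup.mem_zpowers_iff.mp hu
        obtain ⟨t, rfl⟩ := Subgroup.mem_zpowers_iff.mp hv
        rw [← zpow_add, ← zpow_add, add_comm]
      apply hne 1 hp1
      rw [Subgroup.top_lowerCentralSeries_one]
      rw [commutator_eq_bot_iff_center_eq_top]
      ext g
      simp only [Subgroup.mem_top, iff_true]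
      rw [Subgroup.mem_center_iff]
      exact fun h => hcomm h g
    have h3 := (commutator G).card_mul_index
    rw [← h3, mul_comm]
    apply Nat.mul_le_mul_left
    rw [hj]
    exact Nat.pow_le_pow_right hpp.pos hj2
  have hchain : ∀ i, 1 ≤ i → i ≤ p - 1 →
      p ^ (i + 1) * Nat.card ((⊤ : Subgroup G).lowerCentralSeries i) ≤ Nat.card G := by
    intro i hi
    induction i, hi using Nat.le_induction with
    | base => intro _; exact hbase
    | succ i hi IH =>
      intro hle
      have h1 := IH (by omega)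
      have h2 := hstrict i (by omega)
      calc p ^ (i + 1 + 1) * Nat.card ((⊤ : Subgroup G).lowerCentralSeries (i + 1))
          = p ^ (i + 1) * (p * Nat.card ((⊤ : Subgroup G).lowerCentralSeries (i + 1))) := by ring
        _ ≤ p ^ (i + 1) * Nat.card ((⊤ : Subgroup G).lowerCentralSeries i) := Nat.mul_le_mul_left _ h2
        _ ≤ _ := h1
  have hlast : p ≤ Nat.card ((⊤ : Subgroup G).lowerCentralSeries (p - 1)) := by
    obtain ⟨k, hk⟩ := IsPGroup.iff_card.mp (hG.to_subgroup ((⊤ : Subgroup G).lowerCentralSeries (p - 1)))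
    rw [hk]
    have hk0 : k ≠ 0 := by
      rintro rfl
      rw [pow_zero] at hk
      exact hclass (Subgroup.card_eq_one.mp hk)
    calc p = p ^ 1 := (pow_one p).symm
      _ ≤ p ^ k := Nat.pow_le_pow_right hpp.pos (Nat.one_le_iff_ne_zero.mpr hk0)
  have hord : p ^ (p + 1) ≤ Nat.card G := by
    have h1 := hchain (p - 1) hp1 le_rfl
    have h2 : p - 1 + 1 = p := by have := hpp.two_le; omega
    rw [h2] at h1
    calc p ^ (p + 1) = p ^ p * p := pow_succ p p
      _ ≤ p ^ p * Nat.card ((⊤ : Subgroup G).lowerCentralSeries (p - 1)) := Nat.mul_le_mul_left _ hlast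
      _ ≤ _ := h1
  exact ⟨⟨x, y, hgen⟩, hclass, hexp, hcyc, hord⟩

end Cfsg.Agent.S3872
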