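import Cfsg.Statements.S3873
import Cfsg.Agent.Lib.MinPClosed
-- import your own Cfsg.Agent.* helpers here

set_option autoImplicit false
set_option linter.all false
open Cfsg

namespace Cfsg.Agent.S3873

/-- Say that a finite group is p-exponent closed when its elements of order dividing p form a subgroup. Let G be a finite group that is not p-exponent closed, but all of whose proper subgroups and proper quotients are, and suppose G is neither simple nor a p-group. Then there is a prime q ≠ p such that G has order p · q^e, where e is the multiplicative order of q modulo p, and G has a normal elementary abelian subgroup of order q^e that is a minimal normal subgroup of G. -/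
theorem result {G : Type*} [Group G] [Finite G] {p : ℕ} [Fact p.Prime]
    (hnc : ¬ (∃ H : Subgroup G, (H : Set G) = {g : G | g ^ p = 1})) (hsub : ∀ K : Subgroup G, K ≠ ⊤ → (∃ H : Subgroup ↥K, (H : Set ↥K) = {g : ↥K | g ^ p = 1}))
    (hquo : ∀ (N : Subgroup G) [N.Normal], N ≠ ⊥ → (∃ H : Subgroup (G ⧸ N), (H : Set (G ⧸ N)) = {g : (G ⧸ N) | g ^ p = 1}))
    (hns : ¬ IsSimpleGroup G) (hnp : ¬ IsPGroup p G) :
    ∃ q : ℕ, q.Prime ∧ q ≠ p ∧ Nat.card G = p * q ^ orderOf (q : ZMod p) ∧
      ∃ A : Subgroup G, A.Normal ∧ Nat.card ↥A = q ^ orderOf (q : ZMod p) ∧ Cfsg.IsElementaryAbelian q A ∧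
        ∀ B : Subgroup G, B.Normal → B ≤ A → B = ⊥ ∨ B = A := by
  classical
  open Cfsg.Agent.Lib.MinPClosed in
  (
  have hp : p.Prime := Fact.out
  obtain ⟨x, y, hx, hy, hxy⟩ : ∃ x y : G, x ^ p = 1 ∧ y ^ p = 1 ∧ (x * y) ^ p ≠ 1 := by
    by_contra h
    push Not at h
    apply hnc
    refine ⟨{ carrier := {g | g ^ p = 1}
              mul_mem' := fun {a b} ha hb => h a b ha hb
              one_mem' := one_pow p
              inv_mem' := fun {a} ha => by
                show a⁻¹ ^ p = 1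
                rw [inv_pow, show a ^ p = 1 from ha, inv_one] }, rfl⟩
  have hgen : Subgroup.closure ({x, y} : Set G) = ⊤ := by
    by_contra hne
    obtain ⟨H, hH⟩ := hsub _ hne
    have hxm : x ∈ Subgroup.closure ({x, y} : Set G) := Subgroup.subset_closure (by simp)
    have hym : y ∈ Subgroup.closure ({x, y} : Set G) := Subgroup.subset_closure (by simp)
    have h1 : (⟨x, hxm⟩ : ↥(Subgroup.closure ({x, y} : Set G))) ∈ H := by
      have : (⟨x, hxm⟩ : ↥(Subgroup.closure ({x, y} : Set G))) ∈ (H : Set _) := by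
        rw [hH]
        exact Subtype.ext hx
      exact this
    have h2 : (⟨y, hym⟩ : ↥(Subgroup.closure ({x, y} : Set G))) ∈ H := by
      have : (⟨y, hym⟩ : ↥(Subgroup.closure ({x, y} : Set G))) ∈ (H : Set _) := by
        rw [hH]
        exact Subtype.ext hy
      exact this
    have h3 : (⟨x, hxm⟩ * ⟨y, hym⟩ : ↥(Subgroup.closure ({x, y} : Set G))) ∈ (H : Set _) := H.mul_mem h1 h2
    rw [hH] at h3
    exact hxy (congrArg Subtype.val h3)
  have hpow : ∀ N : Subgroup G, N.Normal → N ≠ ⊥ → ∀ g : G, g ^ p ∈ N := by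
    intro N hN hne g
    obtain ⟨H, hH⟩ := hquo N hne
    have hmemH : ∀ a : G, a ^ p = 1 → (a : G ⧸ N) ∈ H := by
      intro a ha
      have : (a : G ⧸ N) ∈ (H : Set (G ⧸ N)) := by
        rw [hH]
        show ((a : G ⧸ N)) ^ p = 1
        rw [← QuotientGroup.mk_pow, ha, QuotientGroup.mk_one]
      exact this
    have hle : Subgroup.closure ({x, y} : Set G) ≤ H.comap (QuotientGroup.mk' N) := by
      rw [Subgroup.closure_le]
      intro a ha
      rcases ha with rfl | rfl
      · exact hmemH _ hx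
      · exact hmemH _ hy
    rw [hgen] at hle
    have h1 : (g : G ⧸ N) ∈ (H : Set (G ⧸ N)) := hle (Subgroup.mem_top g)
    rw [hH] at h1
    have h2 : ((g : G ⧸ N)) ^ p = 1 := h1
    rw [← QuotientGroup.mk_pow] at h2
    exact (QuotientGroup.eq_one_iff _).mp h2
  obtain ⟨M, hMn, hMb, hMt⟩ : ∃ M : Subgroup G, M.Normal ∧ M ≠ ⊥ ∧ M ≠ ⊤ := by
    by_contra hno
    push Not at hno
    apply hns
    haveI : Nontrivial G := by
      by_contra hsub'
      rw [not_nontrivial_iff_subsingleton] at hsub'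
      exact hxy (Subsingleton.elim _ _)
    have hdic : ∀ H : Subgroup G, H.Normal → H = ⊥ ∨ H = ⊤ := by
      intro H hH
      by_cases h : H = ⊥
      · exact Or.inl h
      · exact Or.inr (hno H hH h)
    exact { eq_bot_or_eq_top_of_normal := hdic }
  obtain ⟨N, hN⟩ := Set.Finite.exists_minimal (Set.toFinite {N : Subgroup G | N.Normal ∧ N ≠ ⊥ ∧ N ≤ M})
    ⟨M, hMn, hMb, le_rfl⟩
  obtain ⟨hNn, hNb, hNM⟩ := hN.1
  haveI := hNn
  have hmin : ∀ B : Subgroup G, B.Normal → B ≤ N → B = ⊥ ∨ B = N := by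
    intro B hB hBN
    by_cases b : B = ⊥
    · exact Or.inl b
    · exact Or.inr (le_antisymm hBN (hN.2 ⟨hB, b, hBN.trans hNM⟩ hBN))
  have hNt : N ≠ ⊤ := fun h => hMt (top_le_iff.mp (h ▸ hNM))
  have hpN : ¬ p ∣ Nat.card N := by
    intro hd
    obtain ⟨H, hH⟩ := hsub N hNt
    have hHm : ∀ a : N, a ∈ H ↔ a ^ p = 1 := by
      intro a
      have : a ∈ (H : Set N) ↔ a ∈ {g : N | g ^ p = 1} := by rw [hH]
      exact this
    have hH'n : (H.map N.subtype).Normal := by
      constructor
      rintro _ ⟨a, ha, rfl⟩ g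
      refine ⟨⟨g * a * g⁻¹, hNn.conj_mem a a.2 g⟩, (hHm _).mpr ?_, rfl⟩
      apply Subtype.ext
      show (g * (a : G) * g⁻¹) ^ p = 1
      rw [conj_pow]
      have h1 : (a : G) ^ p = 1 := congrArg Subtype.val ((hHm a).mp ha)
      rw [h1]; simp
    obtain ⟨z, hz⟩ := exists_prime_orderOf_dvd_card' (G := N) p hd
    have hne : H.map N.subtype ≠ ⊥ := by
      intro hb
      have h1 : z ∈ H := (hHm z).mpr (by rw [← hz]; exact pow_orderOf_eq_one z)
      have h2 : (z : G) ∈ H.map N.subtype := ⟨z, h1, rfl⟩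
      rw [hb, Subgroup.mem_bot] at h2
      have h3 : z = 1 := Subtype.ext h2
      rw [h3, orderOf_one] at hz
      exact hp.one_lt.ne hz
    have heq : H.map N.subtype = N := (hmin _ hH'n (Subgroup.map_subtype_le _)).resolve_left hne
    have hNexp : ∀ n ∈ N, n ^ p = 1 := by
      intro n hn
      rw [← heq] at hn
      obtain ⟨a, ha, rfl⟩ := hn
      exact congrArg Subtype.val ((hHm a).mp ha)
    apply hnp
    intro g
    refine ⟨2, ?_⟩
    rw [pow_two, pow_mul]
    exact hNexp _ (hpow N hNn hNb _)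
  -- p-elements of proper subgroups commute with N
  have hcomm : ∀ T : Subgroup G, T ≠ ⊤ → ∀ a ∈ T, a ^ p = 1 → ∀ n ∈ T, n ∈ N → a * n = n * a := by
    intro T hT a haT ha n hnT hnN
    obtain ⟨H, hH⟩ := hsub T hT
    have hHm : ∀ b : T, b ∈ H ↔ b ^ p = 1 := by
      intro b
      have : b ∈ (H : Set T) ↔ b ∈ {g : T | g ^ p = 1} := by rw [hH]
      exact this
    have h1 : (⟨a, haT⟩ : T) ∈ H := (hHm _).mpr (Subtype.ext ha)
    have h2 : ((⟨n, hnT⟩ : T) * (⟨a, haT⟩ : T)⁻¹ * (⟨n, hnT⟩ : T)⁻¹) ∈ H := by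
      rw [hHm]
      apply Subtype.ext
      show (n * a⁻¹ * n⁻¹) ^ p = 1
      rw [conj_pow, inv_pow, ha]
      simp
    have h3 := H.mul_mem h1 h2
    have h4 := (hHm _).mp h3
    have h5 : (a * (n * a⁻¹ * n⁻¹)) ^ p = 1 := congrArg Subtype.val h4
    have hcN : a * (n * a⁻¹ * n⁻¹) ∈ N := by
      have h6 : a * (n * a⁻¹ * n⁻¹) = (a * n * a⁻¹) * n⁻¹ := by simp [mul_assoc]
      rw [h6]
      exact N.mul_mem (hNn.conj_mem n hnN a) (N.inv_mem hnN)
    have h7 : a * (n * a⁻¹ * n⁻¹) = 1 :=
      eq_one_of_mem_of_not_dvd N hpN hcN (k := 1) (by rw [pow_one]; exact h5)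
    have h8 : a * n * a⁻¹ = n := by
      have h9 : a * n * a⁻¹ * n⁻¹ = 1 := by rw [← h7]; simp [mul_assoc]
      exact mul_inv_eq_one.mp h9
    calc a * n = a * n * a⁻¹ * a := by group
      _ = n * a := by rw [h8]
  -- the index of N
  have hGN : IsPGroup p (G ⧸ N) := by
    intro g
    obtain ⟨g', rfl⟩ := QuotientGroup.mk_surjective g
    refine ⟨1, ?_⟩
    rw [pow_one, ← QuotientGroup.mk_pow]
    exact (QuotientGroup.eq_one_iff _).mpr (hpow N hNn hNb g')
  obtain ⟨P⟩ := (inferInstance : Nonempty (Sylow p G))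
  have hPNtop : (P : Subgroup G) ⊔ N = ⊤ := by
    let f := QuotientGroup.mk' N
    have hsurj : Function.Surjective f := QuotientGroup.mk'_surjective N
    let Pb : Sylow p (G ⧸ N) := P.mapSurjective hsurj
    have h1 : (⊤ : Subgroup (G ⧸ N)) = Pb := Pb.3 (hGN.to_subgroup ⊤) le_top
    have hcoe : (Pb : Subgroup (G ⧸ N)) = (P : Subgroup G).map f := rfl
    have h2 : ((P : Subgroup G).map f).comap f = (P : Subgroup G) ⊔ N := by
      rw [Subgroup.comap_map_eq, QuotientGroup.ker_mk']
    rw [← h2, ← hcoe, ← h1]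
    rfl
  have hidx : N.index = p := by
    by_contra hne
    have hcen : ∀ z : G, z ^ p = 1 → ∀ n ∈ N, z * n = n * z := by
      intro z hz n hn
      refine hcomm (Subgroup.zpowers z ⊔ N) ?_ z (Subgroup.mem_sup_left (Subgroup.mem_zpowers z)) hz n
        (Subgroup.mem_sup_right hn) hn
      intro htop
      have h1 := Subgroup.relIndex_sup_right (H := Subgroup.zpowers z) (K := N)
      rw [htop, Subgroup.relIndex_top_right] at h1
      have h2 : N.index ∣ p := by
        rw [h1]
        refine (Subgroup.relIndex_dvd_card _ _).trans ?_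
        rw [Nat.card_zpowers]
        exact orderOf_dvd_of_pow_eq_one hz
      rcases (Nat.dvd_prime hp).mp h2 with h3 | h3
      · exact hNt (Subgroup.index_eq_one.mp h3)
      · exact hne h3
    have hcl : Subgroup.closure ({x, y} : Set G) ≤ Subgroup.centralizer (N : Set G) := by
      rw [Subgroup.closure_le]
      rintro a (rfl | rfl)
      · exact Subgroup.mem_centralizer_iff.mpr (fun n hn => (hcen _ hx n hn).symm)
      · exact Subgroup.mem_centralizer_iff.mpr (fun n hn => (hcen _ hy n hn).symm)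
    rw [hgen] at hcl
    have hNc : ∀ n ∈ N, ∀ g : G, g * n = n * g := by
      intro n hn g
      exact Subgroup.mem_centralizer_iff.mp (hcl (Subgroup.mem_top g)) n hn |>.symm
    -- P is normal
    have hPn : (P : Subgroup G).Normal := by
      have h3 : Subgroup.normalizer ((P : Subgroup G) : Set G) = ⊤ := by
        rw [eq_top_iff, ← hPNtop]
        refine sup_le Subgroup.le_normalizer ?_
        intro n hn
        apply mem_normalizer_of_conj_le
        intro s hs
        have h4 : n * s * n⁻¹ = s := by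
          rw [← hNc n hn s]; group
        rw [h4]; exact hs
      exact Subgroup.normalizer_eq_top_iff.mp h3
    have hPt : (P : Subgroup G) ≠ ⊤ := by
      intro htop
      apply hNb
      rw [eq_bot_iff]
      intro n hn
      have hnP : n ∈ (P : Subgroup G) := by rw [htop]; trivial
      obtain ⟨k, hk⟩ := P.2 ⟨n, hnP⟩
      exact eq_one_of_mem_of_not_dvd N hpN hn (congrArg Subtype.val hk)
    obtain ⟨H, hH⟩ := hsub _ hPt
    have hHm : ∀ b : (P : Subgroup G), b ∈ H ↔ b ^ p = 1 := by
      intro b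
      have : b ∈ (H : Set (P : Subgroup G)) ↔ b ∈ {g : (P : Subgroup G) | g ^ p = 1} := by rw [hH]
      exact this
    apply hnc
    refine ⟨H.map (P : Subgroup G).subtype, ?_⟩
    ext g
    constructor
    · rintro ⟨a, ha, rfl⟩
      exact congrArg Subtype.val ((hHm a).mp ha)
    · intro hg
      have hgP : g ∈ (P : Subgroup G) := by
        haveI := hPn
        have h1 : orderOf ((g : G ⧸ (P : Subgroup G))) ∣ p := by
          apply orderOf_dvd_of_pow_eq_one
          rw [← QuotientGroup.mk_pow, show g ^ p = 1 from hg, QuotientGroup.mk_one]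
        have h2 : orderOf ((g : G ⧸ (P : Subgroup G))) ∣ (P : Subgroup G).index :=
          orderOf_dvd_natCard _
        have h3 : orderOf ((g : G ⧸ (P : Subgroup G))) = 1 := by
          rcases (Nat.dvd_prime hp).mp h1 with h4 | h4
          · exact h4
          · rw [h4] at h2
            exact absurd h2 P.not_dvd_index
        have h5 := orderOf_eq_one_iff.mp h3
        exact (QuotientGroup.eq_one_iff _).mp h5
      exact ⟨⟨g, hgP⟩, (hHm _).mpr (Subtype.ext hg), rfl⟩
  obtain ⟨z₀, hz₀, hz₀N⟩ : ∃ z₀ : G, z₀ ^ p = 1 ∧ z₀ ∉ N := by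
    by_contra hno
    push Not at hno
    apply hNt
    rw [eq_top_iff, ← hgen, Subgroup.closure_le]
    rintro a (rfl | rfl)
    · exact hno _ hx
    · exact hno _ hy
  have hz₀1 : z₀ ≠ 1 := by
    rintro rfl
    exact hz₀N N.one_mem
  have hzord : orderOf z₀ = p := orderOf_eq_prime hz₀ hz₀1
  have hP₀card : Nat.card (Subgroup.zpowers z₀) = p := by rw [Nat.card_zpowers, hzord]
  have hP₀p : IsPGroup p (Subgroup.zpowers z₀) := IsPGroup.of_card (n := 1) (by rw [pow_one, hP₀card])
  have hP₀N : Subgroup.zpowers z₀ ⊔ N = ⊤ :=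
    top_of_not_le hp hidx le_sup_right (fun h => hz₀N (h (Subgroup.mem_sup_left (Subgroup.mem_zpowers z₀))))
  have hcardG : Nat.card G = Nat.card N * p := by rw [← hidx]; exact N.card_mul_index.symm
  have hP₀idx : (Subgroup.zpowers z₀).index = Nat.card N := by
    have h1 := (Subgroup.zpowers z₀).card_mul_index
    rw [hP₀card, hcardG, mul_comm] at h1
    exact Nat.eq_of_mul_eq_mul_right hp.pos h1
  have hP₀idx' : ¬ p ∣ (Subgroup.zpowers z₀).index := by rw [hP₀idx]; exact hpN
  let P₀ : Sylow p G := hP₀p.toSylow hP₀idx'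
  have hP₀c : (P₀ : Subgroup G) = Subgroup.zpowers z₀ := hP₀p.toSylow_coe hP₀idx'
  have hstep : ∀ (r : ℕ) [Fact r.Prime] (R : Subgroup G) (P₁ : Sylow p G), r ≠ p → IsPGroup r R → R ≤ N →
      (P₁ : Subgroup G) ≤ Subgroup.normalizer (R : Set G) → (P₁ : Subgroup G) ⊔ R ≠ ⊤ →
      (P₁ : Subgroup G) ≤ Subgroup.centralizer (R : Set G) := by
    intro r _ R P₁ hrp hRp hRN hP₁ hT a ha
    refine Subgroup.mem_centralizer_iff.mpr ?_
    intro b hb
    have hap : a ^ p = 1 := by
      obtain ⟨g, hg⟩ := MulAction.exists_smul_eq G P₀ P₁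
      have h1 : a ∈ (g • P₀ : Sylow p G) := by rw [hg]; exact ha
      obtain ⟨u, hu, rfl⟩ := h1
      have hu' : u ∈ Subgroup.zpowers z₀ := hP₀c ▸ hu
      obtain ⟨k, rfl⟩ := Subgroup.mem_zpowers_iff.mp hu'
      show (g * z₀ ^ k * g⁻¹) ^ p = 1
      rw [conj_pow, ← zpow_natCast, ← zpow_mul, mul_comm, zpow_mul, zpow_natCast, hz₀]
      simp
    exact (hcomm _ hT a (Subgroup.mem_sup_left ha) hap b (Subgroup.mem_sup_right hb) (hRN hb)).symm
  have hPN' : (P₀ : Subgroup G) ⊔ N = ⊤ := by rw [hP₀c]; exact hP₀N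
  rcases frattini_alt N hpN P₀ hPN' hstep with hc | ⟨q, hq, hNq⟩
  · exfalso
    apply hnc
    refine ⟨Subgroup.zpowers z₀, ?_⟩
    ext g
    constructor
    · intro hg
      obtain ⟨k, rfl⟩ := Subgroup.mem_zpowers_iff.mp hg
      show (z₀ ^ k) ^ p = 1
      rw [← zpow_natCast, ← zpow_mul, mul_comm, zpow_mul, zpow_natCast, hz₀, one_zpow]
    · intro hg
      have hgm : g ∈ Subgroup.zpowers z₀ ⊔ N := by rw [hP₀N]; trivial
      obtain ⟨u, hu, n, hn, rfl⟩ := Subgroup.mem_sup_of_normal_right.mp hgm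
      have hcm : Commute u n := by
        have h1 : u ∈ (P₀ : Subgroup G) := by rw [hP₀c]; exact hu
        exact (Subgroup.mem_centralizer_iff.mp (hc h1) n hn).symm
      have hup : u ^ p = 1 := by
        obtain ⟨k, rfl⟩ := Subgroup.mem_zpowers_iff.mp hu
        rw [← zpow_natCast, ← zpow_mul, mul_comm, zpow_mul, zpow_natCast, hz₀, one_zpow]
      have h2 : (u * n) ^ p = 1 := hg
      rw [hcm.mul_pow, hup, one_mul] at h2
      have hn1 : n = 1 := eq_one_of_mem_of_not_dvd N hpN hn (k := 1) (by rw [pow_one]; exact h2)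
      rw [hn1, mul_one]
      exact hu
  · haveI hqf : Fact q.Prime := ⟨hq⟩
    have hqp : q ≠ p := by
      rintro rfl
      obtain ⟨k, hk⟩ := IsPGroup.iff_card.mp hNq
      have hk0 : k ≠ 0 := by
        rintro rfl
        rw [pow_zero] at hk
        exact hNb (Subgroup.eq_bot_of_card_eq _ hk)
      apply hpN
      rw [hk]
      exact dvd_pow_self q hk0
    have hE : IsElementaryAbelian q N := min_normal_elem N hNb hNq hmin
    have hna : ¬ IsMulCommutative G := by
      intro hcm
      apply hxy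
      have hc : Commute x y := hcm.is_comm.comm x y
      rw [hc.mul_pow, hx, hy, one_mul]
    have hcN := card_eq_of_min hq hqp hna N hE hidx hmin
    refine ⟨q, hq, hqp, ?_, N, hNn, hcN, hE, hmin⟩
    rw [← N.card_mul_index, hcN, hidx, mul_comm]
  )

end Cfsg.Agent.S3873
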