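import Cfsg.Statements.S3889
-- import your own Cfsg.Agent.* helpers here

set_option autoImplicit false
open Cfsg

namespace Cfsg.Agent.S3889

/-- A finite abelian group that is the union of a family of proper subgroups any two of which intersect trivially is elementary abelian: its exponent is a prime. -/
theorem result {G : Type*} [CommGroup G] [Finite G] (𝓑 : Set (Subgroup G)) (hprop : ∀ B ∈ 𝓑, B ≠ ⊤)
    (hcov : ∀ g : G, ∃ B ∈ 𝓑, g ∈ B) (hdisj : ∀ B ∈ 𝓑, ∀ C ∈ 𝓑, B ≠ C → B ⊓ C = ⊥) :
    (Monoid.exponent G).Prime := by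
  classical
  -- nontriviality
  haveI hnt : Nontrivial G := by
    by_contra hnt
    rw [not_nontrivial_iff_subsingleton] at hnt
    obtain ⟨B, hB, -⟩ := hcov 1
    exact hprop B hB (Subsingleton.elim _ _)
  obtain ⟨p, hp, hpd⟩ := Nat.exists_prime_and_dvd (n := Nat.card G) (Finite.one_lt_card (α := G)).ne'
  haveI : Fact p.Prime := ⟨hp⟩
  obtain ⟨x, hx⟩ := exists_prime_orderOf_dvd_card' p hpd
  obtain ⟨B, hB, hxB⟩ := hcov x
  have hx1 : x ≠ 1 := by
    rintro rfl
    rw [orderOf_one] at hx
    exact hp.one_lt.ne hx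
  have hxp : x ^ p = 1 := by rw [← hx]; exact pow_orderOf_eq_one x
  have hout : ∀ y : G, y ∉ B → y ^ p = 1 := by
    intro y hy
    obtain ⟨C, hC, hyC⟩ := hcov y
    obtain ⟨D, hD, hxyD⟩ := hcov (x * y)
    have hBC : B ≠ C := by
      rintro rfl
      exact hy hyC
    have hDC : D ≠ C := by
      rintro rfl
      have h1 : x ∈ D := by
        have := D.mul_mem hxyD (D.inv_mem hyC)
        simpa using this
      have h2 : x ∈ B ⊓ D := ⟨hxB, h1⟩
      rw [hdisj B hB D hC hBC, Subgroup.mem_bot] at h2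
      exact hx1 h2
    have h3 : y ^ p ∈ D := by
      have := D.pow_mem hxyD p
      rwa [mul_pow, hxp, one_mul] at this
    have h4 : y ^ p ∈ D ⊓ C := ⟨h3, C.pow_mem hyC p⟩
    rw [hdisj D hD C hC hDC, Subgroup.mem_bot] at h4
    exact h4
  obtain ⟨y₀, hy₀⟩ : ∃ y, y ∉ B := by
    by_contra hcon
    push Not at hcon
    exact hprop B hB (eq_top_iff.mpr (fun z _ => hcon z))
  have hall : ∀ z : G, z ^ p = 1 := by
    intro z
    by_cases hz : z ∈ B
    · have h1 : z * y₀ ∉ B := by
        intro h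
        apply hy₀
        have := B.mul_mem (B.inv_mem hz) h
        simpa using this
      have h2 := hout _ h1
      rwa [mul_pow, hout y₀ hy₀, mul_one] at h2
    · exact hout z hz
  have hexp : Monoid.exponent G = p := by
    rw [Monoid.exponent_eq_prime_iff hp]
    intro g hg
    exact orderOf_eq_prime (hall g) hg
  rw [hexp]
  exact hp

end Cfsg.Agent.S3889
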