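import Mathlib
import Cfsg.Statements.S3890
import Cfsg.Agent.Lib.H6Cover
-- import your own Cfsg.Agent.* helpers here

set_option autoImplicit false
open Cfsg

namespace Cfsg.Agent.S3890

/-- A cover of a group is a finite set of proper subgroups whose union is the whole group; it is minimal when no cover has fewer members, and nilpotent when all its members are nilpotent. Let G be a finite group with trivial center admitting a nilpotent minimal cover 𝓐, and let P be an abelian Sylow p-subgroup of G that is not normal. Then either P is elementary abelian of order greater than p, or P is a Sylow p-subgroup of some member A of 𝓐, the normalizer N of P is a maximal subgroup of G, N meets each of its conjugates by elements outside N in a subgroup of order prime to p, and the centralizer of P equals A. -/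
theorem result {G : Type*} [Group G] [Finite G] (hZ : Subgroup.center G = ⊥) (𝓐 : Finset (Subgroup G))
    (h𝓐 : ((∀ A ∈ 𝓐, A ≠ ⊤) ∧ (∀ g : G, ∃ A ∈ 𝓐, g ∈ A)) ∧ (∀ 𝓑 : Finset (Subgroup G), (∀ A ∈ 𝓑, A ≠ ⊤) ∧ (∀ g : G, ∃ A ∈ 𝓑, g ∈ A) → 𝓐.card ≤ 𝓑.card) ∧ (∀ A ∈ 𝓐, Group.IsNilpotent ↥A)) {p : ℕ} [Fact p.Prime] (P : Sylow p G) (hab : IsMulCommutative ↥(P : Subgroup G))
    (hnn : ¬ (P : Subgroup G).Normal) :
    (Cfsg.IsElementaryAbelian p (P : Subgroup G) ∧ p < Nat.card ↥(P : Subgroup G)) ∨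
    (∃ A ∈ 𝓐, (P : Subgroup G) ≤ A ∧ ¬ p ∣ ((P : Subgroup G).subgroupOf A).index ∧
      IsCoatom (Subgroup.normalizer ((P : Subgroup G) : Set G)) ∧
      (∀ g : G, g ∉ Subgroup.normalizer ((P : Subgroup G) : Set G) →
        ¬ p ∣ Nat.card ↥(Subgroup.normalizer ((P : Subgroup G) : Set G) ⊓
          (Subgroup.normalizer ((P : Subgroup G) : Set G)).map (MulAut.conj g).toMonoidHom)) ∧
      Subgroup.centralizer ((P : Subgroup G) : Set G) = A) := by
  obtain ⟨⟨h1, h2⟩, h3, h4⟩ := h𝓐
  have hcov : Cfsg.Agent.Lib.H6Cover.MinCov 𝓐 := ⟨h1, h2, h3, h4⟩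
  by_cases hel : Cfsg.IsElementaryAbelian p (P : Subgroup G) ∧ p < Nat.card ↥(P : Subgroup G)
  · exact Or.inl hel
  right
  have hH : (∃ x, (P : Subgroup G) ≤ Subgroup.zpowers x) ∨ ∃ x ∈ (P : Subgroup G), x ^ p ≠ 1 := by
    by_cases hx : ∃ x ∈ (P : Subgroup G), x ^ p ≠ 1
    · exact Or.inr hx
    left
    push_neg at hx
    have hle : Nat.card ↥(P : Subgroup G) ≤ p := by
      by_contra hlt
      push_neg at hlt
      exact hel ⟨⟨hab, hx⟩, hlt⟩
    have hne : (P : Subgroup G) ≠ ⊥ := by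
      intro hb
      apply hnn
      rw [hb]
      infer_instance
    obtain ⟨k, hk⟩ := IsPGroup.iff_card.1 P.isPGroup'
    have hk0 : k ≠ 0 := by
      rintro rfl
      rw [pow_zero] at hk
      exact hne (Subgroup.eq_bot_of_card_eq _ hk)
    have hpp : p.Prime := Fact.out
    have hk1 : k = 1 := by
      by_contra hk2
      have h5 : p ^ 2 ≤ p ^ k := Nat.pow_le_pow_right hpp.pos (by omega)
      have h6 : p < p ^ 2 := by
        have := hpp.one_lt
        nlinarith
      omega
    have hcp : Nat.card ↥(P : Subgroup G) = p := by rw [hk, hk1, pow_one]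
    haveI : Fact (Nat.card ↥(P : Subgroup G)).Prime := ⟨by rw [hcp]; exact hpp⟩
    have hc : IsCyclic ↥(P : Subgroup G) := isCyclic_of_prime_card rfl
    obtain ⟨⟨x, hxQ⟩, hx'⟩ := hc.exists_generator
    refine ⟨x, ?_⟩
    intro y hy
    obtain ⟨k, hk⟩ := Subgroup.mem_zpowers_iff.1 (hx' ⟨y, hy⟩)
    exact Subgroup.mem_zpowers_iff.2 ⟨k, congrArg Subtype.val hk⟩
  obtain ⟨c1, c2, c3, c4, c5⟩ := Cfsg.Agent.Lib.H6Cover.conclusions hZ hcov P hab hnn hH
  refine ⟨_, c1, c2, ?_, c3, c4, rfl⟩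
  intro hd
  apply P.not_dvd_index
  have h6 : ((P : Subgroup G).subgroupOf (Subgroup.centralizer ((P : Subgroup G) : Set G))).index ∣
      (P : Subgroup G).index := by
    have h7 := Subgroup.relIndex_mul_index c2
    exact ⟨_, h7.symm⟩
  exact hd.trans h6

end Cfsg.Agent.S3890
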