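import Mathlib
import Cfsg.Statements.S3892
import Cfsg.Agent.Lib.H6Cover
-- import your own Cfsg.Agent.* helpers here

set_option autoImplicit false
open Cfsg

namespace Cfsg.Agent.S3892

open Equiv Equiv.Perm Cfsg.Agent.Lib.H6Cover

/-- A cover with nilpotent members rules out a small Sylow subgroup with an overgroup `D` of its
centralizer moving it. -/
theorem no_cover {G : Type*} [Group G] [Finite G] (hZ : Subgroup.center G = ⊥)
    {𝓐 : Finset (Subgroup G)} (h : MinCov 𝓐) {p : ℕ} [hp : Fact p.Prime] {x : G}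
    (hx : orderOf x = p) (hs : ¬ p ^ 2 ∣ Nat.card G) {D : Subgroup G} (hD : D ≠ ⊤)
    (hC : Subgroup.centralizer ({x} : Set G) ≤ D) {c : G} (hcD : c ∈ D)
    (hcx : c * x * c⁻¹ ∉ Subgroup.zpowers x) : False := by
  have hcard : Nat.card (Subgroup.zpowers x) = p := by rw [Nat.card_zpowers, hx]
  have hpg : IsPGroup p (Subgroup.zpowers x) := IsPGroup.of_card (n := 1) (by rw [hcard, pow_one])
  have hidx : ¬ p ∣ (Subgroup.zpowers x).index := by
    intro hd
    apply hs
    rw [← Subgroup.card_mul_index (Subgroup.zpowers x), hcard, pow_two]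
    exact Nat.mul_dvd_mul_left _ hd
  let P : Sylow p G := hpg.toSylow hidx
  have hPx : (P : Subgroup G) = Subgroup.zpowers x := rfl
  have hab : IsMulCommutative ↥(P : Subgroup G) := by
    rw [hPx]; infer_instance
  have hnn : ¬ (P : Subgroup G).Normal := by
    intro hn
    apply hcx
    rw [← hPx]
    apply hn.conj_mem
    rw [hPx]
    exact Subgroup.mem_zpowers x
  obtain ⟨-, -, -, -, c5⟩ := conclusions hZ h P hab hnn (Or.inl ⟨x, by rw [hPx]⟩)
  obtain ⟨M, hM, hDM⟩ := (eq_top_or_exists_le_coatom D).resolve_left hD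
  have hCM : Subgroup.centralizer ((P : Subgroup G) : Set G) ≤ M := by
    refine le_trans ?_ (hC.trans hDM)
    apply Subgroup.centralizer_le
    rintro _ rfl
    rw [hPx]
    exact Subgroup.mem_zpowers _
  have hMN := c5 M hM hCM
  have hcN : c ∈ Subgroup.normalizer ((P : Subgroup G) : Set G) := by
    rw [← hMN]; exact hDM hcD
  apply hcx
  rw [← hPx]
  exact (Subgroup.mem_normalizer_iff.1 hcN x).1 (by rw [hPx]; exact Subgroup.mem_zpowers x)

theorem sq_not_dvd_factorial {p : ℕ} (hp : p.Prime) : ∀ n : ℕ, n < 2 * p → ¬ p ^ 2 ∣ n.factorial := by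
  intro n
  induction n with
  | zero =>
    intro _ hd
    have := hp.two_le
    have h1 : 1 < p ^ 2 := Nat.one_lt_pow (by norm_num) hp.one_lt
    have h2 := Nat.le_of_dvd (by simp) hd
    simp at h2
    omega
  | succ n ih =>
    intro hn hd
    by_cases h1 : n + 1 < p
    · have h2 : p ∣ (n + 1).factorial := (dvd_pow_self p (by norm_num)).trans hd
      have := hp.dvd_factorial.1 h2
      omega
    by_cases h2 : n + 1 = p
    · rw [Nat.factorial_succ, h2, pow_two] at hd
      have h3 := Nat.dvd_of_mul_dvd_mul_left hp.pos hd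
      have := hp.dvd_factorial.1 h3
      omega
    · apply ih (by omega)
      rw [Nat.factorial_succ] at hd
      have hco : Nat.Coprime (p ^ 2) (n + 1) := by
        apply Nat.Coprime.pow_left
        rw [Nat.Prime.coprime_iff_not_dvd hp]
        intro hdv
        obtain ⟨k, hk⟩ := hdv
        have hk1 : k = 1 ∨ k = 0 ∨ 2 ≤ k := by omega
        rcases hk1 with rfl | rfl | hk2
        · omega
        · omega
        · have : p * 2 ≤ p * k := Nat.mul_le_mul_left _ hk2
          omega
      exact hco.dvd_of_dvd_mul_left hd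

section
variable {α : Type*} [Fintype α] [DecidableEq α]

/-- Setwise stabilizer of a finite set. -/
def setStab (S : Finset α) : Subgroup (Perm α) where
  carrier := {g | ∀ a, g a ∈ S ↔ a ∈ S}
  mul_mem' := by
    intro g h hg hh a
    rw [Perm.mul_apply, hg, hh]
  one_mem' := fun _ => Iff.rfl
  inv_mem' := by
    intro g hg a
    have := hg (g⁻¹ a)
    simpa using this.symm

theorem swap_mem_setStab {S : Finset α} {u v : α} (hu : u ∈ S) (hv : v ∈ S) :
    swap u v ∈ setStab S := by
  intro a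
  by_cases h1 : a = u
  · subst h1; simp [hu, hv]
  by_cases h2 : a = v
  · subst h2; simp [hu, hv]
  rw [swap_apply_of_ne_of_ne h1 h2]

/-- The main case. -/
theorem main_case {G : Type*} [Group G] [Finite G] (hZ : Subgroup.center G = ⊥)
    {𝓐 : Finset (Subgroup G)} (h : MinCov 𝓐) (ι : G →* Perm α) (hι : Function.Injective ι)
    (hsurj : ∀ t : Perm α, Perm.sign t = 1 → ∃ g, ι g = t) {p : ℕ} (hp : p.Prime) (hp5 : 5 ≤ p)
    (hlt : p < Fintype.card α) (hlt2 : Fintype.card α < 2 * p) : False := by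
  classical
  haveI : Fact p.Prime := ⟨hp⟩
  obtain ⟨x0, hx0⟩ : ∃ g : Perm α, g.cycleType = {p} := by
    rw [Equiv.Perm.exists_with_cycleType_iff]
    constructor
    · simpa using hlt.le
    · intro a ha
      rw [Multiset.mem_singleton.1 ha]
      omega
  have hcyc : x0.IsCycle := by
    rw [← card_cycleType_eq_one, hx0]; rfl
  have hsup : x0.support.card = p := by
    rw [← sum_cycleType, hx0]; simp
  have hord0 : orderOf x0 = p := by
    rw [hcyc.orderOf, hsup]
  have hodd : Odd p := hp.odd_of_ne_two (by omega)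
  have hsign0 : Perm.sign x0 = 1 := by
    rw [hcyc.sign, hsup, hodd.neg_one_pow]; simp
  obtain ⟨x, hx⟩ := hsurj x0 hsign0
  have hordx : orderOf x = p := by
    rw [← hord0, ← hx]
    exact (orderOf_injective ι hι x).symm
  -- the key property of the prime order element
  have hfix : ∀ (j : ℤ) (a : α), a ∈ x0.support → (x0 ^ j) a = a → x0 ^ j = 1 := by
    intro j a ha hj
    by_contra hne
    have h1 : ¬ (p : ℤ) ∣ j := by
      intro hd
      apply hne
      obtain ⟨m, rfl⟩ := hd
      rw [zpow_mul, zpow_natCast, ← hord0, pow_orderOf_eq_one, one_zpow]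
    have hco : IsCoprime (j) (p : ℤ) := by
      have := (Nat.prime_iff_prime_int.1 hp).coprime_iff_not_dvd.2 h1
      exact this.symm
    obtain ⟨u, v, huv⟩ := hco
    have h2 : x0 = (x0 ^ j) ^ u := by
      have h3 : j * u = 1 - v * p := by linear_combination huv
      rw [← zpow_mul, h3, zpow_sub, zpow_one, zpow_mul, zpow_natCast]
      have h4 : x0 ^ v = x0 ^ v := rfl
      have h5 : (x0 ^ v) ^ p = 1 := by
        rw [← zpow_natCast, ← zpow_mul, mul_comm, zpow_mul, zpow_natCast, ← hord0, pow_orderOf_eq_one, one_zpow]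
      rw [h5]; simp
    have h6 : ∀ u : ℤ, ((x0 ^ j) ^ u) a = a := by
      intro u
      have : Function.IsFixedPt (x0 ^ j) a := hj
      exact (Equiv.Perm.zpow_apply_eq_self_of_apply_eq_self hj u)
    have h7 := h6 u
    rw [← h2] at h7
    exact (Equiv.Perm.mem_support.1 ha) h7
  have hfixn : ∀ (j : ℕ) (a : α), a ∈ x0.support → (x0 ^ j) a = a → p ∣ j := by
    intro j a ha hj
    have h1 := hfix (j : ℤ) a ha (by rw [zpow_natCast]; exact hj)
    rw [zpow_natCast] at h1
    rw [← hord0]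
    exact orderOf_dvd_of_pow_eq_one h1
  have hS : x0.support.Nonempty := by
    rw [← Finset.card_pos, hsup]; omega
  obtain ⟨a0, ha0⟩ := hS
  let a1 := x0 a0
  let a2 := x0 a1
  let a3 := x0 a2
  have ha1 : a1 ∈ x0.support := Equiv.Perm.apply_mem_support.2 ha0
  have ha2 : a2 ∈ x0.support := Equiv.Perm.apply_mem_support.2 ha1
  have h10 : a1 ≠ a0 := Equiv.Perm.mem_support.1 ha0
  have h21 : a2 ≠ a1 := Equiv.Perm.mem_support.1 ha1
  have h32 : a3 ≠ a2 := Equiv.Perm.mem_support.1 ha2
  have h20 : a2 ≠ a0 := by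
    intro he
    have := hfixn 2 a0 ha0 (by rw [pow_two]; exact he)
    have := Nat.le_of_dvd (by norm_num) this
    omega
  have h31 : a3 ≠ a1 := by
    intro he
    have := hfixn 2 a1 ha1 (by rw [pow_two]; exact he)
    have := Nat.le_of_dvd (by norm_num) this
    omega
  have h30 : a3 ≠ a0 := by
    intro he
    have := hfixn 3 a0 ha0 (by
      rw [pow_succ, pow_two]; exact he)
    have := Nat.le_of_dvd (by norm_num) this
    omega
  let c0 : Perm α := swap a0 a1 * swap a1 a2
  have hc0a0 : c0 a0 = a1 := by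
    simp only [c0, Perm.mul_apply]
    rw [swap_apply_of_ne_of_ne h10.symm h20.symm, swap_apply_left]
  have hc0a1 : c0 a1 = a2 := by
    simp only [c0, Perm.mul_apply]
    rw [swap_apply_left, swap_apply_of_ne_of_ne h20 h21]
  have hc0a2 : c0 a2 = a0 := by
    simp only [c0, Perm.mul_apply]
    rw [swap_apply_right, swap_apply_right]
  have hc0a3 : c0 a3 = a3 := by
    simp only [c0, Perm.mul_apply]
    rw [swap_apply_of_ne_of_ne h31 h32, swap_apply_of_ne_of_ne h30 h31]
  have hsignc : Perm.sign c0 = 1 := by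
    simp only [c0, map_mul]
    rw [sign_swap h10.symm, sign_swap h21.symm]
    rfl
  obtain ⟨c, hc⟩ := hsurj c0 hsignc
  let D : Subgroup G := (setStab x0.support).comap ι
  have hcD : c ∈ D := by
    change ι c ∈ setStab x0.support
    rw [hc]
    exact (setStab x0.support).mul_mem (swap_mem_setStab ha0 ha1) (swap_mem_setStab ha1 ha2)
  -- `D` is proper
  obtain ⟨b, hb⟩ : ∃ b, b ∉ x0.support := by
    by_contra hall
    push_neg at hall
    have : x0.support = Finset.univ := Finset.eq_univ_iff_forall.2 hall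
    rw [this, Finset.card_univ] at hsup
    omega
  have hb0 : b ≠ a0 := fun he => hb (he ▸ ha0)
  have hb1 : b ≠ a1 := fun he => hb (he ▸ ha1)
  let t0 : Perm α := swap a0 b * swap a0 a1
  have hsignt : Perm.sign t0 = 1 := by
    simp only [t0, map_mul]
    rw [sign_swap hb0.symm, sign_swap h10.symm]
    rfl
  obtain ⟨t, ht⟩ := hsurj t0 hsignt
  have hD : D ≠ ⊤ := by
    intro htop
    have h1 : t ∈ D := by rw [htop]; trivial
    have h2 : ι t ∈ setStab x0.support := h1
    rw [ht] at h2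
    have h3 := (h2 a1).2 ha1
    have h4 : t0 a1 = b := by
      simp only [t0, Perm.mul_apply]
      rw [swap_apply_right, swap_apply_left]
    rw [h4] at h3
    exact hb h3
  -- the centralizer lies in `D`
  have hC : Subgroup.centralizer ({x} : Set G) ≤ D := by
    intro y hy a
    have h1 : y * x = x * y := Subgroup.mem_centralizer_singleton_iff.1 hy
    have h2 : ι y * x0 = x0 * ι y := by
      rw [← hx, ← map_mul, ← map_mul, h1]
    have h3 : x0 (ι y a) = ι y (x0 a) := by
      have := congrArg (fun f : Perm α => f a) h2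
      simpa using this.symm
    simp only [Equiv.Perm.mem_support]
    rw [h3]
    exact (ι y).injective.ne_iff
  -- `c` moves the subgroup
  have hcx : c * x * c⁻¹ ∉ Subgroup.zpowers x := by
    intro hmem
    obtain ⟨k, hk⟩ := Subgroup.mem_zpowers_iff.1 hmem
    have h1 : x0 ^ k = c0 * x0 * c0⁻¹ := by
      rw [← hx, ← hc, ← map_zpow, hk]
      simp
    have h2 : (x0 ^ k) a1 = a2 := by
      rw [h1]
      simp only [Perm.mul_apply]
      have : c0⁻¹ a1 = a0 := by rw [← hc0a0]; simp
      rw [this]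
      exact hc0a1
    have h3 : (x0 ^ (k - 1)) a1 = a1 := by
      have h4 : x0 ^ k = x0 * x0 ^ (k - 1) := by
        rw [← zpow_one_add]; congr 1; ring
      rw [h4, Perm.mul_apply] at h2
      exact x0.injective h2
    have h4 := hfix (k - 1) a1 ha1 h3
    have h5 : x0 ^ k = x0 := by
      have h6 : x0 ^ k = x0 * x0 ^ (k - 1) := by
        rw [← zpow_one_add]; congr 1; ring
      rw [h6, h4, mul_one]
    have h6 : c0 * x0 * c0⁻¹ = x0 := by rw [← h1, h5]
    have h7 : (c0 * x0 * c0⁻¹) a0 = a3 := by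
      simp only [Perm.mul_apply]
      have : c0⁻¹ a0 = a2 := by rw [← hc0a2]; simp
      rw [this]
      exact hc0a3
    rw [h6] at h7
    exact h31 h7.symm
  -- the order of `G`
  have hs : ¬ p ^ 2 ∣ Nat.card G := by
    intro hd
    apply sq_not_dvd_factorial hp _ hlt2
    rw [← Fintype.card_perm, ← Nat.card_eq_fintype_card]
    have h1 : Nat.card ι.range = Nat.card G := (Nat.card_congr (MonoidHom.ofInjective hι).toEquiv).symm
    exact hd.trans (h1 ▸ Subgroup.card_subgroup_dvd_card ι.range)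
  exact no_cover hZ h hordx hs hD hC hcD hcx

theorem center_perm (h3 : 3 ≤ Fintype.card α) : Subgroup.center (Perm α) = ⊥ := by
  classical
  rw [eq_bot_iff]
  intro y hy
  rw [Subgroup.mem_bot]
  by_contra hne
  obtain ⟨a, ha⟩ : ∃ a, y a ≠ a := by
    by_contra hall
    push_neg at hall
    exact hne (Equiv.ext hall)
  obtain ⟨c, hc1, hc2⟩ : ∃ c, c ≠ y a ∧ c ≠ a := by
    by_contra hall
    push_neg at hall
    have hsub : (Finset.univ : Finset α) ⊆ {y a, a} := by
      intro c _
      by_cases h : c = y a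
      · simp [h]
      · simp [hall c h]
    have h1 := Finset.card_le_card hsub
    have h2 : ({y a, a} : Finset α).card ≤ 2 := Finset.card_le_two
    rw [Finset.card_univ] at h1
    omega
  have h1 := (Subgroup.mem_center_iff.1 hy) (swap (y a) c)
  have h2 := congrArg (fun f : Perm α => f a) h1
  simp only [Perm.mul_apply] at h2
  rw [swap_apply_left, swap_apply_of_ne_of_ne ha.symm hc2.symm] at h2
  exact hc1 h2

end

theorem mincov_of {G : Type*} [Group G] [Finite G] {𝓐 : Finset (Subgroup G)}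
    (h𝓐 : ((∀ A ∈ 𝓐, A ≠ ⊤) ∧ (∀ g : G, ∃ A ∈ 𝓐, g ∈ A)) ∧
      (∀ 𝓑 : Finset (Subgroup G), (∀ A ∈ 𝓑, A ≠ ⊤) ∧ (∀ g : G, ∃ A ∈ 𝓑, g ∈ A) → 𝓐.card ≤ 𝓑.card) ∧
      (∀ A ∈ 𝓐, Group.IsNilpotent ↥A)) : MinCov 𝓐 :=
  ⟨h𝓐.1.1, h𝓐.1.2, h𝓐.2.1, h𝓐.2.2⟩

/-- A suitable prime from Bertrand's postulate. -/
theorem exists_prime {n : ℕ} (hn : 6 ≤ n) : ∃ p : ℕ, p.Prime ∧ 5 ≤ p ∧ p < n ∧ n < 2 * p := by
  obtain ⟨p, hp, h1, h2⟩ := Nat.exists_prime_lt_and_le_two_mul (n / 2) (by omega)
  refine ⟨p, hp, ?_, ?_, by omega⟩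
  · by_contra hlt
    push_neg at hlt
    interval_cases p <;> first | omega | (exact absurd hp (by norm_num))
  · have h3 : p ≠ n := by
      rintro rfl
      have h4 : p % 2 = 0 := by omega
      have := (hp.eq_two_or_odd).resolve_right (by omega)
      omega
    omega

set_option maxRecDepth 100000 in
theorem dec_s4 : ∀ y : Perm (Fin 4), y * (swap 0 1 * swap 1 2) = (swap 0 1 * swap 1 2) * y → Perm.sign y = 1 := by decide

set_option maxRecDepth 100000 in
theorem dec_s5 : ∀ y : Perm (Fin 5), y * (swap 0 1 * swap 1 2 * swap 2 3 * swap 3 4) = (swap 0 1 * swap 1 2 * swap 2 3 * swap 3 4) * y → Perm.sign y = 1 := by decide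

set_option maxRecDepth 100000 in
theorem dec_a5 : ∀ y : Perm (Fin 5), Perm.sign y = 1 → y * (swap 0 1 * swap 1 2) = (swap 0 1 * swap 1 2) * y → y 4 = 4 := by decide

theorem not_zpowers_of_not_comm {G : Type*} [Group G] {x y : G} (h : y * x ≠ x * y) :
    y ∉ Subgroup.zpowers x := by
  intro hy
  obtain ⟨k, rfl⟩ := Subgroup.mem_zpowers_iff.1 hy
  exact h ((Commute.refl x).zpow_left k).eq

theorem no_s4 {𝓐 : Finset (Subgroup (Perm (Fin 4)))} (h : MinCov 𝓐) : False := by
  haveI : Fact (Nat.Prime 3) := ⟨Nat.prime_three⟩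
  have hZ := center_perm (α := Fin 4) (by simp)
  have hord : orderOf (swap 0 1 * swap 1 2 : Perm (Fin 4)) = 3 :=
    orderOf_eq_prime (by decide) (by decide)
  refine no_cover hZ h hord ?_ (D := alternatingGroup (Fin 4)) ?_ ?_
    (c := swap 0 1 * swap 2 3) ?_ ?_
  · rw [Nat.card_eq_fintype_card, Fintype.card_perm]
    decide
  · intro htop
    have h1 : (swap 0 1 : Perm (Fin 4)) ∈ alternatingGroup (Fin 4) := by rw [htop]; trivial
    have h2 := Equiv.Perm.mem_alternatingGroup.1 h1
    revert h2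
    decide
  · intro y hy
    exact Equiv.Perm.mem_alternatingGroup.2 (dec_s4 y (Subgroup.mem_centralizer_singleton_iff.1 hy))
  · exact Equiv.Perm.mem_alternatingGroup.2 (by decide)
  · apply not_zpowers_of_not_comm
    decide

theorem no_s5 {𝓐 : Finset (Subgroup (Perm (Fin 5)))} (h : MinCov 𝓐) : False := by
  haveI : Fact (Nat.Prime 5) := ⟨by norm_num⟩
  have hZ := center_perm (α := Fin 5) (by simp)
  have hord : orderOf (swap 0 1 * swap 1 2 * swap 2 3 * swap 3 4 : Perm (Fin 5)) = 5 :=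
    orderOf_eq_prime (by decide) (by decide)
  refine no_cover hZ h hord ?_ (D := alternatingGroup (Fin 5)) ?_ ?_
    (c := swap 0 1 * swap 1 2) ?_ ?_
  · rw [Nat.card_eq_fintype_card, Fintype.card_perm]
    decide
  · intro htop
    have h1 : (swap 0 1 : Perm (Fin 5)) ∈ alternatingGroup (Fin 5) := by rw [htop]; trivial
    have h2 := Equiv.Perm.mem_alternatingGroup.1 h1
    revert h2
    decide
  · intro y hy
    exact Equiv.Perm.mem_alternatingGroup.2 (dec_s5 y (Subgroup.mem_centralizer_singleton_iff.1 hy))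
  · exact Equiv.Perm.mem_alternatingGroup.2 (by decide)
  · apply not_zpowers_of_not_comm
    decide

theorem no_a5 {𝓐 : Finset (Subgroup (alternatingGroup (Fin 5)))} (h : MinCov 𝓐) : False := by
  haveI : Fact (Nat.Prime 3) := ⟨Nat.prime_three⟩
  have hZ := alternatingGroup.center_eq_bot (α := Fin 5) (by simp)
  have hxm : (swap 0 1 * swap 1 2 : Perm (Fin 5)) ∈ alternatingGroup (Fin 5) :=
    Equiv.Perm.mem_alternatingGroup.2 (by decide)
  let x : alternatingGroup (Fin 5) := ⟨_, hxm⟩
  have hord : orderOf x = 3 := by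
    rw [← Subgroup.orderOf_coe]
    change orderOf (swap 0 1 * swap 1 2 : Perm (Fin 5)) = 3
    exact orderOf_eq_prime (by decide) (by decide)
  let D : Subgroup (alternatingGroup (Fin 5)) :=
    (MulAction.stabilizer (Perm (Fin 5)) (4 : Fin 5)).comap (alternatingGroup (Fin 5)).subtype
  have hm1 : (swap 0 1 * swap 1 3 : Perm (Fin 5)) ∈ alternatingGroup (Fin 5) :=
    Equiv.Perm.mem_alternatingGroup.2 (by decide)
  have hm2 : (swap 0 1 * swap 1 4 : Perm (Fin 5)) ∈ alternatingGroup (Fin 5) :=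
    Equiv.Perm.mem_alternatingGroup.2 (by decide)
  refine no_cover hZ h hord ?_ (D := D) ?_ ?_ (c := ⟨_, hm1⟩) ?_ ?_
  · have h1 : 2 * Nat.card (alternatingGroup (Fin 5)) = 120 := by
      rw [two_mul_nat_card_alternatingGroup]
      rw [Nat.card_eq_fintype_card, Fintype.card_perm]; decide
    have h2 : Nat.card (alternatingGroup (Fin 5)) = 60 := by omega
    rw [h2]
    decide
  · intro htop
    have h1 : (⟨_, hm2⟩ : alternatingGroup (Fin 5)) ∈ D := by rw [htop]; trivial
    have h2 : (swap 0 1 * swap 1 4 : Perm (Fin 5)) • (4 : Fin 5) = 4 := h1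
    revert h2
    decide
  · intro y hy
    have h1 : y * x = x * y := Subgroup.mem_centralizer_singleton_iff.1 hy
    have h2 : y.1 * (swap (0 : Fin 5) 1 * swap 1 2) = (swap (0 : Fin 5) 1 * swap 1 2) * y.1 :=
      congrArg Subtype.val h1
    exact dec_a5 y (Equiv.Perm.mem_alternatingGroup.1 y.2) h2
  · change (swap 0 1 * swap 1 3 : Perm (Fin 5)) • (4 : Fin 5) = 4
    decide
  · apply not_zpowers_of_not_comm
    intro h3
    have h4 : (swap 0 1 * swap 1 3 : Perm (Fin 5)) * (swap 0 1 * swap 1 2) * (swap 0 1 * swap 1 3)⁻¹ * (swap 0 1 * swap 1 2) =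
        (swap 0 1 * swap 1 2) * ((swap 0 1 * swap 1 3) * (swap 0 1 * swap 1 2) * (swap 0 1 * swap 1 3)⁻¹) :=
      congrArg Subtype.val h3
    revert h4
    decide


/-- A cover of a group is a finite set of proper subgroups whose union is the whole group; it is minimal when no cover has fewer members, and nilpotent when all its members are nilpotent. The alternating groups of degree at least 5 and the symmetric groups of degree at least 4 have no nilpotent minimal cover. -/
theorem result (n : ℕ) :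
    (5 ≤ n → ¬ ∃ 𝓐 : Finset (Subgroup ↥(alternatingGroup (Fin n))), ((∀ A ∈ 𝓐, A ≠ ⊤) ∧ (∀ g : ↥(alternatingGroup (Fin n)), ∃ A ∈ 𝓐, g ∈ A)) ∧ (∀ 𝓑 : Finset (Subgroup ↥(alternatingGroup (Fin n))), (∀ A ∈ 𝓑, A ≠ ⊤) ∧ (∀ g : ↥(alternatingGroup (Fin n)), ∃ A ∈ 𝓑, g ∈ A) → 𝓐.card ≤ 𝓑.card) ∧ (∀ A ∈ 𝓐, Group.IsNilpotent ↥A)) ∧
    (4 ≤ n → ¬ ∃ 𝓐 : Finset (Subgroup (Equiv.Perm (Fin n))), ((∀ A ∈ 𝓐, A ≠ ⊤) ∧ (∀ g : (Equiv.Perm (Fin n)), ∃ A ∈ 𝓐, g ∈ A)) ∧ (∀ 𝓑 : Finset (Subgroup (Equiv.Perm (Fin n))), (∀ A ∈ 𝓑, A ≠ ⊤) ∧ (∀ g : (Equiv.Perm (Fin n)), ∃ A ∈ 𝓑, g ∈ A) → 𝓐.card ≤ 𝓑.card) ∧ (∀ A ∈ 𝓐, Group.IsNilpotent ↥A)) := by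
  constructor
  · rintro hn ⟨𝓐, h𝓐⟩
    have hcov := mincov_of h𝓐
    by_cases h5 : n = 5
    · subst h5
      exact no_a5 hcov
    · have h6 : 6 ≤ n := by omega
      obtain ⟨p, hp, hp5, hlt, hlt2⟩ := exists_prime h6
      refine main_case (α := Fin n) (alternatingGroup.center_eq_bot (by simpa using by omega)) hcov
        (alternatingGroup (Fin n)).subtype (Subgroup.subtype_injective _) ?_ hp hp5 (by simpa using hlt)
        (by simpa using hlt2)
      intro t ht
      exact ⟨⟨t, Equiv.Perm.mem_alternatingGroup.2 ht⟩, rfl⟩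
  · rintro hn ⟨𝓐, h𝓐⟩
    have hcov := mincov_of h𝓐
    by_cases h4 : n = 4
    · subst h4
      exact no_s4 hcov
    by_cases h5 : n = 5
    · subst h5
      exact no_s5 hcov
    · have h6 : 6 ≤ n := by omega
      obtain ⟨p, hp, hp5, hlt, hlt2⟩ := exists_prime h6
      refine main_case (α := Fin n) (center_perm (by simpa using by omega)) hcov
        (MonoidHom.id _) Function.injective_id ?_ hp hp5 (by simpa using hlt)
        (by simpa using hlt2)
      intro t _
      exact ⟨t, rfl⟩

end Cfsg.Agent.S3892
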