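import Mathlib
import Cfsg.Statements.S4002
import Cfsg.Agent.S3633
-- import your own Cfsg.Agent.* helpers here

set_option autoImplicit false
open Cfsg

namespace Cfsg.Agent.S4002

private lemma three_primes (n : ℕ) (hn : 7 ≤ n) :
    ∃ a b c : ℕ, a.Prime ∧ b.Prime ∧ c.Prime ∧ a ≠ b ∧ a ≠ c ∧ b ≠ c ∧ a ≤ n ∧ b ≤ n ∧ c ≤ n ∧
      n < a * b ∧ n < a * c ∧ n < b * c := by
  by_cases h1 : n ≤ 14
  · exact ⟨3, 5, 7, by norm_num, by norm_num, by norm_num, by norm_num, by norm_num, by norm_num,
      by omega, by omega, by omega, by omega, by omega, by omega⟩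
  by_cases h2 : n ≤ 34
  · exact ⟨5, 7, 11, by norm_num, by norm_num, by norm_num, by norm_num, by norm_num, by norm_num,
      by omega, by omega, by omega, by omega, by omega, by omega⟩
  by_cases h3 : n ≤ 76
  · exact ⟨7, 11, 13, by norm_num, by norm_num, by norm_num, by norm_num, by norm_num, by norm_num,
      by omega, by omega, by omega, by omega, by omega, by omega⟩
  obtain ⟨c, hc, hc1, hc2⟩ := Nat.exists_prime_lt_and_le_two_mul (n / 2) (by omega)
  obtain ⟨b, hb, hb1, hb2⟩ := Nat.exists_prime_lt_and_le_two_mul (n / 4) (by omega)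
  obtain ⟨a, ha, ha1, ha2⟩ := Nat.exists_prime_lt_and_le_two_mul (n / 8) (by omega)
  have ha4 : 4 ≤ a := by omega
  have hb4 : 4 * b > n := by omega
  have hc4 : 4 * c > n := by omega
  have hab : a * b ≥ 4 * b := Nat.mul_le_mul_right b ha4
  have hac : a * c ≥ 4 * c := Nat.mul_le_mul_right c ha4
  have hbc : b * c ≥ 4 * c := Nat.mul_le_mul_right c (by omega)
  exact ⟨a, b, c, ha, hb, hc, by omega, by omega, by omega, by omega, by omega, by omega, by omega, by omega, by omega⟩

/-- If the set of element orders of a finite group G is {1, 2, …, n} with n ≥ 7, then G is not solvable. -/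
theorem result {G : Type*} [Group G] [Finite G] (n : ℕ) (hn : 7 ≤ n) (h : Set.range (orderOf : G → ℕ) = {k : ℕ | 1 ≤ k ∧ k ≤ n}) : ¬ Group.IsSolvable G := by
  classical
  obtain ⟨a, b, c, ha, hb, hc, hab, hac, hbc, han, hbn, hcn, h1, h2, h3⟩ := three_primes n hn
  have hle : ∀ x : G, orderOf x ≤ n := by
    intro x
    have : orderOf x ∈ Set.range (orderOf : G → ℕ) := ⟨x, rfl⟩
    rw [h] at this
    exact this.2
  have hdvd : ∀ k : ℕ, k.Prime → k ≤ n → k ∣ Nat.card G := by
    intro k hk hkn
    have : k ∈ Set.range (orderOf : G → ℕ) := by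
      rw [h]
      exact ⟨hk.one_lt.le, hkn⟩
    obtain ⟨x, hx⟩ := this
    rw [← hx]
    exact orderOf_dvd_natCard x
  have hno : ∀ r s : ℕ, n < r * s → ¬ ∃ x : G, orderOf x = r * s := by
    rintro r s hrs ⟨x, hx⟩
    have := hle x
    omega
  refine (Cfsg.Agent.S3633.result ({a, b, c} : Finset ℕ) ?_ ?_ (⊥ : Subgroup G) inferInstance).2
  · rw [Finset.card_insert_of_notMem (by simp [hab, hac]), Finset.card_insert_of_notMem (by simp [hbc]), Finset.card_singleton]
  · constructor
    · intro r hr
      simp only [Finset.mem_insert, Finset.mem_singleton] at hr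
      rcases hr with rfl | rfl | rfl
      · exact ⟨ha, hdvd _ ha han⟩
      · exact ⟨hb, hdvd _ hb hbn⟩
      · exact ⟨hc, hdvd _ hc hcn⟩
    · intro r hr s hs hrs
      apply hno
      simp only [Finset.mem_insert, Finset.mem_singleton] at hr hs
      rcases hr with rfl | rfl | rfl <;> rcases hs with rfl | rfl | rfl <;>
        first
        | exact absurd rfl hrs
        | assumption
        | (rw [mul_comm]; assumption)

end Cfsg.Agent.S4002
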