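import Mathlib
import Cfsg.Statements.S4023
import Cfsg.Agent.S3918
import Cfsg.Agent.Lib.UniqueSub
import Cfsg.Agent.Lib.SchurZ
import Cfsg.Agent.Lib.SchurZ2
import Cfsg.Agent.Lib.H5Basic
-- import your own Cfsg.Agent.* helpers here

set_option autoImplicit false
open Cfsg

namespace Cfsg.Agent.S4023

open Cfsg.Agent.Lib.UniqueSub in
theorem aux_unique {G : Type*} [Group G] [Finite G] {p : ℕ} [Fact p.Prime]
    (hC : ∀ H K : Subgroup G, IsPGroup p H → IsPGroup p K → Nat.card H = Nat.card K →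
      ∃ g : G, K = H.map (MulAut.conj g).toMonoidHom) (P : Sylow p G)
    (x : G) (hxP : x ∈ (P : Subgroup G)) (hxp : x ^ p ≠ 1) : UniqueP p ↥(P : Subgroup G) := by
  classical
  have hp : p.Prime := Fact.out
  have hQ : IsPGroup p ↥(P : Subgroup G) := P.isPGroup'
  obtain ⟨j, hj⟩ := hQ ⟨x, hxP⟩
  have hj' : x ^ (p ^ j) = 1 := by simpa using congrArg Subtype.val hj
  obtain ⟨m, hm, hmo⟩ := (Nat.dvd_prime_pow hp).mp (orderOf_dvd_of_pow_eq_one hj')
  have hm2 : 2 ≤ m := by
    by_contra hlt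
    have hm1 : m ≤ 1 := by omega
    apply hxp
    have : orderOf x ∣ p := by
      rw [hmo]
      calc p ^ m ∣ p ^ 1 := pow_dvd_pow p hm1
        _ = p := pow_one p
    exact orderOf_dvd_iff_pow_eq_one.mp this
  obtain ⟨m', rfl⟩ : ∃ m', m = m' + 2 := ⟨m - 2, by omega⟩
  let y : G := x ^ (p ^ m')
  have hy : orderOf y = p ^ 2 := by
    have hd : p ^ m' ∣ orderOf x := by rw [hmo]; exact pow_dvd_pow p (by omega)
    have h0 : p ^ m' ≠ 0 := (pow_pos hp.pos _).ne'
    change orderOf (x ^ (p ^ m')) = _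
    rw [orderOf_pow_of_dvd h0 hd, hmo, pow_add, mul_comm, Nat.mul_div_cancel _ (pow_pos hp.pos _)]
  have hno : ∀ A : Subgroup G, Nat.card A = p ^ 2 → (∀ a ∈ A, a ^ p = 1) → False := by
    intro A hAcard hAexp
    obtain ⟨g, hg⟩ := hC A (Subgroup.zpowers y) (IsPGroup.of_card hAcard)
      (IsPGroup.of_card (n := 2) (by rw [Nat.card_zpowers, hy])) (by
      rw [hAcard, Nat.card_zpowers, hy])
    have hmem : y ∈ A.map (MulAut.conj g).toMonoidHom := by
      rw [← hg]
      exact Subgroup.mem_zpowers y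
    obtain ⟨u, hu, hue⟩ := hmem
    have h1 : y ^ p = 1 := by
      rw [← hue]
      change (g * u * g⁻¹) ^ p = 1
      rw [conj_pow, hAexp u hu]
      simp
    have h2 : orderOf y ∣ p := orderOf_dvd_of_pow_eq_one h1
    rw [hy] at h2
    have h3 := Nat.le_of_dvd hp.pos h2
    have h4 : p * 1 < p * p := Nat.mul_lt_mul_of_pos_left hp.one_lt hp.pos
    nlinarith
  haveI : Nontrivial ↥(P : Subgroup G) := by
    refine ⟨⟨⟨x, hxP⟩, 1, ?_⟩⟩
    intro h
    apply hxp
    have : x = 1 := by simpa using congrArg Subtype.val h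
    rw [this, one_pow]
  have hcn := hQ.center_nontrivial
  have hdvd : p ∣ Nat.card (Subgroup.center ↥(P : Subgroup G)) := by
    obtain ⟨k, hk⟩ := IsPGroup.iff_card.mp (hQ.to_subgroup (Subgroup.center _))
    rw [hk]
    apply dvd_pow_self
    rintro rfl
    rw [pow_zero] at hk
    have := Finite.one_lt_card (α := Subgroup.center ↥(P : Subgroup G))
    omega
  obtain ⟨z0, hz0⟩ := exists_prime_orderOf_dvd_card' p hdvd
  let z : ↥(P : Subgroup G) := z0.1
  have hzo : orderOf z = p := (Subgroup.orderOf_coe z0).trans hz0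
  have hzc : ∀ u : ↥(P : Subgroup G), z * u = u * z := by
    intro u
    exact (Subgroup.mem_center_iff.mp z0.2 u).symm
  have hsub : ∀ u : ↥(P : Subgroup G), orderOf u = p → u ∈ Subgroup.zpowers z := by
    intro u hu
    by_contra hn
    haveI hnorm : (Subgroup.zpowers z).Normal := by
      constructor
      intro a ha g
      obtain ⟨i, rfl⟩ := Subgroup.mem_zpowers_iff.mp ha
      have : g * z ^ i * g⁻¹ = z ^ i := by
        have hc : Commute z g := hzc g
        rw [(hc.zpow_left i).symm.eq]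
        group
      rw [this]
      exact ⟨i, rfl⟩
    let A0 : Subgroup ↥(P : Subgroup G) := Subgroup.zpowers z ⊔ Subgroup.zpowers u
    have hmem : ∀ w, w ∈ A0 ↔ ∃ a ∈ Subgroup.zpowers z, ∃ b ∈ Subgroup.zpowers u, a * b = w := by
      intro w
      exact Subgroup.mem_sup_of_normal_left
    have hdisj : Disjoint (Subgroup.zpowers z) (Subgroup.zpowers u) := by
      rw [Subgroup.disjoint_def]
      intro w hw1 hw2
      by_contra hw
      apply hn
      have hcard : Subgroup.zpowers u ≤ Subgroup.zpowers z := by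
        have h1 : Subgroup.zpowers w ≤ Subgroup.zpowers u := by
          rw [Subgroup.zpowers_le]; exact hw2
        have h2 : Subgroup.zpowers w ≤ Subgroup.zpowers z := by
          rw [Subgroup.zpowers_le]; exact hw1
        have hwo : orderOf w = p := by
          have h3 : orderOf w ∣ orderOf u := orderOf_dvd_of_mem_zpowers hw2
          rw [hu] at h3
          rcases (Nat.dvd_prime hp).mp h3 with h4 | h4
          · exact absurd (orderOf_eq_one_iff.mp h4) hw
          · exact h4
        have h5 : Subgroup.zpowers w = Subgroup.zpowers u := by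
          apply Subgroup.eq_of_le_of_card_ge h1
          rw [Nat.card_zpowers, Nat.card_zpowers, hu, hwo]
        rw [← h5]
        exact h2
      exact hcard (Subgroup.mem_zpowers u)
    have hA0card : Nat.card A0 = p ^ 2 := by
      have h1 : Nat.card (Subgroup.zpowers z) = p := by rw [Nat.card_zpowers, hzo]
      have h2 : Nat.card (Subgroup.zpowers u) = p := by rw [Nat.card_zpowers, hu]
      have h3 := Cfsg.Agent.Lib.SchurZ.card_sup_of_disjoint (Subgroup.zpowers z) (Subgroup.zpowers u) (disjoint_iff.mp hdisj)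
      rw [h1, h2] at h3
      rw [pow_two]
      exact h3
    have hA0e : ∀ a ∈ A0, a ^ p = 1 := by
      intro a ha
      obtain ⟨a1, ha1, a2, ha2, rfl⟩ := (hmem a).mp ha
      obtain ⟨i, rfl⟩ := Subgroup.mem_zpowers_iff.mp ha1
      obtain ⟨j, rfl⟩ := Subgroup.mem_zpowers_iff.mp ha2
      have c1 : Commute z u := hzc u
      rw [(c1.zpow_zpow i j).mul_pow]
      have h1 : (z ^ i) ^ p = 1 := by
        rw [← zpow_natCast, zpow_comm, zpow_natCast, orderOf_dvd_iff_pow_eq_one.mp (dvd_of_eq hzo), one_zpow]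
      have h2 : (u ^ j) ^ p = 1 := by
        rw [← zpow_natCast, zpow_comm, zpow_natCast, orderOf_dvd_iff_pow_eq_one.mp (dvd_of_eq hu), one_zpow]
      rw [h1, h2, one_mul]
    refine hno (A0.map (P : Subgroup G).subtype) ?_ ?_
    · rw [← hA0card]
      exact Subgroup.card_map_of_injective (P : Subgroup G).subtype_injective
    · rintro a ⟨a', ha', rfl⟩
      have h3 := hA0e a' ha'
      have h4 := congrArg Subtype.val h3
      simpa using h4
  intro a b ha hb
  have h1 := hsub a ha
  have h2 := hsub b hb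
  have h3 : Subgroup.zpowers a = Subgroup.zpowers z := by
    apply Subgroup.eq_of_le_of_card_ge
    · rw [Subgroup.zpowers_le]; exact h1
    · rw [Nat.card_zpowers, Nat.card_zpowers, ha, hzo]
  rw [h3]
  exact h2

theorem q_square {n : ℕ} (z : QuaternionGroup n) : ∃ j, z * z = QuaternionGroup.a j := by
  rcases z with i | i
  · exact ⟨_, QuaternionGroup.a_mul_a _ _⟩
  · exact ⟨_, QuaternionGroup.xa_mul_xa _ _⟩

/-- the quaternion case: order at least `16` is impossible -/
theorem aux_quat {G : Type*} [Group G] [Finite G]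
    (hC : ∀ H K : Subgroup G, IsPGroup 2 H → IsPGroup 2 K → Nat.card H = Nat.card K →
      ∃ g : G, K = H.map (MulAut.conj g).toMonoidHom) (P : Sylow 2 G)
    (k : ℕ) (hk : 2 ≤ k) (e : ↥(P : Subgroup G) ≃* QuaternionGroup (2 ^ k)) : False := by
  classical
  haveI : NeZero (2 ^ k) := ⟨by positivity⟩
  let Q := ↥(P : Subgroup G)
  let t₀ : Q := e.symm ((QuaternionGroup.a 1) ^ (2 ^ (k - 2)))
  let y₀ : Q := e.symm (QuaternionGroup.xa 0)
  have hto : orderOf t₀ = 8 := by
    change orderOf (e.symm _) = 8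
    rw [MulEquiv.orderOf_eq]
    have h1 : orderOf (QuaternionGroup.a 1 : QuaternionGroup (2 ^ k)) = 2 * 2 ^ k := QuaternionGroup.orderOf_a_one
    have hd : 2 ^ (k - 2) ∣ orderOf (QuaternionGroup.a 1 : QuaternionGroup (2 ^ k)) := by
      rw [h1]
      exact Dvd.dvd.mul_left (pow_dvd_pow 2 (by omega)) 2
    rw [orderOf_pow_of_dvd (by positivity) hd, h1]
    have h2 : 2 ^ k = 2 ^ (k - 2) * 4 := by
      rw [show (4 : ℕ) = 2 ^ 2 by norm_num, ← pow_add]
      congr 1
      omega
    rw [h2]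
    have h3 : 2 * (2 ^ (k - 2) * 4) = 2 ^ (k - 2) * 8 := by ring
    rw [h3]
    exact Nat.mul_div_cancel_left _ (by positivity)
  have hyo : orderOf y₀ = 4 := by
    change orderOf (e.symm _) = 4
    rw [MulEquiv.orderOf_eq]
    exact QuaternionGroup.orderOf_xa 0
  have hQcard : Nat.card Q = 2 ^ (k + 2) := by
    rw [Nat.card_congr e.toEquiv, Nat.card_eq_fintype_card, QuaternionGroup.card]
    ring
  obtain ⟨X, hXc, hXy⟩ := Sylow.exists_subgroup_card_pow_prime_le (G := Q) 2 (n := 2) (m := 3)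
    (by rw [hQcard]; exact pow_dvd_pow 2 (by omega)) (Subgroup.zpowers y₀) (by rw [Nat.card_zpowers, hyo]; norm_num) (by norm_num)
  let X' : Subgroup G := X.map (P : Subgroup G).subtype
  let T' : Subgroup G := (Subgroup.zpowers t₀).map (P : Subgroup G).subtype
  have hX'c : Nat.card X' = 2 ^ 3 := by
    rw [← hXc]
    exact Subgroup.card_map_of_injective (P : Subgroup G).subtype_injective
  have hT'c : Nat.card T' = 2 ^ 3 := by
    change Nat.card ((Subgroup.zpowers t₀).map (P : Subgroup G).subtype) = _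
    rw [Subgroup.card_map_of_injective (P : Subgroup G).subtype_injective, Nat.card_zpowers, hto]
    norm_num
  obtain ⟨g, hg⟩ := hC T' X' (IsPGroup.of_card hT'c) (IsPGroup.of_card hX'c) (by rw [hT'c, hX'c])
  -- `s` generates `X'`
  let s : G := g * (t₀ : G) * g⁻¹
  have hmemX : ∀ w ∈ X', ∃ i : ℕ, w = s ^ i := by
    intro w hw
    rw [hg] at hw
    obtain ⟨u, hu, hue⟩ := hw
    obtain ⟨u', hu', hu'e⟩ := hu
    obtain ⟨i, hi⟩ := (mem_powers_iff_mem_zpowers).mpr hu'
    change t₀ ^ i = u' at hi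
    refine ⟨i, ?_⟩
    rw [← hue]
    change g * u * g⁻¹ = _
    rw [← hu'e, ← hi]
    change g * ((t₀ ^ i : Q) : G) * g⁻¹ = _
    rw [Subgroup.coe_pow, conj_pow]
  have hsX : s ∈ X' := by
    rw [hg]
    exact ⟨(t₀ : G), ⟨t₀, Subgroup.mem_zpowers t₀, rfl⟩, rfl⟩
  have hsP : s ∈ (P : Subgroup G) := by
    obtain ⟨s', _, hs'⟩ := hsX
    rw [← hs']
    exact s'.2
  have hso : orderOf s = 8 := by
    change orderOf (g * (t₀ : G) * g⁻¹) = 8
    have h1 : orderOf (g * (t₀ : G) * g⁻¹) = orderOf (t₀ : G) := (MulAut.conj g).orderOf_eq _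
    rw [h1, Subgroup.orderOf_coe, hto]
  have hy₀X : (y₀ : G) ∈ X' := ⟨y₀, hXy (Subgroup.mem_zpowers y₀), rfl⟩
  obtain ⟨i, hi⟩ := hmemX _ hy₀X
  have hyo' : orderOf (y₀ : G) = 4 := by rw [Subgroup.orderOf_coe, hyo]
  rcases Nat.even_or_odd' i with ⟨j, rfl | rfl⟩
  · -- `y₀` is a square
    let r : Q := ⟨s ^ j, Subgroup.pow_mem _ hsP j⟩
    have hr : y₀ = r * r := by
      apply Subtype.ext
      change (y₀ : G) = s ^ j * s ^ j
      rw [hi, ← pow_add]
      congr 1
      ring
    have h1 : e y₀ = e r * e r := by rw [hr, map_mul]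
    have h2 : e y₀ = QuaternionGroup.xa 0 := by
      change e (e.symm _) = _
      simp
    obtain ⟨c, hc⟩ := q_square (e r)
    rw [h2, hc] at h1
    cases h1
  · -- odd power
    have hcop : (orderOf s).Coprime (2 * j + 1) := by
      rw [hso]
      have : Nat.Coprime (2 ^ 3) (2 * j + 1) := by
        apply Nat.Coprime.pow_left
        simp
      simpa using this
    have h1 := hcop.orderOf_pow
    rw [← hi, hyo', hso] at h1
    norm_num at h1

open Cfsg.Agent.Lib.NormalE Cfsg.Agent.Lib.SchurZ2 in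
theorem aux_abs {Q : Type*} [Group Q] [Finite Q] {p : ℕ} [Fact p.Prime] (hQ : IsPGroup p Q)
    (hexpQ : ∀ x : Q, x ^ p = 1) (hcommQ : ¬ ∀ a b : Q, a * b = b * a)
    (n : ℕ) (hn : Nat.card Q = p ^ n) (hn4 : 4 ≤ n) :
    ∃ A T : Subgroup Q, (∀ a ∈ A, ∀ b ∈ A, a * b = b * a) ∧ Nat.card A = p ^ 3 ∧ Nat.card T = p ^ 3 ∧
      ∃ x ∈ T, ∃ y ∈ T, x * y ≠ y * x := by
  classical
  have hpp : p.Prime := Fact.out
  -- an abelian subgroup of order `p³`
  obtain ⟨M, hMn, hMc, hMself⟩ := exists_self_centralizing hQ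
  haveI := hMn
  obtain ⟨a, ha⟩ := IsPGroup.iff_card.mp (hQ.to_subgroup M)
  have ha3 : 3 ≤ a := by
    by_contra hlt
    have hcub : Nat.card Q ≤ p ^ 3 := by
      have hcases : a = 2 ∨ a ≤ 1 := by omega
      rcases hcases with rfl | ha1
      · exact Cfsg.Agent.S3918.card_le_cube hQ M hMn hMc ha hMself
      · -- `M` is central
        have hcen : ∀ x : Q, x ∈ M := by
          intro x
          apply hMself
          intro u hu
          by_cases hM0 : M = ⊥
          · rw [hM0] at hu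
            have : u = 1 := hu
            rw [this, one_mul, mul_one]
          obtain ⟨z, hzM, hzo, hzc⟩ := exists_order_p_central hQ M hM0
          have h1 : Subgroup.zpowers z = M := by
            apply Subgroup.eq_of_le_of_card_ge
            · rw [Subgroup.zpowers_le]; exact hzM
            · rw [ha, Nat.card_zpowers, hzo]
              calc p ^ a ≤ p ^ 1 := Nat.pow_le_pow_right hpp.pos ha1
                _ = p := pow_one p
          rw [← h1] at hu
          obtain ⟨i, rfl⟩ := Subgroup.mem_zpowers_iff.mp hu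
          exact ((show Commute x z from Subgroup.mem_center_iff.mp hzc x).zpow_right i).eq
        have hMt : M = ⊤ := (Subgroup.eq_top_iff' M).mpr hcen
        rw [hMt, Subgroup.card_top] at ha
        rw [ha]
        exact Nat.pow_le_pow_right hpp.pos (by omega)
    rw [hn] at hcub
    have := (Nat.pow_le_pow_iff_right hpp.one_lt).mp hcub
    omega
  have hdvd3 : p ^ 3 ∣ Nat.card M := by
    rw [ha]
    exact pow_dvd_pow p ha3
  obtain ⟨A₀, hA₀⟩ := Sylow.exists_subgroup_card_pow_prime p hdvd3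
  have hnt : (Subgroup.center Q) ≠ ⊤ := by
    intro h
    apply hcommQ
    intro u v
    have : u ∈ Subgroup.center Q := by rw [h]; trivial
    exact (Subgroup.mem_center_iff.mp this v).symm
  have hqP : IsPGroup p (Q ⧸ Subgroup.center Q) := hQ.to_quotient _
  haveI : Nontrivial (Q ⧸ Subgroup.center Q) := by
    apply QuotientGroup.nontrivial_iff.mpr
    exact hnt
  have hcn := hqP.center_nontrivial
  obtain ⟨yb, hyb⟩ := exists_ne (1 : Subgroup.center (Q ⧸ Subgroup.center Q))
  obtain ⟨y, hy⟩ := QuotientGroup.mk_surjective (yb : Q ⧸ Subgroup.center Q)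
  have hyZ : y ∉ Subgroup.center Q := by
    intro h
    apply hyb
    apply Subtype.ext
    rw [← hy]
    exact (QuotientGroup.eq_one_iff y).mpr h
  have hycen : ∀ g : Q, g * y * g⁻¹ * y⁻¹ ∈ Subgroup.center Q := by
    intro g
    rw [← QuotientGroup.eq_one_iff]
    have h1 := Subgroup.mem_center_iff.mp yb.2 (g : Q ⧸ Subgroup.center Q)
    rw [← hy] at h1
    have h2 : ((g * y * g⁻¹ * y⁻¹ : Q) : Q ⧸ Subgroup.center Q) = (g : Q ⧸ Subgroup.center Q) * y * (g : Q ⧸ Subgroup.center Q)⁻¹ * (y : Q ⧸ Subgroup.center Q)⁻¹ := rfl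
    rw [h2, h1]
    group
  obtain ⟨x, hx⟩ : ∃ x : Q, x * y ≠ y * x := by
    by_contra hno
    push_neg at hno
    exact hyZ (Subgroup.mem_center_iff.mpr hno)
  let c : Q := x * y * x⁻¹ * y⁻¹
  have hcZ : c ∈ Subgroup.center Q := hycen x
  have hc1 : c ≠ 1 := by
    intro h
    apply hx
    have h1 : x * y * x⁻¹ * y⁻¹ = 1 := h
    calc x * y = (x * y * x⁻¹ * y⁻¹) * (y * x) := by group
      _ = y * x := by rw [h1, one_mul]
  have hord : ∀ u : Q, u ≠ 1 → orderOf u = p := fun u hu => orderOf_eq_prime (hexpQ u) hu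
  have hco : orderOf c = p := hord c hc1
  have hy1 : y ≠ 1 := by
    rintro rfl
    exact hyZ (Subgroup.one_mem _)
  have hyo : orderOf y = p := hord y hy1
  have hx1 : x ≠ 1 := by
    rintro rfl
    apply hx
    simp
  have hxo : orderOf x = p := hord x hx1
  haveI hcn' : (Subgroup.zpowers c).Normal := zpowers_normal_of_central hcZ
  -- order `p²` subgroup
  let K : Subgroup Q := Subgroup.zpowers c ⊔ Subgroup.zpowers y
  have hprime : ∀ (u v : Q), orderOf u = p → orderOf v = p → v ∉ Subgroup.zpowers u →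
      Subgroup.zpowers u ⊓ Subgroup.zpowers v = ⊥ := by
    intro u v hu hv hn
    rw [eq_bot_iff]
    intro w hw
    by_contra hw1
    have hw1' : w ≠ 1 := hw1
    have hwo := hord w hw1'
    have h5 : Subgroup.zpowers w = Subgroup.zpowers v := by
      apply Subgroup.eq_of_le_of_card_ge
      · rw [Subgroup.zpowers_le]; exact hw.2
      · rw [Nat.card_zpowers, Nat.card_zpowers, hv, hwo]
    apply hn
    have h6 : v ∈ Subgroup.zpowers w := by rw [h5]; exact Subgroup.mem_zpowers v
    have h7 : Subgroup.zpowers w ≤ Subgroup.zpowers u := by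
      rw [Subgroup.zpowers_le]; exact hw.1
    exact h7 h6
  have hycz : y ∉ Subgroup.zpowers c := by
    intro h
    obtain ⟨i, hi⟩ := Subgroup.mem_zpowers_iff.mp h
    have h2 : c ^ i ∈ Subgroup.center Q := Subgroup.zpow_mem _ hcZ i
    exact hyZ (hi ▸ h2)
  have hKcard : Nat.card K = p ^ 2 := by
    have h3 := Cfsg.Agent.Lib.SchurZ.card_sup_of_disjoint (Subgroup.zpowers c) (Subgroup.zpowers y) (hprime c y hco hyo hycz)
    rw [Nat.card_zpowers, Nat.card_zpowers, hco, hyo] at h3
    rw [pow_two]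
    exact h3
  have hmemK : ∀ w, w ∈ K ↔ ∃ a ∈ Subgroup.zpowers c, ∃ b ∈ Subgroup.zpowers y, a * b = w := by
    intro w
    exact Subgroup.mem_sup_of_normal_left
  have hcy : Commute c y := (Subgroup.mem_center_iff.mp hcZ y).symm
  have hKc : ∀ u ∈ K, y * u = u * y := by
    intro u hu
    obtain ⟨a1, ha1, a2, ha2, rfl⟩ := (hmemK u).mp hu
    obtain ⟨i, rfl⟩ := Subgroup.mem_zpowers_iff.mp ha1
    obtain ⟨j, rfl⟩ := Subgroup.mem_zpowers_iff.mp ha2
    have c1 : Commute y (c ^ i) := (hcy.zpow_left i).symm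
    have c2 : Commute y (y ^ j) := (Commute.refl y).zpow_right j
    rw [← mul_assoc, c1.eq, mul_assoc, c2.eq, mul_assoc]
  have hxK : x ∉ K := by
    intro h
    exact hx (hKc x h).symm
  have hyK : y ∈ K := (le_sup_right : Subgroup.zpowers y ≤ K) (Subgroup.mem_zpowers y)
  have hcK : c ∈ K := (le_sup_left : Subgroup.zpowers c ≤ K) (Subgroup.mem_zpowers c)
  have hxN : Subgroup.zpowers x ≤ Subgroup.normalizer (K : Set Q) := by
    rw [Subgroup.zpowers_le]
    have hconj : ∀ u ∈ K, x * u * x⁻¹ ∈ K := by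
      intro u hu
      obtain ⟨a1, ha1, a2, ha2, rfl⟩ := (hmemK u).mp hu
      obtain ⟨i, rfl⟩ := Subgroup.mem_zpowers_iff.mp ha1
      obtain ⟨j, rfl⟩ := Subgroup.mem_zpowers_iff.mp ha2
      have h1 : x * (c ^ i * y ^ j) * x⁻¹ = (x * c ^ i * x⁻¹) * (x * y * x⁻¹) ^ j := by
        rw [conj_zpow]; group
      have h2 : x * c ^ i * x⁻¹ = c ^ i := by
        have : Commute c x := (Subgroup.mem_center_iff.mp hcZ x).symm
        rw [(this.zpow_left i).symm.eq]
        group
      have h3 : x * y * x⁻¹ = c * y := by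
        change x * y * x⁻¹ = x * y * x⁻¹ * y⁻¹ * y
        group
      rw [h1, h2, h3]
      exact K.mul_mem (K.zpow_mem hcK i) (K.zpow_mem (K.mul_mem hcK hyK) j)
    apply Cfsg.Agent.Lib.H5Basic.mem_normalizer_of_map_conj_le
    rintro _ ⟨u, hu, rfl⟩
    exact hconj u hu
  have hKx : K ⊓ Subgroup.zpowers x = ⊥ := by
    rw [eq_bot_iff]
    intro w hw
    by_contra hw1
    have hw1' : w ≠ 1 := hw1
    have hwo := hord w hw1'
    have h5 : Subgroup.zpowers w = Subgroup.zpowers x := by
      apply Subgroup.eq_of_le_of_card_ge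
      · rw [Subgroup.zpowers_le]; exact hw.2
      · rw [Nat.card_zpowers, Nat.card_zpowers, hxo, hwo]
    apply hxK
    have h6 : x ∈ Subgroup.zpowers w := by rw [h5]; exact Subgroup.mem_zpowers x
    have h7 : Subgroup.zpowers w ≤ K := by
      rw [Subgroup.zpowers_le]; exact hw.1
    exact h7 h6
  let T : Subgroup Q := K ⊔ Subgroup.zpowers x
  have hTcard : Nat.card T = p ^ 3 := by
    have h3 := card_sup_mul_card_inf K (Subgroup.zpowers x) hxN
    rw [hKx, Subgroup.card_bot, mul_one, hKcard, Nat.card_zpowers, hxo] at h3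
    rw [pow_succ]
    exact h3
  have hxT : x ∈ T := (le_sup_right : Subgroup.zpowers x ≤ T) (Subgroup.mem_zpowers x)
  have hyT : y ∈ T := (le_sup_left : K ≤ T) hyK
  refine ⟨A₀.map M.subtype, T, ?_, ?_, hTcard, x, hxT, y, hyT, hx⟩
  · rintro u ⟨u2, hu2, rfl⟩ v ⟨v2, hv2, rfl⟩
    exact hMc u2.1 u2.2 v2.1 v2.2
  · rw [Subgroup.card_map_of_injective M.subtype_injective, hA₀]

/-- exponent `p`, nonabelian, order at least `p⁴` is impossible -/
theorem aux_big {G : Type*} [Group G] [Finite G] {p : ℕ} [Fact p.Prime]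
    (hC : ∀ H K : Subgroup G, IsPGroup p H → IsPGroup p K → Nat.card H = Nat.card K →
      ∃ g : G, K = H.map (MulAut.conj g).toMonoidHom) (P : Sylow p G)
    (hexp : ∀ x ∈ (P : Subgroup G), x ^ p = 1)
    (hcomm : ¬ ∀ a ∈ (P : Subgroup G), ∀ b ∈ (P : Subgroup G), a * b = b * a)
    (n : ℕ) (hn : Nat.card ↥(P : Subgroup G) = p ^ n) (hn4 : 4 ≤ n) : False := by
  classical
  have hQ : IsPGroup p ↥(P : Subgroup G) := P.isPGroup'
  have hexpQ : ∀ x : ↥(P : Subgroup G), x ^ p = 1 := fun x => by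
    apply Subtype.ext
    change (x : G) ^ p = 1
    exact hexp x.1 x.2
  have hcommQ : ¬ ∀ a b : ↥(P : Subgroup G), a * b = b * a := by
    intro h
    apply hcomm
    intro u hu v hv
    exact congrArg Subtype.val (h ⟨u, hu⟩ ⟨v, hv⟩)
  obtain ⟨A₁, T, hA₁c, hA₁, hTcard, x, hxT, y, hyT, hx⟩ := aux_abs hQ hexpQ hcommQ n hn hn4
  let T' : Subgroup G := T.map (P : Subgroup G).subtype
  let A' : Subgroup G := A₁.map (P : Subgroup G).subtype
  have hT'c : Nat.card T' = p ^ 3 := by
    rw [← hTcard]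
    exact Subgroup.card_map_of_injective (P : Subgroup G).subtype_injective
  have hA'c : Nat.card A' = p ^ 3 := by
    rw [← hA₁]
    exact Subgroup.card_map_of_injective (P : Subgroup G).subtype_injective
  obtain ⟨g, hg⟩ := hC A' T' (IsPGroup.of_card hA'c) (IsPGroup.of_card hT'c) (by rw [hA'c, hT'c])
  have hA'comm : ∀ u ∈ A', ∀ v ∈ A', u * v = v * u := by
    rintro u ⟨u2, hu2, rfl⟩ v ⟨v2, hv2, rfl⟩
    have := hA₁c u2 hu2 v2 hv2
    exact congrArg Subtype.val this
  have hx' : (x : G) ∈ A'.map (MulAut.conj g).toMonoidHom := by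
    rw [← hg]
    exact ⟨x, hxT, rfl⟩
  have hy' : (y : G) ∈ A'.map (MulAut.conj g).toMonoidHom := by
    rw [← hg]
    exact ⟨y, hyT, rfl⟩
  obtain ⟨u, hu, hue⟩ := hx'
  obtain ⟨v, hv, hve⟩ := hy'
  apply hx
  apply Subtype.ext
  change (x : G) * y = y * x
  rw [← hue, ← hve]
  change (g * u * g⁻¹) * (g * v * g⁻¹) = (g * v * g⁻¹) * (g * u * g⁻¹)
  have h1 : (g * u * g⁻¹) * (g * v * g⁻¹) = g * (u * v) * g⁻¹ := by group
  have h2 : (g * v * g⁻¹) * (g * u * g⁻¹) = g * (v * u) * g⁻¹ := by group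
  rw [h1, h2, hA'comm u hu v hv]

/-- Let p be a prime and G a finite group in which any two p-subgroups of the same order are conjugate, with Sylow p-subgroup P. Then P is cyclic, or elementary abelian, or p = 2 and P is a quaternion group of order 8, or p is odd and P is non-abelian of order p³ and exponent p. -/
theorem result {G : Type*} [Group G] [Finite G]
    {p : ℕ} [Fact p.Prime] (hC : ∀ H K : Subgroup G, IsPGroup p H → IsPGroup p K → Nat.card H = Nat.card K →
      ∃ g : G, K = H.map (MulAut.conj g).toMonoidHom) (P : Sylow p G) :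
    IsCyclic P ∨ Cfsg.IsElementaryAbelian p (P : Subgroup G) ∨
      (p = 2 ∧ Nonempty ((P : Subgroup G) ≃* QuaternionGroup 2)) ∨
      (p ≠ 2 ∧ ¬ IsMulCommutative P ∧ Nat.card P = p ^ 3 ∧ Monoid.exponent P = p) := by
  classical
  have hpp : p.Prime := Fact.out
  by_cases hexp : ∀ x ∈ (P : Subgroup G), x ^ p = 1
  swap
  · -- exponent bigger than `p`
    push_neg at hexp
    obtain ⟨x, hxP, hxp⟩ := hexp
    have hU := aux_unique hC P x hxP hxp
    rcases Cfsg.Agent.Lib.UniqueSub.cyclic_or_quaternion P.isPGroup' hU with h | ⟨hp2, k, hk1, ⟨e⟩⟩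
    · exact Or.inl h
    · subst hp2
      by_cases hk : k = 1
      · subst hk
        right; right; left
        exact ⟨rfl, ⟨e⟩⟩
      · exact (aux_quat hC P k (by omega) e).elim
  by_cases hcomm : ∀ a ∈ (P : Subgroup G), ∀ b ∈ (P : Subgroup G), a * b = b * a
  · right; left
    exact ⟨⟨⟨fun a b => Subtype.ext (hcomm a.1 a.2 b.1 b.2)⟩⟩, hexp⟩
  right; right; right
  have hp2 : p ≠ 2 := by
    rintro rfl
    apply hcomm
    intro a ha b hb
    have h1 := hexp a ha
    have h2 := hexp b hb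
    have h3 := hexp (a * b) (P.1.mul_mem ha hb)
    have h4 := mul_eq_one_iff_eq_inv.mp ((pow_two _).symm.trans h3)
    have ha' : a⁻¹ = a := inv_eq_of_mul_eq_one_left ((pow_two _).symm.trans h1)
    have hb' : b⁻¹ = b := inv_eq_of_mul_eq_one_left ((pow_two _).symm.trans h2)
    rw [mul_inv_rev, ha', hb'] at h4
    exact h4
  have hna : ¬ IsMulCommutative ↥(P : Subgroup G) := by
    intro h
    apply hcomm
    intro a ha b hb
    have := h.is_comm.comm ⟨a, ha⟩ ⟨b, hb⟩
    exact congrArg Subtype.val this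
  have hQ : IsPGroup p ↥(P : Subgroup G) := P.isPGroup'
  obtain ⟨n, hn⟩ := IsPGroup.iff_card.mp hQ
  have hng : 3 ≤ n := by
    by_contra hlt
    apply hna
    have hn2 : n ≤ 2 := by omega
    interval_cases n
    · haveI : Subsingleton ↥(P : Subgroup G) := (Nat.card_eq_one_iff_unique.mp (by simpa using hn)).1
      exact ⟨⟨fun a b => Subsingleton.elim _ _⟩⟩
    · haveI : IsCyclic ↥(P : Subgroup G) := isCyclic_of_prime_card (by simpa using hn)
      letI := IsCyclic.commGroup (α := ↥(P : Subgroup G))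
      exact ⟨⟨fun a b => mul_comm a b⟩⟩
    · letI := IsPGroup.commGroupOfCardEqPrimeSq hn
      exact ⟨⟨fun a b => mul_comm a b⟩⟩
  refine ⟨hp2, hna, ?_, ?_⟩
  · rw [hn]
    congr 1
    by_contra hne
    have hn4 : 4 ≤ n := by omega
    exact aux_big hC P hexp hcomm n hn hn4
  · have hd : Monoid.exponent ↥(P : Subgroup G) ∣ p :=
      Monoid.exponent_dvd_of_forall_pow_eq_one (fun g => Subtype.ext (by simpa using hexp g.1 g.2))
    rcases (Nat.dvd_prime hpp).mp hd with h | h
    · exfalso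
      apply hna
      haveI : Subsingleton ↥(P : Subgroup G) := Monoid.exp_eq_one_iff.mp h
      exact ⟨⟨fun a b => Subsingleton.elim _ _⟩⟩
    · exact h

end Cfsg.Agent.S4023
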