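import Mathlib
import Cfsg.Statements.S4024
import Cfsg.Agent.S4023
import Cfsg.Agent.S4218
import Cfsg.Agent.Lib.FitCore
import Cfsg.Agent.Lib.FitSolv
import Cfsg.Agent.Lib.PCore
import Cfsg.Agent.Lib.PComps
import Cfsg.Agent.Lib.NormalE
import Cfsg.Agent.Lib.SchurZ
-- import your own Cfsg.Agent.* helpers here

set_option autoImplicit false
open Cfsg

namespace Cfsg.Agent.S4024

open Cfsg.Agent.Lib in
theorem char_pPrimeCore (p : ℕ) (X : Type*) [Group X] : (Cfsg.pPrimeCore p X).Characteristic := by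
  rw [Subgroup.characteristic_iff_map_eq]
  intro ϕ
  exact PComps.pPrimeCore_map_equiv ϕ

open Cfsg.Agent.Lib in
theorem char_pPrimePCore (p : ℕ) [Fact p.Prime] (X : Type*) [Group X] [Finite X] : (Cfsg.pPrimePCore p X).Characteristic := by
  rw [Subgroup.characteristic_iff_map_le]
  intro ϕ
  haveI hOn : (Cfsg.pPrimeCore p X).Normal := FitCore.pPrimeCore_normal p
  have hO : (Cfsg.pPrimeCore p X).map ϕ.toMonoidHom = Cfsg.pPrimeCore p X := PComps.pPrimeCore_map_equiv ϕ
  let ψ : X ⧸ Cfsg.pPrimeCore p X ≃* X ⧸ Cfsg.pPrimeCore p X := QuotientGroup.congr _ _ ϕ hO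
  have hψ : (Cfsg.pCore p (X ⧸ Cfsg.pPrimeCore p X)).map ψ.toMonoidHom = Cfsg.pCore p (X ⧸ Cfsg.pPrimeCore p X) :=
    PCore.pCore_map_equiv ψ
  rintro _ ⟨x, hx, rfl⟩
  change QuotientGroup.mk' _ (ϕ x) ∈ Cfsg.pCore p (X ⧸ Cfsg.pPrimeCore p X)
  rw [← hψ]
  refine ⟨QuotientGroup.mk' _ x, hx, ?_⟩
  rfl


/-- Let p be an odd prime and G a finite group in which any two p-subgroups of the same order are conjugate, with Sylow p-subgroup P. If H is a normal p-solvable subgroup of G whose order is divisible by p, then P is abelian, and either P ≤ H or P is cyclic. -/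
theorem result {G : Type*} [Group G] [Finite G]
    {p : ℕ} [Fact p.Prime] (hp : p ≠ 2) (hC : ∀ H K : Subgroup G, IsPGroup p H → IsPGroup p K → Nat.card H = Nat.card K →
      ∃ g : G, K = H.map (MulAut.conj g).toMonoidHom) (P : Sylow p G)
    (H : Subgroup G) [H.Normal] (hsolv : Cfsg.IsPSolvable p H) (hdiv : p ∣ Nat.card H) :
    IsMulCommutative P ∧ ((P : Subgroup G) ≤ H ∨ IsCyclic P) := by
  classical
  have hpp : p.Prime := Fact.out
  have hHn : H.Normal := inferInstance
  -- order `p` elements of `P` lie in a normal subgroup with order divisible by `p`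
  have hcov : ∀ N : Subgroup G, N.Normal → p ∣ Nat.card N → ∀ x : G, orderOf x = p → x ∈ N := by
    intro N hN hd x hx
    obtain ⟨t0, ht0⟩ := exists_prime_orderOf_dvd_card' p hd
    let t : G := t0
    have hto : orderOf t = p := (Subgroup.orderOf_coe t0).trans ht0
    obtain ⟨g, hg⟩ := hC (Subgroup.zpowers t) (Subgroup.zpowers x)
      (IsPGroup.of_card (n := 1) (by rw [Nat.card_zpowers, hto, pow_one]))
      (IsPGroup.of_card (n := 1) (by rw [Nat.card_zpowers, hx, pow_one]))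
      (by rw [Nat.card_zpowers, Nat.card_zpowers, hto, hx])
    have hmem : x ∈ (Subgroup.zpowers t).map (MulAut.conj g).toMonoidHom := by
      rw [← hg]
      exact Subgroup.mem_zpowers x
    obtain ⟨u, hu, hue⟩ := hmem
    rw [← hue]
    have h1 : u ∈ N := by
      obtain ⟨i, rfl⟩ := Subgroup.mem_zpowers_iff.mp hu
      exact N.zpow_mem t0.2 i
    exact hN.conj_mem u h1 g
  have hcov' : ∀ N : Subgroup G, N.Normal → p ∣ Nat.card N → (∀ x ∈ (P : Subgroup G), x ^ p = 1) → (P : Subgroup G) ≤ N := by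
    intro N hN hd hexp x hx
    by_cases hx1 : x = 1
    · rw [hx1]; exact N.one_mem
    · exact hcov N hN hd x (orderOf_eq_prime (hexp x hx) hx1)
  rcases Cfsg.Agent.S4023.result hC P with hc | he | ⟨h2, -⟩ | ⟨-, hna, hcard, hexpo⟩
  · refine ⟨?_, Or.inr hc⟩
    letI := IsCyclic.commGroup (α := ↥(P : Subgroup G))
    exact ⟨⟨fun a b => mul_comm a b⟩⟩
  · exact ⟨he.1, Or.inl (hcov' H hHn hdiv he.2)⟩
  · exact absurd h2 hp
  exfalso
  have hexp : ∀ x ∈ (P : Subgroup G), x ^ p = 1 := by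
    intro x hx
    have h0 : orderOf (⟨x, hx⟩ : ↥(P : Subgroup G)) ∣ Monoid.exponent ↥(P : Subgroup G) := Monoid.order_dvd_exponent _
    rw [hexpo] at h0
    have h1 : (⟨x, hx⟩ : ↥(P : Subgroup G)) ^ p = 1 := orderOf_dvd_iff_pow_eq_one.mp h0
    simpa using congrArg Subtype.val h1
  -- the characteristic subgroups
  haveI hO₀c := char_pPrimeCore p ↥H
  haveI hT₀c := char_pPrimePCore p ↥H
  haveI hO₀n : (Cfsg.pPrimeCore p ↥H).Normal := Cfsg.Agent.Lib.FitCore.pPrimeCore_normal p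
  let O : Subgroup G := (Cfsg.pPrimeCore p ↥H).map H.subtype
  let T : Subgroup G := (Cfsg.pPrimePCore p ↥H).map H.subtype
  have hOn : O.Normal := Cfsg.Agent.Lib.FitCore.map_subtype_normal_of_char H _
  have hTn : T.Normal := Cfsg.Agent.Lib.FitCore.map_subtype_normal_of_char H _
  have hOcard : Nat.card O = Nat.card (Cfsg.pPrimeCore p ↥H) := Subgroup.card_map_of_injective H.subtype_injective
  have hTcard : Nat.card T = Nat.card (Cfsg.pPrimePCore p ↥H) := Subgroup.card_map_of_injective H.subtype_injective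
  have hnd : ¬ p ∣ Nat.card O := by
    rw [hOcard]
    exact Cfsg.Agent.Lib.FitCore.not_dvd_card_pPrimeCore p hpp
  obtain ⟨k, hk⟩ := IsPGroup.iff_card.mp (Cfsg.Agent.Lib.FitCore.pCore_isPGroup (G := ↥H ⧸ Cfsg.pPrimeCore p ↥H) p)
  have hT₀card : Nat.card (Cfsg.pPrimePCore p ↥H) = p ^ k * Nat.card (Cfsg.pPrimeCore p ↥H) := by
    rw [← hk]
    exact Cfsg.Agent.Lib.NormalE.card_comap_mk _
  have hk0 : k ≠ 0 := by
    rintro rfl
    rw [pow_zero] at hk
    have hbot : Cfsg.pCore p (↥H ⧸ Cfsg.pPrimeCore p ↥H) = ⊥ := Subgroup.eq_bot_of_card_eq _ hk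
    have hs : Cfsg.IsPSolvable p (↥H ⧸ Cfsg.pPrimeCore p ↥H) := Cfsg.Agent.S4218.pSolvable_quotient hsolv _
    have h0 := Cfsg.Agent.Lib.FitSolv.pPrimeCore_quotient (G := ↥H) p
    have h1 := Cfsg.Agent.S4218.Cb_le hs h0
    have hall : ∀ y : ↥H ⧸ Cfsg.pPrimeCore p ↥H, y = 1 := by
      intro y
      have hy : y ∈ Cfsg.pCore p (↥H ⧸ Cfsg.pPrimeCore p ↥H) := by
        apply h1
        intro q hq
        rw [hbot] at hq
        have : q = 1 := hq
        rw [this]
        simp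
      rw [hbot] at hy
      exact hy
    have h2 : Nat.card (↥H ⧸ Cfsg.pPrimeCore p ↥H) = 1 := by
      haveI : Subsingleton (↥H ⧸ Cfsg.pPrimeCore p ↥H) := ⟨fun a b => by rw [hall a, hall b]⟩
      exact Nat.card_unique
    have h3 := Subgroup.card_eq_card_quotient_mul_card_subgroup (Cfsg.pPrimeCore p ↥H)
    rw [h2, one_mul] at h3
    apply hnd
    rw [hOcard, ← h3]
    exact hdiv
  have hTd : p ∣ Nat.card T := by
    rw [hTcard, hT₀card]
    exact Dvd.dvd.mul_right (dvd_pow_self p hk0) _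
  have hPT : (P : Subgroup G) ≤ T := hcov' T hTn hTd hexp
  have hOT : O ≤ T := by
    apply Subgroup.map_mono
    intro x hx
    rw [Cfsg.pPrimePCore, Subgroup.mem_comap, QuotientGroup.mk'_apply, (QuotientGroup.eq_one_iff x).mpr hx]
    exact Subgroup.one_mem _
  have hOP : O ⊓ (P : Subgroup G) = ⊥ := by
    rw [eq_bot_iff]
    intro x hx
    obtain ⟨j, hj⟩ := P.isPGroup' ⟨x, hx.2⟩
    have hj' : x ^ (p ^ j) = 1 := by simpa using congrArg Subtype.val hj
    have h1 : orderOf x ∣ Nat.card O := by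
      rw [← Subgroup.orderOf_mk x hx.1]
      exact orderOf_dvd_natCard _
    have h2 : orderOf x ∣ p ^ j := orderOf_dvd_of_pow_eq_one hj'
    have h3 : Nat.Coprime (p ^ j) (Nat.card O) :=
      Nat.Coprime.pow_left _ ((Nat.Prime.coprime_iff_not_dvd hpp).mpr hnd)
    have h4 : orderOf x = 1 := Nat.eq_one_of_dvd_coprimes h3 h2 h1
    exact orderOf_eq_one_iff.mp h4
  have hOPT : O ⊔ (P : Subgroup G) = T := by
    apply Subgroup.eq_of_le_of_card_ge (sup_le hOT hPT)
    haveI := hOn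
    rw [Cfsg.Agent.Lib.SchurZ.card_sup_of_disjoint O (P : Subgroup G) hOP, hTcard, hT₀card, ← hOcard, mul_comm]
    apply Nat.mul_le_mul_left
    apply Nat.le_of_dvd Nat.card_pos
    apply P.pow_dvd_card_of_pow_dvd_card
    have h1 : p ^ k ∣ Nat.card T := by
      rw [hTcard, hT₀card]
      exact dvd_mul_right _ _
    exact h1.trans (Subgroup.card_subgroup_dvd_card T)
  -- the Frattini argument
  have hfrat : Subgroup.normalizer ((P : Subgroup G) : Set G) ⊔ T = ⊤ := by
    haveI := hTn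
    exact Sylow.normalizer_sup_eq_top' P hPT
  have hdecomp : ∀ g : G, ∃ a ∈ O, ∃ n ∈ Subgroup.normalizer ((P : Subgroup G) : Set G), g = a * n := by
    intro g
    haveI := hTn
    have h1 : g ∈ Subgroup.normalizer ((P : Subgroup G) : Set G) ⊔ T := by rw [hfrat]; trivial
    obtain ⟨n, hn, t, ht, rfl⟩ := Subgroup.mem_sup_of_normal_right.mp h1
    haveI := hOn
    have ht' : t ∈ O ⊔ (P : Subgroup G) := by rw [hOPT]; exact ht
    obtain ⟨a, ha, u, hu, rfl⟩ := Subgroup.mem_sup_of_normal_left.mp ht'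
    refine ⟨n * a * n⁻¹, hOn.conj_mem a ha n, n * u, ?_, by group⟩
    exact Subgroup.mul_mem _ hn (Subgroup.le_normalizer hu)
  -- centre of `P`
  have hQ : IsPGroup p ↥(P : Subgroup G) := P.isPGroup'
  haveI : Nontrivial ↥(P : Subgroup G) := by
    apply Finite.one_lt_card_iff_nontrivial.mp
    rw [hcard]
    exact Nat.one_lt_pow (by norm_num) hpp.one_lt
  have hcn := hQ.center_nontrivial
  obtain ⟨z0, hz0⟩ : ∃ z0 : Subgroup.center ↥(P : Subgroup G), z0 ≠ 1 := exists_ne 1
  let z : G := ((z0 : ↥(P : Subgroup G)) : G)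
  have hzP : z ∈ (P : Subgroup G) := (z0 : ↥(P : Subgroup G)).2
  have hzcomm : ∀ v ∈ (P : Subgroup G), z * v = v * z := by
    intro v hv
    have := (Subgroup.mem_center_iff.mp z0.2 ⟨v, hv⟩).symm
    exact congrArg Subtype.val this
  have hz1 : z ≠ 1 := by
    intro h
    apply hz0
    apply Subtype.ext
    apply Subtype.ext
    exact h
  have hzo : orderOf z = p := orderOf_eq_prime (hexp z hzP) hz1
  -- every nonidentity element of `P` is central in `P`
  apply hna
  have hcentral : ∀ w ∈ (P : Subgroup G), ∀ v ∈ (P : Subgroup G), w * v = v * w := by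
    intro w hw v hv
    by_cases hw1 : w = 1
    · rw [hw1, one_mul, mul_one]
    have hwo : orderOf w = p := orderOf_eq_prime (hexp w hw) hw1
    obtain ⟨g, hg⟩ := hC (Subgroup.zpowers z) (Subgroup.zpowers w)
      (IsPGroup.of_card (n := 1) (by rw [Nat.card_zpowers, hzo, pow_one]))
      (IsPGroup.of_card (n := 1) (by rw [Nat.card_zpowers, hwo, pow_one]))
      (by rw [Nat.card_zpowers, Nat.card_zpowers, hzo, hwo])
    have hmem : w ∈ (Subgroup.zpowers z).map (MulAut.conj g).toMonoidHom := by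
      rw [← hg]
      exact Subgroup.mem_zpowers w
    obtain ⟨u, hu, hue⟩ := hmem
    obtain ⟨i, rfl⟩ := Subgroup.mem_zpowers_iff.mp hu
    obtain ⟨a, ha, n, hn, rfl⟩ := hdecomp g
    change (a * n) * z ^ i * (a * n)⁻¹ = w at hue
    let z₁ : G := n * z ^ i * n⁻¹
    have hnP : ∀ y, y ∈ (P : Subgroup G) ↔ n * y * n⁻¹ ∈ (P : Subgroup G) := by
      intro y
      exact Subgroup.mem_normalizer_iff.mp hn y
    have hz₁P : z₁ ∈ (P : Subgroup G) := (hnP _).mp (Subgroup.zpow_mem _ hzP i)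
    have hz₁c : ∀ v ∈ (P : Subgroup G), z₁ * v = v * z₁ := by
      intro v hv
      have hv' : n⁻¹ * v * n ∈ (P : Subgroup G) := by
        apply (hnP _).mpr
        have : n * (n⁻¹ * v * n) * n⁻¹ = v := by group
        rw [this]
        exact hv
      have hc : Commute z (n⁻¹ * v * n) := hzcomm _ hv'
      have hc2 := (hc.zpow_left i).eq
      calc z₁ * v = n * (z ^ i * (n⁻¹ * v * n)) * n⁻¹ := by
            change n * z ^ i * n⁻¹ * v = _
            group
        _ = n * ((n⁻¹ * v * n) * z ^ i) * n⁻¹ := by rw [hc2]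
        _ = v * z₁ := by
            change _ = v * (n * z ^ i * n⁻¹)
            group
    have hwz : w = a * z₁ * a⁻¹ := by
      rw [← hue]
      change _ = a * (n * z ^ i * n⁻¹) * a⁻¹
      group
    have hwz₁ : w * z₁⁻¹ ∈ O ⊓ (P : Subgroup G) := by
      refine ⟨?_, Subgroup.mul_mem _ hw (Subgroup.inv_mem _ hz₁P)⟩
      have h1 : w * z₁⁻¹ = a * (z₁ * a⁻¹ * z₁⁻¹) := by
        rw [hwz]; group
      rw [h1]
      exact O.mul_mem ha (hOn.conj_mem _ (O.inv_mem ha) z₁)
    rw [hOP] at hwz₁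
    have h2 : w * z₁⁻¹ = 1 := hwz₁
    have h3 : w = z₁ := mul_inv_eq_one.mp h2
    rw [h3]
    exact hz₁c v hv
  exact ⟨⟨fun a b => Subtype.ext (hcentral a.1 a.2 b.1 b.2)⟩⟩

end Cfsg.Agent.S4024
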