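import Cfsg.Statements.S4113
-- import your own Cfsg.Agent.* helpers here

set_option autoImplicit false
open Cfsg

namespace Cfsg.Agent.S4113

/-- Let G be a finite group, M ≤ N non-trivial proper normal subgroups, and H a subgroup with HM = G and H ∩ M = 1. Then every element of G outside N acts fixed-point-freely on M (C_G(x) ≤ N for every x ∈ M, x ≠ 1) if and only if H ∩ gHg⁻¹ ≤ H ∩ N for every g outside H, with H proper and non-trivial and H ∩ N proper in H. -/
theorem result {G : Type*} [Group G] [Finite G] (N M : Subgroup G) [N.Normal] [M.Normal] (hMN : M ≤ N) (hM1 : M ≠ ⊥) (hN2 : N ≠ ⊤)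
    (H : Subgroup G) (hHM : H ⊔ M = ⊤) (hHM' : H ⊓ M = ⊥) :
    (∀ x ∈ M, x ≠ 1 → Subgroup.centralizer ({x} : Set G) ≤ N) ↔
      (H ≠ ⊥ ∧ H ≠ ⊤ ∧ H ⊓ N < H ∧ ∀ g : G, g ∉ H → H ⊓ H.map (MulAut.conj g).toMonoidHom ≤ N) := by
  classical
  constructor
  · intro hfp
    refine ⟨?_, ?_, ?_, ?_⟩
    · rintro rfl
      apply hN2
      have : M = ⊤ := by simpa using hHM
      rw [eq_top_iff, ← this]; exact hMN
    · rintro rfl
      apply hM1
      simpa using hHM'
    · refine lt_of_le_of_ne inf_le_left ?_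
      intro h
      apply hN2
      have hHN : H ≤ N := by
        have : H ≤ H ⊓ N := h.ge
        exact this.trans inf_le_right
      rw [eq_top_iff, ← hHM]
      exact sup_le hHN hMN
    · intro g hg y hy
      obtain ⟨hyH, z, hzH, hz⟩ := hy
      have hgmem : g ∈ ((M ⊔ H : Subgroup G) : Set G) := by
        rw [sup_comm, hHM]; trivial
      rw [Subgroup.normal_mul] at hgmem
      obtain ⟨m, hm, h, hh, rfl⟩ := hgmem
      have hm1 : m ≠ 1 := by
        rintro rfl
        apply hg
        simpa using hh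
      have hz' : y = m * (h * z * h⁻¹) * m⁻¹ := by
        rw [← hz]; simp [MulAut.conj_apply, mul_assoc]
      set z' := h * z * h⁻¹ with hz'def
      have hz'H : z' ∈ H := H.mul_mem (H.mul_mem hh hzH) (H.inv_mem hh)
      have h1 : y * z'⁻¹ ∈ H := H.mul_mem hyH (H.inv_mem hz'H)
      have h2 : y * z'⁻¹ ∈ M := by
        rw [hz']
        have : m * z' * m⁻¹ * z'⁻¹ = m * (z' * m⁻¹ * z'⁻¹) := by group
        rw [this]
        exact M.mul_mem hm (‹M.Normal›.conj_mem _ (M.inv_mem hm) _)
      have h3 : y * z'⁻¹ = 1 := by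
        have : y * z'⁻¹ ∈ H ⊓ M := ⟨h1, h2⟩
        rw [hHM'] at this
        simpa using this
      have hyz : y = z' := by
        exact mul_inv_eq_one.mp h3
      have hcomm : y ∈ Subgroup.centralizer ({m} : Set G) := by
        rw [Subgroup.mem_centralizer_singleton_iff]
        rw [hyz] at hz' ⊢
        have : z' * m = m * z' := by
          have h9 := congrArg (· * m) hz'
          simpa [mul_assoc] using h9
        exact this
      exact hfp m hm hm1 hcomm
  · rintro ⟨-, -, -, hTI⟩ x hx hx1 g hg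
    by_contra hgN
    rw [Subgroup.mem_centralizer_singleton_iff] at hg
    have hgmem : g ∈ ((H ⊔ M : Subgroup G) : Set G) := by
      rw [hHM]; trivial
    rw [Subgroup.mul_normal] at hgmem
    obtain ⟨h, hh, m', hm', rfl⟩ := hgmem
    have hhN : h ∉ N := fun h' => hgN (N.mul_mem h' (hMN hm'))
    -- h acts fixed-point-freely on M
    have hfpf : ∀ m ∈ M, h * m = m * h → m = 1 := by
      intro m hm hcomm
      by_contra hm1
      have hmH : m ∉ H := by
        intro hmH
        have : m ∈ H ⊓ M := ⟨hmH, hm⟩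
        rw [hHM'] at this
        exact hm1 (by simpa using this)
      apply hhN
      apply hTI m hmH
      refine ⟨hh, h, hh, ?_⟩
      simp only [MulEquiv.coe_toMonoidHom, MulAut.conj_apply]
      rw [← hcomm]; group
    -- the commutator map on M is injective, so surjective
    let f : M → M := fun m => ⟨h⁻¹ * m * h * (m : G)⁻¹, by
      have : h⁻¹ * (m : G) * h * (m : G)⁻¹ = (h⁻¹ * (m : G) * h⁻¹⁻¹) * (m : G)⁻¹ := by group
      rw [this]
      exact M.mul_mem (‹M.Normal›.conj_mem _ m.2 _) (M.inv_mem m.2)⟩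
    have hfinj : Function.Injective f := by
      intro a b hab
      have hab' : h⁻¹ * (a : G) * h * (a : G)⁻¹ = h⁻¹ * (b : G) * h * (b : G)⁻¹ :=
        congrArg Subtype.val hab
      have h1 : (b : G)⁻¹ * a ∈ M := M.mul_mem (M.inv_mem b.2) a.2
      have h2 : h * ((b : G)⁻¹ * a) = ((b : G)⁻¹ * a) * h := by
        have h3 : (a : G) * h * (a : G)⁻¹ = (b : G) * h * (b : G)⁻¹ := by
          have := congrArg (fun t => h * t) hab'
          simpa [mul_assoc] using this
        have h4 : (b : G)⁻¹ * ((a : G) * h * (a : G)⁻¹) * a = (b : G)⁻¹ * ((b : G) * h * (b : G)⁻¹) * a := by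
          rw [h3]
        have h5 : (b : G)⁻¹ * ((a : G) * h * (a : G)⁻¹) * a = (b : G)⁻¹ * a * h := by group
        have h6 : (b : G)⁻¹ * ((b : G) * h * (b : G)⁻¹) * a = h * ((b : G)⁻¹ * a) := by group
        rw [← h6, ← h4, h5]
      have h7 := hfpf _ h1 h2
      apply Subtype.ext
      have : (a : G) = b := by
        rw [inv_mul_eq_one] at h7
        exact h7.symm
      exact this
    have hfsurj : Function.Surjective f := Finite.surjective_of_injective hfinj
    obtain ⟨m, hm⟩ := hfsurj ⟨m', hm'⟩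
    have hm'' : h⁻¹ * (m : G) * h * (m : G)⁻¹ = m' := congrArg Subtype.val hm
    have hg' : h * m' = m * h * (m : G)⁻¹ := by
      rw [← hm'']; group
    have hg2 : h * m' * x = x * (h * m') := hg
    rw [hg'] at hg2
    -- so h commutes with m⁻¹ x m
    have h8 : h * ((m : G)⁻¹ * x * m) = ((m : G)⁻¹ * x * m) * h := by
      have : (m : G)⁻¹ * ((m : G) * h * (m : G)⁻¹ * x) * m = (m : G)⁻¹ * (x * ((m : G) * h * (m : G)⁻¹)) * m := by
        rw [hg2]
      have h9 : (m : G)⁻¹ * ((m : G) * h * (m : G)⁻¹ * x) * m = h * ((m : G)⁻¹ * x * m) := by group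
      have h10 : (m : G)⁻¹ * (x * ((m : G) * h * (m : G)⁻¹)) * m = ((m : G)⁻¹ * x * m) * h := by group
      rw [← h9, this, h10]
    have hmem : (m : G)⁻¹ * x * m ∈ M := M.mul_mem (M.mul_mem (M.inv_mem m.2) hx) m.2
    have h11 := hfpf _ hmem h8
    apply hx1
    have : x = m * ((m : G)⁻¹ * x * m) * (m : G)⁻¹ := by group
    rw [this, h11]; group

end Cfsg.Agent.S4113
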