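import Cfsg.Statements.S4347
import Cfsg.Agent.Lib.H7Basic

set_option autoImplicit false
set_option linter.all false
open Cfsg

namespace Cfsg.Agent.S4347

/-- Let G be a finite group and p a prime. Say a Sylow p-subgroup Q is redundant when every element of p-power order lies in some Sylow p-subgroup other than Q. Then G has no redundant Sylow p-subgroup if and only if some element of p-power order lies in exactly one Sylow p-subgroup. -/
theorem result {G : Type*} [Group G] [Finite G]
    (p : ℕ) [Fact p.Prime] :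
    (¬ ∃ Q : Sylow p G, ∀ x : G, (∃ k : ℕ, orderOf x = p ^ k) → ∃ P : Sylow p G, P ≠ Q ∧ x ∈ P) ↔
      ∃ x : G, (∃ k : ℕ, orderOf x = p ^ k) ∧ ∃! P : Sylow p G, x ∈ P := by
  classical
  constructor
  · intro h
    push_neg at h
    obtain ⟨Q⟩ : Nonempty (Sylow p G) := inferInstance
    obtain ⟨x, hx, hxQ⟩ := h Q
    refine ⟨x, hx, ?_⟩
    have hxp : IsPGroup p (Subgroup.zpowers x) := by
      obtain ⟨k, hk⟩ := hx
      rw [IsPGroup.iff_card, Nat.card_zpowers]
      exact ⟨k, hk⟩
    obtain ⟨R, hR⟩ := hxp.exists_le_sylow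
    have hxR : x ∈ R := hR (Subgroup.mem_zpowers x)
    have hRQ : R = Q := by
      by_contra hne
      exact hxQ R hne hxR
    subst hRQ
    exact ⟨R, hxR, fun P hP => by
      by_contra hne
      exact hxQ P hne hP⟩
  · rintro ⟨x, hx, P, hxP, huniq⟩ ⟨Q, hQ⟩
    obtain ⟨g, hg⟩ := MulAction.exists_smul_eq G P Q
    have hy : ∃ k : ℕ, orderOf (g * x * g⁻¹) = p ^ k := by
      obtain ⟨k, hk⟩ := hx
      refine ⟨k, ?_⟩
      have := orderOf_injective (MulAut.conj g).toMonoidHom (MulAut.conj g).injective x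
      rw [← hk, ← this]
      simp [MulAut.conj_apply]
    obtain ⟨R, hRne, hyR⟩ := hQ _ hy
    have hxR : x ∈ ((g⁻¹ • R : Sylow p G) : Subgroup G) := by
      rw [Sylow.coe_subgroup_smul, Subgroup.mem_pointwise_smul_iff_inv_smul_mem]
      have h5 : (MulAut.conj g⁻¹)⁻¹ • x = g * x * g⁻¹ := by
        simp [MulAut.smul_def]
      rw [h5]
      exact hyR
    have hP : g⁻¹ • R = P := huniq _ hxR
    apply hRne
    rw [← hg, ← hP, smul_inv_smul]

end Cfsg.Agent.S4347
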