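import Cfsg.Statements.S4348
import Cfsg.Agent.Lib.H7Basic
import Cfsg.Agent.Lib.FitCore

set_option autoImplicit false
set_option linter.all false
open Cfsg

namespace Cfsg.Agent.S4348

/-- Let G be a finite group, p a prime and P a Sylow p-subgroup of G, and let O_p(G) be the largest normal p-subgroup of G. If P/O_p(G) is cyclic, then some element of p-power order of G lies in exactly one Sylow p-subgroup. -/
theorem result {G : Type*} [Group G] [Finite G]
    (p : ℕ) [Fact p.Prime] (P : Sylow p G)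
    [hn : ((Cfsg.pCore p G).subgroupOf (P : Subgroup G)).Normal]
    (hc : IsCyclic ((P : Subgroup G) ⧸ (Cfsg.pCore p G).subgroupOf (P : Subgroup G))) :
    ∃ x : G, (∃ k : ℕ, orderOf x = p ^ k) ∧ ∃! Q : Sylow p G, x ∈ Q := by
  classical
  obtain ⟨q, hq⟩ := IsCyclic.exists_generator (α := (P : Subgroup G) ⧸ (Cfsg.pCore p G).subgroupOf (P : Subgroup G))
  obtain ⟨x, rfl⟩ := QuotientGroup.mk_surjective q
  refine ⟨x, ?_, P, x.2, ?_⟩
  · obtain ⟨k, hk⟩ := (IsPGroup.iff_orderOf.mp P.isPGroup') x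
    exact ⟨k, by simpa using hk⟩
  · intro Q hxQ
    have hOQ : Cfsg.pCore p G ≤ (Q : Subgroup G) := Cfsg.Agent.Lib.FitCore.pCore_le_sylow p Q
    have hle : (P : Subgroup G) ≤ (Q : Subgroup G) := by
      intro y hy
      obtain ⟨n, hn⟩ := Subgroup.mem_zpowers_iff.mp (hq (QuotientGroup.mk (⟨y, hy⟩ : (P : Subgroup G))))
      have h1 : (x ^ n)⁻¹ * (⟨y, hy⟩ : (P : Subgroup G)) ∈ (Cfsg.pCore p G).subgroupOf (P : Subgroup G) := by
        rw [← QuotientGroup.eq]
        rw [← hn]
        rfl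
      have h2 := Subgroup.mem_subgroupOf.mp h1
      have h3 := hOQ h2
      simp only [Subgroup.coe_mul, Subgroup.coe_inv, Subgroup.coe_zpow] at h3
      have h4 := (Q : Subgroup G).mul_mem ((Q : Subgroup G).zpow_mem hxQ n) h3
      simpa using h4
    exact (Sylow.ext (P.3 Q.2 hle)).symm ▸ rfl

end Cfsg.Agent.S4348
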