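import Cfsg.Statements.S4866
import Cfsg.Agent.Lib.CharPerm
import Cfsg.Agent.Lib.CharOps
import Cfsg.Agent.Lib.CharIrr
import Cfsg.Agent.Lib.CharAb

set_option autoImplicit false
set_option linter.all false
open Cfsg

namespace Cfsg.Agent.S4866


open Cfsg.Agent.Lib.CharOps Cfsg.Agent.Lib.CharIrr Cfsg.Agent.Lib.CharPerm Cfsg.Agent.Lib.CharAb
  Cfsg.Agent.Lib.CharBasic Cfsg.Agent.Lib.CharCore
open scoped ComplexConjugate

theorem fix_abs {X : Type*} (T J : X → X) (hTJ : ∀ x, T (J x) = J (T x)) (hJJ : ∀ x, J (J x) = x)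
    (m : ℕ) (hm : Odd m) (hTm : ∀ x, T^[m] x = x) (x : X) (h : J (T x) = x) :
    T x = x ∧ J x = x := by
  have h2 : T (T x) = x := by
    have h3 : J (T (T x)) = T x := by rw [← hTJ, h]
    calc T (T x) = J (J (T (T x))) := (hJJ _).symm
      _ = J (T x) := by rw [h3]
      _ = x := h
  obtain ⟨j, rfl⟩ := hm
  have h4 : ∀ i, T^[2 * i] x = x := by
    intro i
    induction i with
    | zero => rfl
    | succ i ih =>
      rw [show 2 * (i + 1) = 2 * i + 2 from by ring, Function.iterate_add_apply]
      show T^[2 * i] (T (T x)) = x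
      rw [h2, ih]
  have h5 : T x = x := by
    have h6 := hTm x
    rw [show 2 * j + 1 = Nat.succ (2 * j) from rfl, Function.iterate_succ_apply', h4] at h6
    exact h6
  refine ⟨h5, ?_⟩
  have h7 : J (T x) = J x := by rw [h5]
  rw [← h7, h]

section
variable {G : Type*} [Group G] [Fintype G] (K : Subgroup G) [K.Normal] [Fintype K]

noncomputable def tw (g : G) (θ : IrrCharacter K) : IrrCharacter K :=
  ⟨fun k => (θ : K → ℂ) (MulAut.conjNormal g k), isIrr_comp_equiv (MulAut.conjNormal g) θ.2⟩

noncomputable def cj (θ : IrrCharacter K) : IrrCharacter K :=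
  ⟨fun k => conj ((θ : K → ℂ) k), isIrr_conj θ.2⟩

def twc (g : G) (C : ConjClasses K) : ConjClasses K :=
  ConjClasses.map (MulAut.conjNormal g : K ≃* K).toMonoidHom C

theorem twc_mk (g : G) (k : K) : twc K g (ConjClasses.mk k) = ConjClasses.mk (MulAut.conjNormal g k) := rfl

theorem tw_tw (g h : G) (θ : IrrCharacter K) : tw K g (tw K h θ) = tw K (h * g) θ := by
  apply Subtype.ext
  funext k
  show (θ : K → ℂ) (MulAut.conjNormal h (MulAut.conjNormal g k)) = (θ : K → ℂ) (MulAut.conjNormal (h * g) k)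
  rw [map_mul]
  rfl

theorem twc_twc (g h : G) (C : ConjClasses K) : twc K g (twc K h C) = twc K (g * h) C := by
  obtain ⟨k, rfl⟩ := ConjClasses.exists_rep C
  show ConjClasses.mk (MulAut.conjNormal g (MulAut.conjNormal h k)) = ConjClasses.mk (MulAut.conjNormal (g * h) k)
  rw [map_mul]
  rfl

theorem isConj_conjNormal {h : G} (hh : h ∈ K) (k : K) : IsConj k (MulAut.conjNormal h k) := by
  rw [isConj_iff]
  refine ⟨⟨h, hh⟩, ?_⟩
  apply Subtype.ext
  simp [MulAut.conjNormal_apply]

theorem tw_of_mem {h : G} (hh : h ∈ K) (θ : IrrCharacter K) : tw K h θ = θ := by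
  apply Subtype.ext
  funext k
  exact (classFun_eq_of_isConj (IsCharacter.isClassFunction' (IsIrrCharacter.isCharacter' θ.2)) (isConj_conjNormal K hh k)).symm

theorem twc_of_mem {h : G} (hh : h ∈ K) (C : ConjClasses K) : twc K h C = C := by
  obtain ⟨k, rfl⟩ := ConjClasses.exists_rep C
  exact (ConjClasses.mk_eq_mk_iff_isConj.2 (isConj_conjNormal K hh k)).symm

theorem tw_iter (g : G) (θ : IrrCharacter K) (n : ℕ) : (tw K g)^[n] θ = tw K (g ^ n) θ := by
  induction n with
  | zero =>
    rw [pow_zero]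
    exact (tw_of_mem K K.one_mem θ).symm
  | succ n ih =>
    rw [Function.iterate_succ_apply', ih, tw_tw, pow_succ]

theorem twc_iter (g : G) (C : ConjClasses K) (n : ℕ) : (twc K g)^[n] C = twc K (g ^ n) C := by
  induction n with
  | zero =>
    rw [pow_zero]
    exact (twc_of_mem K K.one_mem C).symm
  | succ n ih =>
    rw [Function.iterate_succ_apply', ih, twc_twc, pow_succ']

theorem cj_cj (θ : IrrCharacter K) : cj K (cj K θ) = θ := by
  apply Subtype.ext
  funext k
  exact Complex.conj_conj _

theorem classInv_classInv (C : ConjClasses K) : classInv (classInv C) = C := by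
  obtain ⟨k, rfl⟩ := ConjClasses.exists_rep C
  show ConjClasses.mk k⁻¹⁻¹ = ConjClasses.mk k
  rw [inv_inv]

theorem twc_classInv (g : G) (C : ConjClasses K) : twc K g (classInv C) = classInv (twc K g C) := by
  obtain ⟨k, rfl⟩ := ConjClasses.exists_rep C
  show ConjClasses.mk (MulAut.conjNormal g k⁻¹) = ConjClasses.mk (MulAut.conjNormal g k)⁻¹
  rw [map_inv]

theorem card_fix (hodd : Odd K.index) (g : G) :
    Nat.card {C : ConjClasses K // twc K g C = C ∧ classInv C = C} =
      Nat.card {θ : IrrCharacter K // tw K g θ = θ ∧ cj K θ = θ} := by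
  have key := card_fixed_eq (fun k : K => (MulAut.conjNormal g k)⁻¹) (fun C => classInv (twc K g C))
    (fun θ => cj K (tw K g θ)) (fun k => rfl)
    (fun θ k => character_inv_of_isCharacter (IsIrrCharacter.isCharacter' θ.2) _)
  have e1 : Nat.card {C : ConjClasses K // classInv (twc K g C) = C} =
      Nat.card {C : ConjClasses K // twc K g C = C ∧ classInv C = C} := by
    apply Nat.card_congr
    apply Equiv.subtypeEquivRight
    intro C
    constructor
    · intro h
      refine fix_abs (twc K g) classInv (twc_classInv K g) (classInv_classInv K) K.index hodd ?_ C h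
      intro x
      rw [twc_iter]
      exact twc_of_mem K (Subgroup.pow_index_mem K g) x
    · rintro ⟨h1, h2⟩
      rw [h1, h2]
  have e2 : Nat.card {θ : IrrCharacter K // cj K (tw K g θ) = θ} =
      Nat.card {θ : IrrCharacter K // tw K g θ = θ ∧ cj K θ = θ} := by
    apply Nat.card_congr
    apply Equiv.subtypeEquivRight
    intro θ
    constructor
    · intro h
      refine fix_abs (tw K g) (cj K) (fun _ => rfl) (cj_cj K) K.index hodd ?_ θ h
      intro x
      rw [tw_iter]
      exact tw_of_mem K (Subgroup.pow_index_mem K g) x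
    · rintro ⟨h1, h2⟩
      rw [h1, h2]
  rw [← e1, ← e2]
  exact key

abbrev XX := {θ : IrrCharacter K // ∀ k : K, ((θ : K → ℂ) k).im = 0}
abbrev YY := {C : ConjClasses K // classInv C = C}

noncomputable instance actX : MulAction G (XX K) where
  smul g θ := ⟨tw K g⁻¹ θ.1, fun k => θ.2 _⟩
  one_smul θ := Subtype.ext (by
    show tw K 1⁻¹ θ.1 = θ.1
    exact tw_of_mem K (by simp [K.one_mem]) θ.1)
  mul_smul g h θ := Subtype.ext (by
    show tw K (g * h)⁻¹ θ.1 = tw K g⁻¹ (tw K h⁻¹ θ.1)
    rw [tw_tw, mul_inv_rev])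

noncomputable instance actY : MulAction G (YY K) where
  smul g C := ⟨twc K g C.1, by rw [← twc_classInv, C.2]⟩
  one_smul C := Subtype.ext (twc_of_mem K K.one_mem C.1)
  mul_smul g h C := Subtype.ext (twc_twc K g h C.1).symm

theorem card_orbits (hodd : Odd K.index) :
    Nat.card (MulAction.orbitRel.Quotient G (XX K)) = Nat.card (MulAction.orbitRel.Quotient G (YY K)) := by
  classical
  letI : Fintype (XX K) := Fintype.ofFinite _
  letI : Fintype (YY K) := Fintype.ofFinite _
  letI : Fintype (MulAction.orbitRel.Quotient G (XX K)) := Fintype.ofFinite _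
  letI : Fintype (MulAction.orbitRel.Quotient G (YY K)) := Fintype.ofFinite _
  letI : ∀ g : G, Fintype (MulAction.fixedBy (XX K) g) := fun _ => Fintype.ofFinite _
  letI : ∀ g : G, Fintype (MulAction.fixedBy (YY K) g) := fun _ => Fintype.ofFinite _
  have h1 := MulAction.sum_card_fixedBy_eq_card_orbits_mul_card_group (G := G) (X := XX K)
  have h2 := MulAction.sum_card_fixedBy_eq_card_orbits_mul_card_group (G := G) (X := YY K)
  have hterm : ∀ g : G, Fintype.card (MulAction.fixedBy (XX K) g) = Fintype.card (MulAction.fixedBy (YY K) g⁻¹) := by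
    intro g
    rw [← Nat.card_eq_fintype_card, ← Nat.card_eq_fintype_card]
    have ea : MulAction.fixedBy (XX K) g ≃ {θ : IrrCharacter K // tw K g⁻¹ θ = θ ∧ cj K θ = θ} :=
      { toFun := fun x => ⟨x.1.1, congrArg Subtype.val x.2, by
          apply Subtype.ext
          funext k
          exact Complex.conj_eq_iff_im.2 (x.1.2 k)⟩
        invFun := fun y => ⟨⟨y.1, fun k => by
          have := congrFun (congrArg Subtype.val y.2.2) k
          exact Complex.conj_eq_iff_im.1 this⟩, Subtype.ext y.2.1⟩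
        left_inv := fun x => rfl
        right_inv := fun y => rfl }
    have eb : MulAction.fixedBy (YY K) g⁻¹ ≃ {C : ConjClasses K // twc K g⁻¹ C = C ∧ classInv C = C} :=
      { toFun := fun x => ⟨x.1.1, congrArg Subtype.val x.2, x.1.2⟩
        invFun := fun y => ⟨⟨y.1, y.2.2⟩, Subtype.ext y.2.1⟩
        left_inv := fun x => rfl
        right_inv := fun y => rfl }
    rw [Nat.card_congr ea, Nat.card_congr eb, card_fix K hodd g⁻¹]
  have h3 : ∑ g : G, Fintype.card (MulAction.fixedBy (XX K) g) = ∑ g : G, Fintype.card (MulAction.fixedBy (YY K) g) := by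
    rw [Finset.sum_congr rfl (fun g _ => hterm g)]
    exact Equiv.sum_comp (Equiv.inv G) (fun g => Fintype.card (MulAction.fixedBy (YY K) g))
  rw [h1, h2] at h3
  have h4 : 0 < Fintype.card G := Fintype.card_pos
  have h5 := Nat.eq_of_mul_eq_mul_right h4 h3
  rw [Nat.card_eq_fintype_card, Nat.card_eq_fintype_card]
  exact h5

theorem card_quot_left :
    Nat.card (Quot (fun θ η : {θ : IrrCharacter ↥K // (∀ k : ↥K, ((θ : ↥K → ℂ) k).im = 0)} =>
      ∃ g : G, ∀ k k' : ↥K, (k' : G) = g * (k : G) * g⁻¹ → (η.1 : ↥K → ℂ) k' = (θ.1 : ↥K → ℂ) k)) =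
    Nat.card (MulAction.orbitRel.Quotient G (XX K)) := by
  refine Nat.card_congr (Quot.congrRight ?_)
  intro θ η
  show _ ↔ θ ∈ MulAction.orbit G η
  constructor
  · rintro ⟨g, hg⟩
    refine ⟨g⁻¹, ?_⟩
    apply Subtype.ext
    apply Subtype.ext
    funext k
    show (η.1 : K → ℂ) (MulAut.conjNormal g⁻¹⁻¹ k) = (θ.1 : K → ℂ) k
    apply hg
    rw [inv_inv, MulAut.conjNormal_apply]
  · rintro ⟨a, rfl⟩
    refine ⟨a⁻¹, fun k k' hk => ?_⟩
    show (η.1 : K → ℂ) k' = (η.1 : K → ℂ) (MulAut.conjNormal a⁻¹ k)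
    have h9 : k' = MulAut.conjNormal a⁻¹ k := Subtype.ext (by rw [hk, MulAut.conjNormal_apply])
    rw [h9]

theorem card_quot_right :
    Nat.card (Quot (fun x y : {x : ↥K // IsConj x x⁻¹} => ∃ g : G, (y.1 : G) = g * x.1 * g⁻¹)) =
    Nat.card (MulAction.orbitRel.Quotient G (YY K)) := by
  let mkY : {x : ↥K // IsConj x x⁻¹} → YY K := fun x =>
    ⟨ConjClasses.mk x.1, (ConjClasses.mk_eq_mk_iff_isConj.2 x.2).symm⟩
  let f : Quot (fun x y : {x : ↥K // IsConj x x⁻¹} => ∃ g : G, (y.1 : G) = g * x.1 * g⁻¹) →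
      MulAction.orbitRel.Quotient G (YY K) :=
    Quot.lift (fun x => Quotient.mk'' (mkY x)) (by
      rintro x y ⟨g, hg⟩
      apply Quotient.sound'
      show mkY x ∈ MulAction.orbit G (mkY y)
      refine ⟨g⁻¹, ?_⟩
      apply Subtype.ext
      show ConjClasses.mk (MulAut.conjNormal g⁻¹ y.1) = ConjClasses.mk x.1
      congr 1
      apply Subtype.ext
      rw [MulAut.conjNormal_apply, hg]
      group)
  refine Nat.card_eq_of_bijective f ⟨?_, ?_⟩
  · intro a b
    induction a using Quot.ind with | _ x => ?_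
    induction b using Quot.ind with | _ y => ?_
    intro h
    have h1 : mkY x ∈ MulAction.orbit G (mkY y) := Quotient.exact' h
    obtain ⟨a, ha⟩ := h1
    have h2 : ConjClasses.mk (MulAut.conjNormal a y.1) = ConjClasses.mk x.1 := congrArg Subtype.val ha
    have h3 := ConjClasses.mk_eq_mk_iff_isConj.1 h2
    obtain ⟨c, hc⟩ := isConj_iff.1 h3
    apply Eq.symm
    apply Quot.sound
    refine ⟨(c : G) * a, ?_⟩
    have h4 := congrArg (fun z : K => (z : G)) hc
    simp only [Subgroup.coe_mul, InvMemClass.coe_inv, MulAut.conjNormal_apply] at h4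
    rw [← h4]
    group
  · intro q
    induction q using Quotient.inductionOn' with | _ C => ?_
    obtain ⟨C, hC⟩ := C
    obtain ⟨k, rfl⟩ := ConjClasses.exists_rep C
    have h5 : IsConj k k⁻¹ := (ConjClasses.mk_eq_mk_iff_isConj.1 hC).symm
    exact ⟨Quot.mk _ ⟨k, h5⟩, rfl⟩

end


/-- Let K be a normal subgroup of odd index in the finite group G. Then G has as many orbits on the real-valued irreducible complex characters of K (acting by conjugation) as it has orbits on the conjugacy classes of K that are real in K; equivalently, the number of G-orbits of real-valued irreducible characters of K equals the number of G-conjugacy classes of elements of K that are conjugate in K to their inverses. -/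
theorem result {G : Type*} [Group G] [Finite G] (K : Subgroup G) [K.Normal] (hodd : Odd K.index) : Nat.card (Quot (fun θ η : {θ : Cfsg.IrrCharacter ↥K // (∀ k : ↥K, ((θ : ↥K → ℂ) k).im = 0)} => ∃ g : G, ∀ k k' : ↥K, (k' : G) = g * (k : G) * g⁻¹ → (η.1 : ↥K → ℂ) k' = (θ.1 : ↥K → ℂ) k)) = Nat.card (Quot (fun x y : {x : ↥K // IsConj x x⁻¹} => ∃ g : G, (y.1 : G) = g * x.1 * g⁻¹)) := by

  classical
  cases nonempty_fintype G
  letI : Fintype K := Fintype.ofFinite _
  rw [card_quot_left K, card_quot_right K]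
  exact card_orbits K hodd

end Cfsg.Agent.S4866
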