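import Cfsg.Statements.S4873
import Cfsg.Agent.S4866
import Cfsg.Agent.Lib.CharFS2
import Cfsg.Agent.Lib.CharPerm
import Cfsg.Agent.Lib.CharOps
import Cfsg.Agent.Lib.CharIrr
import Cfsg.Agent.Lib.CharAb
import Cfsg.Agent.Lib.CharNormal

set_option autoImplicit false
set_option linter.all false
open Cfsg

namespace Cfsg.Agent.S4873


open Cfsg.Agent.Lib.CharOps Cfsg.Agent.Lib.CharIrr Cfsg.Agent.Lib.CharPerm Cfsg.Agent.Lib.CharAb
  Cfsg.Agent.Lib.CharBasic Cfsg.Agent.Lib.CharCore Cfsg.Agent.Lib.CharFS2 Cfsg.Agent.Lib.CharNormal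
open scoped ComplexConjugate

section
variable {G : Type*} [Group G] [Fintype G] (N : Subgroup G) [hN : N.Normal] [Fintype N]

theorem mem_of_sq (hodd : Odd N.index) (u : G) (hu : u * u ∈ N) : u ∈ N := by
  obtain ⟨j, hj⟩ := hodd
  have h1 := Subgroup.pow_index_mem N u
  rw [hj, pow_succ, pow_mul, pow_two] at h1
  exact (Subgroup.mul_mem_cancel_left N (N.pow_mem hu j)).1 h1

theorem card_sqrt_N (hodd : Odd N.index) (z : N) :
    Nat.card {u : G // u * u = (z : G)} = Nat.card {u : N // u * u = z} := by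
  apply Nat.card_congr
  exact
    { toFun := fun u => ⟨⟨u.1, mem_of_sq N hodd u.1 (by rw [u.2]; exact z.2)⟩, Subtype.ext u.2⟩
      invFun := fun u => ⟨u.1, congrArg Subtype.val u.2⟩
      left_inv := fun u => rfl
      right_inv := fun u => rfl }

theorem sum_inner {ι : Type*} [Fintype ι] (a : ι → ℂ) (f : ι → N → ℂ) (φ : N → ℂ) :
    ∑ i, a i * classInner (f i) φ =
      (Nat.card N : ℂ)⁻¹ * ∑ z : N, (∑ i, a i * f i z) * conj (φ z) := by
  simp only [classInner, Finset.mul_sum, Finset.sum_mul]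
  rw [Finset.sum_comm]
  apply Finset.sum_congr rfl
  intro i _
  apply Finset.sum_congr rfl
  intro z _
  ring

theorem identity_sum (hodd : Odd N.index) (φ : IrrCharacter N) :
    ∑ χ : IrrCharacter G, indicator (χ : G → ℂ) * classInner (fun n : N => (χ : G → ℂ) n) (φ : N → ℂ) =
      indicator (φ : N → ℂ) := by
  classical
  rw [sum_inner N (fun χ : IrrCharacter G => indicator (χ : G → ℂ)) (fun (χ : IrrCharacter G) (n : N) => (χ : G → ℂ) n) (φ : N → ℂ)]
  have h1 : ∀ z : N, ∑ χ : IrrCharacter G, indicator (χ : G → ℂ) * (χ : G → ℂ) z =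
      ∑ ψ : IrrCharacter N, indicator (ψ : N → ℂ) * (ψ : N → ℂ) z := by
    intro z
    rw [← card_sqrt_eq, ← card_sqrt_eq, card_sqrt_N N hodd z]
  simp only [h1]
  rw [← sum_inner N (fun ψ : IrrCharacter N => indicator (ψ : N → ℂ)) (fun (ψ : IrrCharacter N) => (ψ : N → ℂ)) (φ : N → ℂ)]
  rw [Finset.sum_eq_single φ]
  · rw [classInner_irr φ.2 φ.2, if_pos rfl, mul_one]
  · intro ψ _ hψ
    rw [classInner_irr ψ.2 φ.2, if_neg (fun h => hψ (Subtype.ext h)), mul_zero]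
  · intro h
    exact absurd (Finset.mem_univ φ) h

theorem conj_of_common {χ : G → ℂ} (hχ : IsIrrCharacter G χ) {θ η : N → ℂ} (hθ : IsIrrCharacter N θ)
    (hη : IsIrrCharacter N η) (h1 : classInner (fun n : N => χ n) θ ≠ 0)
    (h2 : classInner (fun n : N => χ n) η ≠ 0) : ∃ x : G, conjFun N η x = θ := by
  classical
  have hc := IsCharacter.isClassFunction' (IsIrrCharacter.isCharacter' hχ)
  have e1 : classInner (indFun N θ) χ ≠ 0 := by
    rw [frobenius_reciprocity N θ hc, ← classInner_conj]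
    exact (map_ne_zero _).2 h1
  have e2 : classInner (indFun N η) χ ≠ 0 := by
    rw [frobenius_reciprocity N η hc, ← classInner_conj]
    exact (map_ne_zero _).2 h2
  have h3 := inner_ne_zero_of_common (isCharacter_indFun N (IsIrrCharacter.isCharacter' hθ))
    (isCharacter_indFun N (IsIrrCharacter.isCharacter' hη)) hχ e1 e2
  rw [classInner_ind_ind] at h3
  have h4 : ∑ x : G, classInner θ (conjFun N η x) ≠ 0 := right_ne_zero_of_mul h3
  obtain ⟨x, -, hx⟩ := Finset.exists_ne_zero_of_sum_ne_zero h4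
  refine ⟨x, ?_⟩
  rw [classInner_irr hθ (isIrr_conjFun N hη x)] at hx
  by_contra h5
  rw [if_neg (fun h => h5 h.symm)] at hx
  exact hx rfl

theorem isConj_N (hodd : Odd N.index) {x : N} {t : G} (h : t * (x : G) * t⁻¹ = (x : G)⁻¹) : IsConj x x⁻¹ := by
  obtain ⟨j, hj⟩ := hodd
  have h1 := Subgroup.pow_index_mem N t
  have hc : Commute (t * t) (x : G) := by
    show t * t * (x : G) = (x : G) * (t * t)
    have h2 : t * (x : G)⁻¹ * t⁻¹ = (x : G) := by
      have h3 : (t * (x : G) * t⁻¹)⁻¹ = (x : G) := by rw [h, inv_inv]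
      calc t * (x : G)⁻¹ * t⁻¹ = (t * (x : G) * t⁻¹)⁻¹ := by group
        _ = (x : G) := h3
    calc t * t * (x : G) = t * (t * (x : G) * t⁻¹) * t := by group
      _ = t * (x : G)⁻¹ * t := by rw [h]
      _ = (t * (x : G)⁻¹ * t⁻¹) * (t * t) := by group
      _ = (x : G) * (t * t) := by rw [h2]
  have hc2 : Commute ((t * t) ^ j) (x : G) := hc.pow_left j
  rw [isConj_iff]
  refine ⟨⟨t ^ N.index, h1⟩, ?_⟩
  apply Subtype.ext
  show t ^ N.index * (x : G) * (t ^ N.index)⁻¹ = (x : G)⁻¹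
  have e : t ^ N.index = (t * t) ^ j * t := by
    rw [hj, pow_succ, pow_mul, pow_two]
  rw [e]
  have hc3 : (t * t) ^ j * (x : G)⁻¹ * ((t * t) ^ j)⁻¹ = (x : G)⁻¹ := by
    have := (hc2.inv_right).eq
    rw [this]; group
  calc (t * t) ^ j * t * (x : G) * ((t * t) ^ j * t)⁻¹
      = (t * t) ^ j * (t * (x : G) * t⁻¹) * ((t * t) ^ j)⁻¹ := by group
    _ = (x : G)⁻¹ := by rw [h, hc3]

theorem mem_of_isConj_inv (hodd : Odd N.index) {g : G} (h : IsConj g g⁻¹) : g ∈ N := by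
  letI : Fintype (G ⧸ N) := Fintype.ofFinite _
  have hq : Odd (Nat.card (G ⧸ N)) := by rwa [Subgroup.index_eq_card] at hodd
  have h1 : IsConj (g : G ⧸ N) (g : G ⧸ N)⁻¹ := by
    have := (QuotientGroup.mk' N).map_isConj h
    simpa using this
  have h2 := eq_one_of_isConj_inv hq h1
  exact (QuotientGroup.eq_one_iff g).1 h2

theorem card_right (hodd : Odd N.index) :
    Nat.card (Quot (fun x y : {x : ↥N // IsConj x x⁻¹} => ∃ g : G, (y.1 : G) = g * x.1 * g⁻¹)) =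
      Nat.card {C : ConjClasses G // ∀ g : G, ConjClasses.mk g = C → IsConj g g⁻¹} := by
  have hreal : ∀ x : {x : ↥N // IsConj x x⁻¹}, ∀ g : G, ConjClasses.mk g = ConjClasses.mk (x.1 : G) → IsConj g g⁻¹ := by
    intro x g hg
    have h1 : IsConj g (x.1 : G) := ConjClasses.mk_eq_mk_iff_isConj.1 hg
    have h2 : IsConj (x.1 : G) (x.1 : G)⁻¹ := by
      have := N.subtype.map_isConj x.2
      simpa using this
    have h3 : IsConj (x.1 : G)⁻¹ g⁻¹ := by
      obtain ⟨c, hc⟩ := isConj_iff.1 h1.symm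
      rw [isConj_iff]
      exact ⟨c, by rw [← hc]; group⟩
    exact h1.trans (h2.trans h3)
  let f : Quot (fun x y : {x : ↥N // IsConj x x⁻¹} => ∃ g : G, (y.1 : G) = g * x.1 * g⁻¹) →
      {C : ConjClasses G // ∀ g : G, ConjClasses.mk g = C → IsConj g g⁻¹} :=
    Quot.lift (fun x => ⟨ConjClasses.mk (x.1 : G), hreal x⟩) (by
      rintro x y ⟨g, hg⟩
      apply Subtype.ext
      apply ConjClasses.mk_eq_mk_iff_isConj.2
      rw [isConj_iff]
      exact ⟨g, hg.symm⟩)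
  refine Nat.card_eq_of_bijective f ⟨?_, ?_⟩
  · intro a b
    induction a using Quot.ind with | _ x => ?_
    induction b using Quot.ind with | _ y => ?_
    intro h
    have h1 : ConjClasses.mk (x.1 : G) = ConjClasses.mk (y.1 : G) := congrArg Subtype.val h
    obtain ⟨c, hc⟩ := isConj_iff.1 (ConjClasses.mk_eq_mk_iff_isConj.1 h1)
    exact Quot.sound ⟨c, hc.symm⟩
  · rintro ⟨C, hC⟩
    obtain ⟨g, rfl⟩ := ConjClasses.exists_rep C
    have h1 := hC g rfl
    have hg := mem_of_isConj_inv N hodd h1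
    obtain ⟨t, ht⟩ := isConj_iff.1 h1
    have h2 : IsConj (⟨g, hg⟩ : N) (⟨g, hg⟩ : N)⁻¹ := isConj_N N hodd (x := ⟨g, hg⟩) ht
    exact ⟨Quot.mk _ ⟨⟨g, hg⟩, h2⟩, rfl⟩

/-- Uniqueness of the real character over a real character of `N`. -/
theorem real_unique (hodd : Odd N.index) (θ : IrrCharacter N) (hθ : ∀ k : N, ((θ : N → ℂ) k).im = 0)
    (χ₁ χ₂ : IrrCharacter G) (h1r : ∀ g : G, ((χ₁ : G → ℂ) g).im = 0) (h2r : ∀ g : G, ((χ₂ : G → ℂ) g).im = 0)
    (h1 : classInner (fun n : N => (χ₁ : G → ℂ) n) (θ : N → ℂ) ≠ 0)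
    (h2 : classInner (fun n : N => (χ₂ : G → ℂ) n) (θ : N → ℂ) ≠ 0) : χ₁ = χ₂ := by
  classical
  -- the relation
  let rel := (fun θ η : {θ : IrrCharacter ↥N // (∀ k : ↥N, ((θ : ↥N → ℂ) k).im = 0)} =>
      ∃ g : G, ∀ k k' : ↥N, (k' : G) = g * (k : G) * g⁻¹ → (η.1 : ↥N → ℂ) k' = (θ.1 : ↥N → ℂ) k)
  have hcount : Nat.card (Quot rel) = Nat.card {χ : IrrCharacter G // ∀ g : G, ((χ : G → ℂ) g).im = 0} := by
    rw [card_real, ← card_right N hodd]
    exact Cfsg.Agent.S4866.result N hodd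
  have hrel : ∀ (a b : {θ : IrrCharacter ↥N // (∀ k : ↥N, ((θ : ↥N → ℂ) k).im = 0)}) (χ : IrrCharacter G),
      classInner (fun n : N => (χ : G → ℂ) n) (a.1 : N → ℂ) ≠ 0 →
      classInner (fun n : N => (χ : G → ℂ) n) (b.1 : N → ℂ) ≠ 0 → rel a b := by
    intro a b χ ha hb
    obtain ⟨x, hx⟩ := conj_of_common N χ.2 a.1.2 b.1.2 ha hb
    refine ⟨x, fun k k' hk => ?_⟩
    rw [← hx, conjFun_apply]
    have h9 : k' = ⟨x * k * x⁻¹, hN.conj_mem k k.2 x⟩ := Subtype.ext hk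
    rw [h9]
  have hex : ∀ a : {θ : IrrCharacter ↥N // (∀ k : ↥N, ((θ : ↥N → ℂ) k).im = 0)},
      ∃ χ : {χ : IrrCharacter G // ∀ g : G, ((χ : G → ℂ) g).im = 0},
        classInner (fun n : N => (χ.1 : G → ℂ) n) (a.1 : N → ℂ) ≠ 0 := by
    intro a
    have h3 := identity_sum N hodd a.1
    have h4 : indicator (a.1 : N → ℂ) ≠ 0 := by
      rcases indicator_real a.1.2 a.2 with h | h <;> rw [h] <;> norm_num
    rw [← h3] at h4
    obtain ⟨χ, -, hχ⟩ := Finset.exists_ne_zero_of_sum_ne_zero h4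
    refine ⟨⟨χ, ?_⟩, right_ne_zero_of_mul hχ⟩
    by_contra hnr
    exact hχ (by rw [indicator_not_real χ.2 hnr, zero_mul])
  choose pick hpick using hex
  let F : Quot rel → {χ : IrrCharacter G // ∀ g : G, ((χ : G → ℂ) g).im = 0} := fun q => pick q.out
  have hFinj : Function.Injective F := by
    intro p q hpq
    have h3 := hpick p.out
    have h4 := hpick q.out
    have h5 : F p = pick p.out := rfl
    have h6 : F q = pick q.out := rfl
    rw [← h5, hpq, h6] at h3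
    have h7 : rel p.out q.out := hrel _ _ _ h3 h4
    calc p = Quot.mk rel p.out := (Quot.out_eq p).symm
      _ = Quot.mk rel q.out := Quot.sound h7
      _ = q := Quot.out_eq q
  have hFbij := hFinj.bijective_of_nat_card_le hcount.ge
  obtain ⟨q₁, hq₁⟩ := hFbij.2 ⟨χ₁, h1r⟩
  obtain ⟨q₂, hq₂⟩ := hFbij.2 ⟨χ₂, h2r⟩
  let a : {θ : IrrCharacter ↥N // (∀ k : ↥N, ((θ : ↥N → ℂ) k).im = 0)} := ⟨θ, hθ⟩
  have hq : ∀ (q : Quot rel) (χ : IrrCharacter G) (hχ : ∀ g : G, ((χ : G → ℂ) g).im = 0), F q = ⟨χ, hχ⟩ →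
      classInner (fun n : N => (χ : G → ℂ) n) (θ : N → ℂ) ≠ 0 → q = Quot.mk rel a := by
    intro q χ hχ hF hin
    have h3 := hpick q.out
    have h5 : F q = pick q.out := rfl
    rw [← h5, hF] at h3
    have h7 : rel q.out a := hrel _ _ χ h3 hin
    calc q = Quot.mk rel q.out := (Quot.out_eq q).symm
      _ = Quot.mk rel a := Quot.sound h7
  have e1 := hq q₁ χ₁ h1r hq₁ h1
  have e2 := hq q₂ χ₂ h2r hq₂ h2
  have e3 : (⟨χ₁, h1r⟩ : {χ : IrrCharacter G // ∀ g : G, ((χ : G → ℂ) g).im = 0}) = ⟨χ₂, h2r⟩ := by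
    rw [← hq₁, ← hq₂, e1, e2]
  exact congrArg Subtype.val e3

end


/-- Let N be a normal subgroup of odd index in the finite group G. Then every irreducible complex character of N with Frobenius–Schur indicator +1 lies under exactly one irreducible character of G with Frobenius–Schur indicator +1. -/
theorem result {G : Type*} [Group G] [Finite G] (N : Subgroup G) [N.Normal] (hodd : Odd N.index) (φ : Cfsg.IrrCharacter ↥N) (hφ : (Nat.card ↥N : ℂ)⁻¹ * ∑ᶠ g : ↥N, (φ : ↥N → ℂ) (g * g) = 1) : ∃! χ : Cfsg.IrrCharacter G, (Nat.card G : ℂ)⁻¹ * ∑ᶠ g : G, (χ : G → ℂ) (g * g) = 1 ∧ (∑ᶠ n : ↥N, (χ : G → ℂ) n * (starRingEnd ℂ) ((φ : ↥N → ℂ) n)) ≠ 0 := by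

  classical
  cases nonempty_fintype G
  letI : Fintype N := Fintype.ofFinite _
  have hNne : (Nat.card N : ℂ) ≠ 0 := by exact_mod_cast Nat.card_pos.ne'
  have hind : ∀ χ : IrrCharacter G, (Nat.card G : ℂ)⁻¹ * ∑ᶠ g : G, (χ : G → ℂ) (g * g) = indicator (χ : G → ℂ) := by
    intro χ
    rw [finsum_eq_sum_of_fintype]
    rfl
  have hφ' : indicator (φ : N → ℂ) = 1 := by
    rw [← hφ, finsum_eq_sum_of_fintype]
    rfl
  have hin : ∀ χ : IrrCharacter G, (∑ᶠ n : ↥N, (χ : G → ℂ) n * (starRingEnd ℂ) ((φ : ↥N → ℂ) n)) ≠ 0 ↔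
      classInner (fun n : N => (χ : G → ℂ) n) (φ : N → ℂ) ≠ 0 := by
    intro χ
    rw [finsum_eq_sum_of_fintype, classInner]
    constructor
    · intro h
      exact mul_ne_zero (inv_ne_zero hNne) h
    · intro h
      exact right_ne_zero_of_mul h
  have hreal_of : ∀ χ : IrrCharacter G, indicator (χ : G → ℂ) ≠ 0 → ∀ g : G, ((χ : G → ℂ) g).im = 0 := by
    intro χ h
    by_contra hnr
    exact h (indicator_not_real χ.2 hnr)
  have hφr : ∀ k : N, ((φ : N → ℂ) k).im = 0 := by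
    by_contra hnr
    have := indicator_not_real φ.2 hnr
    rw [hφ'] at this
    exact one_ne_zero this
  have hid := identity_sum N hodd φ
  have hne : ∑ χ : IrrCharacter G, indicator (χ : G → ℂ) * classInner (fun n : N => (χ : G → ℂ) n) (φ : N → ℂ) ≠ 0 := by
    rw [hid, hφ']; exact one_ne_zero
  obtain ⟨χ₀, -, hχ₀⟩ := Finset.exists_ne_zero_of_sum_ne_zero hne
  have hχ₀r := hreal_of χ₀ (left_ne_zero_of_mul hχ₀)
  have hχ₀i := right_ne_zero_of_mul hχ₀
  have hs : indicator (χ₀ : G → ℂ) * classInner (fun n : N => (χ₀ : G → ℂ) n) (φ : N → ℂ) = 1 := by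
    rw [← hφ', ← hid]
    symm
    apply Finset.sum_eq_single χ₀
    · intro χ _ hχ
      by_contra h5
      exact hχ (real_unique N hodd φ hφr χ χ₀ (hreal_of χ (left_ne_zero_of_mul h5)) hχ₀r (right_ne_zero_of_mul h5) hχ₀i)
    · intro h
      exact absurd (Finset.mem_univ χ₀) h
  have hν : indicator (χ₀ : G → ℂ) = 1 := by
    rcases indicator_real χ₀.2 hχ₀r with h | h
    · exact h
    · exfalso
      obtain ⟨n, hn⟩ := exists_nat_classInner (isCharacter_restrict N (IsIrrCharacter.isCharacter' χ₀.2)) (IsIrrCharacter.isCharacter' φ.2)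
      rw [h, hn] at hs
      have h6 : ((n : ℂ) + 1) = 0 := by linear_combination -hs
      have h7 : ((n + 1 : ℕ) : ℂ) = 0 := by push_cast; exact h6
      exact (Nat.succ_ne_zero n) (by exact_mod_cast h7)
  refine ⟨χ₀, ⟨by rw [hind]; exact hν, (hin χ₀).2 hχ₀i⟩, ?_⟩
  rintro χ ⟨h1, h2⟩
  rw [hind] at h1
  exact real_unique N hodd φ hφr χ χ₀ (hreal_of χ (by rw [h1]; exact one_ne_zero)) hχ₀r ((hin χ).1 h2) hχ₀i

end Cfsg.Agent.S4873
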