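import Cfsg.Statements.S4518
import Cfsg.Agent.S4873
import Cfsg.Agent.Lib.CharOps
import Cfsg.Agent.Lib.CharIrr
import Cfsg.Agent.Lib.CharNormal
import Cfsg.Agent.Lib.CharCliff
import Cfsg.Agent.Lib.CharGalois2
import Cfsg.Agent.Lib.CharBlockNormal

set_option autoImplicit false
set_option linter.all false
open Cfsg

namespace Cfsg.Agent.S4518


open Cfsg.Agent.Lib.CharOps Cfsg.Agent.Lib.CharIrr Cfsg.Agent.Lib.CharNormal Cfsg.Agent.Lib.CharCliff
  Cfsg.Agent.Lib.CharGalois2 Cfsg.Agent.Lib.CharBlockNormal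
open scoped ComplexConjugate


/-- Let N be a normal subgroup of the finite group G whose index is not divisible by the prime p, and let k be coprime to the order of G with k ^ (p ^ e) ≡ 1 modulo the order of G for some e (so g ↦ g ^ k induces a field automorphism of p-power order on character values). If an irreducible character χ of G satisfies χ (g ^ k) = χ g for all g, then every irreducible constituent θ of the restriction of χ to N satisfies θ (n ^ k) = θ n for all n. -/
theorem result {G : Type*} [Group G] [Fintype G] (p : ℕ) [Fact p.Prime] (N : Subgroup G) [N.Normal] [Fintype N] (hidx : ¬ p ∣ N.index) (k e : ℕ) (hk : Nat.Coprime k (Nat.card G)) (hke : k ^ (p ^ e) ≡ 1 [MOD Nat.card G]) (χ : Cfsg.IrrCharacter G) (hχ : ∀ g : G, (χ : G → ℂ) (g ^ k) = (χ : G → ℂ) g) (θ : Cfsg.IrrCharacter N) (hθ : Cfsg.classInner (fun n : N => (χ : G → ℂ) n) (θ : N → ℂ) ≠ 0) : ∀ n : N, (θ : N → ℂ) (n ^ k) = (θ : N → ℂ) n := by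

  classical
  have hkN : k.Coprime (Nat.card N) := Nat.Coprime.coprime_dvd_right (Subgroup.card_subgroup_dvd_card N) hk
  have hχc := IsCharacter.isClassFunction' (IsIrrCharacter.isCharacter' χ.2)
  let T : IrrCharacter N → IrrCharacter N := fun η => ⟨fun n => (η : N → ℂ) (n ^ k), isIrr_pow η.2 hkN⟩
  have hTval : ∀ (η : IrrCharacter N) (n : N), (T η : N → ℂ) n = (η : N → ℂ) (n ^ k) := fun _ _ => rfl
  have hTinner : ∀ η : IrrCharacter N, classInner (fun n : N => (χ : G → ℂ) n) (T η : N → ℂ) =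
      classInner (fun n : N => (χ : G → ℂ) n) (η : N → ℂ) := by
    intro η
    unfold classInner
    congr 1
    have hc' : (Nat.card N).Coprime k := hkN.symm
    rw [← Equiv.sum_comp (powCoprime hc') (fun n : N => (χ : G → ℂ) n * conj ((η : N → ℂ) n))]
    apply Finset.sum_congr rfl
    intro n _
    show (χ : G → ℂ) n * conj ((η : N → ℂ) (n ^ k)) = (χ : G → ℂ) ((n ^ k : N) : G) * conj ((η : N → ℂ) (n ^ k))
    congr 1
    rw [Subgroup.coe_pow, hχ]
  let O := {η : IrrCharacter N // classInner (fun n : N => (χ : G → ℂ) n) (η : N → ℂ) ≠ 0}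
  letI : Fintype O := Fintype.ofFinite _
  let f : Function.End O := fun η => ⟨T η.1, by rw [hTinner]; exact η.2⟩
  have hfpow : ∀ (n : ℕ) (x : O) (m : N), (((f ^ n) x).1 : N → ℂ) m = (x.1 : N → ℂ) (m ^ (k ^ n)) := by
    intro n
    induction n with
    | zero =>
      intro x m
      rw [pow_zero, pow_zero, pow_one]
      rfl
    | succ n ih =>
      intro x m
      rw [pow_succ]
      show (((f ^ n) (f x)).1 : N → ℂ) m = _
      rw [ih]
      show (x.1 : N → ℂ) ((m ^ (k ^ n)) ^ k) = _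
      rw [← pow_mul, ← pow_succ]
  have hf1 : f ^ p ^ e = 1 := by
    funext x
    apply Subtype.ext
    apply Subtype.ext
    funext m
    rw [hfpow]
    show (x.1 : N → ℂ) (m ^ (k ^ p ^ e)) = (x.1 : N → ℂ) m
    congr 1
    have h1 : k ^ p ^ e ≡ 1 [MOD orderOf m] := by
      apply hke.of_dvd
      exact (orderOf_dvd_natCard m).trans (Subgroup.card_subgroup_dvd_card N)
    have h2 := (pow_eq_pow_iff_modEq (x := m)).2 h1
    rw [h2, pow_one]
  have hcard := Equiv.Perm.card_fixedPoints_modEq (f := f) (p := p) (n := e) hf1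
  -- the size of O
  have hcardO : Nat.card O = (inertia N (θ : N → ℂ)).index := by
    rw [← card_conjugates N (θ : N → ℂ)]
    let F : O → {ψ : N → ℂ // ∃ g : G, ψ = fun n : N => (θ : N → ℂ) ⟨g * n * g⁻¹, (inferInstance : N.Normal).conj_mem n n.2 g⟩} :=
      fun η => ⟨(η.1 : N → ℂ), by
        obtain ⟨x, hx⟩ := Cfsg.Agent.S4873.conj_of_common N χ.2 η.1.2 θ.2 η.2 hθ
        exact ⟨x, hx.symm⟩⟩
    refine Nat.card_eq_of_bijective F ⟨?_, ?_⟩
    · intro a b hab
      apply Subtype.ext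
      apply Subtype.ext
      have h9 : (F a).1 = (F b).1 := congrArg Subtype.val hab
      exact h9
    · rintro ⟨ψ, g, rfl⟩
      refine ⟨⟨⟨conjFun N (θ : N → ℂ) g, isIrr_conjFun N θ.2 g⟩, ?_⟩, rfl⟩
      show classInner (fun n : N => (χ : G → ℂ) n) (conjFun N (θ : N → ℂ) g) ≠ 0
      rw [classInner_conjFun _ hχc]
      exact hθ
  have hdvd : (inertia N (θ : N → ℂ)).index ∣ N.index :=
    Subgroup.index_dvd_of_le (le_inertia N (IsCharacter.isClassFunction' (IsIrrCharacter.isCharacter' θ.2)))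
  have hnd : ¬ p ∣ Fintype.card O := by
    rw [← Nat.card_eq_fintype_card, hcardO]
    exact fun h => hidx (h.trans hdvd)
  -- a fixed point
  have hfix : ∃ η : O, f η = η := by
    by_contra hno
    push_neg at hno
    have h0 : Fintype.card f.fixedPoints = 0 := by
      rw [Fintype.card_eq_zero_iff]
      exact ⟨fun x => hno x.1 x.2⟩
    rw [h0] at hcard
    exact hnd (Nat.modEq_zero_iff_dvd.1 hcard)
  obtain ⟨η, hη⟩ := hfix
  have hηk : ∀ n : N, (η.1 : N → ℂ) (n ^ k) = (η.1 : N → ℂ) n := by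
    intro n
    have := congrFun (congrArg (fun z : O => (z.1 : N → ℂ)) hη) n
    exact this
  obtain ⟨x, hx⟩ := Cfsg.Agent.S4873.conj_of_common N χ.2 θ.2 η.1.2 hθ η.2
  intro n
  rw [← hx, conjFun_apply, conjFun_apply]
  have h3 : (⟨x * ((n ^ k : N) : G) * x⁻¹, (inferInstance : N.Normal).conj_mem _ (n ^ k).2 x⟩ : N) =
      (⟨x * (n : G) * x⁻¹, (inferInstance : N.Normal).conj_mem n n.2 x⟩ : N) ^ k := by
    apply Subtype.ext
    simp [conj_pow]
  rw [h3, hηk]

end Cfsg.Agent.S4518
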