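import Cfsg.Statements.S5119
import Cfsg.Agent.Lib.FusionStrong

set_option autoImplicit false
open Cfsg

namespace Cfsg.Agent.S5119


/-- Let F be a saturated fusion system over a finite p-group S and E a subsystem of F over a subgroup T that is strongly closed in F. Then E is invariant in F (invariance under Aut_F(T) plus the Frattini condition) if and only if the strong invariance condition holds: for P ≤ Q ≤ T, every map φ of E from P into Q and every map ψ of F with source Q, the transported map ψ φ ψ⁻¹ on ψ(P) is a map of E. -/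
theorem result {Ω : Type*} [Group Ω] {S : Subgroup Ω} [Finite S] (p : ℕ) [Fact p.Prime] (hS : IsPGroup p S) (F : Cfsg.FusionSystem S) (hF : F.IsSaturated p) {T : Subgroup Ω} (E : Cfsg.FusionSystem T) (hE : E.IsSubsystemOf F) (hT : F.StronglyClosed T) : E.IsInvariantIn F ↔ ∀ (P Q : Subgroup Ω) (hPQ : P ≤ Q) (_ : Q ≤ T) (φ : P →* Ω) (_ : φ ∈ E.Hom P) (hφQ : ∀ x : P, φ x ∈ Q) (ψ : Q →* Ω) (_ : ψ ∈ F.Hom Q), ∃ χ ∈ E.Hom ((P.subgroupOf Q).map ψ), ∀ (x : P) (hx : ψ (Subgroup.inclusion hPQ x) ∈ (P.subgroupOf Q).map ψ), χ ⟨ψ (Subgroup.inclusion hPQ x), hx⟩ = ψ ⟨φ x, hφQ x⟩ := by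
  open Cfsg.Agent.Lib.FusionStrong Cfsg.Agent.Lib.FusionBasic Cfsg.Agent.Lib.FusionAut Cfsg.FusionSystem in
  constructor
  · rintro ⟨-, -, hconj, hfr⟩ P Q hPQ hQT φ hφ hφQ ψ hψ
    have hPT : P ≤ T := hPQ.trans hQT
    obtain ⟨α, hα, ψ₀, hψ₀, eψ⟩ := hfr Q hQT ψ hψ
    have hψ₀T : ∀ x : Q, ψ₀ x ∈ T := fun x => map_mem_S E hψ₀ x
    -- the restriction of `ψ₀` to `P`
    have hres := restrict_mem E hψ₀ hPQ
    set Y₀ := (ψ₀.comp (Subgroup.inclusion hPQ)).range with hY₀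
    obtain ⟨σ, hσ, hσ1, hσ2, hσ3⟩ := exists_inverse E hres rfl
    obtain ⟨τ₁, hτ₁, eτ₁⟩ := exists_comp E hσ hφ hσ2
    have hτ₁Q : ∀ y, τ₁ y ∈ Q := fun y => by
      rw [eτ₁]
      exact hφQ _
    obtain ⟨τ, hτ, eτ⟩ := exists_comp E hτ₁ hψ₀ hτ₁Q
    have hY₀T : Y₀ ≤ T := range_le E hres
    obtain ⟨χ₁, hχ₁, eχ₁⟩ := hconj Y₀ hY₀T τ hτ α hα
    have hY : (P.subgroupOf Q).map ψ = (Y₀.subgroupOf T).map (T.subtype.comp α.toMonoidHom) := by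
      ext y
      constructor
      · rintro ⟨z, hz, rfl⟩
        refine ⟨⟨ψ₀ z, hψ₀T z⟩, ⟨⟨z, hz⟩, rfl⟩, ?_⟩
        exact (eψ z (hψ₀T z)).symm
      · rintro ⟨⟨t, ht⟩, ⟨⟨z, hz⟩, e⟩, rfl⟩
        refine ⟨Subgroup.inclusion hPQ ⟨z, hz⟩, hz, ?_⟩
        rw [eψ _ (hψ₀T _)]
        show ((α _ : T) : Ω) = ((α _ : T) : Ω)
        congr 2
        exact Subtype.ext e
    rw [hY]
    refine ⟨χ₁, hχ₁, fun x hx => ?_⟩
    have hxY : ψ₀ (Subgroup.inclusion hPQ x) ∈ Y₀ := ⟨x, rfl⟩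
    have h1 := eχ₁ ⟨_, hxY⟩ (map_mem_S E hτ _) (by
      refine ⟨⟨_, hY₀T hxY⟩, hxY, rfl⟩)
    have h2 : τ ⟨_, hxY⟩ = ψ₀ ⟨φ x, hφQ x⟩ := by
      have h2' : τ₁ ⟨_, hxY⟩ = φ x := by
        rw [eτ₁]
        congr 1
        exact Subtype.ext (hσ1 x hxY)
      rw [eτ]
      congr 1
      exact Subtype.ext h2'
    rw [eψ ⟨φ x, hφQ x⟩ (hψ₀T _)]
    have h3 : ((α ⟨ψ₀ ⟨φ x, hφQ x⟩, hψ₀T _⟩ : T) : Ω) = ((α ⟨τ ⟨_, hxY⟩, map_mem_S E hτ _⟩ : T) : Ω) := by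
      congr 2
      exact Subtype.ext h2.symm
    rw [h3, ← h1]
    congr 1
    apply Subtype.ext
    exact eψ _ (hψ₀T _)
  · intro hstr
    refine ⟨hE, hT, ?_, ?_⟩
    · intro P hPT φ hφ α hα
      obtain ⟨χ, hχ, e⟩ := hstr P T hPT le_rfl φ hφ (fun x => map_mem_S E hφ x) _
        ((mem_autGroup_iff F hT.1).mp hα)
      exact ⟨χ, hχ, fun x _ hαx => e x hαx⟩
    · intro P hPT φ hφ
      exact fr_of_strong hS hF hE hT hstr hPT hφ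

end Cfsg.Agent.S5119
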