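import Cfsg.Statements.S5315
import Cfsg.Agent.Lib.FusionGrun

set_option autoImplicit false
open Cfsg

namespace Cfsg.Agent.S5315


/-- An analogue of Grün's lemma for fusion systems. Let F be a saturated fusion system over a finite p-group S that is perfect in the sense that its hyperfocal subgroup is all of S (F coincides with its p-residual subsystem). Then the second centre of F equals its centre: every fusion system over S/(Z(F) ∩ S) that is the factor system of F modulo its centre Z(F), read through the quotient map, has trivial centre. -/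
theorem result {Ω : Type*} [Group Ω] {S : Subgroup Ω} [Finite S] (p : ℕ) [Fact p.Prime] (hS : IsPGroup p S) (F : Cfsg.FusionSystem S) (hF : F.IsSaturated p)
    (hperf : F.hyperfocalSubgroup p = S)
    (E : Cfsg.FusionSystem (⊤ : Subgroup (↥S ⧸ (F.center).subgroupOf S)))
    (hE : F.IsFactorSystem F.center (QuotientGroup.mk' ((F.center).subgroupOf S)) E) : E.center = ⊥ := by
  classical
  open Cfsg.FusionSystem Cfsg.Agent.Lib.FusionGrun Cfsg.Agent.Lib.FusionBasic Cfsg.Agent.Lib.FusionNormal Cfsg.Agent.Lib.FusionHyp Cfsg.Agent.Lib.FusionSat Cfsg.Agent.Lib.FusionFactor in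
  have hZc : F.IsCentral F.center := isCentral_center F
  have hZS : F.center ≤ S := hZc.1
  have hZsc : F.StronglyClosed F.center := IsCentral.stronglyClosed hZc
  rw [eq_bot_iff]
  refine (sSup_le fun W hW => ?_ : sSup {Q | E.IsCentral Q} ≤ ⊥)
  have hW' : E.IsCentral W := hW
  set θ := QuotientGroup.mk' ((F.center).subgroupOf S) with hθ
  set X := preimageAlong θ W with hX
  have hXS : X ≤ S := preimageAlong_le θ W
  have hmemX : ∀ x : Ω, x ∈ X ↔ ∃ h : x ∈ S, θ ⟨x, h⟩ ∈ W := fun x => mem_preimageAlong θ W x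
  have hker : ∀ s : S, θ s = 1 ↔ (s : Ω) ∈ F.center := hE.2.1
  have hZX : F.center ≤ X := by
    intro z hz
    rw [hmemX]
    refine ⟨hZS hz, ?_⟩
    rw [(hker ⟨z, hZS hz⟩).mpr hz]
    exact W.one_mem
  -- stability
  have hst : ∀ {P : Subgroup Ω} {φ : P →* Ω}, φ ∈ F.Hom P → ∀ x : P, (x : Ω) ∈ X → (x : Ω)⁻¹ * φ x ∈ F.center := by
    intro P φ hφ x hx
    obtain ⟨h1, h2⟩ := (hmemX _).mp hx
    exact factor_stab hZc hE hW' hφ x h1 h2
  have hXsc : F.StronglyClosed X := by
    refine ⟨hXS, fun R hR φ hφ x => ?_⟩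
    have h1 := hst hφ x (hR x.2)
    have h2 : φ x = (x : Ω) * ((x : Ω)⁻¹ * φ x) := by group
    rw [h2]
    exact X.mul_mem (hR x.2) (hZX h1)
  have hXX : ⁅X, X⁆ ≤ F.center := by
    rw [Subgroup.commutator_le]
    intro x hx y hy
    have h1 := hst (F.conj_mem hXS (hXS hy)) ⟨x⁻¹, X.inv_mem hx⟩ (X.inv_mem hx)
    have h2 : (x⁻¹)⁻¹ * (Cfsg.conjHom X y ⟨x⁻¹, X.inv_mem hx⟩) = x * y * x⁻¹ * y⁻¹ := by
      show (x⁻¹)⁻¹ * (y * x⁻¹ * y⁻¹) = x * y * x⁻¹ * y⁻¹
      group
    rw [commutatorElement_def, ← h2]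
    exact h1
  have hZcomm : ∀ z ∈ F.center, ∀ s ∈ S, s * z = z * s := by
    intro z hz s hs
    exact F.center_le_centralizer hz s hs
  have hXZ : ⁅X, F.center⁆ ≤ ⊥ := by
    rw [Subgroup.commutator_le]
    intro x hx z hz
    rw [Subgroup.mem_bot, commutatorElement_def, hZcomm z hz x (hXS hx)]
    group
  have hXn : F.IsNormal X := by
    refine (Cfsg.Agent.S5088.result p hS F hF X).mpr ⟨2, ![⊥, F.center, X], rfl, rfl, ?_, ?_⟩
    · intro i j hij
      fin_cases i <;> fin_cases j <;> simp_all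
    · intro i
      fin_cases i
      · exact ⟨hZsc, by simpa using hXZ⟩
      · exact ⟨hXsc, by simpa using hXX⟩
  -- the centre of S
  have hfoc : S ≤ F.focalSubgroup := by
    intro s hs
    have h1 : s ∈ F.hyperfocalSubgroup p := by
      rw [hperf]
      exact hs
    exact hyp_le_foc F h1
  have hXc : ∀ x ∈ X, ∀ s ∈ S, s * x = x * s := by
    intro x hx
    have hle : F.focalSubgroup ≤ Subgroup.centralizer ({x} : Set Ω) := by
      rw [Cfsg.FusionSystem.focalSubgroup, Subgroup.closure_le]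
      rintro _ ⟨P, φ, u, hφ, rfl⟩
      have hPS : P ≤ S := source_le F hφ
      obtain ⟨ψ, hψ, h1, -⟩ := hXn.2 P φ hφ
      have huS : (u : Ω) ∈ S := hPS u.2
      have hv : φ u ∈ S := map_mem_S F hφ u
      set a : ↥(P ⊔ X) := Subgroup.inclusion le_sup_right ⟨x, hx⟩ with ha
      set b : ↥(P ⊔ X) := Subgroup.inclusion le_sup_left u with hb
      have hψb : ψ b = φ u := h1 u
      have hz : (x : Ω)⁻¹ * (u * x * (u : Ω)⁻¹) ∈ F.center := hst (F.conj_mem hXS huS) ⟨x, hx⟩ hx
      have hz1 : (x : Ω)⁻¹ * ψ a ∈ F.center := hst hψ a hx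
      have e1 : ψ (a⁻¹ * (b * a * b⁻¹)) = x⁻¹ * (u * x * (u : Ω)⁻¹) := IsCentral.fix hZc hψ _ hz
      rw [map_mul, map_inv, map_mul, map_mul, map_inv, hψb] at e1
      set z₁ := (x : Ω)⁻¹ * ψ a with hz₁
      have e3 : ψ a = x * z₁ := by
        rw [hz₁]
        group
      rw [e3] at e1
      have e4 : (x * z₁)⁻¹ * (φ u * (x * z₁) * (φ u)⁻¹) = x⁻¹ * (φ u * x * (φ u)⁻¹) := by
        have c1 : Commute x z₁ := (hZcomm z₁ hz1 x (hXS hx))
        have c2 : Commute (φ u) z₁ := hZcomm z₁ hz1 _ hv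
        have c3 : Commute (x⁻¹ * φ u * x) z₁ := ((c1.inv_left).mul_left c2).mul_left c1
        have e5 : (x * z₁)⁻¹ * (φ u * (x * z₁) * (φ u)⁻¹) = z₁⁻¹ * ((x⁻¹ * φ u * x) * z₁) * (φ u)⁻¹ := by group
        rw [e5, c3.eq]
        group
      rw [e4] at e1
      have e7 : (u : Ω) * x * (u : Ω)⁻¹ = φ u * x * (φ u)⁻¹ := (mul_left_cancel e1).symm
      rw [SetLike.mem_coe, Subgroup.mem_centralizer_iff]
      intro h hh
      have hh' : h = x := hh
      rw [hh']
      have e8 : x * ((u : Ω)⁻¹ * φ u) = (u : Ω)⁻¹ * ((u : Ω) * x * (u : Ω)⁻¹) * φ u := by group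
      rw [e8, e7]
      group
    intro s hs
    have := hle (hfoc hs)
    rw [Subgroup.mem_centralizer_iff] at this
    exact (this x rfl).symm
  -- the automorphisms are trivial
  have hXcen : F.IsCentral X := by
    refine ⟨hXS, fun P φ hφ => ?_⟩
    obtain ⟨ψ, hψ, h1, -⟩ := hXn.2 P φ hφ
    refine ⟨ψ, hψ, h1, fun x => ?_⟩
    have hres := restrict_mem F hψ (le_sup_right : X ≤ P ⊔ X)
    have hr := (StronglyClosed.weaklyClosed hXsc).2 _ hres
    have hα := isoOfRange_mem_autGroup hres hr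
    have h2 := aut_eq_one hS hF hXsc hZX hXc hα (fun y => hst hres y y.2)
      (fun y hy => IsCentral.fix hZc hres y hy)
    have h3 : ((isoOfRange hres hr x : X) : Ω) = x := by
      rw [h2]
      rfl
    exact h3
  have hle : X ≤ F.center := IsCentral.le_center hXcen
  intro w hw
  have hwtop : w ∈ (⊤ : Subgroup (↥S ⧸ (F.center).subgroupOf S)) := Subgroup.mem_top w
  obtain ⟨s, rfl⟩ : ∃ s : S, θ s = w := QuotientGroup.mk'_surjective _ w
  have h1 : (s : Ω) ∈ X := (hmemX _).mpr ⟨s.2, hw⟩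
  rw [Subgroup.mem_bot]
  exact (hker s).mpr (hle h1)

end Cfsg.Agent.S5315
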