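import Cfsg.Statements.S5148
import Cfsg.Agent.Lib.FusionGrun
import Cfsg.Agent.S5315

set_option autoImplicit false
open Cfsg

namespace Cfsg.Agent.S5148


/-- A quasisimple fusion system over a finite p-group S (saturated, equal to its p-residual subsystem, with simple — in particular nontrivial — factor system modulo its centre) has S nonabelian. -/
theorem result {Ω : Type*} [Group Ω] {S : Subgroup Ω} [Finite S] (p : ℕ) [Fact p.Prime] (hS : IsPGroup p S) (F : Cfsg.FusionSystem S) (hq : F.Quasisimple p) : ¬ IsMulCommutative S := by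
  classical
  open Cfsg.FusionSystem Cfsg.Agent.Lib.FusionGrun Cfsg.Agent.Lib.FusionBasic Cfsg.Agent.Lib.FusionFactor Cfsg.Agent.Lib.FusionSolv in
  intro hab
  obtain ⟨hF, hperf, hq⟩ := hq
  have hZc : F.IsCentral F.center := isCentral_center F
  have hZsc := IsCentral.stronglyClosed hZc
  have hker : ∀ s : S, QuotientGroup.mk' ((F.center).subgroupOf S) s = 1 ↔ (s : Ω) ∈ F.center := by
    intro s
    rw [QuotientGroup.mk'_apply, QuotientGroup.eq_one_iff]
    exact Subgroup.mem_subgroupOf
  have hrange : (QuotientGroup.mk' ((F.center).subgroupOf S)).range = ⊤ :=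
    MonoidHom.range_eq_top.mpr (QuotientGroup.mk'_surjective _)
  obtain ⟨E, hE⟩ := exists_factorSystem F hZsc (QuotientGroup.mk' ((F.center).subgroupOf S)) hker hrange
  have hs := hq E hE
  have hc := Cfsg.Agent.S5315.result p hS F hF hperf E hE
  obtain ⟨hEs, hne, hsimple⟩ := hs
  have habq : ∀ a ∈ (⊤ : Subgroup (↥S ⧸ (F.center).subgroupOf S)), ∀ b ∈ (⊤ : Subgroup (↥S ⧸ (F.center).subgroupOf S)), a * b = b * a := by
    intro a _ b _
    obtain ⟨a', rfl⟩ := QuotientGroup.mk'_surjective _ a
    obtain ⟨b', rfl⟩ := QuotientGroup.mk'_surjective _ b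
    rw [← map_mul, ← map_mul, hab.1.comm a' b']
  have hp := isPGroup_top_quotient hS ((F.center).subgroupOf S)
  have hn := inner_isNormalIn_of_abelian hp hEs habq
  rcases hsimple _ _ hn with h | ⟨-, h⟩
  · exact hne h
  · apply hne
    have hcen : E.IsCentral (⊤ : Subgroup (↥S ⧸ (F.center).subgroupOf S)) := by
      refine ⟨le_rfl, fun P φ hφ => ?_⟩
      rw [← h P] at hφ
      obtain ⟨hP, g, hg, e⟩ := hφ
      have hPs : P ⊔ ⊤ ≤ (⊤ : Subgroup (↥S ⧸ (F.center).subgroupOf S)) := le_top
      refine ⟨(P ⊔ ⊤).subtype, subtype_mem E hPs, fun x => ?_, fun x => rfl⟩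
      show (x : ↥S ⧸ (F.center).subgroupOf S) = φ x
      rw [e x, habq g hg x (hP x.2)]
      group
    have h1 := IsCentral.le_center hcen
    rw [hc] at h1
    exact le_bot_iff.mp h1

end Cfsg.Agent.S5148
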