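import Cfsg.Statements.S5160
import Cfsg.Agent.Lib.FusionCentric
import Cfsg.Agent.S5076
import Cfsg.Agent.S5119

set_option autoImplicit false
open Cfsg

namespace Cfsg.Agent.S5160


/-- Let G be a finite group with nontrivial Sylow p-subgroup S and F its fusion system on S. Suppose (a) no nontrivial proper subgroup of S is strongly closed in F, and (b) the automorphisms of S induced by G are generated by those induced, for R running over the fully normalized radical centric subgroups of F, by the subgroup of N_G(R) generated by its elements of p-power order. Then F is simple. -/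
theorem result {G : Type*} [Group G] [Finite G] (p : ℕ) [Fact p.Prime] (S : Sylow p G) (hS1 : (S : Subgroup G) ≠ ⊥) (ha : ∀ T : Subgroup G, (Cfsg.groupFusionSystem (S : Subgroup G)).StronglyClosed T → T = ⊥ ∨ T = (S : Subgroup G)) (hb : Cfsg.autInducedBy ⊤ (S : Subgroup G) = ⨆ (R : Subgroup G) (_ : (Cfsg.groupFusionSystem (S : Subgroup G)).IsFullyNormalized R ∧ (Cfsg.groupFusionSystem (S : Subgroup G)).IsRadical p R ∧ (Cfsg.groupFusionSystem (S : Subgroup G)).IsCentric R), Cfsg.autInducedBy (Subgroup.closure {g : G | g ∈ Subgroup.normalizer (R : Set G) ∧ ∃ k : ℕ, orderOf g = p ^ k}) (S : Subgroup G)) : (Cfsg.groupFusionSystem (S : Subgroup G)).IsSimple p := by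
  open Cfsg.Agent.Lib.FusionCentric Cfsg.Agent.Lib.FusionStrong Cfsg.Agent.Lib.FusionBasic Cfsg.Agent.Lib.FusionAut Cfsg.FusionSystem Cfsg.Agent.Lib.FusionNormal Cfsg.Agent.Lib.FusionSat in
  have hF : (Cfsg.groupFusionSystem (S : Subgroup G)).IsSaturated p := Cfsg.Agent.S5076.result p S
  have hSp : IsPGroup p (S : Subgroup G) := S.isPGroup'
  refine ⟨hF, hS1, fun T E hE => ?_⟩
  obtain ⟨⟨hEs, -, hinv⟩, -⟩ := hE
  have hEF : E.IsSubsystemOf (Cfsg.groupFusionSystem (S : Subgroup G)) := hinv.1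
  have hT : (Cfsg.groupFusionSystem (S : Subgroup G)).StronglyClosed T := hinv.2.1
  have hfr := hinv.2.2.2
  have hstr : StrongInv (Cfsg.groupFusionSystem (S : Subgroup G)) E :=
    (Cfsg.Agent.S5119.result p hSp _ hF E hEF hT).mp hinv
  rcases ha T hT with h0 | h1
  · exact Or.inl h0
  subst h1
  refine Or.inr ⟨rfl, fun P => ?_⟩
  -- `p`-elements of `Aut_F(R)` lie in `Aut_E(R)`
  have hA : ∀ R : Subgroup G, (Cfsg.groupFusionSystem (S : Subgroup G)).IsFullyNormalized R →
      ∀ (α : MulAut R), α ∈ (Cfsg.groupFusionSystem (S : Subgroup G)).autGroup R → ∀ k : ℕ,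
      α ^ (p ^ k) = 1 → α ∈ E.autGroup R := by
    intro R hR α hα k hk
    have hRS : R ≤ (S : Subgroup G) := hR.1
    have hfinR : Finite R := inferInstance
    obtain ⟨σ, hσ, hσc⟩ := exists_conj_autInducedBy (IsSaturated.fullyNormalized hSp hF hR).1 hα hk
    have h1 : σ * α * σ⁻¹ ∈ E.autGroup R := autInducedBy_le_autGroup E hRS hσc
    have h2 := StrongInv.conj_autGroup hstr hRS hRS (inv_mem hσ) h1
    have e : σ⁻¹ * (σ * α * σ⁻¹) * σ⁻¹⁻¹ = α := by group
    rwa [e] at h2
  -- the subgroup generated by `p`-elements of the normalizer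
  have hB : ∀ R : Subgroup G, (Cfsg.groupFusionSystem (S : Subgroup G)).IsFullyNormalized R →
      ∀ g ∈ Subgroup.closure {g : G | g ∈ Subgroup.normalizer (R : Set G) ∧ ∃ k : ℕ, orderOf g = p ^ k},
      ∃ hg : g ∈ Subgroup.normalizer (R : Set G), conjAut R ⟨g, hg⟩ ∈ E.autGroup R := by
    intro R hR
    have hRS : R ≤ (S : Subgroup G) := hR.1
    have hle : Subgroup.closure {g : G | g ∈ Subgroup.normalizer (R : Set G) ∧ ∃ k : ℕ, orderOf g = p ^ k} ≤
        ((E.autGroup R).comap (conjAut R)).map (Subgroup.normalizer (R : Set G)).subtype := by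
      rw [Subgroup.closure_le]
      rintro g ⟨hg, k, hk⟩
      refine ⟨⟨g, hg⟩, ?_, rfl⟩
      show conjAut R ⟨g, hg⟩ ∈ E.autGroup R
      refine hA R hR _ ?_ k ?_
      · rw [mem_autGroup_iff _ hRS]
        exact ⟨hRS, fun x => hRS ((conjAut R ⟨g, hg⟩ x).2), g, fun x => rfl⟩
      · rw [← map_pow]
        have : (⟨g, hg⟩ : Subgroup.normalizer (R : Set G)) ^ (p ^ k) = 1 := by
          apply Subtype.ext
          show g ^ (p ^ k) = 1
          rw [← hk]
          exact pow_orderOf_eq_one g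
        rw [this, map_one]
    intro g hg
    obtain ⟨⟨g', hg'⟩, h2, rfl⟩ := hle hg
    exact ⟨hg', h2⟩
  -- automorphisms of `S`
  have hC : (Cfsg.groupFusionSystem (S : Subgroup G)).autGroup S ≤ E.autGroup S := by
    intro α hα
    have h1 : α ∈ Cfsg.autInducedBy ⊤ (S : Subgroup G) := by
      rw [mem_autGroup_iff _ le_rfl] at hα
      obtain ⟨-, -, g, hg⟩ := hα
      exact mem_autInducedBy_iff.mpr ⟨g, Subgroup.mem_top _, hg⟩
    rw [hb] at h1
    refine (iSup₂_le fun R hR => ?_ : _ ≤ E.autGroup S) h1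
    obtain ⟨hRn, hRr, hRc⟩ := hR
    have hRS : R ≤ (S : Subgroup G) := hRn.1
    rw [Cfsg.autInducedBy, Subgroup.closure_le]
    rintro β ⟨g, hgK, hβ⟩
    obtain ⟨hgN, hgE⟩ := hB R hRn g hgK
    have hβF : β ∈ (Cfsg.groupFusionSystem (S : Subgroup G)).autGroup S := by
      rw [mem_autGroup_iff _ le_rfl]
      exact ⟨le_rfl, fun x => (β x).2, g, hβ⟩
    refine mem_autGroup_of_restrict hSp hF hEs hEF hβF R hRc ?_ _
      ((mem_autGroup_iff E hRS).mp hgE) ?_
    · intro s
      rw [hβ s]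
      exact Subgroup.mem_normalizer_iff.mp hgN s
    · intro x h
      exact (hβ ⟨x, h⟩).symm
  ext φ
  refine ⟨fun h => hEF P h, fun hφ => ?_⟩
  have hPS : P ≤ (S : Subgroup G) := source_le _ hφ
  obtain ⟨α, hα, φ₀, h₀, e⟩ := hfr P hPS φ hφ
  have hαm := (mem_autGroup_iff E le_rfl).mp (hC hα)
  obtain ⟨χ, hχ, eχ⟩ := exists_comp E h₀ hαm (fun x => map_mem_S E h₀ x)
  refine hom_of_eq hχ fun x => ?_
  rw [eχ, e x (map_mem_S E h₀ x)]
  rfl

end Cfsg.Agent.S5160
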