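import Cfsg.Statements.S5186
import Cfsg.Agent.Lib.EssP3

set_option autoImplicit false
universe u
open Cfsg

namespace Cfsg.Agent.S5186


/-- Let F be a saturated fusion system over a finite p-group S and H an essential subgroup of order p³. Then H is elementary abelian, or p is odd and H is extraspecial of exponent p, or p = 2 and H is the quaternion group of order 8. -/
theorem result {Ω : Type u} [Group Ω] {S : Subgroup Ω} [Finite S] (p : ℕ) [Fact p.Prime] (hS : IsPGroup p S)
    (F : Cfsg.FusionSystem S) (hF : F.IsSaturated p) (H : Subgroup Ω) (hH : F.IsEssential p H) (hcard : Nat.card H = p ^ 3) :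
    Cfsg.IsElementaryAbelian p H ∨ (Odd p ∧ Cfsg.IsExtraspecial p ↥H ∧ ∀ x ∈ H, x ^ p = 1) ∨
      (p = 2 ∧ Nonempty (↥H ≃* QuaternionGroup 2)) := by
  classical
  obtain ⟨-, -, hnorm, E, hE⟩ := hH
  haveI : Finite H := Nat.finite_of_card_ne_zero (by rw [hcard]; exact pow_ne_zero _ (Fact.out : p.Prime).ne_zero)
  haveI : Finite (MulAut H) := Finite.of_injective (fun f : MulAut H => (f : H → H))
    (fun f g h => MulEquiv.ext (congrFun h))
  have hX := Cfsg.Agent.Lib.StronglyEmbedded.IsStronglyPEmbedded.pCore_eq_bot hE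
  rcases Cfsg.Agent.Lib.EssP3.classify hcard (F.autGroup H) _ hX hE.1 with ⟨hc, hexp⟩ | ⟨ho, hes, hexp⟩ | ⟨h2, hq⟩
  · left
    refine ⟨⟨⟨hc⟩⟩, fun a ha => ?_⟩
    have := congrArg Subtype.val (hexp ⟨a, ha⟩)
    exact this
  · right; left
    refine ⟨ho, hes, fun a ha => ?_⟩
    have := congrArg Subtype.val (hexp ⟨a, ha⟩)
    exact this
  · right; right
    exact ⟨h2, hq⟩

end Cfsg.Agent.S5186
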