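import Cfsg.Statements.S5194
import Mathlib
import Cfsg.Agent.Lib.ThmOFusF

set_option autoImplicit false
open Cfsg

namespace Cfsg.Agent.S5194


/-- Thompson's normal p-complement Theorem for fusion systems. Let F be a saturated fusion system over a finite p-group S such that p is odd or F is S₄-free (the symmetric group of degree 4 is not involved in any model of the normalizer system of a fully normalized F-centric subgroup), and let J(S) be the subgroup generated by the abelian subgroups of S of largest order. If the centralizer fusion system of Z(S) in F is the inner fusion system of C_S(Z(S)) = S and the normalizer fusion system of J(S) in F is the inner fusion system of N_S(J(S)) = S, then F is the inner fusion system of S. -/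
theorem result {Ω : Type*} [Group Ω] {S : Subgroup Ω} [Finite S] (p : ℕ) [Fact p.Prime] (hS : IsPGroup p S) (F : Cfsg.FusionSystem S) (hF : F.IsSaturated p) (hp : p ≠ 2 ∨ F.IsSectionFree p (Equiv.Perm (Fin 4))) (hC : ∀ C : Cfsg.FusionSystem (Cfsg.FusionSystem.centralizerIn S (S ⊓ Subgroup.centralizer (S : Set Ω))), F.IsCentralizerSystem (S ⊓ Subgroup.centralizer (S : Set Ω)) C → ∀ P : Subgroup Ω, C.Hom P = (Cfsg.innerFusionSystem (Cfsg.FusionSystem.centralizerIn S (S ⊓ Subgroup.centralizer (S : Set Ω)))).Hom P) (hN : ∀ N : Cfsg.FusionSystem (Cfsg.FusionSystem.normalizerIn S (Cfsg.thompsonSubgroupAOf S)), F.IsNormalizerSystem (Cfsg.thompsonSubgroupAOf S) N → ∀ P : Subgroup Ω, N.Hom P = (Cfsg.innerFusionSystem (Cfsg.FusionSystem.normalizerIn S (Cfsg.thompsonSubgroupAOf S))).Hom P) : ∀ P : Subgroup Ω, F.Hom P = (Cfsg.innerFusionSystem S).Hom P := by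
  classical
  have hZS : S ⊓ Subgroup.centralizer (S : Set Ω) ≤ S := inf_le_left
  have hJS : Cfsg.thompsonSubgroupAOf S ≤ S := Cfsg.Agent.Lib.FusionJGen.Jf_le S
  have hC' : ∀ (P : Subgroup Ω) (φ : P →* Ω), φ ∈ F.centralizerHom (S ⊓ Subgroup.centralizer (S : Set Ω)) P →
      φ ∈ (Cfsg.innerFusionSystem S).Hom P := by
    intro P φ hφ
    have h1 : φ ∈ (Cfsg.Agent.Lib.FusionBasic.centralizerSystem F _ hZS).Hom P := hφ
    rw [hC _ (Cfsg.Agent.Lib.FusionBasic.isCentralizerSystem_centralizerSystem F _ hZS) P] at h1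
    exact Cfsg.Agent.Lib.ThmOFus.inner_mono inf_le_left h1
  have hN' : ∀ (P : Subgroup Ω) (φ : P →* Ω), φ ∈ F.normalizerHom (Cfsg.thompsonSubgroupAOf S) P →
      φ ∈ (Cfsg.innerFusionSystem S).Hom P := by
    intro P φ hφ
    have h1 : φ ∈ (Cfsg.Agent.Lib.FusionBasic.normalizerSystem F _ hJS).Hom P := hφ
    rw [hN _ (Cfsg.Agent.Lib.FusionBasic.isNormalizerSystem_normalizerSystem F _ hJS) P] at h1
    exact Cfsg.Agent.Lib.ThmOFus.inner_mono inf_le_left h1
  have hNoS : p = 2 → Cfsg.Agent.Lib.ThmOFus.NoS3 F := by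
    intro h2
    rcases hp with h | h
    · exact absurd h2 h
    · exact Cfsg.Agent.Lib.ThmOFus.noS3_of_free hS hF h2 h
  have key := Cfsg.Agent.Lib.ThmOFus.main_all p _ _ Ω S ‹_› F hS hF rfl rfl hNoS hC' hN'
  intro P
  apply Set.Subset.antisymm
  · intro φ hφ
    exact key P φ hφ
  · rintro φ ⟨hP, g, hg, e⟩
    exact Cfsg.Agent.Lib.FusionSat.hom_of_eq (F.conj_mem hP hg) e

end Cfsg.Agent.S5194
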