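import Cfsg.Statements.S5196
import Cfsg.Agent.Lib.FusionCenQuad

set_option autoImplicit false
universe u
open Cfsg

namespace Cfsg.Agent.S5196

open Cfsg.FusionSystem Cfsg.Agent.Lib.FusionCenCtl Cfsg.Agent.Lib.FusionCenQuad Cfsg.Agent.Lib.FusionBasic Cfsg.Agent.Lib.FusionGrun

/-- Let p be an odd prime and W a positive characteristic p-functor: W assigns to every finite p-group Q (in a fixed universe) a subgroup W(Q), nontrivial when Q is, carried to W(R) by every isomorphism Q ≅ R; assume also Z(Q) ≤ W(Q) for every finite p-group Q. Suppose W satisfies the local condition: for every finite group G with Sylow p-subgroup P, O_p(G) ∩ Z(G) = O_p(G) ∩ Z(N_G(W(P))). Then W controls weak closure of elements in every saturated fusion system F over a finite p-group S: the centre of the normalizer fusion system of W(S) in F equals the centre of F. (For p = 2 no functor satisfies the local condition, so p is taken odd.) -/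
theorem result {p : ℕ} [Fact p.Prime] (hp : p ≠ 2) (W : ∀ (Q : Type u) [Group Q], Subgroup Q) (hW1 : ∀ (Q : Type u) [Group Q] [Finite Q], IsPGroup p Q → Nontrivial Q → W Q ≠ ⊥) (hW2 : ∀ (Q R : Type u) [Group Q] [Group R] [Finite Q], IsPGroup p Q → ∀ φ : Q ≃* R, (W Q).map φ.toMonoidHom = W R) (hWZ : ∀ (Q : Type u) [Group Q] [Finite Q], IsPGroup p Q → Subgroup.center Q ≤ W Q) (hC : ∀ (G : Type u) [Group G] [Finite G] (P : Sylow p G), Cfsg.pCore p G ⊓ Subgroup.center G = Cfsg.pCore p G ⊓ (Subgroup.center ↥(Subgroup.normalizer (((W ↥(P : Subgroup G)).map (P : Subgroup G).subtype : Subgroup G) : Set G))).map (Subgroup.normalizer (((W ↥(P : Subgroup G)).map (P : Subgroup G).subtype : Subgroup G) : Set G)).subtype) {Ω : Type u} [Group Ω] {S : Subgroup Ω} [Finite S] (hS : IsPGroup p S) (F : Cfsg.FusionSystem S) (hF : F.IsSaturated p) (N : Cfsg.FusionSystem (Cfsg.FusionSystem.normalizerIn S ((W ↥S).map S.subtype))) (hN : F.IsNormalizerSystem ((W ↥S).map S.subtype) N) : N.center = F.center := by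
  have hN' : F.IsNormalizerSystem (Wof W S) N := hN
  have hYS : Wof W S ≤ S := Wof_le W S
  have hYN := normalizerIn_Wof_top hW2 hS
  have hLoc : LocFix W p 1 := by
    intro L _ _ P c hCO hcP hcC hNc g
    have hOP := Cfsg.Agent.Lib.PCore.pCore_le_sylow P
    have hcO : c ∈ Cfsg.pCore p L := hCO (by
      rw [Subgroup.mem_centralizer_iff]
      intro o ho
      exact hcC o (hOP ho))
    have hWP : ((W ↥(P : Subgroup L)).map (P : Subgroup L).subtype : Subgroup L) ≤ P := by
      rintro _ ⟨y, -, rfl⟩
      exact y.2
    have hcN : c ∈ Subgroup.normalizer (((W ↥(P : Subgroup L)).map (P : Subgroup L).subtype : Subgroup L) : Set L) := by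
      rw [Subgroup.mem_normalizer_iff]
      intro y
      constructor
      · intro hy
        have h1 := hcC y (hWP hy)
        have h2 : c * y * c⁻¹ = y := by rw [← h1, mul_inv_cancel_right]
        rw [h2]
        exact hy
      · intro hy
        have h1 := hcC _ (hWP hy)
        have h3 : y = c * y * c⁻¹ := by
          have h4 : c * y = c * (c * y * c⁻¹) := by
            rw [← h1]
            group
          exact mul_left_cancel h4
        rw [h3]
        exact hy
    have hmem : c ∈ Cfsg.pCore p L ⊓ (Subgroup.center ↥(Subgroup.normalizer (((W ↥(P : Subgroup L)).map (P : Subgroup L).subtype : Subgroup L) : Set L))).map (Subgroup.normalizer (((W ↥(P : Subgroup L)).map (P : Subgroup L).subtype : Subgroup L) : Set L)).subtype := by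
      refine ⟨hcO, ⟨c, hcN⟩, ?_, rfl⟩
      show _ ∈ Subgroup.center _
      rw [Subgroup.mem_center_iff]
      rintro ⟨u, hu⟩
      apply Subtype.ext
      have := hNc u hu
      rw [pow_one] at this
      exact mul_inv_eq_iff_eq_mul.mp this
    rw [← hC L P] at hmem
    have hz : c ∈ Subgroup.center L := hmem.2
    rw [pow_one]
    have := Subgroup.mem_center_iff.mp hz g
    rw [mul_inv_eq_iff_eq_mul]
    exact this
  haveI hfin : Finite ↥(normalizerIn S ((W ↥S).map S.subtype)) := finite_of_le inf_le_left
  apply le_antisymm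
  · refine le_center_of_loc hLoc hW2 hWZ hS hF hN' (Z := N.center) le_rfl fun x hx => ?_
    have hZ := isCentral_center N
    have hxN : x ∈ normalizerIn S (Wof W S) := hZ.1 hx
    refine ⟨x, hxN.1, fun s hs => ?_, pow_one x⟩
    have hs' : s ∈ normalizerIn S (Wof W S) := by
      rw [hYN]
      exact hs
    have h1 := IsCentral.fix hZ (N.conj_mem (le_refl _) hs') ⟨x, hxN⟩ hx
    have h2 : s * x * s⁻¹ = x := h1
    exact mul_inv_eq_iff_eq_mul.mp h2
  · exact center_le_center_normalizer hYS hYN (fun z hz hzC => Wof_contains_center hWZ hS z hz hzC) hN'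

end Cfsg.Agent.S5196
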