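import Cfsg.Statements.S5222
import Cfsg.Agent.Lib.BisetTate
import Cfsg.Agent.Lib.ThmOChar

set_option autoImplicit false
open Cfsg

namespace Cfsg.Agent.S5222

open scoped commutatorElement

/-- Let F be a saturated fusion system over a finite p-group S whose normalizer fusion system of S is the inner fusion system of S (Aut_F(S) is a p-group). Then for every subgroup Q of S with [S, S] ≤ Q ≤ Φ(S), the normalizer fusion system of Q in F is the inner fusion system of N_S(Q) = S. -/
theorem result {Ω : Type*} [Group Ω] {S : Subgroup Ω} [Finite S] (p : ℕ) [Fact p.Prime] (hS : IsPGroup p S) (F : Cfsg.FusionSystem S) (hF : F.IsSaturated p) (hN : ∀ N : Cfsg.FusionSystem (Cfsg.FusionSystem.normalizerIn S S), F.IsNormalizerSystem S N → ∀ P : Subgroup Ω, N.Hom P = (Cfsg.innerFusionSystem (Cfsg.FusionSystem.normalizerIn S S)).Hom P) (Q : Subgroup Ω) (h1 : (commutator ↥S).map S.subtype ≤ Q) (h2 : Q ≤ (frattini ↥S).map S.subtype) : ∀ N : Cfsg.FusionSystem (Cfsg.FusionSystem.normalizerIn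 S Q), F.IsNormalizerSystem Q N → ∀ P : Subgroup Ω, N.Hom P = (Cfsg.innerFusionSystem (Cfsg.FusionSystem.normalizerIn S Q)).Hom P := by
  classical
  have hc : ⁅S, S⁆ ≤ Q := by
    rw [← Subgroup.map_subtype_commutator]
    exact h1
  have hQS : Q ≤ S := h2.trans (by
    rintro _ ⟨a, -, rfl⟩
    exact a.2)
  have hSN : S ≤ Subgroup.normalizer (Q : Set Ω) := by
    intro g hg
    have hconj : ∀ (g : Ω), g ∈ S → ∀ h ∈ Q, g * h * g⁻¹ ∈ Q := by
      intro g hg h hh
      have e : g * h * g⁻¹ = ⁅g, h⁆ * h := by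
        rw [commutatorElement_def]
        group
      rw [e]
      exact Q.mul_mem (hc (Subgroup.commutator_mem_commutator hg (hQS hh))) hh
    rw [Subgroup.mem_normalizer_iff]
    intro h
    refine ⟨hconj g hg h, fun hh => ?_⟩
    have := hconj g⁻¹ (S.inv_mem hg) _ hh
    have e : g⁻¹ * (g * h * g⁻¹) * g⁻¹⁻¹ = h := by group
    rwa [e] at this
  obtain ⟨E, hE, hEs, hEn, -⟩ := Cfsg.Agent.Lib.ThmOChar.exists_norm_system hS hF hQS hSN
  have hsc := Cfsg.Agent.Lib.FusionNormal.IsNormal.stronglyClosed hEn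
  have hfoc := Cfsg.Agent.Lib.BisetTate.foc_le_of_abelian_quot hS hEs hsc hc (fun φ hφ x => by
    have h3 := hφ
    rw [hE S] at h3
    obtain ⟨g, hg, hgx⟩ := Cfsg.Agent.Lib.BisetTate.aut_inner_of_normalizer hN h3.1
    rw [hgx]
    have e : (x : Ω)⁻¹ * (g * x * g⁻¹) = ⁅(x : Ω)⁻¹, g⁆ := by
      rw [commutatorElement_def]
      group
    rw [e]
    exact hc (Subgroup.commutator_mem_commutator (S.inv_mem x.2) hg))
  intro N hNs P
  have hSS : Cfsg.FusionSystem.normalizerIn S Q = S := inf_eq_left.mpr hSN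
  have e : (Cfsg.innerFusionSystem (Cfsg.FusionSystem.normalizerIn S Q)).Hom P = (Cfsg.innerFusionSystem S).Hom P := by
    rw [hSS]
  rw [e, hNs P, ← hE P]
  exact Cfsg.Agent.Lib.BisetTate.inner_of_foc_le_frattini hS hEs (hfoc.trans h2) P

end Cfsg.Agent.S5222
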