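import Cfsg.Statements.S5225
import Cfsg.Agent.Lib.BisetYoshida
import Cfsg.Agent.Lib.ThmOChar

set_option autoImplicit false
open Cfsg

namespace Cfsg.Agent.S5225


/-- Yoshida's Theorem for fusion systems. Let F be a saturated fusion system over a finite p-group S and N the normalizer fusion system of S in F. If the focal subgroups of F and N differ (N does not control transfer in F), then S has a quotient isomorphic to the wreath product C_p ≀ C_p (realised as a Sylow p-subgroup of the symmetric group of degree p²). -/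
theorem result {Ω : Type*} [Group Ω] {S : Subgroup Ω} [Finite S] (p : ℕ) [Fact p.Prime] (hS : IsPGroup p S) (F : Cfsg.FusionSystem S) (hF : F.IsSaturated p) (N : Cfsg.FusionSystem (Cfsg.FusionSystem.normalizerIn S S)) (hN : F.IsNormalizerSystem S N) (hne : N.focalSubgroup ≠ F.focalSubgroup) : ∃ (W : Sylow p (Equiv.Perm (Fin (p ^ 2)))) (f : ↥S →* ↥(W : Subgroup (Equiv.Perm (Fin (p ^ 2))))), Function.Surjective f := by
  classical
  have hSN : S ≤ Subgroup.normalizer (S : Set Ω) := Subgroup.le_normalizer
  obtain ⟨E, hE, hEs, -, -⟩ := Cfsg.Agent.Lib.ThmOChar.exists_norm_system hS hF le_rfl hSN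
  have hSS : Cfsg.FusionSystem.normalizerIn S S = S := inf_eq_left.mpr hSN
  have hfoc : N.focalSubgroup = E.focalSubgroup := by
    unfold Cfsg.FusionSystem.focalSubgroup
    congr 1
    ext y
    constructor
    · rintro ⟨P, φ, x, hφ, rfl⟩
      exact ⟨P, φ, x, by rw [hE P, ← hN P]; exact hφ, rfl⟩
    · rintro ⟨P, φ, x, hφ, rfl⟩
      exact ⟨P, φ, x, by rw [hN P, ← hE P]; exact hφ, rfl⟩
  rw [hfoc] at hne
  refine Cfsg.Agent.Lib.BisetYoshida.yoshida hS hF hEs (fun P φ hφ => ?_) (fun φ hφ => ?_) hne
  · rw [hE P] at hφ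
    exact hφ.1
  · rw [hE S]
    refine ⟨hφ, hSS.ge, fun x => ?_, φ.comp (Subgroup.inclusion (sup_le le_rfl le_rfl)),
      Cfsg.Agent.Lib.FusionBasic.restrict_mem F hφ _, fun x => rfl, ?_⟩
    · rw [hSS]
      exact Cfsg.Agent.Lib.FusionBasic.map_mem_S F hφ x
    · ext y
      constructor
      · rintro ⟨a, -, rfl⟩
        exact Cfsg.Agent.Lib.FusionBasic.map_mem_S F hφ _
      · intro hy
        let c : S →* S := φ.codRestrict S (Cfsg.Agent.Lib.FusionBasic.map_mem_S F hφ)
        have hinj : Function.Injective c := by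
          intro a b hab
          exact F.injective_of_mem hφ (congrArg Subtype.val hab)
        have hsurj := Finite.injective_iff_surjective.1 hinj
        obtain ⟨a, ha⟩ := hsurj ⟨y, hy⟩
        refine ⟨⟨a, Subgroup.mem_sup_left a.2⟩, Subgroup.mem_subgroupOf.2 a.2, ?_⟩
        exact congrArg Subtype.val ha

end Cfsg.Agent.S5225
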