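import Cfsg.Statements.S5253
import Cfsg.Agent.Lib.FusionCenQuad

set_option autoImplicit false
universe u
open Cfsg

namespace Cfsg.Agent.S5253

open Cfsg.FusionSystem Cfsg.Agent.Lib.FusionCenCtl Cfsg.Agent.Lib.FusionCenQuad Cfsg.Agent.Lib.FusionBasic Cfsg.Agent.Lib.FusionGrun
open scoped commutatorElement

/-- Let p be a prime and W a positive characteristic p-functor with Z(Q) ≤ W(Q): W assigns to every finite p-group Q (in a fixed universe) a subgroup W(Q), nontrivial when Q is, carried to W(R) by every isomorphism Q ≅ R, and containing the centre of Q. Suppose that for every finite group G with Sylow p-subgroup P in which W(P) is not normal there is g ∈ P outside O_p(G) with [Z(O_p(G)), g, g] = 1. Then for every saturated fusion system F over a finite p-group S and every normalizer fusion system N of W(S) in F, every p-th power of an element of Z(S) that lies in the centre of N lies in the centre of F. -/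
theorem result {p : ℕ} [Fact p.Prime] (W : ∀ (Q : Type u) [Group Q], Subgroup Q) (hW1 : ∀ (Q : Type u) [Group Q] [Finite Q], IsPGroup p Q → Nontrivial Q → W Q ≠ ⊥) (hW2 : ∀ (Q R : Type u) [Group Q] [Group R] [Finite Q], IsPGroup p Q → ∀ φ : Q ≃* R, (W Q).map φ.toMonoidHom = W R) (hWZ : ∀ (Q : Type u) [Group Q] [Finite Q], IsPGroup p Q → Subgroup.center Q ≤ W Q) (hq : ∀ (G : Type u) [Group G] [Finite G] (P : Sylow p G), ¬ (((W ↥(P : Subgroup G)).map (P : Subgroup G).subtype : Subgroup G)).Normal → ∃ g : G, g ∈ (P : Subgroup G) ∧ g ∉ Cfsg.pCore p G ∧ ⁅⁅Subgroup.center ↥(Cfsg.pCore p G) |>.map (Cfsg.pCore p G).subtype, Subgroup.zpowers g⁆, Subgroup.zpowers g⁆ = ⊥) {Ω : Type u} [Group Ω] {S : Subgroup Ω} [Finite S] (hS : IsPGroup p S) (F : Cfsg.FusionSystem S) (hF : F.IsSaturated p) (N : Cfsg.FusionSystem (Cfsg.FusionSystem.normalizerIn S ((W ↥S).map S.subtype))) (hN : F.IsNormalizerSystem ((W ↥S).map S.subtype) N) : Subgroup.closure ((fun z => z ^ p) ''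 ((S ⊓ Subgroup.centralizer (S : Set Ω) : Subgroup Ω) : Set Ω)) ⊓ N.center ≤ F.center := by
  have hN' : F.IsNormalizerSystem (Wof W S) N := hN
  have hLoc : LocFix W p p := by
    refine locFix_of_quadratic hW2 fun G _ _ P _ hnorm => ?_
    obtain ⟨g, hgP, hgO, hg⟩ := hq G P hnorm
    refine ⟨g, hgP, hgO, fun a ha => ?_⟩
    have h1 : ⁅⁅a, g⁆, g⁆ ∈ ⁅⁅(Subgroup.center ↥(Cfsg.pCore p G)).map (Cfsg.pCore p G).subtype, Subgroup.zpowers g⁆, Subgroup.zpowers g⁆ :=
      Subgroup.commutator_mem_commutator (Subgroup.commutator_mem_commutator ha (Subgroup.mem_zpowers g)) (Subgroup.mem_zpowers g)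
    rw [hg, Subgroup.mem_bot, commutatorElement_eq_one_iff_commute] at h1
    have h2 : Commute (g * a * g⁻¹ * a⁻¹) g := by
      have h3 : g * a * g⁻¹ * a⁻¹ = ⁅a, g⁆⁻¹ := by
        rw [commutatorElement_def]
        group
      rw [h3]
      exact h1.inv_left
    have h4 := h2.eq
    rw [mul_inv_eq_iff_eq_mul]
    exact h4.symm
  refine le_center_of_loc hLoc hW2 hWZ hS hF hN' inf_le_right fun x hx => ?_
  have hx1 := hx.1
  refine Subgroup.closure_induction (p := fun x _ => ∃ z ∈ S, (∀ s ∈ S, s * z = z * s) ∧ z ^ p = x) ?_ ?_ ?_ ?_ hx1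
  · rintro _ ⟨z, hz, rfl⟩
    refine ⟨z, hz.1, fun s hs => ?_, rfl⟩
    exact Subgroup.mem_centralizer_iff.mp hz.2 s hs
  · exact ⟨1, S.one_mem, fun s _ => by simp, one_pow p⟩
  · rintro _ _ _ _ ⟨z₁, h1, h2, rfl⟩ ⟨z₂, h3, h4, rfl⟩
    refine ⟨z₁ * z₂, S.mul_mem h1 h3, fun s hs => ?_, ?_⟩
    · rw [← mul_assoc, h2 s hs, mul_assoc, h4 s hs, mul_assoc]
    · exact (show Commute z₁ z₂ from (h4 z₁ h1)).mul_pow p
  · rintro _ _ ⟨z, h1, h2, rfl⟩
    refine ⟨z⁻¹, S.inv_mem h1, fun s hs => ?_, inv_pow z p⟩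
    have := (show Commute s z from h2 s hs).inv_right
    exact this.eq

end Cfsg.Agent.S5253
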