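import Cfsg.Statements.S5276
import Cfsg.Agent.Lib.BisetTate
import Cfsg.Agent.Lib.H6Regular

set_option autoImplicit false
open Cfsg

namespace Cfsg.Agent.S5276

open scoped commutatorElement

/-- Let p be a prime and F a saturated fusion system over a finite p-group S. Then F is the inner fusion system of S if and only if the normalizer fusion system of S itself in F is the inner fusion system (equivalently, Aut_F(S) is induced by S) and the Frattini subgroup Φ(S) is strongly closed in F. -/
theorem result {Ω : Type*} [Group Ω] {S : Subgroup Ω} [Finite S] (p : ℕ) [Fact p.Prime] (hS : IsPGroup p ↥S) (F : Cfsg.FusionSystem S) (hF : F.IsSaturated p) : (∀ P : Subgroup Ω, F.Hom P = (Cfsg.innerFusionSystem S).Hom P) ↔ (∀ N : Cfsg.FusionSystem (Cfsg.FusionSystem.normalizerIn S S), F.IsNormalizerSystem S N → ∀ P : Subgroup Ω, N.Hom P = (Cfsg.innerFusionSystem (Cfsg.FusionSystem.normalizerIn S S)).Hom P) ∧ F.StronglyClosed ((frattini ↥S).map S.subtype) := by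
  classical
  have hSS : Cfsg.FusionSystem.normalizerIn S S = S := inf_eq_left.mpr Subgroup.le_normalizer
  constructor
  · intro h
    refine ⟨fun N hN P => ?_, ?_⟩
    · have e : (Cfsg.innerFusionSystem (Cfsg.FusionSystem.normalizerIn S S)).Hom P = (Cfsg.innerFusionSystem S).Hom P := by
        rw [hSS]
      rw [e, ← h P]
      ext φ
      constructor
      · intro hφ
        rw [hN P] at hφ
        exact hφ.1
      · intro hφ
        have h1 := hφ
        rw [h P] at h1
        obtain ⟨hP, g, hg, hgx⟩ := h1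
        have hc := N.conj_mem (P := P) (g := g) (by rw [hSS]; exact hP) (by rw [hSS]; exact hg)
        exact Cfsg.Agent.Lib.FusionSat.hom_of_eq hc (fun x => hgx x)
    · refine ⟨?_, fun R hR φ hφ x => ?_⟩
      · rintro _ ⟨a, -, rfl⟩
        exact a.2
      · rw [h R] at hφ
        obtain ⟨hRS, g, hg, hgx⟩ := hφ
        obtain ⟨x', hx', e⟩ := hR x.2
        rw [hgx]
        refine ⟨⟨g, hg⟩ * x' * ⟨g, hg⟩⁻¹, ?_, ?_⟩
        · exact (inferInstance : (frattini ↥S).Normal).conj_mem _ hx' _
        · rw [← e]
          rfl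
  · rintro ⟨hN, hΦ⟩
    have hcomm : ⁅S, S⁆ ≤ (frattini ↥S).map S.subtype := by
      rw [← Subgroup.map_subtype_commutator]
      exact Subgroup.map_mono (Cfsg.Agent.Lib.H6Regular.commutator_le_frattini hS)
    have hfoc := Cfsg.Agent.Lib.BisetTate.foc_le_of_abelian_quot hS hF hΦ hcomm (fun φ hφ x => by
      obtain ⟨g, hg, hgx⟩ := Cfsg.Agent.Lib.BisetTate.aut_inner_of_normalizer hN hφ
      rw [hgx]
      have e : (x : Ω)⁻¹ * (g * x * g⁻¹) = ⁅(x : Ω)⁻¹, g⁆ := by
        rw [commutatorElement_def]
        group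
      rw [e]
      exact hcomm (Subgroup.commutator_mem_commutator (S.inv_mem x.2) hg))
    exact fun P => Cfsg.Agent.Lib.BisetTate.inner_of_foc_le_frattini hS hF hfoc P

end Cfsg.Agent.S5276
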