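import Cfsg.Statements.S5299
import Cfsg.Agent.Lib.InvolvesBasic

set_option autoImplicit false
universe u
open Cfsg

namespace Cfsg.Agent.S5299


/-- Let F be a saturated fusion system over a finite p-group S, H a finite group and Q a p-subgroup of H. If Q is not involved in S (no section of S is isomorphic to Q), then F is H-free: H is involved in no model of the normalizer system of a fully normalized centric subgroup. -/
theorem result {Ω : Type u} [Group Ω] {S : Subgroup Ω} [Finite S] (p : ℕ) [Fact p.Prime] (hS : IsPGroup p S)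
    (F : Cfsg.FusionSystem S) (hF : F.IsSaturated p) (H : Type*) [Group H] [Finite H] (Q : Subgroup H) (hQ : IsPGroup p Q)
    (hfree : ¬ Cfsg.Involves (↥Q) (↥S)) : F.IsSectionFree p H := by
  intro Q' _ _ N _ L _ ι hmodel hinv
  obtain ⟨hfin, ⟨hιinj, -⟩, ⟨T, hT⟩, -⟩ := hmodel
  apply hfree
  let j : (T : Subgroup L) →* ↥S :=
    (Subgroup.inclusion (inf_le_left : Cfsg.FusionSystem.normalizerIn S Q' ≤ S)).comp
      ((MonoidHom.ofInjective hιinj).symm.toMonoidHom.comp (Subgroup.inclusion hT.le))
  have hj : Function.Injective j :=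
    (Subgroup.inclusion_injective (inf_le_left : Cfsg.FusionSystem.normalizerIn S Q' ≤ S)).comp
      ((MonoidHom.ofInjective hιinj).symm.injective.comp (Subgroup.inclusion_injective hT.le))
  exact Cfsg.Agent.Lib.InvolvesBasic.involves_of_sylow hinv Q hQ T j hj

end Cfsg.Agent.S5299
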