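import Cfsg.Statements.S5522
import Cfsg.Agent.Lib.GolayInvol
import Cfsg.Agent.Lib.GolayOrder3

set_option autoImplicit false
open Cfsg

namespace Cfsg.Agent.S5522

open Cfsg Cfsg.Agent.Lib.GolayCode Cfsg.Agent.Lib.GolayFacts Cfsg.Agent.Lib.GolayPerm
  Cfsg.Agent.Lib.GolayChain Cfsg.Agent.Lib.GolayFix Cfsg.Agent.Lib.GolayMathieuFus
  Cfsg.Agent.Lib.GolayM12 Cfsg.Agent.Lib.GolayOrbit

open scoped Pointwise

theorem mem_of_smul_eq {g : Equiv.Perm GolayPt} {S : Finset GolayPt} (h : g • S = S) (x : GolayPt) :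
    x ∈ S ↔ g x ∈ S := by
  constructor
  · intro hx
    rw [← h]
    exact Finset.mem_smul_finset.mpr ⟨x, hx, rfl⟩
  · intro hx
    rw [← h] at hx
    obtain ⟨y, hy, he⟩ := Finset.mem_smul_finset.mp hx
    have : y = x := g.injective he
    rwa [this] at hy


/-- The Mathieu group M₁₁, realised as the stabiliser of one point of the dodecad of squares inside the stabiliser M₁₂ of that dodecad in M₂₄, acts on the twelve coordinate positions outside the dodecad of squares (its 3-transitive action of degree 12); in this action every element of prime order fixes a point, i.e. the action is elusive. -/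
theorem result (g : Equiv.Perm Cfsg.GolayPt) (hg : g ∈ Cfsg.Spor.M11) (hord : (orderOf g).Prime) :
    ∃ x : Cfsg.GolayPt, x ∉ Cfsg.Spor.squareDodecad ∧ g x = x := by
  classical
  by_contra hcon
  push Not at hcon
  have hD : Spor.squareDodecad ∈ dodecads := by
    rw [squareDodecad_eq]
    exact dod0_mem_dodecads
  have hgm : g ∈ M24 := hg.1.1
  have hgD : g • Spor.squareDodecad = Spor.squareDodecad := hg.1.2
  have hg0 : g (some 0) = some 0 := hg.2
  haveI : Fact (orderOf g).Prime := ⟨hord⟩
  have hDmem := mem_of_smul_eq hgD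
  have hsub : fixF g ⊆ Spor.squareDodecad := by
    intro x hx
    by_contra hxn
    exact hcon x hxn (mem_fixF.mp hx)
  have h1 := fixF_modEq (g := g) (p := orderOf g) rfl (Spor.squareDodecadᶜ) (by
    intro x
    simp only [Finset.mem_compl]
    rw [hDmem x])
  have h2 : Spor.squareDodecadᶜ ∩ fixF g = ∅ := by
    rw [Finset.eq_empty_iff_forall_notMem]
    intro x hx
    obtain ⟨hx1, hx2⟩ := Finset.mem_inter.mp hx
    exact (Finset.mem_compl.mp hx1) (hsub hx2)
  have h3 : (Spor.squareDodecadᶜ).card = 12 := by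
    rw [Finset.card_compl, hD.2]
    decide
  rw [h2, h3, Finset.card_empty] at h1
  have h4 : orderOf g ∣ 12 := (Nat.modEq_zero_iff_dvd.mp h1)
  have h5 : orderOf g = 2 ∨ orderOf g = 3 := by
    have h12 : (12 : ℕ) = 2 ^ 2 * 3 := by norm_num
    rw [h12] at h4
    rcases (Nat.Prime.dvd_mul hord).mp h4 with h6 | h6
    · left
      exact (Nat.prime_dvd_prime_iff_eq hord Nat.prime_two).mp (hord.dvd_of_dvd_pow h6)
    · right
      exact (Nat.prime_dvd_prime_iff_eq hord Nat.prime_three).mp h6
  have hf0 : some 0 ∈ fixF g := mem_fixF.mpr hg0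
  have hfpos : 0 < (fixF g).card := Finset.card_pos.mpr ⟨_, hf0⟩
  rcases h5 with h5 | h5
  · rcases Cfsg.Agent.Lib.GolayInvol.invol_classify hgm h5 with ⟨h0, -⟩ | ⟨h8, -⟩
    · omega
    · have hO := Cfsg.Agent.Lib.GolayInvol.fixF_mem_octads hgm h5 h8
      have h6 := card_octad_inter_dodecad hO hD
      rw [Finset.inter_eq_left.mpr hsub, h8] at h6
      omega
  · haveI : Fact (Nat.Prime 3) := ⟨Nat.prime_three⟩
    have h6 := Cfsg.Agent.Lib.GolayOrder3.card_fix3 hgm h5 hg0
    obtain ⟨s, hs, hsc⟩ := Finset.exists_subset_card_eq (s := fixF g) (n := 5) (by omega)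
    obtain ⟨O, ⟨hO, hsO⟩, -⟩ := isSteiner.2 s hsc
    have hgO : g • O = O := smul_octad_eq hgm hO hsO (by omega) (fun p hp => mem_fixF.mp (hs hp))
    have h7 := fixF_modEq h5 O (mem_of_smul_eq hgO)
    have h8 := fixF_modEq h5 (O ∩ Spor.squareDodecad) (by
      intro x
      simp only [Finset.mem_inter]
      rw [← mem_of_smul_eq hgO x, ← hDmem x])
    have h9 := card_octad_inter_dodecad hO hD
    have h10 : O ∩ Spor.squareDodecad ∩ fixF g = O ∩ fixF g := by
      ext x
      simp only [Finset.mem_inter]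
      constructor
      · rintro ⟨⟨a, -⟩, c⟩
        exact ⟨a, c⟩
      · rintro ⟨a, c⟩
        exact ⟨⟨a, hsub c⟩, c⟩
    rw [h10] at h8
    have h11 : 5 ≤ (O ∩ fixF g).card := by
      rw [← hsc]
      apply Finset.card_le_card
      intro x hx
      exact Finset.mem_inter.mpr ⟨hsO hx, hs hx⟩
    have h12 : (O ∩ fixF g).card ≤ (O ∩ Spor.squareDodecad).card := by
      rw [← h10]
      exact Finset.card_le_card Finset.inter_subset_left
    have h13 : O.card = 8 := hO.2
    rw [h13] at h7
    unfold Nat.ModEq at h7 h8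
    omega

end Cfsg.Agent.S5522
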